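import Groth.Agent.H63.InvDeriv
import Groth.Agent.S5000
import Groth.Agent.S2259
import Groth.Agent.S9442
import Mathlib.AlgebraicGeometry.Group.Smooth

set_option autoImplicit false
universe u

open AlgebraicGeometry CategoryTheory CategoryTheory.Limits MonoidalCategory
open CartesianMonoidalCategory MonObj GrpObj

namespace Groth.Agent.H63.GrpSmooth

variable {K : Type u} [Field K] (G : Over (Spec (CommRingCat.of K))) [GrpObj G]
  [LocallyOfFiniteType G.hom]

/-- over an algebraically closed field a group scheme smooth somewhere is smooth -/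
theorem smooth_of_isAlgClosed [IsAlgClosed K] (h : (G.hom.smoothLocus : Set G.left).Nonempty) :
    Smooth G.hom := by
  let f : G.left ⟶ Spec (.of K) := G.hom
  have := LocallyOfFiniteType.jacobsonSpace f
  let : GrpObj (Over.mk f) := (show GrpObj (Over.mk G.hom) from ‹GrpObj G›)
  rw [← Scheme.Hom.smoothLocus_eq_top_iff, ← TopologicalSpace.Opens.coe_eq_univ,
    ← not_ne_iff, ← Set.nonempty_compl]
  intro H
  obtain ⟨x, hx, hxc⟩ :=
    nonempty_inter_closedPoints H f.smoothLocus.2.isClosed_compl.isLocallyClosed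
  obtain ⟨y, hy, hyc⟩ := nonempty_inter_closedPoints h f.smoothLocus.2.isLocallyClosed
  let x' : 𝟙_ _ ⟶ Over.mk f := Over.homMk _ ((pointEquivClosedPoint f).symm ⟨x, hxc⟩).2
  let y' : 𝟙_ _ ⟶ Over.mk f := Over.homMk _ ((pointEquivClosedPoint f).symm ⟨y, hyc⟩).2
  let α := (GrpObj.mulRight (A := Over.mk f) x').symm ≪≫ (GrpObj.mulRight (A := Over.mk f) y')
  have hα : x' ≫ α.hom = y' := by
    dsimp only [Iso.trans_hom, Iso.symm_hom, α]
    rw [← Category.assoc, ← Iso.eq_comp_inv]
    simp [comp_lift_assoc]
  have hα' : α.hom.left x = y := by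
    simpa [x', y', pointEquivClosedPoint] using congr(($hα).left (IsLocalRing.closedPoint K))
  have : IsIso α.hom.left := inferInstanceAs (IsIso ((Over.forget _).map α.hom))
  rw [← hα'] at hy
  have h2 : x ∈ α.hom.left ⁻¹ᵁ f.smoothLocus := hy
  rw [Scheme.Hom.preimage_smoothLocus_eq] at h2
  have h3 : α.hom.left ≫ f = f := Over.w α.hom
  exact hx (by
    show (f.stalkMap x).hom.FormallySmooth
    have h4 := (Scheme.Hom.mem_smoothLocus).1 h2
    convert! h4 using 2 <;> rw [h3])

/-- a group scheme over a field smooth somewhere is smooth -/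
theorem smooth_of_nonempty (h : (G.hom.smoothLocus : Set G.left).Nonempty) : Smooth G.hom := by
  let Ω : Type u := AlgebraicClosure K
  let g : Spec (.of Ω) ⟶ Spec (.of K) := Spec.map (CommRingCat.ofHom <| algebraMap K Ω)
  apply MorphismProperty.of_pullback_snd_of_descendsAlong (Q := @Surjective ⊓ @Flat ⊓ @QuasiCompact)
    (g := g)
  · exact ⟨⟨inferInstance, inferInstance⟩, inferInstance⟩
  · let : GrpObj (Over.mk G.hom) := ‹GrpObj G›
    let : GrpObj (Over.mk (pullback.snd G.hom g)) := Over.grpObjMkPullbackSnd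
    have : LocallyOfFiniteType (Over.mk (pullback.snd G.hom g)).hom :=
      inferInstanceAs (LocallyOfFiniteType (pullback.snd G.hom g))
    refine smooth_of_isAlgClosed (Over.mk (pullback.snd G.hom g)) ?_
    obtain ⟨y, hy⟩ := h
    obtain ⟨z, hz, -⟩ := Scheme.Pullback.exists_preimage_pullback (f := G.hom) (g := g) y
      (IsLocalRing.closedPoint Ω) (Subsingleton.elim (α := PrimeSpectrum K) _ _)
    let U : G.left.Opens := G.hom.smoothLocus
    have hU : Smooth (U.ι ≫ G.hom) := by
      rw [← Scheme.Hom.smoothLocus_eq_top_iff, ← Scheme.Hom.preimage_smoothLocus_eq]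
      exact top_unique fun x _ => x.2
    let W := pullback.fst G.hom g ⁻¹ᵁ U
    have hW : Smooth (W.ι ≫ pullback.snd G.hom g) := by
      have h1 : IsPullback W.ι (pullback.fst G.hom g ∣_ U) (pullback.fst G.hom g) U.ι :=
        (isPullback_morphismRestrict (pullback.fst G.hom g) U).flip
      have h2 := h1.paste_horiz (IsPullback.of_hasPullback G.hom g).flip
      exact MorphismProperty.of_isPullback (P := @Smooth) h2.flip hU
    have h3 : (⟨z, show pullback.fst G.hom g z ∈ U by rw [hz]; exact hy⟩ : W) ∈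
        (W.ι ≫ pullback.snd G.hom g).smoothLocus := by
      rw [Scheme.Hom.smoothLocus_eq_top]; trivial
    rw [← Scheme.Hom.preimage_smoothLocus_eq] at h3
    exact ⟨z, h3⟩

/-- chart at the unit -/
theorem exists_unit_chart : ∃ (A : Type u) (_ : CommRing A) (_ : Algebra K A) (_ : Algebra.FiniteType K A)
    (j : Spec (CommRingCat.of A) ⟶ G.left) (_ : IsOpenImmersion j) (_ : Algebra A K) (_ : IsScalarTower K A K)
    (q : Ideal A) (_ : q.IsPrime), j ≫ G.hom = Spec.map (CommRingCat.ofHom (algebraMap K A)) ∧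
      η[G].left = Spec.map (CommRingCat.ofHom (algebraMap A K)) ≫ j ∧ q = RingHom.ker (algebraMap A K) ∧
      (Algebra.IsSmoothAt K q → GrpIrred.unitPt G ∈ G.hom.smoothLocus) ∧
      Nonempty (↑(G.left.presheaf.stalk (GrpIrred.unitPt G)) ≃+* Localization.AtPrime q) := by
  obtain ⟨U, hU, he, -⟩ :=
    exists_isAffineOpen_mem_and_subset (x := GrpIrred.unitPt G) (U := ⊤) trivial
  let j : Spec (CommRingCat.of Γ(G.left, U)) ⟶ G.left := hU.fromSpec
  obtain ⟨ψ, hψ⟩ := Spec.map_surjective (j ≫ G.hom)
  let algKA : Algebra K Γ(G.left, U) := ψ.hom.toAlgebra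
  have hj : j ≫ G.hom = Spec.map (CommRingCat.ofHom (algebraMap K Γ(G.left, U))) := hψ.symm
  have hft : Algebra.FiniteType K Γ(G.left, U) := by
    have : LocallyOfFiniteType (Spec.map ψ) := by rw [hψ]; infer_instance
    exact (HasRingHomProperty.Spec_iff (P := @LocallyOfFiniteType)).mp this
  have hr : Set.range η[G].left ⊆ Set.range j := by
    rintro _ ⟨t, rfl⟩
    rw [hU.range_fromSpec, show η[G].left t = GrpIrred.unitPt G from
      congrArg η[G].left (Subsingleton.elim (α := PrimeSpectrum K) _ _)]
    exact he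
  obtain ⟨χ, hχ⟩ := Spec.map_surjective (R := CommRingCat.of Γ(G.left, U)) (S := CommRingCat.of K)
    (IsOpenImmersion.lift j η[G].left hr)
  have hη : η[G].left = Spec.map χ ≫ j := by
    rw [hχ]; exact (IsOpenImmersion.lift_fac j η[G].left hr).symm
  let algAK : Algebra Γ(G.left, U) K := χ.hom.toAlgebra
  have tower : IsScalarTower K Γ(G.left, U) K := .of_algebraMap_eq fun a => by
    have h1 : Spec.map (ψ ≫ χ) = Spec.map (𝟙 (CommRingCat.of K)) := by
      rw [Spec.map_comp, hψ, ← Category.assoc, ← hη, Spec.map_id]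
      exact Over.w η[G]
    exact (congrArg (fun g => g.hom a) (Spec.map_injective h1)).symm
  let q : Ideal Γ(G.left, U) := RingHom.ker (algebraMap Γ(G.left, U) K)
  have qP : q.IsPrime := RingHom.ker_isPrime _
  refine ⟨Γ(G.left, U), inferInstance, algKA, hft, j, inferInstance, algAK, tower, q, qP, hj, hη, rfl,
    fun hsm => ?_, ?_⟩
  rotate_left
  · have hq : (hU.primeIdealOf ⟨GrpIrred.unitPt G, he⟩).asIdeal = q := by
      have h1 : hU.fromSpec (hU.primeIdealOf ⟨GrpIrred.unitPt G, he⟩) =
          hU.fromSpec (Spec.map χ (IsLocalRing.closedPoint K)) := by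
        rw [hU.fromSpec_primeIdealOf, ← Scheme.Hom.comp_apply]
        show η[G].left _ = _
        rw [hη]
      rw [hU.fromSpec.isOpenEmbedding.injective h1]
      show (IsLocalRing.maximalIdeal K).comap χ.hom = q
      rw [IsLocalRing.maximalIdeal_eq_bot]
      rfl
    letI := TopCat.Presheaf.algebra_section_stalk G.left.presheaf
      (⟨GrpIrred.unitPt G, he⟩ : U)
    have hloc := hU.isLocalization_stalk ⟨GrpIrred.unitPt G, he⟩
    have key : ∀ (p : Ideal Γ(G.left, U)) [p.IsPrime], p = q →
        IsLocalization.AtPrime ↑(G.left.presheaf.stalk (GrpIrred.unitPt G)) p →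
        IsLocalization.AtPrime ↑(G.left.presheaf.stalk (GrpIrred.unitPt G)) q := by
      intro p _ e h; subst e; exact h
    have : IsLocalization.AtPrime ↑(G.left.presheaf.stalk (GrpIrred.unitPt G)) q := key _ hq hloc
    exact ⟨(IsLocalization.algEquiv q.primeCompl _ (Localization.AtPrime q)).toRingEquiv⟩
  have : Algebra.FinitePresentation K Γ(G.left, U) :=
    (Algebra.FinitePresentation.of_finiteType).1 inferInstance
  obtain ⟨g, hg, hgs⟩ := Algebra.IsSmoothAt.exists_notMem_smooth K q
  let l : Spec (CommRingCat.of (Localization.Away g)) ⟶ G.left :=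
    Spec.map (CommRingCat.ofHom (algebraMap Γ(G.left, U) (Localization.Away g))) ≫ j
  have : IsOpenImmersion (Spec.map (CommRingCat.ofHom
      (algebraMap Γ(G.left, U) (Localization.Away g)))) := IsOpenImmersion.of_isLocalization g
  have : IsOpenImmersion l := inferInstanceAs (IsOpenImmersion (_ ≫ j))
  have hlsm : Smooth (l ≫ G.hom) := by
    rw [Category.assoc, hj, ← Spec.map_comp, HasRingHomProperty.Spec_iff (P := @Smooth),
      ← CommRingCat.ofHom_comp, ← IsScalarTower.algebraMap_eq]
    exact RingHom.smooth_algebraMap.2 hgs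
  obtain ⟨z, hz⟩ : GrpIrred.unitPt G ∈ Set.range l := by
    let q' : PrimeSpectrum Γ(G.left, U) := ⟨q, inferInstance⟩
    obtain ⟨z, hz⟩ : q' ∈ Set.range (PrimeSpectrum.comap (algebraMap Γ(G.left, U) (Localization.Away g))) := by
      rw [PrimeSpectrum.localization_away_comap_range _ g]; exact hg
    refine ⟨z, ?_⟩
    show j ((Spec.map (CommRingCat.ofHom (algebraMap Γ(G.left, U) (Localization.Away g)))) z) = η[G].left _
    rw [hη, Scheme.Hom.comp_apply]
    refine congrArg j (hz.trans (PrimeSpectrum.ext ?_))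
    show q = (IsLocalRing.maximalIdeal K).comap χ.hom
    rw [IsLocalRing.maximalIdeal_eq_bot]
    rfl
  have h3 : z ∈ (l ≫ G.hom).smoothLocus := by rw [Scheme.Hom.smoothLocus_eq_top]; trivial
  rw [← Scheme.Hom.preimage_smoothLocus_eq] at h3
  rw [← hz]
  exact h3

/-- Cartier: in characteristic zero a group scheme is smooth at the unit -/
theorem unit_mem_smoothLocus [CharZero K] : GrpIrred.unitPt G ∈ G.hom.smoothLocus := by
  obtain ⟨A, _, _, _, j, _, _, _, q, _, hj, hη, hq, hsm, -⟩ := exists_unit_chart G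
  exact hsm ((Groth.Agent.S5000.result K A q).2 (InvDeriv.free_kaehler G A j hj hη q hq))

/-- descent of smoothness from a base field extension -/
theorem smooth_of_baseChange {L : Type u} [Field L] (g : Spec (.of L) ⟶ Spec (.of K))
    (h : Smooth (pullback.snd G.hom g)) : Smooth G.hom := by
  obtain ⟨φ, rfl⟩ := Spec.map_surjective g
  have : Surjective (Spec.map φ) := ⟨fun _ => ⟨IsLocalRing.closedPoint L, Subsingleton.elim (α := PrimeSpectrum K) _ _⟩⟩
  exact MorphismProperty.of_pullback_snd_of_descendsAlong (Q := @Surjective ⊓ @Flat ⊓ @QuasiCompact)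
    (g := Spec.map φ) ⟨⟨inferInstance, inferInstance⟩, inferInstance⟩ h

/-- reduced at one point after extension to a perfect field implies smooth -/
theorem smooth_of_isReduced_stalk {L : Type u} [Field L] [PerfectField L]
    (g : Spec (.of L) ⟶ Spec (.of K)) (z : ↑(pullback G.hom g))
    (h : _root_.IsReduced ↑((pullback G.hom g).presheaf.stalk z)) : Smooth G.hom := by
  refine smooth_of_baseChange G g ?_
  let : GrpObj (Over.mk G.hom) := ‹GrpObj G›
  let : GrpObj (Over.mk (pullback.snd G.hom g)) := Over.grpObjMkPullbackSnd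
  have : LocallyOfFiniteType (Over.mk (pullback.snd G.hom g)).hom :=
    inferInstanceAs (LocallyOfFiniteType (pullback.snd G.hom g))
  refine smooth_of_nonempty (Over.mk (pullback.snd G.hom g)) ?_
  have : IsLocallyNoetherian (pullback G.hom g) :=
    LocallyOfFiniteType.isLocallyNoetherian (pullback.snd G.hom g)
  obtain ⟨U, hz, hU⟩ := Groth.Agent.S2259.result (pullback G.hom g) z
  obtain ⟨w, hw⟩ := (U.ι ≫ pullback.snd G.hom g).dense_smoothLocus_of_perfectField.nonempty_iff.2
    ⟨(⟨z, hz⟩ : U)⟩
  have h1 : w ∈ U.ι ⁻¹ᵁ (pullback.snd G.hom g).smoothLocus := by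
    rw [Scheme.Hom.preimage_smoothLocus_eq]; exact hw
  exact ⟨U.ι w, h1⟩

/-- Cartier's theorem -/
theorem smooth_of_charZero [CharZero K] : Smooth G.hom :=
  smooth_of_nonempty G ⟨_, unit_mem_smoothLocus G⟩

theorem isGeometricallyReduced_residueField {A : Type u} [CommRing A] [Algebra K A] [Algebra A K]
    [IsScalarTower K A K] (q : Ideal A) [q.IsPrime] (hq : q = RingHom.ker (algebraMap A K)) :
    Algebra.IsGeometricallyReduced K q.ResidueField := by
  let f : q.ResidueField →ₐ[K] K := Ideal.ResidueField.liftₐ q (IsScalarTower.toAlgHom K A K)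
    hq.le (fun a ha => by
      show IsUnit (algebraMap A K a)
      exact isUnit_iff_ne_zero.2 fun h => ha (hq.symm ▸ RingHom.mem_ker.2 h))
  have : Algebra.IsGeometricallyReduced K K := by
    exact (Algebra.isGeometricallyReduced_field_iff K K).2 (isReduced_of_injective (Algebra.TensorProduct.rid K K (AlgebraicClosure K)).toAlgHom
      (Algebra.TensorProduct.rid K K (AlgebraicClosure K)).injective)
  exact Algebra.IsGeometricallyReduced.of_injective f f.toRingHom.injective

/-- smooth iff regular at the unit -/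
theorem smooth_iff_isRegular_unit :
    Smooth G.hom ↔ IsRegularLocalRing (G.left.presheaf.stalk (GrpIrred.unitPt G)) := by
  obtain ⟨A, _, _, _, j, _, _, _, q, _, hj, -, hq, hsm, ⟨e⟩⟩ := exists_unit_chart G
  have := isGeometricallyReduced_residueField q hq
  constructor
  · intro hG
    have : Smooth (j ≫ G.hom) := inferInstance
    rw [hj, HasRingHomProperty.Spec_iff (P := @Smooth)] at this
    have : Algebra.Smooth K A := RingHom.smooth_algebraMap.1 this
    have : IsRegularLocalRing (Localization.AtPrime q) :=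
      (Groth.Agent.S9442.result K A q).1 inferInstance
    exact IsRegularLocalRing.of_ringEquiv e.symm
  · intro h
    have : IsRegularLocalRing (Localization.AtPrime q) := IsRegularLocalRing.of_ringEquiv e
    exact smooth_of_nonempty G ⟨_, hsm ((Groth.Agent.S9442.result K A q).2 this)⟩

end Groth.Agent.H63.GrpSmooth
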