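import Groth.Agent.H63.GrpConnected
import Mathlib.RingTheory.Flat.Localization
import Mathlib.CategoryTheory.Monoidal.Cartesian.Grp

set_option autoImplicit false
universe u

open AlgebraicGeometry CategoryTheory CategoryTheory.Limits MonoidalCategory
open CartesianMonoidalCategory MonObj GrpObj Opposite
open Groth.Agent.H63.GrpIrred Groth.Agent.H63.GrpComponent Groth.Agent.H63.GrpConnected

namespace Groth.Agent.H63.GrpIdentity

/-- a clopen subset is the non-vanishing locus of an idempotent global function -/
theorem exists_idem {X : Scheme.{u}} {B : Set X} (hB : IsClopen B) :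
    ∃ f : Γ(X, ⊤), IsIdempotentElem f ∧ (X.basicOpen f : Set X) = B := by
  let U : Bool → X.Opens := fun b =>
    if b then ⟨B, hB.isOpen⟩ else ⟨Bᶜ, hB.compl.isOpen⟩
  have hcov : (⊤ : X.Opens) ≤ iSup U := fun x _ => by
    by_cases hx : x ∈ B
    · exact TopologicalSpace.Opens.mem_iSup.2 ⟨true, hx⟩
    · exact TopologicalSpace.Opens.mem_iSup.2 ⟨false, hx⟩
  let sf : ∀ b, Γ(X, U b) := fun b => if b then 1 else 0
  have hcomp : TopCat.Presheaf.IsCompatible X.sheaf.1 U sf := by
    intro i j
    rcases i <;> rcases j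
    · rfl
    · have : U false ⊓ U true = ⊥ := by
        ext x; simp [U]
      have : Subsingleton Γ(X, U false ⊓ U true) := by rw [this]; infer_instance
      exact Subsingleton.elim (α := Γ(X, U false ⊓ U true)) _ _
    · have : U true ⊓ U false = ⊥ := by
        ext x; simp [U]
      have : Subsingleton Γ(X, U true ⊓ U false) := by rw [this]; infer_instance
      exact Subsingleton.elim (α := Γ(X, U true ⊓ U false)) _ _
    · rfl
  obtain ⟨f, hf', -⟩ : ∃! f : Γ(X, ⊤), ∀ b, X.presheaf.map (homOfLE (le_top : U b ≤ ⊤)).op f = sf b :=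
    X.sheaf.existsUnique_gluing' U ⊤ (fun b => homOfLE le_top) hcov sf hcomp
  refine ⟨f, ?_, ?_⟩
  · refine X.sheaf.eq_of_locally_eq' U ⊤ (fun b => homOfLE le_top) hcov _ _ fun b => ?_
    show X.presheaf.map (homOfLE (le_top : U b ≤ ⊤)).op (f * f) =
      X.presheaf.map (homOfLE (le_top : U b ≤ ⊤)).op f
    have hm := map_mul (X.presheaf.map (homOfLE (le_top : U b ≤ ⊤)).op).hom f f
    refine hm.trans ?_
    rw [hf' b]
    cases b <;> simp [sf]
  · ext x
    have key : ∀ b, x ∈ U b → (x ∈ X.basicOpen f ↔ b = true) := by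
      intro b hb
      have h1 := X.basicOpen_res f (homOfLE (le_top : U b ≤ ⊤)).op
      have h2 : x ∈ X.basicOpen f ↔ x ∈ X.basicOpen (sf b) := by
        rw [← hf' b, h1]
        exact ⟨fun h => ⟨hb, h⟩, fun h => h.2⟩
      rw [h2]
      cases b
      · simp [sf]
      · simpa [sf, X.basicOpen_of_isUnit isUnit_one] using hb
    by_cases hx : x ∈ B
    · exact ⟨fun _ => hx, fun _ => (key true hx).2 rfl⟩
    · exact ⟨fun h => absurd ((key false hx).1 h) (by simp), fun h => absurd h hx⟩

/-- functions on `X` inverted at the connected component of `a` -/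
def idemSubmonoid (X : Scheme.{u}) (a : X) : Submonoid Γ(X, ⊤) where
  carrier := {f | IsIdempotentElem f ∧ a ∈ X.basicOpen f}
  one_mem' := ⟨IsIdempotentElem.one, by simp [X.basicOpen_of_isUnit isUnit_one]⟩
  mul_mem' := fun {f g} hf hg => ⟨hf.1.mul hg.1, by rw [X.basicOpen_mul]; exact ⟨hf.2, hg.2⟩⟩

variable {K : Type u} [Field K] (G : Over (Spec (CommRingCat.of K))) [GrpObj G]

/-- a compact clopen neighbourhood of the identity -/
noncomputable def nhd : G.left.Opens :=
  ⟨(exists_isClopen_isCompact G).choose, (exists_isClopen_isCompact G).choose_spec.1.isOpen⟩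

theorem isClopen_nhd : IsClopen (nhd G : Set G.left) := (exists_isClopen_isCompact G).choose_spec.1
theorem isCompact_nhd : IsCompact (nhd G : Set G.left) := (exists_isClopen_isCompact G).choose_spec.2.1
theorem unit_mem_nhd : unitPt G ∈ nhd G := (exists_isClopen_isCompact G).choose_spec.2.2

theorem comp0_subset_nhd : comp0 G ⊆ nhd G := by
  rw [← connectedComponent_unit]
  exact (isClopen_nhd G).connectedComponent_subset (unit_mem_nhd G)

/-- the idempotents which are one at the identity -/
noncomputable def idem : Submonoid Γ((nhd G : Scheme.{u}), ⊤) :=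
  idemSubmonoid _ ⟨unitPt G, unit_mem_nhd G⟩

/-- the spectrum of the localisation at those idempotents -/
noncomputable def locMap : Spec (CommRingCat.of (Localization (idem G))) ⟶ Spec Γ((nhd G : Scheme.{u}), ⊤) :=
  Spec.map (CommRingCat.ofHom (algebraMap Γ((nhd G : Scheme.{u}), ⊤) (Localization (idem G))))

theorem surjective_algebraMap_idem :
    Function.Surjective (algebraMap Γ((nhd G : Scheme.{u}), ⊤) (Localization (idem G))) := by
  intro z
  obtain ⟨r, s, rfl⟩ := IsLocalization.exists_mk'_eq (idem G) z
  refine ⟨r, ?_⟩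
  rw [IsLocalization.eq_mk'_iff_mul_eq]
  have h1 : algebraMap _ (Localization (idem G)) (s : Γ((nhd G : Scheme.{u}), ⊤)) = 1 :=
    (IsIdempotentElem.iff_eq_one_of_isUnit (IsLocalization.map_units _ s)).1
      (s.2.1.map (algebraMap _ (Localization (idem G))))
  rw [h1, _root_.mul_one]

instance : IsClosedImmersion (locMap G) :=
  IsClosedImmersion.spec_of_surjective _ (surjective_algebraMap_idem G)

instance : Flat (locMap G) := by
  rw [locMap, HasRingHomProperty.Spec_iff (P := @Flat)]
  exact RingHom.flat_algebraMap_iff.2 (IsLocalization.flat _ (idem G))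

/-- the identity component as a scheme -/
noncomputable def idScheme : Scheme.{u} := pullback (nhd G : Scheme.{u}).toSpecΓ (locMap G)

/-- its inclusion -/
noncomputable def idIncl : idScheme G ⟶ G.left :=
  pullback.fst (nhd G : Scheme.{u}).toSpecΓ (locMap G) ≫ (nhd G).ι

instance isClosedImmersion_idIncl : IsClosedImmersion (idIncl G) := by
  have : IsClosedImmersion (nhd G).ι := .of_isPreimmersion _ (by
    rw [(nhd G).range_ι]; exact (isClopen_nhd G).isClosed)
  unfold idIncl idScheme
  infer_instance

instance flat_idIncl : Flat (idIncl G) := by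
  unfold idIncl idScheme
  infer_instance

theorem mem_range_iff (x : ↥(nhd G : Scheme.{u})) :
    x ∈ Set.range (pullback.fst (nhd G : Scheme.{u}).toSpecΓ (locMap G)) ↔
      ∀ f ∈ idem G, x ∈ (nhd G : Scheme.{u}).basicOpen f := by
  rw [Scheme.Pullback.range_fst, Set.mem_preimage]
  have : Set.range (locMap G) = {p | Disjoint (idem G : Set Γ((nhd G : Scheme.{u}), ⊤)) p.asIdeal} :=
    PrimeSpectrum.localization_comap_range (Localization (idem G)) (idem G)
  rw [this, Set.mem_setOf_eq, Set.disjoint_left]
  refine forall₂_congr fun f _ => ?_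
  rw [← Scheme.toSpecΓ_preimage_basicOpen]
  rfl

theorem range_idIncl : Set.range (idIncl G) = comp0 G := by
  unfold idIncl
  rw [Scheme.Hom.comp_base, TopCat.coe_comp, Set.range_comp]
  ext y
  constructor
  · rintro ⟨x, hx, rfl⟩
    replace hx := (mem_range_iff G x).1 hx
    by_contra hxC
    have heC : unitPt G ∉ irreducibleComponent ((nhd G).ι x) := fun h => hxC (by
      rw [comp0, mem_component_iff]; exact ((mem_component_iff G).1 h).symm)
    obtain ⟨V, hV, heV, hsub⟩ := exists_isAffineOpen_mem_and_subset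
      (U := ⟨(irreducibleComponent ((nhd G).ι x))ᶜ, isClosed_irreducibleComponent.isOpen_compl⟩) heC
    have hclopen : IsClopen ((nhd G).ι ⁻¹' sat G V) :=
      ⟨(isClosed_sat G V.isOpen hV.isCompact).preimage (Scheme.Hom.continuous _),
        (isOpen_sat G V.isOpen).preimage (Scheme.Hom.continuous _)⟩
    obtain ⟨f, hf, hfB⟩ := exists_idem hclopen
    have h1 : f ∈ idem G := ⟨hf, by
      show (_ : ↥(nhd G : Scheme.{u})) ∈ ((nhd G : Scheme.{u}).basicOpen f : Set _)
      rw [hfB]; exact subset_sat G V.isOpen heV⟩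
    have h2 : x ∈ ((nhd G : Scheme.{u}).basicOpen f : Set _) := hx f h1
    rw [hfB] at h2
    refine hsub h2 ?_
    rw [irreducibleComponent_eq]
    exact subset_closure rfl
  · intro hy
    refine ⟨⟨y, comp0_subset_nhd G hy⟩, ?_, rfl⟩
    refine (mem_range_iff G _).2 ?_
    intro f hf
    have hcl : IsClopen ((nhd G : Scheme.{u}).basicOpen f : Set ↥(nhd G : Scheme.{u})) := by
      refine ⟨?_, ((nhd G : Scheme.{u}).basicOpen f).isOpen⟩
      have hmul : f * (1 - f) = 0 := by rw [mul_sub, _root_.mul_one, hf.1.eq, sub_self]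
      have hadd : f + (1 - f) = 1 := add_sub_cancel f 1
      have := (PrimeSpectrum.isClopen_basicOpen_of_mul_add f (1 - f) hmul hadd).isClosed.preimage
        (Scheme.Hom.continuous (nhd G : Scheme.{u}).toSpecΓ)
      rw [← Scheme.toSpecΓ_preimage_basicOpen]
      exact this
    have hpre : _root_.IsPreconnected ((nhd G).ι ⁻¹' comp0 G) := by
      rw [← (nhd G).ι.isOpenEmbedding.isInducing.isPreconnected_image, Set.image_preimage_eq_iff.2
        (by rw [(nhd G).range_ι]; exact comp0_subset_nhd G)]
      rw [← connectedComponent_unit G]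
      exact isPreconnected_connectedComponent
    exact hpre.subset_isClopen hcl ⟨⟨unitPt G, unit_mem_nhd G⟩, unitPt_mem G, hf.2⟩ hy

/-- a morphism into `comp0` factors through the identity component -/
theorem exists_factor {T : Scheme.{u}} (h : T ⟶ G.left) (hr : Set.range h ⊆ comp0 G) :
    ∃ h' : T ⟶ idScheme G, h' ≫ idIncl G = h := by
  let h₁ : T ⟶ (nhd G : Scheme.{u}) := IsOpenImmersion.lift (nhd G).ι h (by
    rw [(nhd G).range_ι]; exact hr.trans (comp0_subset_nhd G))
  have hh₁ : h₁ ≫ (nhd G).ι = h := IsOpenImmersion.lift_fac _ _ _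
  have hu : ∀ f : idem G, IsUnit (h₁.appTop.hom f) := by
    intro f
    have htop : T.basicOpen (h₁.appTop.hom f) = ⊤ := by
      refine top_unique fun t _ => ?_
      have e := Scheme.preimage_basicOpen h₁ (U := ⊤) (f : Γ((nhd G : Scheme.{u}), ⊤))
      show t ∈ T.basicOpen (h₁.app ⊤ f)
      refine e.le ?_
      have ht : h₁ t ∈ Set.range (pullback.fst (nhd G : Scheme.{u}).toSpecΓ (locMap G)) := by
        have h2 : h t ∈ Set.range (idIncl G) := by rw [range_idIncl]; exact hr ⟨t, rfl⟩
        obtain ⟨z, hz⟩ := h2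
        refine ⟨z, (nhd G).ι.isOpenEmbedding.injective ?_⟩
        rw [← hh₁] at hz
        exact hz
      exact (mem_range_iff G _).1 ht f f.2
    refine RingedSpace.isUnit_of_isUnit_germ T.toLocallyRingedSpace.toRingedSpace ⊤ _ fun t ht => ?_
    exact (T.mem_basicOpen_top _ t).1 (by rw [htop]; trivial)
  let φ : CommRingCat.of (Localization (idem G)) ⟶ Γ(T, ⊤) :=
    CommRingCat.ofHom (IsLocalization.lift (M := idem G) (S := Localization (idem G)) hu)
  have hφ : CommRingCat.ofHom (algebraMap Γ((nhd G : Scheme.{u}), ⊤) (Localization (idem G))) ≫ φ =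
      h₁.appTop := by
    ext r
    exact IsLocalization.lift_eq (S := Localization (idem G)) hu r
  refine ⟨pullback.lift h₁ (T.toSpecΓ ≫ Spec.map φ) ?_, ?_⟩
  · rw [Category.assoc, locMap, ← Spec.map_comp]
    refine (Scheme.toSpecΓ_naturality h₁).trans (congrArg (fun a => T.toSpecΓ ≫ Spec.map a) ?_)
    exact hφ.symm
  · unfold idIncl
    erw [pullback.lift_fst_assoc]
    exact hh₁

/-- the identity component over the field -/
noncomputable def idObj : Over (Spec (CommRingCat.of K)) := Over.mk (idIncl G ≫ G.hom)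

/-- its inclusion over the field -/
noncomputable def idHom : idObj G ⟶ G := Over.homMk (idIncl G) rfl

instance : Mono (idHom G) := by
  have : IsClosedImmersion (idHom G).left := isClosedImmersion_idIncl G
  exact Over.mono_of_mono_left _

/-- factor a morphism through the identity component -/
theorem exists_lift {T : Over (Spec (CommRingCat.of K))} (h : T ⟶ G)
    (hr : ∀ t, h.left t ∈ comp0 G) : ∃ h' : T ⟶ idObj G, h' ≫ idHom G = h := by
  obtain ⟨h', hh'⟩ := exists_factor G h.left (by rintro _ ⟨t, rfl⟩; exact hr t)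
  refine ⟨Over.homMk h' (show h' ≫ idIncl G ≫ G.hom = T.hom by rw [← Category.assoc, hh', Over.w]), ?_⟩
  ext : 1
  exact hh'

theorem idHom_mem {T : Over (Spec (CommRingCat.of K))} (a : T ⟶ idObj G) (t : T.left) :
    (a ≫ idHom G).left t ∈ comp0 G := by
  rw [← range_idIncl]
  exact ⟨a.left t, (Scheme.Hom.comp_apply _ _ _).symm⟩

theorem exists_one : ∃ e : 𝟙_ (Over (Spec (CommRingCat.of K))) ⟶ idObj G, e ≫ idHom G = η[G] :=
  exists_lift G η[G] fun t => by
    rw [show η[G].left t = unitPt G from congrArg η[G].left (Subsingleton.elim (α := PrimeSpectrum K) _ _)]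
    exact unitPt_mem G

theorem exists_mul : ∃ m : idObj G ⊗ idObj G ⟶ idObj G, m ≫ idHom G = (idHom G ⊗ₘ idHom G) ≫ μ[G] := by
  refine exists_lift G _ fun t => ?_
  rw [Over.comp_left, Scheme.Hom.comp_apply]
  refine mul_mem G ?_ ?_
  · show ((idHom G ⊗ₘ idHom G).left ≫ (fst G G).left) t ∈ _
    rw [← Over.comp_left, tensorHom_fst]
    exact idHom_mem G _ t
  · show ((idHom G ⊗ₘ idHom G).left ≫ (snd G G).left) t ∈ _
    rw [← Over.comp_left, tensorHom_snd]
    exact idHom_mem G _ t

theorem exists_inv : ∃ i : idObj G ⟶ idObj G, i ≫ idHom G = idHom G ≫ ι[G] := by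
  refine exists_lift G _ fun t => ?_
  rw [Over.comp_left, Scheme.Hom.comp_apply]
  exact inv_mem G (by
    have := idHom_mem G (𝟙 _) t
    rwa [Category.id_comp] at this)

theorem mul_spec :
    (exists_mul G).choose ≫ idHom G = (fst _ _ ≫ idHom G) * (snd _ _ ≫ idHom G) := by
  rw [(exists_mul G).choose_spec, Hom.mul_def, lift_fst_comp_snd_comp]

theorem comp_mul_spec {T : Over (Spec (CommRingCat.of K))} (a : T ⟶ idObj G ⊗ idObj G) :
    a ≫ (exists_mul G).choose ≫ idHom G = ((a ≫ fst _ _) ≫ idHom G) * ((a ≫ snd _ _) ≫ idHom G) := by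
  rw [mul_spec, MonObj.comp_mul, ← Category.assoc, ← Category.assoc]

theorem toUnit_one {T : Over (Spec (CommRingCat.of K))} (a : T ⟶ 𝟙_ _) :
    (a ≫ (exists_one G).choose) ≫ idHom G = 1 := by
  rw [Category.assoc, (exists_one G).choose_spec, Hom.one_def, toUnit_unique a (toUnit T)]

theorem inv_spec : (exists_inv G).choose ≫ idHom G = (idHom G)⁻¹ := by
  rw [(exists_inv G).choose_spec, Hom.inv_def]

/-- the group structure -/
@[instance_reducible]
noncomputable def idGrp : GrpObj (idObj G) where
  one := (exists_one G).choose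
  mul := (exists_mul G).choose
  inv := (exists_inv G).choose
  one_mul := by
    rw [← cancel_mono (idHom G), Category.assoc, comp_mul_spec, whiskerRight_fst, whiskerRight_snd,
      toUnit_one, _root_.one_mul, leftUnitor_hom]
  mul_one := by
    rw [← cancel_mono (idHom G), Category.assoc, comp_mul_spec, whiskerLeft_fst, whiskerLeft_snd,
      toUnit_one, _root_.mul_one, rightUnitor_hom]
  mul_assoc := by
    rw [← cancel_mono (idHom G)]
    simp only [Category.assoc, comp_mul_spec, whiskerRight_fst, whiskerRight_snd, whiskerLeft_fst,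
      whiskerLeft_snd, mul_spec, MonObj.comp_mul, whiskerRight_fst_assoc, whiskerRight_snd_assoc,
      whiskerLeft_fst_assoc, whiskerLeft_snd_assoc, associator_hom_fst_assoc, associator_hom_snd_fst_assoc,
      associator_hom_snd_snd_assoc, _root_.mul_assoc]
  left_inv := by
    rw [← cancel_mono (idHom G), Category.assoc, comp_mul_spec, lift_fst, lift_snd, Category.id_comp,
      inv_spec, toUnit_one]
    exact inv_mul_cancel _
  right_inv := by
    rw [← cancel_mono (idHom G), Category.assoc, comp_mul_spec, lift_fst, lift_snd, Category.id_comp,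
      inv_spec, toUnit_one]
    exact mul_inv_cancel _

theorem isMonHom_idHom : letI := idGrp G; IsMonHom (idHom G) :=
  letI := idGrp G
  { one_hom := (exists_one G).choose_spec
    mul_hom := (exists_mul G).choose_spec }

/-- a closed subscheme on the component of the identity is geometrically irreducible -/
theorem geometricallyIrreducible_of_range {Z : Scheme.{u}} (incl : Z ⟶ G.left) [IsClosedImmersion incl]
    (hZ' : Set.range incl = comp0 G) : GeometricallyIrreducible (incl ≫ G.hom) := by
  refine ⟨geometrically_iff_of_isClosedUnderIsomorphisms.mpr fun L _ g => ?_⟩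
  show IrreducibleSpace ↑(pullback (incl ≫ G.hom) g)
  let m : pullback (incl ≫ G.hom) g ⟶ pullback G.hom g :=
    pullback.map _ g G.hom g incl (𝟙 _) (𝟙 _) (by simp) (by simp)
  have hr : Set.range m = pullback.fst G.hom g ⁻¹' comp0 G := by
    show Set.range (pullback.map _ g G.hom g incl (𝟙 _) (𝟙 _) _ _) = _
    rw [Scheme.Pullback.range_map, hZ']
    simp
  have hc : IsClosedImmersion m := by
    refine MorphismProperty.of_isPullback (P := @IsClosedImmersion)
      (f' := pullback.fst (incl ≫ G.hom) g) (f := pullback.fst G.hom g) (g := incl) ?_ ‹_›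
    have h1 : IsPullback (m ≫ pullback.snd G.hom g) (pullback.fst (incl ≫ G.hom) g) g (incl ≫ G.hom) := by
      rw [show m ≫ pullback.snd G.hom g = pullback.snd (incl ≫ G.hom) g from
        (pullback.lift_snd _ _ _).trans (Category.comp_id _)]
      exact (IsPullback.of_hasPullback (incl ≫ G.hom) g).flip
    exact (IsPullback.of_right h1 (pullback.lift_fst _ _ _) (IsPullback.of_hasPullback G.hom g).flip).flip
  have hirr : IrreducibleSpace ↥(Set.range m) := by
    rw [hr]; exact Subtype.irreducibleSpace (isIrreducible_preimage G g)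
  exact m.isClosedEmbedding.isEmbedding.toHomeomorph.symm.surjective.irreducibleSpace
    m.isClosedEmbedding.isEmbedding.toHomeomorph.symm.continuous

theorem compactSpace_idScheme : CompactSpace ↥(idScheme G) := by
  rw [← isCompact_univ_iff, (idIncl G).isClosedEmbedding.isInducing.isCompact_iff, Set.image_univ,
    range_idIncl]
  exact isCompact_comp0 G

end Groth.Agent.H63.GrpIdentity
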