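import Groth.Agent.H63.GrpdField
import Mathlib.AlgebraicGeometry.Group.Smooth
import Mathlib.CategoryTheory.Monoidal.Cartesian.Over
import Mathlib.CategoryTheory.Monoidal.Cartesian.Grp

set_option autoImplicit false
universe u

open AlgebraicGeometry CategoryTheory CategoryTheory.Limits MonoidalCategory
open CartesianMonoidalCategory MonObj GrpObj

namespace Groth.Agent.H63.GrpToGrpd

variable {S : Scheme.{u}} (G : Over S) [GrpObj G]

/-- a morphism of schemes as a point over `S` -/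
noncomputable abbrev pt {T : Scheme.{u}} (α : T ⟶ G.left) {q : T ⟶ S} (h : α ≫ G.hom = q) :
    Over.mk q ⟶ G := Over.homMk α h

theorem lift_mul {T : Scheme.{u}} (α β : T ⟶ G.left) {q : T ⟶ S} (hα : α ≫ G.hom = q)
    (hβ : β ≫ G.hom = q) (h : α ≫ G.hom = β ≫ G.hom) :
    pullback.lift α β h ≫ μ[G].left = (pt G α hα * pt G β hβ).left := by
  rw [Hom.mul_def, Over.comp_left, Over.lift_left]
  rfl

theorem one_left {T : Scheme.{u}} (q : T ⟶ S) : (1 : Over.mk q ⟶ G).left = q ≫ η[G].left := rfl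

theorem inv_left {T : Scheme.{u}} (α : T ⟶ G.left) {q : T ⟶ S} (hα : α ≫ G.hom = q) :
    (pt G α hα)⁻¹.left = α ≫ ι[G].left := rfl

/-- a group scheme over `S` as a groupoid scheme with object scheme `S` -/
noncomputable def ofGrp : Grpd.GroupoidScheme S where
  U := S
  R := G.left
  pU := 𝟙 S
  pR := G.hom
  s := G.hom
  t := G.hom
  e := η[G].left
  i := ι[G].left
  c := μ[G].left
  s_over := Category.comp_id _
  t_over := Category.comp_id _
  comp_s α β h := by
    rw [lift_mul G α β h rfl h]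
    exact Over.w _
  comp_t α β h := by
    rw [lift_mul G α β rfl h.symm h]
    exact Over.w _
  assoc α β γ h₁ h₂ := by
    have hb : β ≫ G.hom = α ≫ G.hom := h₁.symm
    have hc : γ ≫ G.hom = α ≫ G.hom := h₂.symm.trans hb
    have e1 : ∀ (H : (pullback.lift α β h₁ ≫ μ[G].left) ≫ G.hom = α ≫ G.hom),
        pt G (pullback.lift α β h₁ ≫ μ[G].left) H = pt G α rfl * pt G β hb :=
      fun H => Over.OverMorphism.ext (lift_mul G α β rfl hb h₁)
    have e2 : ∀ (H : (pullback.lift β γ h₂ ≫ μ[G].left) ≫ G.hom = α ≫ G.hom),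
        pt G (pullback.lift β γ h₂ ≫ μ[G].left) H = pt G β hb * pt G γ hc :=
      fun H => Over.OverMorphism.ext (lift_mul G β γ hb hc h₂)
    refine (lift_mul G _ γ (q := α ≫ G.hom)
      (by rw [lift_mul G α β rfl hb h₁]; exact Over.w _) hc _).trans ?_
    refine Eq.trans ?_ (lift_mul G α _ (q := α ≫ G.hom) rfl
      (by rw [lift_mul G β γ hb hc h₂]; exact Over.w _) _).symm
    rw [e1, e2, _root_.mul_assoc]
  e_s := Over.w η[G]
  e_t := Over.w η[G]
  comp_e α := by
    rw [lift_mul G α _ rfl (by rw [Category.assoc, Category.assoc, Over.w η[G]]; exact congrArg (α ≫ ·) (Category.comp_id _))]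
    have e1 : ∀ H, pt G (α ≫ G.hom ≫ η[G].left) (q := α ≫ G.hom) H = 1 :=
      fun H => Over.OverMorphism.ext (by rw [one_left]; simp)
    rw [e1, _root_.mul_one]
    rfl
  e_comp α := by
    rw [lift_mul G _ α (q := α ≫ G.hom) (by rw [Category.assoc, Category.assoc, Over.w η[G]]; exact congrArg (α ≫ ·) (Category.comp_id _)) rfl]
    have e1 : ∀ H, pt G (α ≫ G.hom ≫ η[G].left) (q := α ≫ G.hom) H = 1 :=
      fun H => Over.OverMorphism.ext (by rw [one_left]; simp)
    rw [e1, _root_.one_mul]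
    rfl
  i_s := Over.w ι[G]
  i_t := Over.w ι[G]
  comp_i α := by
    rw [lift_mul G α _ rfl (by rw [Category.assoc, Over.w ι[G]])]
    have e1 : ∀ H, pt G (α ≫ ι[G].left) (q := α ≫ G.hom) H = (pt G α rfl)⁻¹ :=
      fun H => Over.OverMorphism.ext (inv_left G α rfl).symm
    rw [e1, mul_inv_cancel, one_left, Category.assoc]
  i_comp α := by
    rw [lift_mul G _ α (q := α ≫ G.hom) (by rw [Category.assoc, Over.w ι[G]]) rfl]
    have e1 : ∀ H, pt G (α ≫ ι[G].left) (q := α ≫ G.hom) H = (pt G α rfl)⁻¹ :=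
      fun H => Over.OverMorphism.ext (inv_left G α rfl).symm
    rw [e1, inv_mul_cancel, one_left, Category.assoc]

variable {G} {H : Over S} [GrpObj H]

theorem lift_mul_comp (ψ : H ⟶ G) [IsMonHom ψ] {T : Scheme.{u}} (α β : T ⟶ H.left)
    (h : α ≫ H.hom = β ≫ H.hom)
    (h' : (α ≫ ψ.left) ≫ G.hom = (β ≫ ψ.left) ≫ G.hom) :
    (pullback.lift α β h ≫ μ[H].left) ≫ ψ.left =
      pullback.lift (α ≫ ψ.left) (β ≫ ψ.left) h' ≫ μ[G].left := by
  have ha : (α ≫ ψ.left) ≫ G.hom = α ≫ H.hom := by rw [Category.assoc, Over.w ψ]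
  rw [lift_mul H α β rfl h.symm h, lift_mul G _ _ ha (h'.symm.trans ha) h', ← Over.comp_left,
    MonObj.mul_comp]
  congr 1

/-- a homomorphism of group schemes as a morphism of groupoid schemes -/
noncomputable def ofHom (ψ : H ⟶ G) [IsMonHom ψ] :
    Grpd.GroupoidScheme.Hom (ofGrp H) (ofGrp G) where
  fU := 𝟙 S
  fR := ψ.left
  fU_over := Category.id_comp _
  comm_s := (Over.w ψ).trans (Category.comp_id _).symm
  comm_t := (Over.w ψ).trans (Category.comp_id _).symm
  comm_c α β h := lift_mul_comp ψ α β h _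

end Groth.Agent.H63.GrpToGrpd
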