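import Mathlib.AlgebraicGeometry.Morphisms.UniversallyOpen
import Mathlib.AlgebraicGeometry.PullbackCarrier
import Mathlib.AlgebraicGeometry.ResidueField

set_option autoImplicit false
universe u

open AlgebraicGeometry CategoryTheory CategoryTheory.Limits

namespace Groth.Agent.H63.PullbackClosure

variable {X Y U : Scheme.{u}} (f : X ⟶ U) (g : Y ⟶ U) [IsIntegral U] [Subsingleton U]

theorem mem_closure_snd (p : ↑(pullback f g)) (B : Set Y) (hp : pullback.snd f g p ∈ closure B) :
    p ∈ closure (pullback.fst f g ⁻¹' {pullback.fst f g p} ∩ pullback.snd f g ⁻¹' B) := by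
  set x := X.fromSpecResidueField (pullback.fst f g p) with hx
  have hr : Set.range x = {pullback.fst f g p} := Scheme.range_fromSpecResidueField _
  let m : pullback (x ≫ f) g ⟶ pullback f g :=
    pullback.map (x ≫ f) g f g x (𝟙 Y) (𝟙 U) (by simp) (by simp)
  have hm1 : m ≫ pullback.fst f g = pullback.fst (x ≫ f) g ≫ x := pullback.lift_fst _ _ _
  have hm2 : m ≫ pullback.snd f g = pullback.snd (x ≫ f) g :=
    (pullback.lift_snd _ _ _).trans (Category.comp_id _)
  have hmem : p ∈ Set.range m := by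
    show p ∈ Set.range (pullback.map (x ≫ f) g f g x (𝟙 Y) (𝟙 U) _ _)
    rw [Scheme.Pullback.range_map]
    refine ⟨?_, p |> pullback.snd f g, rfl⟩
    rw [Set.mem_preimage, hr]
    exact Set.mem_singleton _
  obtain ⟨z, hz⟩ := hmem
  have hzc : z ∈ closure (pullback.snd (x ≫ f) g ⁻¹' B) := by
    apply (pullback.snd (x ≫ f) g).isOpenMap.preimage_closure_subset_closure_preimage
    rw [Set.mem_preimage, ← hm2, Scheme.Hom.comp_apply, hz]
    exact hp
  have := image_closure_subset_closure_image m.continuous ⟨z, hzc, rfl⟩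
  rw [hz] at this
  refine closure_mono ?_ this
  rintro _ ⟨w, hw, rfl⟩
  refine ⟨?_, ?_⟩
  · rw [Set.mem_preimage, ← Scheme.Hom.comp_apply m, hm1, Scheme.Hom.comp_apply]
    have : x (pullback.fst (x ≫ f) g w) ∈ Set.range x := ⟨_, rfl⟩
    rwa [hr] at this
  · rw [Set.mem_preimage, ← Scheme.Hom.comp_apply m, hm2]
    exact hw

theorem mem_closure_fst (p : ↑(pullback f g)) (A : Set X) (hp : pullback.fst f g p ∈ closure A) :
    p ∈ closure (pullback.fst f g ⁻¹' A ∩ pullback.snd f g ⁻¹' {pullback.snd f g p}) := by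
  set σ := pullbackSymmetry f g
  have h1 : σ.hom ≫ pullback.snd g f = pullback.fst f g := pullbackSymmetry_hom_comp_snd _ _
  have h2 : σ.hom ≫ pullback.fst g f = pullback.snd f g := pullbackSymmetry_hom_comp_fst _ _
  have key := mem_closure_snd g f (σ.hom p) A (by rw [← Scheme.Hom.comp_apply, h1]; exact hp)
  have hpre : p ∈ closure (σ.hom.homeomorph ⁻¹'
      (pullback.fst g f ⁻¹' {pullback.fst g f (σ.hom p)} ∩ pullback.snd g f ⁻¹' A)) := by
    rw [← σ.hom.homeomorph.preimage_closure]
    exact key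
  refine closure_mono ?_ hpre
  rintro w ⟨hw1, hw2⟩
  have e1 : pullback.fst g f (σ.hom w) = pullback.fst g f (σ.hom p) := hw1
  have e2 : pullback.snd g f (σ.hom w) ∈ A := hw2
  rw [← Scheme.Hom.comp_apply, ← Scheme.Hom.comp_apply, h2] at e1
  rw [← Scheme.Hom.comp_apply, h1] at e2
  exact ⟨e2, e1⟩

theorem mem_closure_both (p : ↑(pullback f g)) (A : Set X) (B : Set Y)
    (hA : pullback.fst f g p ∈ closure A) (hB : pullback.snd f g p ∈ closure B) :
    p ∈ closure (pullback.fst f g ⁻¹' A ∩ pullback.snd f g ⁻¹' B) := by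
  refine closure_minimal ?_ isClosed_closure (mem_closure_snd f g p B hB)
  rintro w ⟨hw1, hw2⟩
  refine closure_mono ?_ (mem_closure_fst f g w A (by
    rw [show pullback.fst f g w = pullback.fst f g p from hw1]; exact hA))
  rintro v ⟨hv1, hv2⟩
  exact ⟨hv1, by rw [Set.mem_preimage, show pullback.snd f g v = pullback.snd f g w from hv2]; exact hw2⟩

end Groth.Agent.H63.PullbackClosure
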