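import Groth.Agent.H63.GrpdBasic
import Groth.Agent.H63.PullbackClosure

set_option autoImplicit false
universe u

open AlgebraicGeometry CategoryTheory CategoryTheory.Limits
open Groth.Agent.H63.GrpdBasic Groth.Agent.H63.PullbackClosure

namespace Groth.Agent.H63.GrpdField

variable {S : Scheme.{u}} {G₁ G : Grpd.GroupoidScheme S} (f : Grpd.GroupoidScheme.Hom G₁ G)

theorem hom_cmp {T : Scheme.{u}} (α β : T ⟶ G₁.R) (h : α ≫ G₁.s = β ≫ G₁.t) :
    cmp G₁ α β h ≫ f.fR = cmp G (α ≫ f.fR) (β ≫ f.fR)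
      (by rw [Category.assoc, Category.assoc, f.comm_s, f.comm_t, reassoc_of% h]) :=
  f.comm_c α β h

@[reassoc]
theorem hom_e : G₁.e ≫ f.fR = f.fU ≫ G.e := by
  have hs : (G₁.e ≫ f.fR) ≫ G.s = f.fU := by
    rw [Category.assoc, f.comm_s, reassoc_of% G₁.e_s]
  have ht : (G₁.e ≫ f.fR) ≫ G.t = f.fU := by
    rw [Category.assoc, f.comm_t, reassoc_of% G₁.e_t]
  have h11 : G₁.e ≫ G₁.s = G₁.e ≫ G₁.t := by rw [G₁.e_s, G₁.e_t]
  have hid : cmp G₁ G₁.e G₁.e h11 = G₁.e :=
    cmp_one G₁ G₁.e G₁.e (by rw [← Category.assoc, G₁.e_s, Category.id_comp]) h11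
  have hidem : cmp G (G₁.e ≫ f.fR) (G₁.e ≫ f.fR) (hs.trans ht.symm) = G₁.e ≫ f.fR :=
    (hom_cmp f G₁.e G₁.e h11).symm.trans (congrArg (· ≫ f.fR) hid)
  have h2 := inv_cmp_cancel G (G₁.e ≫ f.fR) (G₁.e ≫ f.fR) (hs.trans ht.symm)
  rw [cmp_congr G rfl hidem _ (by rw [Category.assoc _ G.i, G.i_s]), inv_cmp] at h2
  rw [← h2, ← Category.assoc (G₁.e ≫ f.fR) G.s, hs]

@[reassoc]
theorem hom_i : G₁.i ≫ f.fR = f.fR ≫ G.i := by
  have h11 : G₁.i ≫ G₁.s = 𝟙 _ ≫ G₁.t := by rw [G₁.i_s, Category.id_comp]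
  have hcomp : (G₁.i ≫ f.fR) ≫ G.s = f.fR ≫ G.t := by
    rw [Category.assoc, f.comm_s, reassoc_of% G₁.i_s, f.comm_t]
  have hid : cmp G₁ G₁.i (𝟙 _) h11 = G₁.s ≫ G₁.e := by
    have := inv_cmp G₁ (𝟙 G₁.R)
    simpa using this
  have h1 : cmp G (G₁.i ≫ f.fR) f.fR hcomp = f.fR ≫ G.s ≫ G.e := by
    have h3 := (hom_cmp f G₁.i (𝟙 _) h11).symm.trans (congrArg (· ≫ f.fR) hid)
    have h4 : (G₁.s ≫ G₁.e) ≫ f.fR = f.fR ≫ G.s ≫ G.e := by
      rw [Category.assoc, hom_e, ← reassoc_of% f.comm_s]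
    exact (cmp_congr G rfl (Category.id_comp _).symm _ _).trans (h3.trans h4)
  have h2 := cmp_cancel_right G (G₁.i ≫ f.fR) f.fR hcomp
  rw [cmp_congr G h1 rfl _ (by rw [Category.assoc, Category.assoc, G.e_s, Category.comp_id,
    Category.assoc _ G.i, G.i_t])] at h2
  rw [← h2]
  exact one_cmp G _ _ (by rw [Category.assoc, reassoc_of% G.i_t]) _

/-- the image of arrows -/
def img : Set G.R := Set.range f.fR

theorem i_mem_img {x : G.R} (hx : x ∈ img f) : G.i x ∈ img f := by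
  obtain ⟨y, rfl⟩ := hx
  exact ⟨G₁.i y, by rw [← Scheme.Hom.comp_apply, hom_i, Scheme.Hom.comp_apply]⟩

theorem e_mem_img [Surjective f.fU] (x : G.U) : G.e x ∈ img f := by
  obtain ⟨y, rfl⟩ := f.fU.surjective x
  exact ⟨G₁.e y, by rw [← Scheme.Hom.comp_apply, hom_e, Scheme.Hom.comp_apply]⟩

theorem c_mem_img [IsIso f.fU] (q : ↑(pullback G.s G.t)) (h₁ : pullback.fst G.s G.t q ∈ img f)
    (h₂ : pullback.snd G.s G.t q ∈ img f) : G.c q ∈ img f := by
  let m : pullback G₁.s G₁.t ⟶ pullback G.s G.t :=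
    pullback.map G₁.s G₁.t G.s G.t f.fR f.fR f.fU f.comm_s.symm f.comm_t.symm
  have hm : m ≫ G.c = G₁.c ≫ f.fR := by
    rw [c_eq_cmp G, comp_cmp, c_eq_cmp G₁, hom_cmp]
    exact cmp_congr G (pullback.lift_fst _ _ _) (pullback.lift_snd _ _ _) _ _
  have : q ∈ Set.range m := by
    show q ∈ Set.range (pullback.map G₁.s G₁.t G.s G.t f.fR f.fR f.fU _ _)
    rw [Scheme.Pullback.range_map]
    exact ⟨h₁, h₂⟩
  obtain ⟨z, rfl⟩ := this
  exact ⟨G₁.c z, by rw [← Scheme.Hom.comp_apply, ← hm, Scheme.Hom.comp_apply]⟩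

theorem i_mem_closure {x : G.R} (hx : x ∈ closure (img f)) : G.i x ∈ closure (img f) := by
  refine closure_mono ?_ (image_closure_subset_closure_image G.i.continuous ⟨x, hx, rfl⟩)
  rintro _ ⟨y, hy, rfl⟩
  exact i_mem_img f hy

theorem c_mem_closure [IsIso f.fU] [IsIntegral G.U] [Subsingleton G.U] (q : ↑(pullback G.s G.t))
    (h₁ : pullback.fst G.s G.t q ∈ closure (img f)) (h₂ : pullback.snd G.s G.t q ∈ closure (img f)) :
    G.c q ∈ closure (img f) := by
  refine closure_mono ?_ (image_closure_subset_closure_image G.c.continuous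
    ⟨q, mem_closure_both G.s G.t q _ _ h₁ h₂, rfl⟩)
  rintro _ ⟨w, ⟨hw1, hw2⟩, rfl⟩
  exact c_mem_img f w hw1 hw2

section translation

variable {Z : Scheme.{u}} (ρ : Z ⟶ G.R)

/-- `(z, β) ↦ (z, (ρ z)⁻¹ ∘ β)` -/
noncomputable def untranslate : pullback (ρ ≫ G.t) G.t ⟶ pullback G.s G.t :=
  pullback.lift (pullback.fst _ _ ≫ ρ)
    (cmp G ((pullback.fst _ _ ≫ ρ) ≫ G.i) (pullback.snd (ρ ≫ G.t) G.t)
      (by rw [Category.assoc _ G.i, G.i_s, Category.assoc, pullback.condition]))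
    (by rw [cmp_t, Category.assoc _ G.i, G.i_t])

theorem untranslate_c : untranslate ρ ≫ G.c = pullback.snd (ρ ≫ G.t) G.t := by
  have h1 : untranslate ρ ≫ pullback.fst G.s G.t = pullback.fst (ρ ≫ G.t) G.t ≫ ρ :=
    pullback.lift_fst _ _ _
  have h2 : untranslate ρ ≫ pullback.snd G.s G.t =
      cmp G ((pullback.fst _ _ ≫ ρ) ≫ G.i) (pullback.snd (ρ ≫ G.t) G.t)
        (by rw [Category.assoc _ G.i, G.i_s, Category.assoc, pullback.condition]) :=
    pullback.lift_snd _ _ _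
  rw [c_eq_cmp G, comp_cmp]
  refine (cmp_congr G h1 h2 _ (by rw [cmp_t, Category.assoc _ G.i, G.i_t])).trans ?_
  exact cmp_inv_cancel_left G _ _ (by rw [Category.assoc]; exact pullback.condition)

theorem untranslate_fst :
    untranslate ρ ≫ pullback.fst G.s G.t = pullback.fst (ρ ≫ G.t) G.t ≫ ρ :=
  pullback.lift_fst _ _ _

/-- `(z, β) ↦ (z, ρ z ∘ β)` -/
noncomputable def translateFwd : pullback (ρ ≫ G.s) G.t ⟶ pullback (ρ ≫ G.t) G.t :=
  pullback.lift (pullback.fst _ _)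
    (cmp G (pullback.fst _ _ ≫ ρ) (pullback.snd (ρ ≫ G.s) G.t)
      (by rw [Category.assoc]; exact pullback.condition))
    (by rw [cmp_t, Category.assoc])

theorem translateFwd_untranslate_snd :
    translateFwd ρ ≫ untranslate ρ ≫ pullback.snd G.s G.t = pullback.snd (ρ ≫ G.s) G.t := by
  rw [untranslate, pullback.lift_snd, comp_cmp]
  have h1 : translateFwd ρ ≫ (pullback.fst (ρ ≫ G.t) G.t ≫ ρ) ≫ G.i =
      (pullback.fst (ρ ≫ G.s) G.t ≫ ρ) ≫ G.i := by
    rw [translateFwd, Category.assoc, pullback.lift_fst_assoc, Category.assoc]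
  have h2 : translateFwd ρ ≫ pullback.snd (ρ ≫ G.t) G.t =
      cmp G (pullback.fst _ _ ≫ ρ) (pullback.snd (ρ ≫ G.s) G.t)
        (by rw [Category.assoc]; exact pullback.condition) := pullback.lift_snd _ _ _
  refine (cmp_congr G h1 h2 _ (by rw [cmp_t, Category.assoc _ G.i, G.i_s])).trans ?_
  exact inv_cmp_cancel G _ _ (by rw [Category.assoc]; exact pullback.condition)

theorem translateFwd_snd :
    translateFwd ρ ≫ pullback.snd (ρ ≫ G.t) G.t =
      cmp G (pullback.fst _ _ ≫ ρ) (pullback.snd (ρ ≫ G.s) G.t)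
        (by rw [Category.assoc]; exact pullback.condition) :=
  pullback.lift_snd _ _ _

end translation

theorem isClosed_img [IsIso f.fU] [IsIntegral G.U] [Subsingleton G.U]
    (hlc : IsLocallyClosed (img f)) : IsClosed (img f) := by
  obtain ⟨O, hO, hW⟩ : ∃ O : Set G.R, IsOpen O ∧ img f = O ∩ closure (img f) :=
    ⟨coborder (img f), hlc.isOpen_coborder, coborder_inter_closure.symm⟩
  rw [← closure_subset_iff_isClosed]
  intro g hg
  set ρ := G.R.fromSpecResidueField g with hρ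
  have hρg : ∀ z, ρ z = g := fun z => Scheme.fromSpecResidueField_apply _ _
  let pt : ↑(Spec (G.R.residueField g)) := IsLocalRing.closedPoint _
  let L : pullback (ρ ≫ G.s) G.t ⟶ pullback G.s G.t :=
    pullback.map (ρ ≫ G.s) G.t G.s G.t ρ (𝟙 G.R) (𝟙 G.U) (by simp) (by simp)
  have hL2 : L ≫ pullback.snd G.s G.t = pullback.snd (ρ ≫ G.s) G.t :=
    (pullback.lift_snd _ _ _).trans (Category.comp_id _)
  have hL1 : L ≫ pullback.fst G.s G.t = pullback.fst (ρ ≫ G.s) G.t ≫ ρ := pullback.lift_fst _ _ _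
  -- a point of the source fibre over the image
  have hsub : G.s g = G.t (G.e (G.s g)) := Subsingleton.elim _ _
  obtain ⟨z, hz1, hz2⟩ := Scheme.Pullback.exists_preimage_pullback (f := ρ ≫ G.s) (g := G.t) pt
    (G.e (G.s g)) (Subsingleton.elim _ _)
  set q₀ := translateFwd ρ z with hq₀
  let O' : Set ↑(pullback (ρ ≫ G.t) G.t) :=
    (untranslate ρ ≫ pullback.snd G.s G.t) ⁻¹' O
  have hO' : IsOpen O' := hO.preimage (Scheme.Hom.continuous _)
  have hz0 : G.e (G.s g) ∈ img f := e_mem_img f _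
  have hq₀O : q₀ ∈ O' := by
    show (untranslate ρ ≫ pullback.snd G.s G.t) (translateFwd ρ z) ∈ O
    rw [← Scheme.Hom.comp_apply, translateFwd_untranslate_snd, hz2]
    exact (hW.subset hz0).1
  have hq₀Z : pullback.snd (ρ ≫ G.t) G.t q₀ ∈ closure (img f) := by
    have h3 : translateFwd ρ ≫ pullback.snd (ρ ≫ G.t) G.t = L ≫ G.c := by
      rw [translateFwd_snd, c_eq_cmp G, comp_cmp]
      exact cmp_congr G hL1.symm hL2.symm _ _
    rw [hq₀, ← Scheme.Hom.comp_apply, h3, Scheme.Hom.comp_apply]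
    refine c_mem_closure f _ ?_ ?_
    · rw [← Scheme.Hom.comp_apply, hL1, Scheme.Hom.comp_apply, hρg]; exact hg
    · rw [← Scheme.Hom.comp_apply, hL2, hz2]; exact subset_closure hz0
  have hcl : q₀ ∈ closure (pullback.snd (ρ ≫ G.t) G.t ⁻¹' img f) :=
    (pullback.snd (ρ ≫ G.t) G.t).isOpenMap.preimage_closure_subset_closure_preimage hq₀Z
  obtain ⟨q, hqO, hqW⟩ := mem_closure_iff.1 hcl O' hO' hq₀O
  set p := untranslate ρ q with hp
  have hp1 : pullback.fst G.s G.t p = g := by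
    rw [hp, ← Scheme.Hom.comp_apply, untranslate_fst, Scheme.Hom.comp_apply, hρg]
  have hpc : G.c p ∈ img f := by
    rw [hp, ← Scheme.Hom.comp_apply, untranslate_c]; exact hqW
  have hp2Z : pullback.snd G.s G.t p ∈ closure (img f) := by
    let α := untranslate ρ ≫ pullback.fst G.s G.t
    let w : pullback (ρ ≫ G.t) G.t ⟶ pullback G.s G.t :=
      pullback.lift (α ≫ G.i) (pullback.snd (ρ ≫ G.t) G.t) (by
        simp only [α, untranslate_fst, Category.assoc, G.i_s]; exact pullback.condition)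
    have h4 : untranslate ρ ≫ pullback.snd G.s G.t = w ≫ G.c := by
      rw [c_eq_cmp G, comp_cmp, untranslate, pullback.lift_snd]
      exact cmp_congr G (by rw [pullback.lift_fst]; simp [α, untranslate_fst])
        (pullback.lift_snd _ _ _).symm _ _
    rw [hp, ← Scheme.Hom.comp_apply, h4, Scheme.Hom.comp_apply]
    refine c_mem_closure f _ ?_ ?_
    · rw [← Scheme.Hom.comp_apply, show w ≫ pullback.fst G.s G.t = α ≫ G.i from pullback.lift_fst _ _ _,
        Scheme.Hom.comp_apply, show α q = g from hp1]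
      exact i_mem_closure f hg
    · rw [← Scheme.Hom.comp_apply,
        show w ≫ pullback.snd G.s G.t = pullback.snd (ρ ≫ G.t) G.t from pullback.lift_snd _ _ _]
      exact subset_closure hqW
  have hp2 : pullback.snd G.s G.t p ∈ img f := hW.symm.subset ⟨hqO, hp2Z⟩
  -- g = (g ∘ y) ∘ y⁻¹
  let w' : pullback G.s G.t ⟶ pullback G.s G.t :=
    pullback.lift G.c (pullback.snd G.s G.t ≫ G.i) (by rw [c_s, Category.assoc, G.i_t])
  have h5 : w' ≫ G.c = pullback.fst G.s G.t := by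
    rw [c_eq_cmp G, comp_cmp, cmp_congr G ((pullback.lift_fst _ _ _).trans (c_eq_cmp G))
      (pullback.lift_snd _ _ _) _ (by rw [cmp_s, Category.assoc _ G.i, G.i_t])]
    exact cmp_cancel_right G _ _ pullback.condition
  rw [← hp1, ← h5, Scheme.Hom.comp_apply]
  refine c_mem_img f _ ?_ ?_
  · rw [← Scheme.Hom.comp_apply, show w' ≫ pullback.fst G.s G.t = G.c from pullback.lift_fst _ _ _]
    exact hpc
  · rw [← Scheme.Hom.comp_apply, show w' ≫ pullback.snd G.s G.t = pullback.snd G.s G.t ≫ G.i from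
      pullback.lift_snd _ _ _, Scheme.Hom.comp_apply]
    exact i_mem_img f hp2

end Groth.Agent.H63.GrpdField
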