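import Mathlib.AlgebraicGeometry.Group.Smooth
import Mathlib.AlgebraicGeometry.Morphisms.UniversallyOpen
import Mathlib.CategoryTheory.Monoidal.Cartesian.Over
import Mathlib.CategoryTheory.Monoidal.Cartesian.Grp

set_option autoImplicit false
universe u

open AlgebraicGeometry CategoryTheory CategoryTheory.Limits MonoidalCategory
open CartesianMonoidalCategory MonObj GrpObj

namespace Groth.Agent.H63.GrpTranslate

variable {S : Scheme.{u}} {G : Over S} [GrpObj G]

/-- the translation automorphism `(t, g) ↦ (t, ψ t * g)` -/
noncomputable def translate {T : Over S} (ψ : T ⟶ G) : T ⊗ G ≅ T ⊗ G where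
  hom := lift (fst T G) ((fst T G ≫ ψ) * snd T G)
  inv := lift (fst T G) ((fst T G ≫ ψ)⁻¹ * snd T G)
  hom_inv_id := by
    apply CartesianMonoidalCategory.hom_ext
    · simp
    · simp [MonObj.comp_mul, GrpObj.comp_inv]
  inv_hom_id := by
    apply CartesianMonoidalCategory.hom_ext
    · simp
    · simp [MonObj.comp_mul]

theorem whiskerRight_mul {T : Over S} (ψ : T ⟶ G) :
    (ψ ▷ G) ≫ μ[G] = (translate ψ).hom ≫ snd T G := by
  simp only [translate, lift_snd, Hom.mul_def]
  congr 1

theorem property_translate_mul {P : MorphismProperty Scheme.{u}} [P.RespectsIso]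
    [P.IsStableUnderBaseChange] {T : Over S} (ψ : T ⟶ G) (h : P T.hom) :
    P ((ψ ▷ G) ≫ μ[G]).left := by
  rw [whiskerRight_mul, Over.comp_left]
  have : IsIso (translate ψ).hom.left := ((Over.forget S).mapIso (translate ψ)).isIso_hom
  rw [P.cancel_left_of_respectsIso ((translate ψ).hom.left) (snd T G).left]
  exact MorphismProperty.pullback_snd (P := P) _ _ h

theorem property_mul {P : MorphismProperty Scheme.{u}} [P.RespectsIso]
    [P.IsStableUnderBaseChange] (h : P G.hom) : P μ[G].left := by
  have := property_translate_mul (P := P) (𝟙 G) h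
  rwa [id_whiskerRight, Category.id_comp] at this

end Groth.Agent.H63.GrpTranslate
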