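import Groth.Agent.H63.PullbackClosure
import Groth.Agent.H63.GrpTranslate
import Groth.Agent.Lib.GeomConn.SepClosed
import Mathlib.AlgebraicGeometry.Geometrically.Irreducible
import Mathlib.AlgebraicGeometry.Group.Smooth

set_option autoImplicit false
universe u

open AlgebraicGeometry CategoryTheory CategoryTheory.Limits MonoidalCategory
open CartesianMonoidalCategory MonObj GrpObj
open Groth.Agent.H63.PullbackClosure

namespace Groth.Agent.H63.GrpIrred

/-- Over a pair of points, if one residue field is geometrically irreducible over the base, there is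
a point specializing to every point lying over the pair. -/
theorem exists_generic_over_pair {X Y U : Scheme.{u}} (f : X ⟶ U) (g : Y ⟶ U) [IsIntegral U]
    [Subsingleton U] (x : X) (y : Y) [GeometricallyIrreducible (X.fromSpecResidueField x ≫ f)] :
    ∃ π : ↑(pullback f g), pullback.fst f g π = x ∧ pullback.snd f g π = y ∧
      ∀ q, pullback.fst f g q = x → pullback.snd f g q = y → π ⤳ q := by
  let m : pullback (X.fromSpecResidueField x ≫ f) (Y.fromSpecResidueField y ≫ g) ⟶ pullback f g :=
    pullback.map _ _ f g (X.fromSpecResidueField x) (Y.fromSpecResidueField y) (𝟙 U) (by simp) (by simp)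
  have hr : Set.range m = pullback.fst f g ⁻¹' {x} ∩ pullback.snd f g ⁻¹' {y} := by
    show Set.range (pullback.map _ _ f g (X.fromSpecResidueField x) (Y.fromSpecResidueField y) (𝟙 U) _ _) = _
    rw [Scheme.Pullback.range_map, Scheme.range_fromSpecResidueField, Scheme.range_fromSpecResidueField]
  have : IrreducibleSpace ↑(Spec (Y.residueField y)) :=
    inferInstanceAs (IrreducibleSpace (PrimeSpectrum (Y.residueField y)))
  have : IrreducibleSpace ↑(pullback (X.fromSpecResidueField x ≫ f) (Y.fromSpecResidueField y ≫ g)) :=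
    inferInstance
  have hπ : m (genericPoint _) ∈ pullback.fst f g ⁻¹' {x} ∩ pullback.snd f g ⁻¹' {y} :=
    hr ▸ ⟨_, rfl⟩
  refine ⟨m (genericPoint _), hπ.1, hπ.2, fun q hq1 hq2 => ?_⟩
  have : q ∈ Set.range m := hr ▸ ⟨hq1, hq2⟩
  obtain ⟨z, rfl⟩ := this
  exact (genericPoint_specializes z).map m.continuous

theorem geometricallyIrreducible_of_isSepClosed {K : Type u} [Field K] [IsSepClosed K]
    (L : Type u) [Field L] (a : Spec (CommRingCat.of L) ⟶ Spec (CommRingCat.of K)) :
    GeometricallyIrreducible a := by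
  obtain ⟨φ, rfl⟩ := Spec.map_surjective a
  let : Algebra K L := φ.hom.toAlgebra
  exact Groth.Agent.Lib.GeomConn.SepClosed.geometricallyIrreducible_specMap K L

variable {K : Type u} [Field K]

/-- the identity point -/
noncomputable abbrev unitPt (G : Over (Spec (CommRingCat.of K))) [GrpObj G] : G.left :=
  η[G].left (IsLocalRing.closedPoint K)

theorem exists_mul_unit (G : Over (Spec (CommRingCat.of K))) [GrpObj G] (y : G.left) :
    ∃ q : ↑(pullback G.hom G.hom), pullback.fst G.hom G.hom q = y ∧
      pullback.snd G.hom G.hom q = unitPt G ∧ μ[G].left q = y := by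
  refine ⟨(lift (𝟙 G) (1 : G ⟶ G)).left y, ?_, ?_, ?_⟩
  · show ((lift (𝟙 G) (1 : G ⟶ G)).left ≫ (fst G G).left) y = y
    rw [← Over.comp_left, lift_fst]; rfl
  · show ((lift (𝟙 G) (1 : G ⟶ G)).left ≫ (snd G G).left) y = unitPt G
    rw [← Over.comp_left, lift_snd, Hom.one_def, Over.comp_left, Scheme.Hom.comp_apply]
    exact congrArg η[G].left (Subsingleton.elim (α := PrimeSpectrum K) _ _)
  · show ((lift (𝟙 G) (1 : G ⟶ G)).left ≫ μ[G].left) y = y
    rw [← Over.comp_left, ← Hom.mul_def, _root_.mul_one]; rfl

theorem exists_unit_mul (G : Over (Spec (CommRingCat.of K))) [GrpObj G] (y : G.left) :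
    ∃ q : ↑(pullback G.hom G.hom), pullback.fst G.hom G.hom q = unitPt G ∧
      pullback.snd G.hom G.hom q = y ∧ μ[G].left q = y := by
  refine ⟨(lift (1 : G ⟶ G) (𝟙 G)).left y, ?_, ?_, ?_⟩
  · show ((lift (1 : G ⟶ G) (𝟙 G)).left ≫ (fst G G).left) y = unitPt G
    rw [← Over.comp_left, lift_fst, Hom.one_def, Over.comp_left, Scheme.Hom.comp_apply]
    exact congrArg η[G].left (Subsingleton.elim (α := PrimeSpectrum K) _ _)
  · show ((lift (1 : G ⟶ G) (𝟙 G)).left ≫ (snd G G).left) y = y
    rw [← Over.comp_left, lift_snd]; rfl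
  · show ((lift (1 : G ⟶ G) (𝟙 G)).left ≫ μ[G].left) y = y
    rw [← Over.comp_left, ← Hom.mul_def, _root_.one_mul]; rfl

theorem common_gen_unit [IsSepClosed K] (G : Over (Spec (CommRingCat.of K))) [GrpObj G]
    {y₁ y₂ : G.left} (h₁ : y₁ ⤳ unitPt G) (h₂ : y₂ ⤳ unitPt G) :
    ∃ z : G.left, z ⤳ y₁ ∧ z ⤳ y₂ := by
  have : GeometricallyIrreducible (G.left.fromSpecResidueField y₁ ≫ G.hom) :=
    geometricallyIrreducible_of_isSepClosed (G.left.residueField y₁) _
  obtain ⟨π, -, -, hπ⟩ := exists_generic_over_pair G.hom G.hom y₁ y₂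
  refine ⟨μ[G].left π, ?_, ?_⟩
  · obtain ⟨q, hq1, hq2, hq3⟩ := exists_mul_unit G y₁
    rw [← hq3]
    refine Specializes.map ?_ μ[G].left.continuous
    rw [specializes_iff_mem_closure]
    refine closure_minimal ?_ isClosed_closure
      (mem_closure_snd G.hom G.hom q {y₂} (by rw [hq2]; exact specializes_iff_mem_closure.1 h₂))
    rintro w ⟨hw1, hw2⟩
    exact specializes_iff_mem_closure.1 (hπ w ((show _ = _ from hw1).trans hq1) hw2)
  · obtain ⟨q, hq1, hq2, hq3⟩ := exists_unit_mul G y₂
    rw [← hq3]
    refine Specializes.map ?_ μ[G].left.continuous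
    rw [specializes_iff_mem_closure]
    refine closure_minimal ?_ isClosed_closure
      (mem_closure_fst G.hom G.hom q {y₁} (by rw [hq1]; exact specializes_iff_mem_closure.1 h₁))
    rintro w ⟨hw1, hw2⟩
    exact specializes_iff_mem_closure.1 (hπ w hw1 ((show _ = _ from hw2).trans hq2))

/-- any two generalizations of a point of a group scheme over a field have a common generalization -/
theorem common_gen (G : Over (Spec (CommRingCat.of K))) [GrpObj G] {x y₁ y₂ : G.left}
    (h₁ : y₁ ⤳ x) (h₂ : y₂ ⤳ x) : ∃ z : G.left, z ⤳ y₁ ∧ z ⤳ y₂ := by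
  let Ω := AlgebraicClosure (G.left.residueField x)
  let r : Spec (CommRingCat.of Ω) ⟶ G.left :=
    Spec.map (CommRingCat.ofHom (algebraMap (G.left.residueField x) Ω)) ≫ G.left.fromSpecResidueField x
  let g : Spec (CommRingCat.of Ω) ⟶ Spec (CommRingCat.of K) := r ≫ G.hom
  let G' : Over (Spec (CommRingCat.of Ω)) := (Over.pullback g).obj G
  let : GrpObj G' := ((Over.pullback g).mapGrp.obj ⟨G⟩).grp
  let pr : G'.left ⟶ G.left := pullback.fst G.hom g
  let x' : 𝟙_ (Over (Spec (CommRingCat.of Ω))) ⟶ G' :=
    Over.homMk (pullback.lift r (𝟙 _) (Category.id_comp _).symm) (pullback.lift_snd _ _ _)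
  let p₀ : G'.left := x'.left (IsLocalRing.closedPoint Ω)
  have hp₀ : pr p₀ = x := by
    show ((pullback.lift r (𝟙 _) (Category.id_comp _).symm) ≫ pullback.fst G.hom g) _ = x
    rw [pullback.lift_fst, Scheme.Hom.comp_apply]
    exact Scheme.fromSpecResidueField_apply x _
  have : Flat pr := inferInstanceAs (Flat (pullback.fst G.hom g))
  obtain ⟨y₁', hy₁, hy₁'⟩ := Flat.generalizingMap pr (show y₁ ⤳ pr p₀ by rw [hp₀]; exact h₁)
  obtain ⟨y₂', hy₂, hy₂'⟩ := Flat.generalizingMap pr (show y₂ ⤳ pr p₀ by rw [hp₀]; exact h₂)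
  let a : G' ⟶ G' := 𝟙 G' * (toUnit G' ≫ x')⁻¹
  let b : G' ⟶ G' := 𝟙 G' * (toUnit G' ≫ x')
  have hab : a ≫ b = 𝟙 G' := by
    simp only [a, b, MonObj.comp_mul, Category.comp_id, ← Category.assoc, toUnit_unique (_ ≫ toUnit G') (toUnit G')]
    rw [_root_.mul_assoc, inv_mul_cancel, _root_.mul_one]
  have hxa : a.left p₀ = unitPt G' := by
    have : x' ≫ a = η[G'] := by
      simp only [a, MonObj.comp_mul, GrpObj.comp_inv, Category.comp_id, ← Category.assoc,
        toUnit_unique (x' ≫ toUnit G') (𝟙 _), Category.id_comp, mul_inv_cancel]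
      rw [Hom.one_def, toUnit_unique (toUnit _) (𝟙 _), Category.id_comp]
    show (x'.left ≫ a.left) _ = _
    rw [← Over.comp_left, this]
  obtain ⟨z, hz₁, hz₂⟩ := common_gen_unit G'
    (hxa ▸ hy₁.map a.left.continuous) (hxa ▸ hy₂.map a.left.continuous)
  have hb : ∀ w, b.left (a.left w) = w := fun w => by
    rw [← Scheme.Hom.comp_apply, ← Over.comp_left, hab]; rfl
  refine ⟨pr (b.left z), ?_, ?_⟩
  · have := (hz₁.map b.left.continuous).map pr.continuous
    rwa [hb, hy₁'] at this
  · have := (hz₂.map b.left.continuous).map pr.continuous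
    rwa [hb, hy₂'] at this

variable (G : Over (Spec (CommRingCat.of K))) [GrpObj G]

/-- the generic point of the irreducible component through a point -/
noncomputable def genPt (x : G.left) : G.left :=
  (isIrreducible_irreducibleComponent (x := x)).genericPoint

theorem genPt_isGeneric (x : G.left) : IsGenericPoint (genPt G x) (irreducibleComponent x) :=
  IsIrreducible.isGenericPoint_genericPoint _ isClosed_irreducibleComponent

theorem genPt_specializes (x : G.left) : genPt G x ⤳ x :=
  (genPt_isGeneric G x).specializes mem_irreducibleComponent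

theorem genPt_max {x z : G.left} (h : z ⤳ genPt G x) : z = genPt G x := by
  have h1 : irreducibleComponent x ⊆ closure {z} := by
    rw [← (genPt_isGeneric G x).def]
    exact closure_minimal (Set.singleton_subset_iff.2 h.mem_closure) isClosed_closure
  have h2 := (irreducibleComponent_mem_irreducibleComponents x).2
    (isIrreducible_singleton.closure) h1
  exact ((genPt_isGeneric G x).specializes (h2 (subset_closure rfl))).antisymm h |>.eq.symm

theorem genPt_of_specializes {x y : G.left} (h : y ⤳ x) : genPt G x ⤳ y := by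
  obtain ⟨z, hz1, hz2⟩ := common_gen G (genPt_specializes G x) h
  rwa [genPt_max G hz1] at hz2

theorem genPt_eq_of_specializes {x y : G.left} (h : y ⤳ x) : genPt G y = genPt G x := by
  have h1 := genPt_of_specializes G ((genPt_specializes G y).trans h)
  exact (genPt_max G h1).symm

theorem irreducibleComponent_eq (x : G.left) : irreducibleComponent x = closure {genPt G x} :=
  (genPt_isGeneric G x).def.symm

theorem mem_component_iff {x y : G.left} : y ∈ irreducibleComponent x ↔ genPt G y = genPt G x := by
  constructor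
  · intro h
    have h2 := genPt_of_specializes G ((genPt_isGeneric G x).specializes h)
    exact genPt_max G h2
  · intro h
    rw [irreducibleComponent_eq, ← h]
    exact (genPt_specializes G y).mem_closure

/-- every component containing `x` is the irreducible component of `x` -/
theorem eq_irreducibleComponent {Z : Set G.left} (hZ : Z ∈ irreducibleComponents G.left)
    {x : G.left} (hx : x ∈ Z) : Z = irreducibleComponent x := by
  obtain ⟨z, hz⟩ := QuasiSober.sober hZ.1 (isClosed_of_mem_irreducibleComponents Z hZ)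
  have h1 : Z ⊆ irreducibleComponent x := by
    rw [← hz.def, irreducibleComponent_eq]
    exact closure_minimal (Set.singleton_subset_iff.2
      (genPt_of_specializes G (hz.specializes hx)).mem_closure) isClosed_closure
  exact h1.antisymm (hZ.2 isIrreducible_irreducibleComponent h1)

end Groth.Agent.H63.GrpIrred
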