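import Groth.Agent.H63.GrpComponent
import Groth.Agent.Lib.GrpSch.Basic
import Mathlib.AlgebraicGeometry.IdealSheaf.Subscheme

set_option autoImplicit false
universe u

open AlgebraicGeometry CategoryTheory CategoryTheory.Limits MonoidalCategory
open CartesianMonoidalCategory MonObj GrpObj
open Groth.Agent.H63.PullbackClosure Groth.Agent.H63.GrpIrred Groth.Agent.H63.GrpComponent
open Groth.Agent.H63.GrpTranslate Topology

namespace Groth.Agent.H63.GrpConnected

variable {K : Type u} [Field K] (G : Over (Spec (CommRingCat.of K))) [GrpObj G]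

theorem mul_mem {q : ↑(pullback G.hom G.hom)} (h₁ : pullback.fst G.hom G.hom q ∈ comp0 G)
    (h₂ : pullback.snd G.hom G.hom q ∈ comp0 G) : μ[G].left q ∈ comp0 G := by
  have := geometricallyIrreducible_genPt G
  obtain ⟨π, -, -, hπ⟩ := exists_generic_over_pair G.hom G.hom (genPt G (unitPt G)) (genPt G (unitPt G))
  have key : ∀ q', pullback.fst G.hom G.hom q' ∈ comp0 G → pullback.snd G.hom G.hom q' ∈ comp0 G →
      μ[G].left π ⤳ μ[G].left q' := by
    intro q' ha hb
    rw [comp0, irreducibleComponent_eq] at ha hb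
    refine Specializes.map ?_ μ[G].left.continuous
    rw [specializes_iff_mem_closure]
    refine closure_minimal ?_ isClosed_closure (mem_closure_both G.hom G.hom q' _ _ ha hb)
    rintro w ⟨hw1, hw2⟩
    exact specializes_iff_mem_closure.1 (hπ w hw1 hw2)
  obtain ⟨q₀, h01, h02, h03⟩ := exists_mul_unit G (unitPt G)
  have h0 := specializes_unit_mem G (h03 ▸ key q₀ (h01.symm ▸ unitPt_mem G) (h02.symm ▸ unitPt_mem G))
  exact isClosed_irreducibleComponent.closure_subset_iff.2 (Set.singleton_subset_iff.2 h0)
    (specializes_iff_mem_closure.1 (key q h₁ h₂))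

theorem inv_mem {x : G.left} (h : x ∈ comp0 G) : ι[G].left x ∈ comp0 G := by
  have he : ι[G].left (unitPt G) = unitPt G := by
    show (η[G].left ≫ ι[G].left) _ = _
    rw [← Over.comp_left, GrpObj.one_inv]
  rw [comp0, irreducibleComponent_eq] at h
  have h1 := (specializes_iff_mem_closure.2 h).map ι[G].left.continuous
  have h2 := specializes_unit_mem G (he ▸ (genPt_specializes G (unitPt G)).map ι[G].left.continuous)
  exact isClosed_irreducibleComponent.closure_subset_iff.2 (Set.singleton_subset_iff.2 h2)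
    (specializes_iff_mem_closure.1 h1)

/-- `G` base changed to the residue field of `y`, over the ground field -/
noncomputable abbrev Fib (y : G.left) : Over (Spec (CommRingCat.of K)) :=
  Over.mk (pullback.fst G.hom (G.left.fromSpecResidueField y ≫ G.hom) ≫ G.hom)

/-- the moving point -/
noncomputable def fa (y : G.left) : Fib G y ⟶ G :=
  Over.homMk (pullback.fst G.hom (G.left.fromSpecResidueField y ≫ G.hom))

/-- the constant point -/
noncomputable def fb (y : G.left) : Fib G y ⟶ G :=
  Over.homMk (pullback.snd G.hom (G.left.fromSpecResidueField y ≫ G.hom) ≫ G.left.fromSpecResidueField y)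
    (by rw [Category.assoc]; exact pullback.condition.symm)

/-- `(a, y) ↦ y * a⁻¹` -/
noncomputable def quo (y : G.left) : Fib G y ⟶ G := fb G y * (fa G y)⁻¹

/-- the point `y` itself -/
noncomputable def diagPt (y : G.left) : ↑(Fib G y).left :=
  (pullback.lift (G.left.fromSpecResidueField y) (𝟙 _) (Category.id_comp _).symm :
    Spec (G.left.residueField y) ⟶ pullback G.hom (G.left.fromSpecResidueField y ≫ G.hom))
    (IsLocalRing.closedPoint _)

theorem fa_diagPt (y : G.left) : (fa G y).left (diagPt G y) = y := by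
  show ((pullback.lift _ (𝟙 _) _) ≫ pullback.fst G.hom (G.left.fromSpecResidueField y ≫ G.hom)) _ = y
  rw [pullback.lift_fst]
  exact Scheme.fromSpecResidueField_apply y _

theorem fb_apply (y : G.left) (w : ↑(Fib G y).left) : (fb G y).left w = y :=
  (Scheme.Hom.comp_apply _ _ _).trans (Scheme.fromSpecResidueField_apply y _)

theorem quo_diagPt (y : G.left) : (quo G y).left (diagPt G y) = unitPt G := by
  let d : Over.mk (G.left.fromSpecResidueField y ≫ G.hom) ⟶ Fib G y :=
    Over.homMk (pullback.lift (G.left.fromSpecResidueField y) (𝟙 _) (Category.id_comp _).symm)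
      (by exact (Category.assoc _ _ _).symm.trans (congrArg (· ≫ G.hom) (pullback.lift_fst _ _ _)))
  have hd : d ≫ fa G y = d ≫ fb G y := by
    ext : 1
    show pullback.lift _ _ _ ≫ pullback.fst _ _ = pullback.lift _ _ _ ≫ pullback.snd _ _ ≫ _
    rw [pullback.lift_fst, pullback.lift_snd_assoc, Category.id_comp]
  show (d.left ≫ (quo G y).left) _ = _
  rw [← Over.comp_left, quo, MonObj.comp_mul, GrpObj.comp_inv, hd, mul_inv_cancel, Hom.one_def,
    Over.comp_left, Scheme.Hom.comp_apply]
  exact congrArg η[G].left (Subsingleton.elim (α := PrimeSpectrum K) _ _)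

theorem exists_quo_point (y : G.left) (w : ↑(Fib G y).left) :
    ∃ q : ↑(pullback G.hom G.hom), pullback.fst G.hom G.hom q = (quo G y).left w ∧
      pullback.snd G.hom G.hom q = (fa G y).left w ∧ μ[G].left q = y := by
  refine ⟨(lift (quo G y) (fa G y)).left w, ?_, ?_, ?_⟩
  · show ((lift (quo G y) (fa G y)).left ≫ (fst G G).left) w = _
    rw [← Over.comp_left, lift_fst]
  · show ((lift (quo G y) (fa G y)).left ≫ (snd G G).left) w = _
    rw [← Over.comp_left, lift_snd]
  · show ((lift (quo G y) (fa G y)).left ≫ μ[G].left) w = _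
    rw [← Over.comp_left, ← Hom.mul_def, quo, inv_mul_cancel_right, fb_apply]

theorem exists_mul_mem {g : G.left} (hg : g ∈ comp0 G) {U : Set G.left} (hU : IsOpen U)
    (he : unitPt G ∈ U) :
    ∃ q : ↑(pullback G.hom G.hom), pullback.fst G.hom G.hom q ∈ U ∩ comp0 G ∧
      pullback.snd G.hom G.hom q ∈ U ∩ comp0 G ∧ μ[G].left q = g := by
  have hirr : IsIrreducible ((fa G g).left ⁻¹' comp0 G) :=
    isIrreducible_preimage G (L := G.left.residueField g) (G.left.fromSpecResidueField g ≫ G.hom)
  obtain ⟨d₁, hd₁, -⟩ := Scheme.Pullback.exists_preimage_pullback (f := G.hom)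
    (g := G.left.fromSpecResidueField g ≫ G.hom) (unitPt G) (IsLocalRing.closedPoint _)
    (Subsingleton.elim (α := PrimeSpectrum K) _ _)
  have hd₁' : (fa G g).left d₁ = unitPt G := hd₁
  obtain ⟨w, hwX, hw1, hw2⟩ := hirr.2 ((fa G g).left ⁻¹' U) ((quo G g).left ⁻¹' U)
    (hU.preimage (fa G g).left.continuous) (hU.preimage (quo G g).left.continuous)
    ⟨d₁, by rw [Set.mem_preimage, hd₁']; exact unitPt_mem G, by rw [Set.mem_preimage, hd₁']; exact he⟩
    ⟨diagPt G g, by rw [Set.mem_preimage, fa_diagPt]; exact hg,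
      by rw [Set.mem_preimage, quo_diagPt]; exact he⟩
  obtain ⟨q, hq1, hq2, hq3⟩ := exists_quo_point G g w
  refine ⟨q, ⟨hq1 ▸ hw2, ?_⟩, hq2 ▸ ⟨hw1, hwX⟩, hq3⟩
  rw [hq1]
  have h1 : (lift (fb G g) (fa G g)⁻¹).left ≫ μ[G].left = (quo G g).left := by
    rw [← Over.comp_left, ← Hom.mul_def]; rfl
  rw [← h1, Scheme.Hom.comp_apply]
  refine mul_mem G ?_ ?_
  · show ((lift (fb G g) (fa G g)⁻¹).left ≫ (fst G G).left) w ∈ comp0 G
    rw [← Over.comp_left, lift_fst, fb_apply]; exact hg
  · show ((lift (fb G g) (fa G g)⁻¹).left ≫ (snd G G).left) w ∈ comp0 G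
    rw [← Over.comp_left, lift_snd]
    exact inv_mem G hwX

theorem isCompact_comp0 : IsCompact (comp0 G) := by
  obtain ⟨U, hU, he, -⟩ := exists_isAffineOpen_mem_and_subset (show unitPt G ∈ (⊤ : G.left.Opens) from trivial)
  have hA : IsCompact (pullback.fst G.hom G.hom ⁻¹' (U : Set G.left) ∩
      pullback.snd G.hom G.hom ⁻¹' (U : Set G.left)) := by
    have : IsAffine (U : Scheme.{u}) := hU
    let m : pullback (U.ι ≫ G.hom) (U.ι ≫ G.hom) ⟶ pullback G.hom G.hom :=
      pullback.map _ _ _ _ U.ι U.ι (𝟙 _) (by simp) (by simp)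
    have hr : Set.range m = pullback.fst G.hom G.hom ⁻¹' (U : Set G.left) ∩
        pullback.snd G.hom G.hom ⁻¹' (U : Set G.left) := by
      show Set.range (pullback.map _ _ G.hom G.hom U.ι U.ι (𝟙 _) _ _) = _
      rw [Scheme.Pullback.range_map, U.range_ι]
    rw [← hr]
    exact isCompact_range m.continuous
  have hc : IsClosed (pullback.fst G.hom G.hom ⁻¹' comp0 G ∩ pullback.snd G.hom G.hom ⁻¹' comp0 G) :=
    (isClosed_irreducibleComponent.preimage (Scheme.Hom.continuous _)).inter
      (isClosed_irreducibleComponent.preimage (Scheme.Hom.continuous _))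
  convert (hA.inter_right hc).image μ[G].left.continuous using 1
  ext g
  constructor
  · intro hg
    obtain ⟨q, h1, h2, h3⟩ := exists_mul_mem G hg U.isOpen he
    exact ⟨q, ⟨⟨h1.1, h2.1⟩, h1.2, h2.2⟩, h3⟩
  · rintro ⟨q, ⟨-, h1, h2⟩, rfl⟩
    exact mul_mem G h1 h2

/-- the union of the irreducible components meeting an open set -/
def sat (W : Set G.left) : Set G.left := {y | genPt G y ∈ W}

theorem subset_sat {W : Set G.left} (hW : IsOpen W) : W ⊆ sat G W :=
  fun y hy => (genPt_specializes G y).mem_open hW hy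

theorem sat_eq_image {W : Set G.left} (hW : IsOpen W) :
    sat G W = μ[G].left '' (pullback.fst G.hom G.hom ⁻¹' comp0 G ∩ pullback.snd G.hom G.hom ⁻¹' W) := by
  ext y
  constructor
  · intro hy
    have : Flat (fa G y).left :=
      inferInstanceAs (Flat (pullback.fst G.hom (G.left.fromSpecResidueField y ≫ G.hom)))
    obtain ⟨w, hw, hw'⟩ := Flat.generalizingMap (fa G y).left
      (show genPt G y ⤳ (fa G y).left (diagPt G y) by rw [fa_diagPt]; exact genPt_specializes G y)
    obtain ⟨q, hq1, hq2, hq3⟩ := exists_quo_point G y w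
    refine ⟨q, ⟨?_, ?_⟩, hq3⟩
    · rw [Set.mem_preimage, hq1]
      exact specializes_unit_mem G (quo_diagPt G y ▸ hw.map (quo G y).left.continuous)
    · rw [Set.mem_preimage, hq2, hw']; exact hy
  · rintro ⟨q, ⟨hq1, hq2⟩, rfl⟩
    have := geometricallyIrreducible_genPt G
    obtain ⟨π, -, -, hπ⟩ := exists_generic_over_pair G.hom G.hom (genPt G (unitPt G))
      (pullback.snd G.hom G.hom q)
    have key : ∀ q', pullback.fst G.hom G.hom q' ∈ comp0 G →
        pullback.snd G.hom G.hom q' = pullback.snd G.hom G.hom q → μ[G].left π ⤳ μ[G].left q' := by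
      intro q' ha hb
      rw [comp0, irreducibleComponent_eq] at ha
      refine Specializes.map ?_ μ[G].left.continuous
      rw [specializes_iff_mem_closure]
      refine closure_minimal ?_ isClosed_closure (mem_closure_fst G.hom G.hom q' _ ha)
      rintro w ⟨hw1, hw2⟩
      exact specializes_iff_mem_closure.1 (hπ w hw1 ((show _ = _ from hw2).trans hb))
    obtain ⟨q₀, h01, h02, h03⟩ := exists_unit_mul G (pullback.snd G.hom G.hom q)
    have h1 : μ[G].left π ∈ W :=
      (h03 ▸ key q₀ (h01 ▸ unitPt_mem G) h02).mem_open hW hq2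
    exact (genPt_of_specializes G (key q hq1 rfl)).mem_open hW h1

/-- reduced subscheme on the identity component -/
noncomputable def compScheme : Scheme.{u} :=
  (Scheme.IdealSheafData.vanishingIdeal ⟨comp0 G, isClosed_irreducibleComponent⟩).subscheme

/-- its inclusion -/
noncomputable def compIncl : compScheme G ⟶ G.left :=
  (Scheme.IdealSheafData.vanishingIdeal ⟨comp0 G, isClosed_irreducibleComponent⟩).subschemeι

instance isClosedImmersion_compIncl : IsClosedImmersion (compIncl G) := by
  unfold compIncl compScheme; infer_instance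

theorem range_compIncl : Set.range (compIncl G) = comp0 G := by
  unfold compIncl compScheme
  rw [Scheme.IdealSheafData.range_subschemeι, Scheme.IdealSheafData.coe_support_vanishingIdeal]
  rfl

theorem compactSpace_compScheme : CompactSpace ↥(compScheme G) := by
  rw [← isCompact_univ_iff, (compIncl G).isClosedEmbedding.isInducing.isCompact_iff, Set.image_univ,
    range_compIncl]
  exact isCompact_comp0 G

/-- as an object over the field -/
noncomputable abbrev compObj : Over (Spec (CommRingCat.of K)) := Over.mk (compIncl G ≫ G.hom)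

/-- the inclusion as a morphism over the field -/
noncomputable abbrev compHom : compObj G ⟶ G := Over.homMk (compIncl G) rfl

theorem sat_eq_image' {W : Set G.left} (hW : IsOpen W) :
    sat G W = (((compHom G) ▷ G) ≫ μ[G]).left '' ((snd (compObj G) G).left ⁻¹' W) := by
  rw [sat_eq_image G hW, Over.comp_left, Scheme.Hom.comp_base, TopCat.coe_comp, Set.image_comp]
  congr 1
  let m : ↑(pullback (compIncl G ≫ G.hom) G.hom) → ↑(pullback G.hom G.hom) :=
    ⇑(pullback.map (compIncl G ≫ G.hom) G.hom G.hom G.hom (compIncl G) (𝟙 _) (𝟙 _) (by simp) (by simp))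
  have hm : ⇑(compHom G ▷ G).left = m := by
    simp only [m]
    rw [Over.whiskerRight_left]
    rfl
  have hm2 : ∀ z, pullback.snd G.hom G.hom (m z) = (snd (compObj G) G).left z := fun z => by
    simp only [m]
    rw [← Scheme.Hom.comp_apply]
    have : pullback.map (compIncl G ≫ G.hom) G.hom G.hom G.hom (compIncl G) (𝟙 _) (𝟙 _)
        (by simp) (by simp) ≫ pullback.snd G.hom G.hom = (snd (compObj G) G).left :=
      (pullback.lift_snd _ _ _).trans (Category.comp_id _)
    rw [this]
  show _ = (⇑(compHom G ▷ G).left) '' _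
  rw [hm]
  ext q
  constructor
  · rintro ⟨h1, h2⟩
    have : q ∈ Set.range m := by
      simp only [m]
      rw [Scheme.Pullback.range_map, range_compIncl]
      exact ⟨h1, pullback.snd G.hom G.hom q, rfl⟩
    obtain ⟨z, rfl⟩ := this
    exact ⟨z, by rw [Set.mem_preimage, ← hm2]; exact h2, rfl⟩
  · rintro ⟨z, hz, rfl⟩
    have : m z ∈ Set.range m := ⟨z, rfl⟩
    simp only [m] at this
    rw [Scheme.Pullback.range_map, range_compIncl] at this
    exact ⟨this.1, by rw [Set.mem_preimage, hm2]; exact hz⟩

theorem isOpen_sat {W : Set G.left} (hW : IsOpen W) : IsOpen (sat G W) := by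
  rw [sat_eq_image' G hW]
  have : UniversallyOpen ((compHom G ▷ G) ≫ μ[G]).left :=
    property_translate_mul (P := @UniversallyOpen) (compHom G) inferInstance
  exact ((compHom G ▷ G) ≫ μ[G]).left.isOpenMap _ (hW.preimage (Scheme.Hom.continuous _))

theorem isCompact_sat {W : Set G.left} (hW : IsOpen W) (hc : IsCompact W) : IsCompact (sat G W) := by
  rw [sat_eq_image' G hW]
  have := compactSpace_compScheme G
  have : QuasiCompact (compObj G).hom := (HasAffineProperty.iff_of_isAffine (P := @QuasiCompact)).2 ‹CompactSpace ↥(compScheme G)›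
  have : QuasiCompact (snd (compObj G) G).left :=
    Groth.Agent.Lib.GrpSch.snd_left_of (P := @QuasiCompact) G ‹QuasiCompact (compObj G).hom›
  exact ((snd (compObj G) G).left.isCompact_preimage (U := ⟨W, hW⟩) hc).image (Scheme.Hom.continuous _)

theorem isClosed_sat {W : Set G.left} (hW : IsOpen W) (hc : IsCompact W) : IsClosed (sat G W) := by
  have : IsSeparated G.hom := Groth.Agent.Lib.GrpSch.isSeparated_of_field G
  have : QuasiSeparatedSpace G.left := quasiSeparatedSpace_of_quasiSeparated G.hom
  let A : G.left.Opens := ⟨sat G W, isOpen_sat G hW⟩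
  rw [← isOpen_compl_iff, isOpen_iff_forall_mem_open]
  intro z hz
  have : CompactSpace ↥(A : Scheme.{u}) := isCompact_iff_compactSpace.1 (isCompact_sat G hW hc)
  have : QuasiSeparatedSpace ↥(A : Scheme.{u}) :=
    (Topology.IsOpenEmbedding.quasiSeparatedSpace (isOpen_sat G hW).isOpenEmbedding_subtypeVal)
  have hsep : ∀ v : ↥(A : Scheme.{u}), ∃ V : G.left.Opens, IsCompact (V : Set G.left) ∧ z ∈ sat G V ∧
      v.1 ∉ sat G V := by
    intro v
    have hzC : z ∉ irreducibleComponent v.1 := fun h => hz (by
      show genPt G z ∈ W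
      rw [(mem_component_iff G).1 h]; exact v.2)
    obtain ⟨V, hV, hzV, hsub⟩ := exists_isAffineOpen_mem_and_subset
      (U := ⟨(irreducibleComponent v.1)ᶜ, isClosed_irreducibleComponent.isOpen_compl⟩) hzC
    refine ⟨V, hV.isCompact, subset_sat G V.isOpen hzV, fun h => hsub h ?_⟩
    rw [irreducibleComponent_eq]
    exact subset_closure rfl
  choose V hVc hzV hvV using hsep
  let O : ↥(A : Scheme.{u}) → Set ↥(A : Scheme.{u}) := fun v => Subtype.val ⁻¹' (sat G (V v))ᶜ
  have hO : ∀ v, IsOpen[constructibleTopology ↥(A : Scheme.{u})] (O v) := by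
    intro v
    refine IsCompact.isOpen_constructibleTopology_of_isClosed ?_
      ((isOpen_sat G (V v).isOpen).isClosed_compl.preimage continuous_subtype_val)
    show IsCompact (Subtype.val ⁻¹' (sat G (V v))ᶜ)ᶜ
    rw [Set.preimage_compl, compl_compl, Subtype.isCompact_iff, Set.image_preimage_eq_range_inter]
    erw [Subtype.range_coe]
    exact QuasiSeparatedSpace.inter_isCompact _ _ (isOpen_sat G hW) (isCompact_sat G hW hc)
      (isOpen_sat G (V v).isOpen) (isCompact_sat G (V v).isOpen (hVc v))
  obtain ⟨t, ht⟩ := isCompact_univ.elim_finite_subcover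
    (U := fun v => WithTopology.ofTopology (t := constructibleTopology ↥(A : Scheme.{u})) ⁻¹' O v)
    (fun v => by
      rw [WithConstructibleTopology.isOpen_iff]
      exact hO v)
    (fun x _ => Set.mem_iUnion.2 ⟨WithTopology.ofTopology x, hvV _⟩)
  refine ⟨⋂ v ∈ t, sat G (V v), ?_, isOpen_biInter_finset fun v _ => isOpen_sat G (V v).isOpen,
    Set.mem_iInter₂.2 fun v _ => hzV v⟩
  intro y hy hyA
  have hcov := ht (Set.mem_univ (WithTopology.toTopology (constructibleTopology ↥(A : Scheme.{u})) ⟨y, hyA⟩))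
  obtain ⟨v, hv, hyv⟩ := Set.mem_iUnion₂.1 hcov
  exact hyv (Set.mem_iInter₂.1 hy v hv)

theorem connectedComponent_unit : connectedComponent (unitPt G) = comp0 G := by
  refine Set.Subset.antisymm (fun y hy => ?_)
    (irreducibleComponent_subset_connectedComponent)
  by_contra hyX
  have heC : unitPt G ∉ irreducibleComponent y := fun h => hyX (by
    rw [comp0, mem_component_iff]; exact ((mem_component_iff G).1 h).symm)
  obtain ⟨V, hV, heV, hsub⟩ := exists_isAffineOpen_mem_and_subset
    (U := ⟨(irreducibleComponent y)ᶜ, isClosed_irreducibleComponent.isOpen_compl⟩) heC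
  have hclopen : IsClopen (sat G V) := ⟨isClosed_sat G V.isOpen hV.isCompact, isOpen_sat G V.isOpen⟩
  have h := hclopen.connectedComponent_subset (subset_sat G V.isOpen heV) hy
  refine hsub h ?_
  rw [irreducibleComponent_eq]
  exact subset_closure rfl

theorem exists_isClopen_isCompact : ∃ A : Set G.left, IsClopen A ∧ IsCompact A ∧ unitPt G ∈ A := by
  obtain ⟨U, hU, he, -⟩ := exists_isAffineOpen_mem_and_subset (show unitPt G ∈ (⊤ : G.left.Opens) from trivial)
  exact ⟨sat G U, ⟨isClosed_sat G U.isOpen hU.isCompact, isOpen_sat G U.isOpen⟩,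
    isCompact_sat G U.isOpen hU.isCompact, subset_sat G U.isOpen he⟩

end Groth.Agent.H63.GrpConnected
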