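import Groth.Agent.H63.GrpFib
import Groth.Agent.H56.DimBaseChange
import Groth.Agent.Lib.VarDim.Basic
import Groth.Agent.Lib.Cyc.LocalDim
import Groth.Agent.Lib.Cyc.DimFun
import Groth.Agent.Lib.TopDim.Basic

set_option autoImplicit false
universe u

open AlgebraicGeometry CategoryTheory CategoryTheory.Limits MonoidalCategory
open CartesianMonoidalCategory MonObj GrpObj
open Groth.Agent.H63.GrpIrred Groth.Agent.H63.GrpConnected Groth.Agent.H63.GrpFib
open Groth.Agent.Lib.VarDim.Basic Groth.Agent.Lib.Cyc

namespace Groth.Agent.H63.GrpDim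

variable {K : Type u} [Field K] (G : Over (Spec (CommRingCat.of K))) [GrpObj G]
  [LocallyOfFiniteType G.hom]

/-- the local dimension is the same at every point -/
theorem localDim_eq_unit (y : G.left) :
    FlatMor.localDim ↥G.left y = FlatMor.localDim ↥G.left (unitPt G) := by
  have hsq : IsPullback (pullback.fst G.hom (G.left.fromSpecResidueField y ≫ G.hom))
      (pullback.snd G.hom (G.left.fromSpecResidueField y ≫ G.hom)) G.hom
      (G.left.fromSpecResidueField y ≫ G.hom) := IsPullback.of_hasPullback _ _
  have h : ∀ w : ↥(Fib G y).left,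
      FlatMor.localDim ↥(Fib G y).left w = FlatMor.localDim ↥G.left ((fa G y).left w) := fun w =>
    H56.DimBaseChange.localDim_baseChange (K := G.left.residueField y) _ _ _ _ hsq w
  have := isIso_endo_quo G y
  have : IsIso (endo G y (quo G y)).left :=
    inferInstanceAs (IsIso ((Over.forget (Spec (CommRingCat.of K))).map (endo G y (quo G y))))
  have e := Lib.FibreDim.Basic.localDim_eq_of_homeomorph (endo G y (quo G y)).left.homeomorph (diagPt G y)
  have h1 : (fa G y).left ((endo G y (quo G y)).left (diagPt G y)) = unitPt G := by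
    rw [← Scheme.Hom.comp_apply, ← Over.comp_left, endo_fa, quo_diagPt]
  calc FlatMor.localDim ↥G.left y
      = FlatMor.localDim ↥(Fib G y).left (diagPt G y) := by rw [h, fa_diagPt]
    _ = FlatMor.localDim ↥(Fib G y).left ((endo G y (quo G y)).left (diagPt G y)) := by
        first | exact e | exact e.symm
    _ = FlatMor.localDim ↥G.left (unitPt G) := by rw [h, h1]

theorem localDim_eq_pdim (y : G.left) :
    FlatMor.localDim ↥G.left y = (pdim G.hom (genPt G y) : WithBot ℕ∞) := by
  have h1 : FlatMor.localDim ↥G.left y ≤ ((pdim G.hom (genPt G y) : ℕ) : WithBot ℕ∞) := by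
    rw [LocalDim.localDim_le_iff G.hom]
    intro ξ hξ
    rw [fdelta_eq]
    exact_mod_cast pdim_le G.hom (show genPt G y ⤳ ξ by
      rw [← genPt_eq_of_specializes G hξ]; exact genPt_specializes G ξ)
  refine le_antisymm h1 (le_of_not_gt fun hlt => ?_)
  obtain ⟨m, hm, hmn⟩ : ∃ m : ℕ, FlatMor.localDim ↥G.left y ≤ (m : WithBot ℕ∞) ∧ m < pdim G.hom (genPt G y) := by
    rcases Nat.eq_zero_or_pos (pdim G.hom (genPt G y)) with h0 | hp
    · rw [h0] at hlt
      exact absurd hlt (not_lt.2 (Lib.TopDim.Basic.localDim_nonneg _))
    · refine ⟨pdim G.hom (genPt G y) - 1, ?_, by omega⟩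
      revert hlt
      generalize FlatMor.localDim ↥G.left y = d
      intro hlt
      induction d using WithBot.recBotCoe with
      | bot => simp
      | coe d =>
        induction d using ENat.recTopCoe with
        | top => exact absurd hlt (by exact not_lt.2 le_top)
        | coe d =>
          have : d < pdim G.hom (genPt G y) := by exact_mod_cast hlt
          exact WithBot.coe_le_coe.2 (ENat.natCast_le_natCast.2 (by omega : d ≤ pdim G.hom (genPt G y) - 1))
  have := (LocalDim.localDim_le_iff G.hom y m).1 hm (genPt G y) (genPt_specializes G y)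
  rw [fdelta_eq] at this
  omega

/-- all components have the same dimension -/
theorem pdim_genPt (y : G.left) : pdim G.hom (genPt G y) = pdim G.hom (genPt G (unitPt G)) := by
  have h := localDim_eq_unit G y
  rw [localDim_eq_pdim, localDim_eq_pdim] at h
  exact_mod_cast h

theorem topologicalKrullDim_eq :
    topologicalKrullDim ↥G.left = (pdim G.hom (genPt G (unitPt G)) : WithBot ℕ∞) := by
  refine le_antisymm ((topologicalKrullDim_scheme_le_iff G.hom _).2 fun x => ?_)
    (pdim_le_topologicalKrullDim_scheme G.hom _)
  rw [← pdim_genPt G x]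
  exact_mod_cast pdim_le G.hom (genPt_specializes G x)

theorem ringKrullDim_stalk_eq (g : G.left) :
    ringKrullDim (G.left.presheaf.stalk g) =
      ((pdim G.hom (genPt G (unitPt G)) - pdim G.hom g : ℕ) : WithBot ℕ∞) := by
  have : IsLocallyNoetherian G.left := LocallyOfFiniteType.isLocallyNoetherian G.hom
  rw [DimFun.ringKrullDim_stalk_of_forall (FieldDim.isDimFun_fdelta G.hom) g (genPt G g)
    (genPt_specializes G g) fun y hy => by
      rw [← genPt_eq_of_specializes G hy]; exact genPt_specializes G y]
  rw [fdelta_eq, fdelta_eq, pdim_genPt]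
  congr 1
  exact congrArg Nat.cast (Int.toNat_sub _ _)

theorem ringKrullDim_stalk_of_isClosed (g : G.left) (hg : IsClosed ({g} : Set G.left)) :
    ringKrullDim (G.left.presheaf.stalk g) = topologicalKrullDim ↥G.left := by
  rw [ringKrullDim_stalk_eq, topologicalKrullDim_eq, (pdim_eq_zero_iff G.hom g).2 hg]
  simp

end Groth.Agent.H63.GrpDim
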