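import Groth.Agent.H4.SepDivisor
import Groth.Agent.Lib.LCFin.AffineComplement

/-! The complement of a nonempty affine open of a regular integral separated scheme is the support of an
effective Cartier divisor. -/

set_option autoImplicit false

universe u

open CategoryTheory AlgebraicGeometry TopologicalSpace
open Groth.Agent.Lib

namespace Groth.Agent.H63.AffineComplDivisor

variable {X : Scheme.{u}} [IsIntegral X] [IsLocallyNoetherian X] [X.IsSeparated]

theorem ringKrullDim_stalk_eq_one {U : X.Opens} (hU : IsAffineOpen U) (hne : (U : Set X).Nonempty)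
    {y : X} (hy : y ∉ U) (hmax : ∀ y', y' ∉ U → y' ⤳ y → y' = y) :
    ringKrullDim (X.presheaf.stalk y) = 1 := by
  obtain ⟨V, hV, hyV, -⟩ := exists_isAffineOpen_mem_and_subset (x := y) (U := ⊤) trivial
  have : IsNoetherianRing Γ(X, V) := IsLocallyNoetherian.component_noetherian ⟨V, hV⟩
  have : Nonempty ↥V := ⟨⟨_, hyV⟩⟩
  have : IsDomain Γ(X, V) := @IsIntegral.component_integral X _ V ⟨⟨_, hyV⟩⟩
  let U' : (Spec Γ(X, V)).Opens := hV.fromSpec ⁻¹ᵁ U
  have hU' : IsAffineOpen U' := by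
    have h : U' = hV.fromSpec ⁻¹ᵁ (U ⊓ V) := by
      ext1
      ext q
      exact ⟨fun h => ⟨h, hV.range_fromSpec ▸ Set.mem_range_self q⟩, fun h => h.1⟩
    rw [h]
    exact (hU.inf hV).preimage_of_isOpenImmersion hV.fromSpec (fun z hz => by
      rw [Scheme.Hom.mem_opensRange, ← Set.mem_range, hV.range_fromSpec]
      exact hz.2)
  set p := hV.primeIdealOf ⟨y, hyV⟩
  have hp : hV.fromSpec p = y := hV.fromSpec_primeIdealOf _
  have hpU : p ∉ U' := fun h => hy (hp ▸ h)
  let J : Ideal Γ(X, V) := PrimeSpectrum.vanishingIdeal ((U' : Set (Spec Γ(X, V)))ᶜ)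
  have hz : PrimeSpectrum.zeroLocus (J : Set Γ(X, V)) = ((U' : Set (Spec Γ(X, V)))ᶜ) := by
    rw [PrimeSpectrum.zeroLocus_vanishingIdeal_eq_closure]
    exact U'.isOpen.isClosed_compl.closure_eq
  have h1 : p.asIdeal.height ≤ 1 := by
    refine Groth.Agent.Lib.LCFin.AffineComplement.height_le_one U' hU' J hz p.asIdeal ⟨⟨p.isPrime, ?_⟩, ?_⟩
    · have : p ∈ PrimeSpectrum.zeroLocus (J : Set Γ(X, V)) := hz.symm ▸ hpU
      exact this
    · rintro q ⟨hq, hJq⟩ hle
      have hq' : (⟨q, hq⟩ : PrimeSpectrum Γ(X, V)) ∈ PrimeSpectrum.zeroLocus (J : Set Γ(X, V)) := hJq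
      rw [hz] at hq'
      have h := hmax (hV.fromSpec (⟨q, hq⟩ : PrimeSpectrum Γ(X, V))) hq'
        (hp ▸ ((PrimeSpectrum.le_iff_specializes (⟨q, hq⟩ : PrimeSpectrum Γ(X, V)) p).1 hle).map hV.fromSpec.continuous)
      exact (congrArg PrimeSpectrum.asIdeal (hV.fromSpec.isOpenEmbedding.injective (h.trans hp.symm))).ge
  have h2 : p.asIdeal.height ≠ 0 := fun h0 => by
    rw [Ideal.height_eq_zero_iff] at h0
    have hbot : p.asIdeal = ⊥ := le_bot_iff.1 (h0.2 ⟨Ideal.isPrime_bot, le_rfl⟩ bot_le)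
    obtain ⟨z, hzU, hzV⟩ := nonempty_preirreducible_inter U.isOpen V.isOpen hne ⟨y, hyV⟩
    have hsp : p ⤳ hV.primeIdealOf ⟨z, hzV⟩ :=
      (PrimeSpectrum.le_iff_specializes _ _).1 (show p.asIdeal ≤ _ from hbot ▸ bot_le)
    have := hsp.map hV.fromSpec.continuous
    rw [hp, hV.fromSpec_primeIdealOf] at this
    exact hy (this.mem_open U.isOpen hzU)
  rw [Groth.Agent.Lib.Ideal.Prime.ringKrullDim_stalk_eq_height hV hyV,
    le_antisymm h1 (ENat.one_le_iff_ne_zero.mpr h2)]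
  rfl

theorem exists_effCartier {U : X.Opens} (hU : IsAffineOpen U) (hne : (U : Set X).Nonempty)
    (hreg : ∀ x : X, IsRegularLocalRing (X.presheaf.stalk x)) :
    ∃ I : X.IdealSheafData, BlowUp.IsEffCartierIdeal I ∧ (I.support : Set X) = (U : Set X)ᶜ := by
  let Z : Closeds X := ⟨(U : Set X)ᶜ, U.isOpen.isClosed_compl⟩
  exact ⟨_, Groth.Agent.H4.SepDivisor.isEffCartier_vanishingIdeal Z
    (fun y hy h => ringKrullDim_stalk_eq_one hU hne hy h) hreg, rfl⟩

end Groth.Agent.H63.AffineComplDivisor
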