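import Groth.Agent.H63.AmpleCompl
import Groth.Agent.H63.AffineComplDivisor
import Groth.Agent.Lib.ProjMor.Conv
import Groth.Agent.Lib.ProjSpace.BaseChange
import Groth.Agent.Lib.ProjSpace.Basic
import Mathlib.AlgebraicGeometry.Group.Smooth

/-! Abelian varieties have ample invertible modules and are projective. -/

set_option autoImplicit false

universe u

open CategoryTheory MonoidalCategory CartesianMonoidalCategory AlgebraicGeometry TopologicalSpace
open scoped MonObj GrpObj
open Groth.Agent.Lib

namespace Groth.Agent.H63.AVProjective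

variable {k : Type u} [Field k] (A : Over (Spec (CommRingCat.of k))) [GrpObj A]
  [IsProper A.hom] [GeometricallyIntegral A.hom]

theorem exists_isAmple : ∃ L : A.left.Modules, CohB1.IsAmple L := by
  haveI : IsIntegral A.left := GeometricallyIntegral.isIntegral_of_subsingleton A.hom
  haveI : IsLocallyNoetherian A.left := LocallyOfFiniteType.isLocallyNoetherian A.hom
  haveI : Smooth A.hom := by
    letI : GrpObj (Over.mk A.hom) := (show GrpObj A from inferInstance)
    exact smooth_of_grpObj A.hom
  haveI : A.left.IsSeparated := ⟨by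
    rw [← Limits.terminal.comp_from A.hom]
    infer_instance⟩
  obtain ⟨o⟩ : Nonempty (𝟙_ (Over (Spec (CommRingCat.of k)))).left :=
    inferInstanceAs (Nonempty (Spec (CommRingCat.of k)))
  obtain ⟨U, hU, hxU, -⟩ := exists_isAffineOpen_mem_and_subset (x := η[A].left o) (U := ⊤) trivial
  obtain ⟨I, hI, hsupp⟩ := AffineComplDivisor.exists_effCartier hU ⟨_, hxU⟩
    fun x => Cyc.SmoothReg.isRegularLocalRing_stalk A.hom x
  obtain ⟨L, s, hL, hs⟩ := H4.CartierSection.exists_section I hI
  have hloc : CohB1.genLocus L s = U := by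
    ext x
    rw [SetLike.mem_coe, hs x, ← SetLike.mem_coe, hsupp]
    exact not_not
  exact ⟨L, AmpleCompl.isAmple A L hL s (hloc ▸ ⟨_, hxU⟩) (hloc ▸ hU)⟩

theorem exists_closedImmersion_projSpace :
    ∃ (n : ℕ) (j : A.left ⟶ CohB1.ProjSpace n k),
      IsClosedImmersion j ∧ j ≫ CohB1.ProjSpace.toSpec n k = A.hom := by
  obtain ⟨L, hL⟩ := exists_isAmple A
  obtain ⟨n₀, h⟩ := ProjMor.Conv.eventually_veryAmple_pow A.hom hL
  obtain ⟨n, i, hi, hif, -⟩ := h n₀ le_rfl
  let j : A.left ⟶ CohB1.ProjSpace n k := i ≫ (ProjSpace.BaseChange.overSpecIso n k).hom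
  have hj : j ≫ CohB1.ProjSpace.toSpec n k = A.hom := by
    rw [Category.assoc, ProjSpace.BaseChange.overSpecIso_hom_toSpec]
    exact hif
  refine ⟨n, j, ?_, hj⟩
  haveI : IsProper (j ≫ CohB1.ProjSpace.toSpec n k) := hj ▸ inferInstance
  haveI : IsProper (CohB1.ProjSpace.toSpec n k) := ProjSpace.Basic.isProper_toSpec n k
  haveI : IsProper j := IsProper.of_comp j (CohB1.ProjSpace.toSpec n k)
  haveI : IsPreimmersion j := inferInstanceAs (IsPreimmersion (i ≫ _))
  exact IsClosedImmersion.of_isPreimmersion _ j.isClosedMap.isClosed_range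

end Groth.Agent.H63.AVProjective
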