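import Mathlib.AlgebraicGeometry.Modules.Tilde
import Mathlib.Algebra.Category.ModuleCat.Sheaf.PullbackFree
import Groth.Prelude.Def_Coh

/-!
# Modules on the spectrum of a field are free
-/

set_option autoImplicit false
universe u

open CategoryTheory CategoryTheory.Limits AlgebraicGeometry TopologicalSpace Opposite

namespace Groth.Agent.H63.PointModules

variable (K : Type u) [Field K]

instance final_opensMap {X Y : TopCat.{u}} (f : X ⟶ Y) : (Opens.map f).Final :=
  Functor.final_of_exists_of_isFiltered (Opens.map f) (fun d ↦ ⟨⊤, ⟨homOfLE fun _ _ ↦ trivial⟩⟩)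
    (fun {d c} s s' ↦ ⟨c, 𝟙 _, Subsingleton.elim _ _⟩)

theorem isIso_fromTildeΓ (M : (Spec (CommRingCat.of K)).Modules) : IsIso (Scheme.Modules.fromTildeΓ (R := CommRingCat.of K) M) := by
  rw [isIso_fromTildeΓ_iff_isLocalizing]
  intro f
  let N := modulesSpecToSheaf.obj M
  rcases eq_or_ne f 0 with rfl | hf
  · have hbot : PrimeSpectrum.basicOpen (0 : CommRingCat.of K) = ⊥ := PrimeSpectrum.basicOpen_zero
    have hsub : Subsingleton (N.obj.obj (op (PrimeSpectrum.basicOpen (0 : CommRingCat.of K)))) := by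
      rw [hbot]
      exact ModuleCat.subsingleton_of_isZero (TopCat.Sheaf.isTerminalOfEmpty N).isZero
    refine ⟨fun x ↦ ?_, fun y ↦ ⟨⟨0, 1⟩, Subsingleton.elim _ _⟩, fun {x₁ x₂} _ ↦ ⟨⟨0, 1, pow_one _⟩, ?_⟩⟩
    · exact (Module.End.isUnit_iff _).2 ⟨fun a b _ ↦ Subsingleton.elim a b, fun b ↦ ⟨0, Subsingleton.elim _ _⟩⟩
    · exact (zero_smul K x₁).trans (zero_smul K x₂).symm
  · have hu : IsUnit (f : K) := isUnit_iff_ne_zero.2 hf
    have hiso : ∀ U : (Spec (CommRingCat.of K)).Opens, U = ⊤ →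
        IsIso (N.obj.map (homOfLE le_top : U ⟶ ⊤).op) := by
      rintro U rfl
      rw [show (homOfLE le_top : (⊤ : (Spec (CommRingCat.of K)).Opens) ⟶ ⊤) = 𝟙 _ from rfl, op_id,
        CategoryTheory.Functor.map_id]
      infer_instance
    have hbij := @ConcreteCategory.bijective_of_isIso _ _ _ _ _ _ _ _ _
      (hiso (PrimeSpectrum.basicOpen f) (TopologicalSpace.Opens.ext (Set.eq_univ_of_forall fun p h ↦ p.2.ne_top (Ideal.eq_top_of_isUnit_mem _ h hu))))
    refine ⟨fun x ↦ ?_, fun y ↦ ?_, fun {x₁ x₂} h ↦ ⟨1, ?_⟩⟩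
    · obtain ⟨n, hn⟩ := x.2
      exact (by rw [← hn]; exact (hu.pow n) : IsUnit (x.1 : K)).map (algebraMap _ _)
    · obtain ⟨a, ha⟩ := hbij.2 y
      exact ⟨⟨a, 1⟩, by rw [one_smul]; exact ha.symm⟩
    · rw [hbij.1 h]

theorem nonempty_iso_free (M : (Spec (CommRingCat.of K)).Modules) :
    ∃ ι : Type u, Nonempty (M ≅ SheafOfModules.free.{u} ι) := by
  have := isIso_fromTildeΓ K M
  let N : ModuleCat (CommRingCat.of K) := (modulesSpecToSheaf.obj M).presheaf.obj (op ⊤)
  let : Module K N := inferInstanceAs (Module (CommRingCat.of K) N)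
  let b := Module.Basis.ofVectorSpace K N
  exact ⟨_, ⟨(asIso (Scheme.Modules.fromTildeΓ (R := CommRingCat.of K) M)).symm ≪≫
    (tilde.functor (CommRingCat.of K)).mapIso (LinearEquiv.toModuleIso b.repr : N ≅ _) ≪≫ tildeFinsupp _⟩⟩

/-- the pullback of any module on a scheme isomorphic to the spectrum of a field is free -/
theorem nonempty_pullback_iso_coproduct {S X : Scheme.{u}} (e : S ≅ Spec (CommRingCat.of K))
    (f : X ⟶ S) (M : S.Modules) :
    ∃ ι : Type u, Nonempty ((Scheme.Modules.pullback f).obj M ≅ ∐ fun _ : ι => Coh.structureModule X) := by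
  obtain ⟨ι, ⟨i⟩⟩ := nonempty_iso_free K ((Scheme.Modules.pullback e.inv).obj M)
  exact ⟨ι, ⟨(Scheme.Modules.pullbackCongr (show f = (f ≫ e.hom) ≫ e.inv by simp)).app M ≪≫
    ((Scheme.Modules.pullbackComp (f ≫ e.hom) e.inv).app M).symm ≪≫
    (Scheme.Modules.pullback (f ≫ e.hom)).mapIso i ≪≫
    SheafOfModules.pullbackObjFreeIso _ ι⟩⟩

end Groth.Agent.H63.PointModules
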