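import Groth.Agent.H63.SectionOmega
import Groth.Agent.H63.GrpToGrpd
import Groth.Agent.H2.Rigid.AbScheme
import Groth.Agent.H2.Rigid.Approx
import Groth.Agent.Lib.TensorMod.LocIso
import Groth.Agent.Lib.Kaehler.LocFree

/-!
# Invariant differentials of abelian schemes
-/

set_option autoImplicit false
universe u

open CategoryTheory CategoryTheory.Limits AlgebraicGeometry MonoidalCategory MonObj
open CartesianMonoidalCategory Opposite

namespace Groth.Agent.H63.AbOmega

variable {X Y : Scheme.{u}}

theorem isIso_unit_id (E : Y.Modules) :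
    IsIso ((Scheme.Modules.pullbackPushforwardAdjunction (𝟙 Y)).unit.app E) := by
  have h := unit_conjugateEquiv Adjunction.id (Scheme.Modules.pullbackPushforwardAdjunction (𝟙 Y))
    (Scheme.Modules.pullbackId Y).hom E
  rw [Scheme.Modules.conjugateEquiv_pullbackId_hom] at h
  simp only [Adjunction.id, Functor.id_obj, NatTrans.id_app] at h
  have : IsIso ((Scheme.Modules.pushforward (𝟙 Y)).map ((Scheme.Modules.pullbackId Y).hom.app E)) :=
    inferInstance
  exact IsIso.of_isIso_fac_right (hh := inferInstance) h.symm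

/-- for a section `e` of `f` with `f_*O = O`, restriction along `e` is bijective on `f^*E` -/
theorem isIso_push_unit (f : X ⟶ Y) (hf : ∀ U : Y.Opens, IsIso (f.app U)) (e : Y ⟶ X)
    (he : e ≫ f = 𝟙 Y) {E : Y.Modules} (hE : FlatMod.IsFinLocFree E) :
    IsIso ((Scheme.Modules.pushforward f).map
      ((Scheme.Modules.pullbackPushforwardAdjunction e).unit.app
        ((Scheme.Modules.pullback f).obj E))) := by
  have h := unit_conjugateEquiv
    ((Scheme.Modules.pullbackPushforwardAdjunction f).comp (Scheme.Modules.pullbackPushforwardAdjunction e))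
    (Scheme.Modules.pullbackPushforwardAdjunction (e ≫ f)) (Scheme.Modules.pullbackComp e f).inv E
  rw [Scheme.Modules.conjugateEquiv_pullbackComp_inv, Adjunction.comp_unit_app] at h
  have key : ∀ q : Y ⟶ Y, q = 𝟙 Y →
      IsIso ((Scheme.Modules.pullbackPushforwardAdjunction q).unit.app E) := by
    rintro q rfl; exact isIso_unit_id E
  have := key _ he
  have := Lib.TensorMod.LocIso.isIso_unit_of_isFinLocFree f hf hE
  have h1 : IsIso ((Scheme.Modules.pullbackPushforwardAdjunction (e ≫ f)).unit.app E ≫
      (Scheme.Modules.pushforward (e ≫ f)).map ((Scheme.Modules.pullbackComp e f).inv.app E)) :=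
    inferInstance
  rw [← h, isIso_comp_right_iff, isIso_comp_left_iff] at h1
  exact h1

variable {S : Scheme.{u}} (A : Over S) [GrpObj A] [IsProper A.hom] [Flat A.hom]
  [LocallyOfFinitePresentation A.hom] [GeometricallyReduced A.hom] [GeometricallyConnected A.hom]

theorem isIso_app (U : S.Opens) : IsIso (A.hom.app U) := by
  obtain ⟨hsm, hH0⟩ := H2.Rigid.smooth_and_H0 A
  exact (ConcreteCategory.isIso_iff_bijective _).2
    (H2.Rigid.push_of_smooth A.hom hH0 η[A].left (Over.w η[A]) U)

theorem isFinLocFree_omega : FlatMod.IsFinLocFree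
    ((Scheme.Modules.pullback η[A].left).obj (Omega.sheaf A.hom)) := by
  obtain ⟨hsm, -⟩ := H2.Rigid.smooth_and_H0 A
  exact Lib.TensorMod.LocFree.isFinLocFree_pullback _
    (Lib.Kaehler.LocFree.isFinLocFree_of_smooth (Lib.Kaehler.DOmega.isUniversal_dOmega A.hom))

omit [Flat A.hom] [LocallyOfFinitePresentation A.hom] [GeometricallyReduced A.hom]
  [GeometricallyConnected A.hom] in
theorem nonempty_omega_iso :
    Nonempty (Omega.sheaf A.hom ≅ (Scheme.Modules.pullback A.hom).obj
      ((Scheme.Modules.pullback η[A].left).obj (Omega.sheaf A.hom))) := by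
  have : QuasiSeparated (GrpToGrpd.ofGrp A).t := inferInstanceAs (QuasiSeparated A.hom)
  obtain ⟨φ⟩ := SectionOmega.nonempty_iso (GrpToGrpd.ofGrp A)
  have : IsImmersion (η[A].left ≫ A.hom) := by rw [Over.w η[A]]; exact inferInstanceAs (IsImmersion (𝟙 S))
  have : IsImmersion η[A].left := IsImmersion.of_comp η[A].left A.hom
  have : QuasiCompact (η[A].left ≫ A.hom) := by rw [Over.w η[A]]; exact inferInstanceAs (QuasiCompact (𝟙 S))
  have : QuasiCompact η[A].left := QuasiCompact.of_comp η[A].left A.hom
  obtain ⟨ψ⟩ := SectionOmega.nonempty_conormal_iso_of_section A.hom η[A].left (Over.w η[A])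
    (Lib.Kaehler.DOmega.isUniversal_dOmega A.hom)
  exact ⟨φ.symm ≪≫ ((Scheme.Modules.pullback A.hom).mapIso ψ).symm⟩

theorem nonempty_push_iso : Nonempty ((Coh.push A.hom).obj (Omega.sheaf A.hom) ≅
    (Scheme.Modules.pullback η[A].left).obj (Omega.sheaf A.hom)) := by
  obtain ⟨φ⟩ := nonempty_omega_iso A
  exact ⟨(Scheme.Modules.pushforward A.hom).mapIso φ ≪≫
    (@asIso _ _ _ _ _ (Lib.TensorMod.LocIso.isIso_unit_of_isFinLocFree A.hom (isIso_app A)
      (isFinLocFree_omega A))).symm⟩

theorem bijective_sections :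
    Function.Bijective
      (((Scheme.Modules.pullbackPushforwardAdjunction η[A].left).unit.app (Omega.sheaf A.hom)).app ⊤) := by
  obtain ⟨φ⟩ := nonempty_omega_iso A
  let adj := Scheme.Modules.pullbackPushforwardAdjunction η[A].left
  have h1 := isIso_push_unit A.hom (isIso_app A) η[A].left (Over.w η[A]) (isFinLocFree_omega A)
  have h2 : IsIso ((Scheme.Modules.pushforward A.hom).map (adj.unit.app (Omega.sheaf A.hom))) := by
    have hn := congrArg (Scheme.Modules.pushforward A.hom).map (adj.unit.naturality φ.hom)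
    simp only [Functor.map_comp, Functor.id_map] at hn
    have : IsIso ((Scheme.Modules.pushforward A.hom).map φ.hom ≫
      (Scheme.Modules.pushforward A.hom).map (adj.unit.app ((Scheme.Modules.pullback A.hom).obj
        ((Scheme.Modules.pullback η[A].left).obj (Omega.sheaf A.hom))))) := inferInstance
    rw [hn, isIso_comp_right_iff] at this
    exact this
  have h3 : IsIso (((Scheme.Modules.pushforward A.hom).map (adj.unit.app (Omega.sheaf A.hom))).app ⊤) :=
    inferInstance
  exact ConcreteCategory.bijective_of_isIso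
    (((Scheme.Modules.pushforward A.hom).map (adj.unit.app (Omega.sheaf A.hom))).app ⊤)

end Groth.Agent.H63.AbOmega
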