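import Groth.Agent.H63.AVInsep
import Groth.Agent.Lib.GrpSch.BaseChange
import Groth.Agent.H56.DimBaseChange
import Groth.Agent.H4.AVPoints

/-!
# The `p`-torsion points of an abelian variety in an algebraically closed field

* `natCard_torsion_le`: at most `p^g` of them, `finite_torsion`
-/

set_option autoImplicit false

universe u

open CategoryTheory MonoidalCategory CartesianMonoidalCategory AlgebraicGeometry
open scoped MonObj GrpObj
open Groth.Agent.Lib

namespace Groth.Agent.H63.AVTorsion

variable {k L : Type u} [Field k] [Field L] [IsAlgClosed L] (p : ℕ) [Fact p.Prime] [CharP k p]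
  (A : Over (Spec (CommRingCat.of k))) [GrpObj A] [IsProper A.hom] [GeometricallyIntegral A.hom]
  (c : Spec (CommRingCat.of L) ⟶ Spec (CommRingCat.of k))

theorem natCard_torsion_le {g : ℕ} (hg : topologicalKrullDim A.left = g) :
    Nat.card {a : (Over.map c).obj (𝟙_ (Over (Spec (CommRingCat.of L)))) ⟶ A // a ^ p = 1} ≤ p ^ g := by
  haveI : CharP L p := charP_of_injective_ringHom (Spec.preimage c).hom.injective p
  let A' := Red.bc c A
  haveI : IsProper A'.hom := Groth.Agent.Lib.GrpSch.bc_hom_of (P := @IsProper) c A inferInstance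
  haveI : GeometricallyIntegral A'.hom :=
    Groth.Agent.Lib.GrpSch.bc_hom_of (P := @GeometricallyIntegral) c A inferInstance
  haveI : IsIntegral A'.left := GeometricallyIntegral.isIntegral_of_subsingleton A'.hom
  have hg' : topologicalKrullDim A'.left = g :=
    (H56.DimBaseChange.topologicalKrullDim_baseChange c A.hom A'.hom _
      (Groth.Agent.Lib.GrpSch.isPullback_bc c A)).trans hg
  refine le_trans ?_ (AVInsep.natCard_torsion_le p A' hg')
  haveI : Finite {a : 𝟙_ (Over (Spec (CommRingCat.of L))) ⟶ A' // a ^ p = 1} := by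
    obtain ⟨hfin, -, -⟩ := H4.MulIso.nat A' (Fact.out : p.Prime).pos
    haveI := hfin
    refine ((H4.AVPoints.finite_fibre (𝟙 _) ((𝟙 A' : A' ⟶ A') ^ p)
      (1 : Over.mk (𝟙 _) ⟶ A')).subset fun x hx => ?_).to_subtype
    show x ≫ _ = 1
    rw [MonObj.comp_pow, Category.comp_id]
    exact hx
  refine Nat.card_le_card_of_injective (fun a => ⟨(Over.mapPullbackAdj c).homEquiv _ _ a.1, ?_⟩)
    fun a b h => Subtype.ext (((Over.mapPullbackAdj c).homEquiv _ _).injective (congrArg Subtype.val h))
  rw [Adjunction.homEquiv_unit, ← MonObj.comp_pow]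
  erw [← map_pow (Functor.homMonoidHom (Over.pullback c)) a.1 p]
  rw [a.2, map_one]
  exact MonObj.comp_one _

end Groth.Agent.H63.AVTorsion
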