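import Mathlib.Algebra.Field.ZMod
import Mathlib.Algebra.Module.ZMod
import Mathlib.Data.ZMod.QuotientRing
import Mathlib.LinearAlgebra.FreeModule.Finite.Basic
import Mathlib.LinearAlgebra.Dimension.FreeAndStrongRankCondition
import Mathlib.LinearAlgebra.FiniteDimensional.Basic

/-!
# Torsion of divisible abelian groups

* `exists_equiv_pow`: `G[p^m] ≅ (ℤ/p^m)^i` for a `p`-divisible group with finite `G[p]`
* `nonempty_equiv`: `G[n] ≅ (ℤ/n)^r` for all `n` prime to ... once the orders are `n^r`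
-/

set_option autoImplicit false

universe u

namespace Groth.Agent.H63.TorsGroup

variable {G : Type u} [AddCommGroup G]

/-- The `n`-torsion. -/
abbrev tors (G : Type u) [AddCommGroup G] (n : ℕ) : AddSubgroup G := (nsmulAddMonoidHom n).ker

theorem mem_tors {n : ℕ} {x : G} : x ∈ tors G n ↔ n • x = 0 := Iff.rfl

variable {p : ℕ}

theorem nonempty_basis [Fact p.Prime] {M : Type u} [AddCommGroup M] [Finite M] [Module (ZMod p) M] :
    ∃ i, Nonempty (Module.Basis (Fin i) (ZMod p) M) :=
  ⟨_, ⟨Module.finBasis (ZMod p) M⟩⟩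

theorem exists_basis [Fact p.Prime] [Finite (tors G p)] :
    ∃ (i : ℕ) (b : Fin i → G), (∀ j, p • b j = 0) ∧ (Nat.card (tors G p) = p ^ i) ∧
      (∀ x, p • x = 0 → ∃ c : Fin i → ℤ, x = ∑ j, c j • b j) ∧
      (∀ c : Fin i → ℤ, ∑ j, c j • b j = 0 → ∀ j, (p : ℤ) ∣ c j) := by
  have hkill : ∀ x : tors G p, p • x = 0 := fun x => Subtype.ext (by simpa using mem_tors.1 x.2)
  letI : Module (ZMod p) (tors G p) := AddCommGroup.zmodModule hkill
  obtain ⟨_, ⟨B⟩⟩ := @nonempty_basis p _ (tors G p) _ _ (AddCommGroup.zmodModule hkill)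
  refine ⟨_, fun j => (B j : G), fun j => mem_tors.1 (B j).2, ?_, fun x hx => ?_, fun c hc j => ?_⟩
  · rw [Nat.card_congr B.equivFun.toEquiv, Nat.card_fun, Nat.card_zmod, Nat.card_fin]
  · refine ⟨fun j => ((B.repr ⟨x, hx⟩ j).val : ℤ), ?_⟩
    have h := congrArg Subtype.val (B.sum_repr ⟨x, hx⟩)
    rw [AddSubgroup.val_finsetSum] at h
    refine h.symm.trans ?_
    refine Finset.sum_congr rfl fun j _ => ?_
    rw [natCast_zsmul, ← AddSubgroup.coe_nsmul, ← Nat.cast_smul_eq_nsmul (ZMod p), ZMod.natCast_zmod_val]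
  · have h : ∑ j, (c j : ZMod p) • B j = 0 := by
      simp only [Int.cast_smul_eq_zsmul]
      exact Subtype.ext (by simpa [AddSubgroup.val_finsetSum] using hc)
    exact (ZMod.intCast_zmod_eq_zero_iff_dvd _ _).1 (Fintype.linearIndependent_iff.1 B.linearIndependent _ h j)

theorem exists_tower {i : ℕ} (b : Fin i → G) (hb : ∀ j, p • b j = 0)
    (hdiv : ∀ (m : ℕ) (x : G), p ^ m • x = 0 → ∃ y, p • y = x) :
    ∃ e : ℕ → Fin i → G, e 0 = 0 ∧ e 1 = b ∧ ∀ m j, p • e (m + 1) j = e m j ∧ p ^ m • e m j = 0 := by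
  let next : (m : ℕ) → {x : G // p ^ m • x = 0} → {y : G // p ^ (m + 1) • y = 0} := fun m x =>
    ⟨(hdiv m x.1 x.2).choose, by rw [pow_succ, mul_smul, (hdiv m x.1 x.2).choose_spec, x.2]⟩
  let seq : (j : Fin i) → (m : ℕ) → {x : G // p ^ (m + 1) • x = 0} := fun j m =>
    Nat.rec (motive := fun m => {x : G // p ^ (m + 1) • x = 0}) ⟨b j, by simpa using hb j⟩
      (fun m x => next (m + 1) x) m
  refine ⟨fun m j => match m with
    | 0 => 0
    | m + 1 => (seq j m).1, rfl, rfl, fun m j => ?_⟩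
  cases m with
  | zero => exact ⟨hb j, by simp⟩
  | succ m => exact ⟨(hdiv (m + 1) (seq j m).1 (seq j m).2).choose_spec, (seq j m).2⟩

/-- `G[p^m] ≅ (ℤ/p^m)^i` for a `p`-divisible group with finite `G[p]`. -/
theorem exists_equiv_pow [Fact p.Prime] [Finite (tors G p)]
    (hdiv : ∀ (m : ℕ) (x : G), p ^ m • x = 0 → ∃ y, p • y = x) :
    ∃ i, Nat.card (tors G p) = p ^ i ∧
      ∀ m, Nonempty ((Fin i → ZMod (p ^ m)) ≃+ tors G (p ^ m)) := by
  have hp : 0 < p := (Fact.out : p.Prime).pos
  obtain ⟨i, b, hb, hcard, hspan, hind⟩ := exists_basis (G := G) (p := p)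
  refine ⟨i, hcard, fun m => ?_⟩
  obtain ⟨e, he0, he1, he⟩ := exists_tower b hb hdiv
  have hd : ∀ m (c : Fin i → ℤ), p • ∑ j, c j • e (m + 1) j = ∑ j, c j • e m j := fun m c => by
    rw [Finset.smul_sum]
    exact Finset.sum_congr rfl fun j _ => by rw [smul_comm, (he m j).1]
  have key : ∀ m, (∀ x, p ^ m • x = 0 → ∃ c : Fin i → ℤ, x = ∑ j, c j • e m j) ∧
      (∀ c : Fin i → ℤ, ∑ j, c j • e m j = 0 → ∀ j, ((p ^ m : ℕ) : ℤ) ∣ c j) := by
    intro m
    induction m with
    | zero =>
      refine ⟨fun x hx => ⟨0, ?_⟩, fun c _ j => ?_⟩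
      · simpa [he0] using hx
      · simp
    | succ m ih =>
      have hb' : ∀ j, b j = ((p ^ m : ℕ) : ℤ) • e (m + 1) j := by
        intro j
        clear ih
        induction m with
        | zero => simp [he1]
        | succ m ihm =>
          rw [ihm, ← (he (m + 1) j).1, pow_succ, natCast_zsmul, natCast_zsmul, mul_smul]
      refine ⟨fun x hx => ?_, fun c hc => ?_⟩
      · obtain ⟨c, hc⟩ := ih.1 (p • x) (by rw [← mul_smul, ← pow_succ]; exact hx)
        obtain ⟨d, hd'⟩ := hspan (x - ∑ j, c j • e (m + 1) j) (by rw [smul_sub, hd, ← hc, sub_self])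
        refine ⟨fun j => c j + d j * ((p ^ m : ℕ) : ℤ), ?_⟩
        simp only [add_smul, mul_smul, ← hb', Finset.sum_add_distrib, ← hd', add_sub_cancel]
      · have h1 : ∑ j, c j • e m j = 0 := by rw [← hd, hc, smul_zero]
        choose d hd' using ih.2 c h1
        have h2 : ∑ j, d j • b j = 0 := by
          rw [← hc]
          exact Finset.sum_congr rfl fun j _ => by rw [hb', smul_smul, hd', mul_comm]
        intro j
        rw [hd' j, pow_succ, Nat.cast_mul]
        exact mul_dvd_mul_left _ (hind d h2 j)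
  let f : (Fin i → ZMod (p ^ m)) →+ tors G (p ^ m) := (∑ j,
    (ZMod.lift (p ^ m) ⟨zmultiplesHom G (e m j), by rw [zmultiplesHom_apply, natCast_zsmul]; exact (he m j).2⟩).comp
      (Pi.evalAddMonoidHom _ j)).codRestrict _ fun c => by
        rw [AddMonoidHom.finsetSum_apply]
        refine sum_mem fun j _ => ?_
        obtain ⟨z, hz⟩ := ZMod.intCast_surjective (c j)
        simp only [AddMonoidHom.comp_apply, Pi.evalAddMonoidHom_apply, ← hz, ZMod.lift_coe,
          zmultiplesHom_apply]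
        exact AddSubgroup.zsmul_mem _ (mem_tors.2 (he m j).2) _
  have hf : ∀ c : Fin i → ℤ, (f fun j => (c j : ZMod (p ^ m)) : G) = ∑ j, c j • e m j := fun c => by
    simp [f, AddMonoidHom.finsetSum_apply]
  refine ⟨AddEquiv.ofBijective f ⟨(injective_iff_map_eq_zero f).2 fun c hc => ?_, fun x => ?_⟩⟩
  · choose z hz using fun j => ZMod.intCast_surjective (c j)
    obtain rfl : c = fun j => (z j : ZMod (p ^ m)) := funext fun j => (hz j).symm
    have h0 : (f fun j => (z j : ZMod (p ^ m)) : G) = 0 := by rw [hc]; rfl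
    rw [hf] at h0
    funext j
    exact (ZMod.intCast_zmod_eq_zero_iff_dvd _ _).2 ((key m).2 z h0 j)
  · obtain ⟨c, hc⟩ := (key m).1 x.1 x.2
    exact ⟨_, Subtype.ext ((hf c).trans hc.symm)⟩

/-- Coprime orders split the torsion. -/
noncomputable def equivProd (G : Type u) [AddCommGroup G] {a b : ℕ} (h : a.Coprime b) :
    tors G (a * b) ≃+ tors G a × tors G b :=
  AddEquiv.ofBijective
    (((nsmulAddMonoidHom b).comp (tors G (a * b)).subtype).codRestrict (tors G a) (fun x => by
      show a • b • (x : G) = 0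
      rw [smul_smul]; exact x.2) |>.prod
    (((nsmulAddMonoidHom a).comp (tors G (a * b)).subtype).codRestrict (tors G b) fun x => by
      show b • a • (x : G) = 0
      rw [smul_smul, mul_comm]; exact x.2)) (by
    obtain ⟨u, v, huv⟩ := Nat.isCoprime_iff_coprime.2 h
    refine ⟨(injective_iff_map_eq_zero _).2 fun x hx => Subtype.ext ?_, fun ⟨y, z⟩ => ?_⟩
    · have h1 : b • (x : G) = 0 := congrArg (fun w => (w.1 : G)) hx
      have h2 : a • (x : G) = 0 := congrArg (fun w => (w.2 : G)) hx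
      calc (x : G) = (u * a + v * b) • (x : G) := by rw [huv, one_smul]
        _ = u • (a • (x : G)) + v • (b • (x : G)) := by
          rw [add_smul, mul_smul, mul_smul, natCast_zsmul, natCast_zsmul]
        _ = 0 := by rw [h1, h2, smul_zero, smul_zero, add_zero]
    · have hy : a • (y : G) = 0 := y.2
      have hz : b • (z : G) = 0 := z.2
      have hy' : (u * a + v * b) • (y : G) = v • (b • (y : G)) := by
        rw [add_smul, mul_smul, mul_smul, natCast_zsmul, natCast_zsmul, hy, smul_zero, zero_add]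
      have hz' : (u * a + v * b) • (z : G) = u • (a • (z : G)) := by
        rw [add_smul, mul_smul, mul_smul, natCast_zsmul, natCast_zsmul, hz, smul_zero, add_zero]
      rw [huv, one_smul] at hy' hz'
      refine ⟨⟨v • (y : G) + u • (z : G), ?_⟩, Prod.ext (Subtype.ext ?_) (Subtype.ext ?_)⟩
      · refine mem_tors.2 ?_
        rw [smul_add, smul_comm _ v, smul_comm _ u, mul_comm a b, mul_smul, hy, mul_comm b a, mul_smul, hz]
        simp
      · show b • (v • (y : G) + u • (z : G)) = y
        rw [smul_add, smul_comm b v, smul_comm b u, hz, smul_zero, add_zero, ← hy']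
      · show a • (v • (y : G) + u • (z : G)) = z
        rw [smul_add, smul_comm a v, smul_comm a u, hy, smul_zero, zero_add, ← hz'])

theorem natCard_mul {a b : ℕ} (h : a.Coprime b) :
    Nat.card (tors G (a * b)) = Nat.card (tors G a) * Nat.card (tors G b) := by
  rw [Nat.card_congr (equivProd G h).toEquiv, Nat.card_prod]

/-- `G[n] ≅ (ℤ/n)^r` if `G` is divisible and `#G[p] = p^r` for the primes dividing `n`. -/
theorem nonempty_equiv {r : ℕ} : ∀ {n : ℕ}, 0 < n →
    (∀ p, p.Prime → p ∣ n → Nat.card (tors G p) = p ^ r ∧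
      ∀ (m : ℕ) (x : G), p ^ m • x = 0 → ∃ y, p • y = x) →
    Nonempty ((Fin r → ZMod n) ≃+ tors G n) := by
  intro n
  induction n using Nat.recOnPrimeCoprime with
  | zero => intro h; exact absurd h (lt_irrefl _)
  | prime_pow p m hp =>
    intro _ h
    rcases Nat.eq_zero_or_pos m with rfl | hm
    · haveI : Subsingleton (ZMod (p ^ 0)) := by rw [pow_zero]; infer_instance
      haveI : Subsingleton (tors G (p ^ 0)) := ⟨fun x y => Subtype.ext (by
        have h1 := mem_tors.1 x.2
        have h2 := mem_tors.1 y.2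
        simp only [pow_zero, one_smul] at h1 h2
        rw [h1, h2])⟩
      exact ⟨⟨⟨fun _ => 0, fun _ => 0, fun _ => Subsingleton.elim _ _, fun _ => Subsingleton.elim _ _⟩,
        fun _ _ => Subsingleton.elim _ _⟩⟩
    · obtain ⟨hc, hdiv⟩ := h p hp (dvd_pow_self p hm.ne')
      haveI : Fact p.Prime := ⟨hp⟩
      haveI : Finite (tors G p) := Nat.finite_of_card_ne_zero (hc ▸ (pow_pos hp.pos _).ne')
      obtain ⟨i, hi, he⟩ := exists_equiv_pow hdiv
      obtain rfl : i = r := Nat.pow_right_injective hp.two_le (hi.symm.trans hc)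
      exact he m
  | coprime a b ha hb hab iha ihb =>
    intro _ h
    obtain ⟨ea⟩ := iha (by omega) fun p hp hd => h p hp (hd.mul_right b)
    obtain ⟨eb⟩ := ihb (by omega) fun p hp hd => h p hp (hd.mul_left a)
    exact ⟨((AddEquiv.arrowCongr (Equiv.refl _) (ZMod.chineseRemainder hab).toAddEquiv).trans
      ⟨Equiv.arrowProdEquivProdArrow _ _ _, fun _ _ => rfl⟩).trans ((ea.prodCongr eb).trans (equivProd G hab).symm)⟩

end Groth.Agent.H63.TorsGroup
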