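import Groth.Agent.H63.FibreCount
import Groth.Agent.H63.TorsGroup
import Groth.Agent.H63.AVTorsion
import Groth.Prelude.Def_AbDual

/-!
# Torsion points of an abelian variety over an algebraically closed field

* `exists_root`: divisibility
* `natCard_torsPts`: `n^{2g}` points killed by an invertible `n`
* `exists_pRank`: `A[p^m](k) ≅ (ℤ/p^m)^i` with `i ≤ g` in characteristic `p`
* `nonempty_equiv`: `A[n](k) ≅ (ℤ/n)^{2g}` for invertible `n`
-/

set_option autoImplicit false

universe u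

open CategoryTheory MonoidalCategory CartesianMonoidalCategory AlgebraicGeometry
open scoped MonObj GrpObj

namespace Groth.Agent.H63.AVTorsPoints

variable {k : Type u} [Field k] [IsAlgClosed k] (A : Over (Spec (CommRingCat.of k))) [GrpObj A]
  [IsProper A.hom] [GeometricallyIntegral A.hom] [IsCommMonObj A]

local notation "T₀" => Over.mk (𝟙 (Spec (CommRingCat.of k)))

theorem exists_root {n : ℕ} (hn : 0 < n) (y : T₀ ⟶ A) : ∃ x : T₀ ⟶ A, x ^ n = y := by
  obtain ⟨hfin, -, hsurj⟩ := H4.MulIso.nat A hn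
  haveI := hfin
  haveI := hsurj
  obtain ⟨x, hx⟩ := H4.AVPoints.exists_lift _ ((𝟙 A : A ⟶ A) ^ n) y
  rw [MonObj.comp_pow, Category.comp_id] at hx
  exact ⟨x, hx⟩

theorem finite_torsPts {n : ℕ} (hn : 0 < n) : Finite (AbDual.torsPts A n T₀) := by
  obtain ⟨hfin, -, -⟩ := H4.MulIso.nat A hn
  haveI := hfin
  refine ((H4.AVPoints.finite_fibre _ ((𝟙 A : A ⟶ A) ^ n) (1 : T₀ ⟶ A)).subset fun x hx => ?_).to_subtype
  show x ≫ _ = 1
  rw [MonObj.comp_pow, Category.comp_id]
  exact hx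

variable {g : ℕ} (hg : topologicalKrullDim A.left = g)

include hg

theorem natCard_torsPts {n : ℕ} (hn : (n : k) ≠ 0) : Nat.card (AbDual.torsPts A n T₀) = n ^ (2 * g) := by
  haveI := H4.NPowEtale.isFinite_pow (G := A) hn
  haveI := H4.NPowEtale.etale_pow (G := A) hn
  have h := FibreCount.natCard_lifts ((𝟙 A : A ⟶ A) ^ n) (1 : T₀ ⟶ A)
  have hn0 : (n : ℤ) ≠ 0 := Int.natCast_ne_zero.2 fun h0 => hn (by rw [h0, Nat.cast_zero])
  rw [← zpow_natCast (𝟙 A : A ⟶ A) n, AVDegree.finrank_zpow A hg hn0, Int.natAbs_natCast, zpow_natCast] at h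
  refine Eq.trans (Nat.card_congr (Equiv.subtypeEquivRight fun x => ?_)) h
  show x ^ n = 1 ↔ _
  rw [MonObj.comp_pow, Category.comp_id]

theorem natCard_torsPts_prime_le (p : ℕ) [Fact p.Prime] [CharP k p] :
    Nat.card (AbDual.torsPts A p T₀) ≤ p ^ g := by
  haveI : IsIntegral A.left := GeometricallyIntegral.isIntegral_of_subsingleton A.hom
  exact AVInsep.natCard_torsion_le p A hg

omit hg

/-- The additive group of points. -/
abbrev Pts : Type u := Additive (T₀ ⟶ A)

theorem natCard_tors (n : ℕ) : Nat.card (TorsGroup.tors (Pts A) n) = Nat.card (AbDual.torsPts A n T₀) :=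
  Nat.card_congr (Equiv.subtypeEquiv Additive.toMul fun x => ⟨fun h => congrArg Additive.toMul h, fun h => congrArg Additive.ofMul h⟩)

/-- Translate to multiplicative notation. -/
def torsEquiv (n : ℕ) : AbDual.torsPts A n T₀ ≃* Multiplicative (TorsGroup.tors (Pts A) n) where
  toFun x := Multiplicative.ofAdd ⟨Additive.ofMul x.1, congrArg Additive.ofMul x.2⟩
  invFun x := ⟨(Multiplicative.toAdd x).1.toMul, congrArg Additive.toMul (Multiplicative.toAdd x).2⟩
  left_inv _ := rfl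
  right_inv _ := rfl
  map_mul' _ _ := rfl

theorem divisible {p : ℕ} (hp : 0 < p) (m : ℕ) (x : Pts A) (_ : p ^ m • x = 0) : ∃ y, p • y = x := by
  obtain ⟨y, hy⟩ := exists_root A hp x.toMul
  exact ⟨Additive.ofMul y, congrArg Additive.ofMul hy⟩

include hg

theorem exists_pRank (p : ℕ) [Fact p.Prime] [CharP k p] :
    ∃ i, i ≤ g ∧ ∀ m : ℕ, Nonempty (AbDual.torsPts A (p ^ m) T₀ ≃* Multiplicative (Fin i → ZMod (p ^ m))) := by
  have hp : p.Prime := Fact.out
  haveI := finite_torsPts A hp.pos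
  haveI : Finite (TorsGroup.tors (Pts A) p) :=
    Finite.of_equiv (AbDual.torsPts A p T₀) ((torsEquiv A p).toEquiv.trans Multiplicative.toAdd)
  obtain ⟨i, hi, he⟩ := TorsGroup.exists_equiv_pow (G := Pts A) (divisible A hp.pos)
  refine ⟨i, ?_, fun m => (he m).map fun e => (torsEquiv A _).trans (AddEquiv.toMultiplicative e.symm)⟩
  rw [natCard_tors] at hi
  exact (Nat.pow_le_pow_iff_right hp.one_lt).1 (hi.symm.le.trans (natCard_torsPts_prime_le A hg p))

theorem nonempty_equiv {n : ℕ} (hn : (n : k) ≠ 0) :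
    Nonempty (AbDual.torsPts A n T₀ ≃* Multiplicative (Fin (2 * g) → ZMod n)) := by
  have h0 : 0 < n := Nat.pos_of_ne_zero fun h => hn (by rw [h, Nat.cast_zero])
  refine (TorsGroup.nonempty_equiv (G := Pts A) h0 fun q hq hd => ⟨?_, divisible A hq.pos⟩).map
    fun e => (torsEquiv A _).trans (AddEquiv.toMultiplicative e.symm)
  rw [natCard_tors]
  refine natCard_torsPts A hg fun h => hn ?_
  obtain ⟨c, rfl⟩ := hd
  rw [Nat.cast_mul, h, zero_mul]

theorem natCard_torsPts_prime_pow_mul (p : ℕ) [Fact p.Prime] [CharP k p] :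
    ∃ i, i ≤ g ∧ ∀ a m : ℕ, ¬ p ∣ m →
      Nat.card (AbDual.torsPts A (p ^ a * m) T₀) = p ^ (a * i) * m ^ (2 * g) := by
  obtain ⟨i, hi, he⟩ := exists_pRank A hg p
  refine ⟨i, hi, fun a m hm => ?_⟩
  have hp : p.Prime := Fact.out
  have hco : (p ^ a).Coprime m := Nat.Coprime.pow_left a (hp.coprime_iff_not_dvd.2 hm)
  rw [← natCard_tors, TorsGroup.natCard_mul hco, natCard_tors, natCard_tors,
    natCard_torsPts A hg (fun h => hm ((CharP.cast_eq_zero_iff k p m).1 h))]
  obtain ⟨e⟩ := he a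
  rw [Nat.card_congr e.toEquiv, Nat.card_congr Multiplicative.toAdd, Nat.card_fun, Nat.card_zmod, Nat.card_fin,
    ← pow_mul]

end Groth.Agent.H63.AVTorsPoints
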