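import Groth.Agent.H63.SubAV
import Groth.Agent.H63.AVTorsPoints
import Groth.Agent.Lib.GrpdGen.Stabilizer
import Groth.Agent.H4.IsogenyDim
import Mathlib.AlgebraicGeometry.AlgClosed.Basic

/-!
# Isogenies and torsion points

* `isFinite_iff_finite_kerPts`: finite morphism iff finitely many points in the kernel
* `eq_one_of_kills_torsion`: a homomorphism killing all `l`-power torsion is trivial
* `exists_torsion_not_isFinite`: a non-finite homomorphism kills a nontrivial compatible torsion system
-/

set_option autoImplicit false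

universe u

open CategoryTheory CategoryTheory.Limits MonoidalCategory CartesianMonoidalCategory AlgebraicGeometry
open scoped MonObj GrpObj
open Groth.Agent.Lib

namespace Groth.Agent.H63.AVIsogeny

variable {k : Type u} [Field k]

local notation "T₀" => Over.mk (𝟙 (Spec (CommRingCat.of k)))

theorem exists_dim {A : Over (Spec (CommRingCat.of k))} [LocallyOfFiniteType A.hom] [IrreducibleSpace A.left] :
    ∃ g : ℕ, topologicalKrullDim A.left = g := by
  have h := Cyc.FieldDim.topologicalKrullDim_closure A.hom (genericPoint A.left)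
  rw [(genericPoint_spec A.left).def,
    IsHomeomorph.topologicalKrullDim_eq _ (Homeomorph.Set.univ A.left).isHomeomorph] at h
  exact ⟨_, h⟩

variable [IsAlgClosed k]

/-- Points are closed points. -/
noncomputable def ptsEquiv (A : Over (Spec (CommRingCat.of k))) [LocallyOfFiniteType A.hom] :
    (T₀ ⟶ A) ≃ closedPoints A.left :=
  Equiv.trans
    { toFun := fun a => ⟨a.left, Over.w a⟩
      invFun := fun s => Over.homMk s.1 s.2
      left_inv := fun _ => rfl
      right_inv := fun _ => rfl }
    (pointEquivClosedPoint A.hom)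

theorem finite_space (N : Over (Spec (CommRingCat.of k))) [LocallyOfFiniteType N.hom]
    [Finite (T₀ ⟶ N)] : Finite N.left := by
  haveI : JacobsonSpace N.left := LocallyOfFiniteType.jacobsonSpace N.hom
  haveI : Finite (closedPoints N.left) := Finite.of_equiv _ (ptsEquiv N)
  have hfin : (closedPoints N.left).Finite := Set.toFinite _
  have hcl : IsClosed (closedPoints N.left) := by
    rw [← Set.biUnion_of_singleton (closedPoints N.left)]
    exact hfin.isClosed_biUnion fun x hx => hx
  rw [← Set.finite_univ_iff, ← closure_closedPoints (X := N.left), hcl.closure_eq]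
  exact hfin

theorem subsingleton_pts (M : Over (Spec (CommRingCat.of k))) [LocallyOfFiniteType M.hom] [IsIntegral M.left]
    (h : topologicalKrullDim M.left = 0) : Subsingleton (T₀ ⟶ M) := by
  refine (ptsEquiv M).subsingleton_congr.2 ⟨fun x y => Subtype.ext ?_⟩
  have key : ∀ z : M.left, z = genericPoint M.left := fun z => by
    by_contra hne
    have h1 := VarDim.Basic.pdim_lt M.hom ((genericPoint_spec M.left).specializes (Set.mem_univ z)) (Ne.symm hne)
    have h2 := (VarDim.Basic.topologicalKrullDim_irreducibleSpace M.hom).symm.trans h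
    have h3 : VarDim.Basic.pdim M.hom (genericPoint M.left) = 0 := by exact_mod_cast h2
    omega
  rw [key x.1, key y.1]

theorem isFinite_of_finite_kerPts {A B : Over (Spec (CommRingCat.of k))} [GrpObj A] [IsCommMonObj A]
    [IsProper A.hom] [GrpObj B] [IsSeparated B.hom] (φ : A ⟶ B) [IsMonHom φ]
    (h : {a : T₀ ⟶ A | a ≫ φ = 1}.Finite) : IsFinite φ.left := by
  obtain ⟨N, _, j, hj, hN, -⟩ := H4.IsogenyFactor.exists_kernel φ
  haveI : IsClosedImmersion (η[B].left ≫ B.hom) := by
    rw [Over.w η[B]]; exact (inferInstance : IsClosedImmersion (𝟙 (Spec (CommRingCat.of k))))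
  haveI : IsClosedImmersion η[B].left := IsClosedImmersion.of_comp η[B].left B.hom
  haveI : IsClosedImmersion j.left :=
    MorphismProperty.of_isPullback (P := @IsClosedImmersion) (hN.map (Over.forget _)).flip ‹IsClosedImmersion η[B].left›
  haveI : IsProper N.hom := by rw [← Over.w j]; infer_instance
  haveI : Mono j := Over.mono_of_mono_left _
  haveI : Finite (T₀ ⟶ N) := by
    haveI := h.to_subtype
    refine Finite.of_injective (β := {a : T₀ ⟶ A | a ≫ φ = 1}) (fun b => ⟨b ≫ j, ?_⟩)
      fun b b' e => (cancel_mono j).1 (congrArg Subtype.val e)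
    show (b ≫ j) ≫ φ = 1
    rw [Category.assoc, H4.KernelSquare.comp_eq_one φ j hN, MonObj.comp_one]
  haveI := finite_space N
  haveI : JacobsonSpace N.left := LocallyOfFiniteType.jacobsonSpace N.hom
  haveI : DiscreteTopology N.left := inferInstance
  haveI : LocallyQuasiFinite N.hom := by
    rw [locallyQuasiFinite_iff_isDiscrete_preimage_singleton]
    exact fun y => ⟨inferInstance⟩
  haveI : LocallyQuasiFinite (fst A N).left :=
    GrpSch.fst_left_of (P := @LocallyQuasiFinite) A (show LocallyQuasiFinite N.hom from inferInstance)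
  haveI : IsProper (φ.left ≫ B.hom) := by rw [Over.w]; infer_instance
  haveI : IsProper φ.left := IsProper.of_comp φ.left B.hom
  haveI := GrpdGen.locallyQuasiFinite_of_kernelPair (H4.KernelSquare.isPullback_left φ j hN).flip
  exact IsFinite.of_isProper_of_locallyQuasiFinite _

variable {A B : Over (Spec (CommRingCat.of k))} [GrpObj A] [IsCommMonObj A] [IsProper A.hom]
  [GeometricallyIntegral A.hom] [GrpObj B] [IsSeparated B.hom]

omit [IsCommMonObj A] in
theorem finite_kerPts (φ : A ⟶ B) (h : IsFinite φ.left) : {a : T₀ ⟶ A | a ≫ φ = 1}.Finite :=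
  haveI := h
  H4.AVPoints.finite_fibre (𝟙 _) φ (1 : T₀ ⟶ B)

/-- Torsion of the kernel lies in a subvariety, up to a bounded factor. -/
theorem natCard_torsion_killed_le {M : Over (Spec (CommRingCat.of k))} [GrpObj M] [IsProper M.hom]
    [GeometricallyIntegral M.hom] [IsCommMonObj M] (i : M ⟶ A) [IsMonHom i] [IsClosedImmersion i.left]
    {c : ℕ} (hc : 0 < c) {g s : ℕ} (hg : topologicalKrullDim A.left = g) (hs : topologicalKrullDim M.left = s)
    {n : ℕ} (hn : (n : k) ≠ 0)
    (hmem : ∀ a : T₀ ⟶ A, a ^ n = 1 → ∃ m : T₀ ⟶ M, m ≫ i = a ^ c) :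
    n ^ (2 * g) ≤ Nat.card (AbDual.torsPts A c T₀) * n ^ (2 * s) := by
  rw [← AVTorsPoints.natCard_torsPts A hg hn, ← AVTorsPoints.natCard_torsPts M hs hn]
  haveI : Mono i := Over.mono_of_mono_left _
  have hn0 : 0 < n := Nat.pos_of_ne_zero fun h => hn (by rw [h, Nat.cast_zero])
  haveI := AVTorsPoints.finite_torsPts A hc
  haveI := AVTorsPoints.finite_torsPts A hn0
  haveI := AVTorsPoints.finite_torsPts M hn0
  choose m hm using hmem
  let f : AbDual.torsPts A n T₀ →* AbDual.torsPts M n T₀ := MonoidHom.mk'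
    (fun a => ⟨m a.1 a.2, (AbDual.mem_torsPts M _).2 ((cancel_mono i).1 (by
      rw [MonObj.pow_comp, hm, MonObj.one_comp, ← pow_mul, mul_comm, pow_mul,
        (AbDual.mem_torsPts A a.1).1 a.2, one_pow]))⟩)
    fun a b => Subtype.ext ((cancel_mono i).1 (by
      show m (a * b).1 (a * b).2 ≫ i = (m a.1 a.2 * m b.1 b.2) ≫ i
      rw [MonObj.mul_comp, hm, hm, hm, ← mul_pow]
      rfl))
  calc Nat.card (AbDual.torsPts A n T₀) = Nat.card (AbDual.torsPts A n T₀ ⧸ f.ker) * Nat.card f.ker :=
        Subgroup.card_eq_card_quotient_mul_card_subgroup _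
    _ ≤ Nat.card (AbDual.torsPts M n T₀) * Nat.card (AbDual.torsPts A c T₀) := by
        refine Nat.mul_le_mul
          (Nat.card_le_card_of_injective _ (QuotientGroup.kerLift_injective f))
          (Nat.card_le_card_of_injective (fun a : f.ker => ⟨a.1.1, (AbDual.mem_torsPts A _).2 ?_⟩)
            fun a b h => Subtype.ext (Subtype.ext (congrArg Subtype.val h :)))
        have h2 := congrArg (fun x : AbDual.torsPts M n T₀ => x.1 ≫ i) a.2
        simpa [f, hm, MonObj.one_comp] using h2
    _ = _ := mul_comm _ _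


theorem isFinite_iff_dim {φ : A ⟶ B} [IsMonHom φ] {M : Over (Spec (CommRingCat.of k))} [GrpObj M]
    [IsProper M.hom] [GeometricallyIntegral M.hom] (i : M ⟶ A) [IsMonHom i] [IsClosedImmersion i.left]
    (hiφ : i ≫ φ = 1) {c : ℕ} (hc : 0 < c) (hmem : ∀ a : T₀ ⟶ A, a ≫ φ = 1 → ∃ m : T₀ ⟶ M, m ≫ i = a ^ c)
    {l : ℕ} (hl1 : 1 < l) (hl : (l : k) ≠ 0) :
    IsFinite φ.left ↔ topologicalKrullDim M.left = 0 := by
  haveI : IsIntegral M.left := GeometricallyIntegral.isIntegral_of_subsingleton M.hom
  refine ⟨fun h => ?_, fun h => ?_⟩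
  · obtain ⟨s, hs⟩ := exists_dim (A := M)
    rw [hs]
    by_contra hne
    have hs0 : 0 < s := Nat.pos_of_ne_zero fun e => hne (by rw [e, Nat.cast_zero])
    haveI : IsCommMonObj M := isCommMonObj_of_isProper_of_geometricallyIntegral M
    haveI : Mono i := Over.mono_of_mono_left _
    haveI := (finite_kerPts φ h).to_subtype
    haveI : Finite (T₀ ⟶ M) := Finite.of_injective (β := {a : T₀ ⟶ A | a ≫ φ = 1})
      (fun b => ⟨b ≫ i, show (b ≫ i) ≫ φ = 1 by rw [Category.assoc, hiφ, MonObj.comp_one]⟩)
      fun b b' e => (cancel_mono i).1 (congrArg Subtype.val e)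
    have key : ∀ n : ℕ, l ^ (2 * s * n) ≤ Nat.card (T₀ ⟶ M) := fun n => by
      have h1 := AVTorsPoints.natCard_torsPts M hs (n := l ^ n) (by rw [Nat.cast_pow]; exact pow_ne_zero _ hl)
      rw [mul_comm, pow_mul, ← h1]
      exact Nat.card_le_card_of_injective _ Subtype.val_injective
    have h2 := key (Nat.card (T₀ ⟶ M))
    have h3 := Nat.lt_pow_self (n := Nat.card (T₀ ⟶ M)) hl1
    have h4 : l ^ Nat.card (T₀ ⟶ M) ≤ l ^ (2 * s * Nat.card (T₀ ⟶ M)) :=
      Nat.pow_le_pow_right (by omega) (Nat.le_mul_of_pos_left _ (by omega))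
    omega
  · refine isFinite_of_finite_kerPts φ ?_
    haveI := subsingleton_pts M h
    haveI := AVTorsPoints.finite_torsPts A hc
    refine (Set.toFinite (AbDual.torsPts A c T₀ : Set (T₀ ⟶ A))).subset fun a ha => ?_
    obtain ⟨m, hm⟩ := hmem a ha
    rw [SetLike.mem_coe, AbDual.mem_torsPts, ← hm, Subsingleton.elim m 1, MonObj.one_comp]

/-- A homomorphism killing all `l`-power torsion is trivial. -/
theorem eq_one_of_kills_torsion {l : ℕ} (hl1 : 1 < l) (hl : (l : k) ≠ 0) (φ : A ⟶ B) [IsMonHom φ]
    (h : ∀ (n : ℕ) (a : T₀ ⟶ A), a ^ (l ^ n) = 1 → a ≫ φ = 1) : φ = 1 := by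
  obtain ⟨M, _, i, _, c, hi, hMp, hMg, hiφ, hc, hmem⟩ := SubAV.exists_kernelAV φ
  haveI := hi
  haveI := hMp
  haveI := hMg
  haveI : IsCommMonObj M := isCommMonObj_of_isProper_of_geometricallyIntegral M
  haveI : IsIntegral M.left := GeometricallyIntegral.isIntegral_of_subsingleton M.hom
  haveI : IsIntegral A.left := GeometricallyIntegral.isIntegral_of_subsingleton A.hom
  obtain ⟨g, hg⟩ := exists_dim (A := A)
  obtain ⟨s, hs⟩ := exists_dim (A := M)
  have hgs : g ≤ s := by
    by_contra hlt
    have key : ∀ n : ℕ, l ^ n ≤ Nat.card (AbDual.torsPts A c T₀) := fun n => by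
      have h1 := natCard_torsion_killed_le i hc hg hs (n := l ^ n) (by rw [Nat.cast_pow]; exact pow_ne_zero _ hl)
        fun a ha => hmem a (h n a ha)
      rw [← pow_mul, ← pow_mul] at h1
      have h2 : l ^ n * l ^ (n * (2 * s)) ≤ l ^ (n * (2 * g)) := by
        rw [← pow_add]
        refine Nat.pow_le_pow_right (by omega) ?_
        rw [show n + n * (2 * s) = n * (2 * s + 1) by ring]
        exact Nat.mul_le_mul_left n (by omega)
      exact Nat.le_of_mul_le_mul_right (h2.trans h1) (pow_pos (by omega) _)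
    have h3 := key (Nat.card (AbDual.torsPts A c T₀))
    have h4 := Nat.lt_pow_self (n := Nat.card (AbDual.torsPts A c T₀)) hl1
    omega
  haveI : Surjective i.left := H4.IsogenyDim.surjective_of_finite i (by rw [hg, hs]; exact_mod_cast hgs)
  haveI : IsIso i.left := isIso_of_isClosedImmersion_of_surjective i.left
  haveI : IsIso i := by
    haveI : IsIso ((Over.forget _).map i) := ‹IsIso i.left›
    exact isIso_of_reflects_iso i (Over.forget _)
  rw [← cancel_epi i, hiφ, MonObj.comp_one]

end Groth.Agent.H63.AVIsogeny
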