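import Groth.Agent.H81.PushLocFree
import Mathlib.AlgebraicGeometry.FunctionField
import Mathlib.LinearAlgebra.Dimension.Localization

/-!
# The map of function fields of a finite flat morphism

* `ff q h`: the map `K(Y) → K(X)`, `ff_spec`: it lifts `q`
* `finrank_ff`: its degree is the rank of `q`
-/

set_option autoImplicit false

universe u

open CategoryTheory AlgebraicGeometry TopologicalSpace

namespace Groth.Agent.H63.FunctionFieldDegree

variable {X Y : Scheme.{u}} [IrreducibleSpace X] [IrreducibleSpace Y] (q : X ⟶ Y)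
  (h : q (genericPoint X) = genericPoint Y)

/-- The map of function fields. -/
noncomputable def ff : Y.functionField ⟶ X.functionField :=
  Y.presheaf.stalkSpecializes (specializes_of_eq h) ≫ q.stalkMap (genericPoint X)

theorem ff_spec : Spec.map (ff q h) ≫ Y.fromSpecStalk (genericPoint Y) = X.fromSpecStalk (genericPoint X) ≫ q := by
  rw [ff, Spec.map_comp, Category.assoc, Scheme.SpecMap_stalkSpecializes_fromSpecStalk,
    Scheme.SpecMap_stalkMap_fromSpecStalk]

theorem ff_germ (V : Y.Opens) (hV : genericPoint Y ∈ V) :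
    Y.presheaf.germ V _ hV ≫ ff q h = q.app V ≫ X.presheaf.germ (q ⁻¹ᵁ V) (genericPoint X) (show q (genericPoint X) ∈ V from h ▸ hV) := by
  rw [ff, ← Category.assoc, TopCat.Presheaf.germ_stalkSpecializes, Scheme.Hom.germ_stalkMap]

theorem genericPoint_map [Surjective q] : q (genericPoint X) = genericPoint Y := by
  obtain ⟨z, hz⟩ := q.surjective (genericPoint Y)
  have h1 : q (genericPoint X) ⤳ genericPoint Y := hz ▸ ((genericPoint_spec X).specializes trivial).map q.continuous
  exact (h1.antisymm ((genericPoint_spec Y).specializes trivial)).eq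

/-- The degree of the extension of function fields. -/
theorem finrank_ff {X Y : Scheme.{u}} [IsIntegral X] [IsIntegral Y] (q : X ⟶ Y)
    (h : q (genericPoint X) = genericPoint Y) [IsFinite q] [Flat q] [LocallyOfFinitePresentation q] :
    @Module.finrank Y.functionField X.functionField _ _ (ff q h).hom.toAlgebra.toModule =
      q.finrank (genericPoint Y) := by
  obtain ⟨U, n, hηU, ⟨i⟩⟩ := Groth.Agent.H81.PushLocFree.isFinLocFree_push q (genericPoint Y)
  rw [Groth.Agent.H81.PushLocFree.finrank_eq hηU i]
  obtain ⟨V, hV, hηV, hVU⟩ := exists_isAffineOpen_mem_and_subset hηU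
  letI : Algebra Γ(Y, V) Γ(X, q ⁻¹ᵁ V) := (q.app V).hom.toAlgebra
  obtain ⟨b⟩ := Groth.Agent.H81.PushLocFree.nonempty_basis (show V ≤ U from hVU) i
  have hηX : genericPoint X ∈ q ⁻¹ᵁ V := show q (genericPoint X) ∈ V from h ▸ hηV
  have : Nonempty V := ⟨⟨_, hηV⟩⟩
  have : Nonempty (q ⁻¹ᵁ V : X.Opens) := ⟨⟨_, hηX⟩⟩
  have hqV : IsAffineOpen (q ⁻¹ᵁ V) := hV.preimage q
  have : IsFractionRing Γ(Y, V) Y.functionField := functionField_isFractionRing_of_isAffineOpen Y V hV
  have : IsFractionRing Γ(X, q ⁻¹ᵁ V) X.functionField := functionField_isFractionRing_of_isAffineOpen X _ hqV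
  have : Nontrivial Γ(Y, V) := (Y.germToFunctionField V).hom.domain_nontrivial
  letI : Algebra Y.functionField X.functionField := (ff q h).hom.toAlgebra
  letI : Algebra Γ(Y, V) X.functionField :=
    ((X.germToFunctionField (q ⁻¹ᵁ V)).hom.comp (q.app V).hom).toAlgebra
  have : IsScalarTower Γ(Y, V) Γ(X, q ⁻¹ᵁ V) X.functionField := IsScalarTower.of_algebraMap_eq fun _ => rfl
  have : IsScalarTower Γ(Y, V) Y.functionField X.functionField := IsScalarTower.of_algebraMap_eq fun r =>
    (ConcreteCategory.congr_hom (ff_germ q h V hηV) r).symm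
  rw [IsFractionRing.finrank_eq Γ(Y, V) Y.functionField Γ(X, q ⁻¹ᵁ V) X.functionField,
    Module.finrank_eq_card_basis b, Fintype.card_fin]

end Groth.Agent.H63.FunctionFieldDegree
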