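import Mathlib.Algebra.MvPolynomial.Funext
import Mathlib.Algebra.MvPolynomial.Monad
import Mathlib.RingTheory.MvPolynomial.Homogeneous
import Mathlib.FieldTheory.IsAlgClosed.Basic
import Mathlib.Algebra.Polynomial.Splits
import Mathlib.Algebra.Polynomial.Roots

/-!
# A form that is multiplicative on split polynomials is a product of values

* `eval_eq_prod`: a form in the coefficients agreeing with `∏ F(θ)` on monic `F` split over `ℤ` is `∏ F(θ)`
-/

set_option autoImplicit false

universe u

open Polynomial

namespace Groth.Agent.H63.NormIdentity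

variable {C : Type u} [Field C] [CharZero C] [IsAlgClosed C] {d : ℕ}

/-- `∏_θ (∑ θ^i Xᵢ)`. -/
noncomputable def normForm (d : ℕ) (θ : Multiset C) : MvPolynomial (Fin (d + 1)) C :=
  (θ.map fun t => ∑ i : Fin (d + 1), MvPolynomial.C (t ^ (i : ℕ)) * MvPolynomial.X i).prod

theorem eval_normForm (θ : Multiset C) (c : Fin (d + 1) → C) :
    MvPolynomial.eval c (normForm d θ) = (θ.map fun t => ∑ i : Fin (d + 1), c i * t ^ (i : ℕ)).prod := by
  rw [normForm, map_multiset_prod, Multiset.map_map]
  refine congrArg Multiset.prod (Multiset.map_congr rfl fun t _ => ?_)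
  simp [mul_comm]

theorem isHomogeneous_normForm (θ : Multiset C) : (normForm d θ).IsHomogeneous (Multiset.card θ) := by
  induction θ using Multiset.induction with
  | empty => simpa [normForm] using MvPolynomial.isHomogeneous_one (Fin (d + 1)) C
  | cons t θ ih =>
    rw [normForm, Multiset.map_cons, Multiset.prod_cons, Multiset.card_cons, Nat.add_comm (Multiset.card θ) 1]
    have h1 : (∑ i : Fin (d + 1), MvPolynomial.C (t ^ (i : ℕ)) * MvPolynomial.X i).IsHomogeneous 1 :=
      MvPolynomial.IsHomogeneous.sum _ _ _ fun i _ => by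
        have := (MvPolynomial.isHomogeneous_C (Fin (d + 1)) (t ^ (i : ℕ))).mul
          (MvPolynomial.isHomogeneous_X (R := C) i)
        rwa [zero_add] at this
    exact h1.mul ih

/-- the coefficients of `∏ (X - yⱼ)` -/
noncomputable def coefPoly (d : ℕ) (i : Fin (d + 1)) : MvPolynomial (Fin d) C :=
  (∏ j : Fin d, (X - Polynomial.C (MvPolynomial.X j : MvPolynomial (Fin d) C))).coeff i

theorem eval_coefPoly (y : Fin d → C) (i : Fin (d + 1)) :
    MvPolynomial.eval y (coefPoly d i) = (∏ j : Fin d, (X - Polynomial.C (y j))).coeff i := by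
  rw [coefPoly, ← Polynomial.coeff_map, Polynomial.map_prod]
  simp

theorem eval_bind (y : Fin d → C) (P : MvPolynomial (Fin (d + 1)) C) :
    MvPolynomial.eval y (MvPolynomial.bind₁ (coefPoly d) P) =
      MvPolynomial.eval (fun i : Fin (d + 1) => (∏ j : Fin d, (X - Polynomial.C (y j))).coeff (i : ℕ)) P := by
  rw [← funext (eval_coefPoly y)]
  exact MvPolynomial.eval₂Hom_bind₁ _ _ _ _

theorem sum_coeff_mul (y : Fin d → C) (t : C) :
    ∑ i : Fin (d + 1), (∏ j : Fin d, (X - Polynomial.C (y j))).coeff (i : ℕ) * t ^ (i : ℕ) = ∏ j, (t - y j) := by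
  set F := ∏ j : Fin d, (X - Polynomial.C (y j))
  have hdeg : F.natDegree < d + 1 := by
    rw [Polynomial.natDegree_finsetProd_X_sub_C_eq_card, Finset.card_univ, Fintype.card_fin]
    exact Nat.lt_succ_self _
  rw [Fin.sum_univ_eq_sum_range (fun i => F.coeff i * t ^ i), ← Polynomial.eval_eq_sum_range' hdeg,
    Polynomial.eval_prod]
  simp

theorem eval_eq_prod (P : MvPolynomial (Fin (d + 1)) C) (θ : Multiset C)
    (hP : P.IsHomogeneous (Multiset.card θ))
    (h : ∀ n : Fin d → ℤ,
      MvPolynomial.eval (fun i : Fin (d + 1) => (∏ j : Fin d, (X - Polynomial.C ((n j : ℤ) : C))).coeff (i : ℕ)) P =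
        (θ.map fun t => ∏ j, (t - (n j : C))).prod)
    (c : Fin (d + 1) → C) :
    MvPolynomial.eval c P = (θ.map fun t => ∑ i : Fin (d + 1), c i * t ^ (i : ℕ)).prod := by
  have h1 : MvPolynomial.bind₁ (coefPoly d) P = MvPolynomial.bind₁ (coefPoly d) (normForm d θ) := by
    refine MvPolynomial.funext_set (fun _ => Set.range (Int.cast : ℤ → C))
      (fun _ => Set.infinite_range_of_injective Int.cast_injective) fun y hy => ?_
    choose n hn using fun i => hy i trivial
    obtain rfl : (fun i => (n i : C)) = y := funext hn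
    rw [eval_bind, eval_bind, h n, eval_normForm]
    exact congrArg Multiset.prod (Multiset.map_congr rfl fun t _ => (sum_coeff_mul _ t).symm)
  -- the identity on monic polynomials
  have h2 : ∀ c : Fin (d + 1) → C, c (Fin.last d) = 1 →
      MvPolynomial.eval c P = MvPolynomial.eval c (normForm d θ) := by
    intro c hc
    set F : C[X] := ∑ i : Fin (d + 1), Polynomial.C (c i) * X ^ (i : ℕ) with hF
    have hco : ∀ i : Fin (d + 1), F.coeff (i : ℕ) = c i := fun i => by
      rw [hF, Polynomial.finsetSum_coeff, Finset.sum_eq_single i]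
      · simp
      · intro j _ hj
        rw [Polynomial.coeff_C_mul_X_pow, if_neg fun e => hj (Fin.ext e.symm)]
      · simp
    have hdeg : F.natDegree ≤ d := Polynomial.natDegree_sum_le_of_forall_le _ _ fun i _ =>
      (Polynomial.natDegree_C_mul_X_pow_le _ _).trans (Nat.le_of_lt_succ i.2)
    have hd : F.coeff d = 1 := by
      have := hco (Fin.last d)
      rwa [Fin.val_last, hc] at this
    have hmon : F.Monic := Polynomial.monic_of_natDegree_le_of_coeff_eq_one d hdeg hd
    have hnat : F.natDegree = d :=
      le_antisymm hdeg (Polynomial.le_natDegree_of_ne_zero (by rw [hd]; exact one_ne_zero))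
    have hs : F.Splits := IsAlgClosed.splits F
    have hlen : F.roots.toList.length = d := by
      rw [Multiset.length_toList, ← hs.natDegree_eq_card_roots, hnat]
    let y : Fin d → C := fun j => F.roots.toList[(j : ℕ)]'(hlen.symm ▸ j.2)
    have hy : ∏ j, (X - Polynomial.C (y j)) = F := by
      conv_rhs => rw [hs.eq_prod_roots, hmon.leadingCoeff, map_one, one_mul, ← Multiset.coe_toList F.roots,
        Multiset.map_coe, Multiset.prod_coe]
      rw [← Fin.prod_ofFn]
      refine congrArg List.prod (List.ext_getElem (by simp [hlen]) fun i h1 h2 => ?_)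
      simp [y]
    have key := congrArg (MvPolynomial.eval y) h1
    rw [eval_bind, eval_bind, hy, funext hco] at key
    exact key
  have h3 : P = normForm d θ := by
    have h4 : (P - normForm d θ) * MvPolynomial.X (Fin.last d) = 0 := by
      refine MvPolynomial.funext fun c => ?_
      rw [map_mul, MvPolynomial.eval_X, map_zero]
      by_cases hc : c (Fin.last d) = 0
      · rw [hc, mul_zero]
      · have key := h2 (fun i => c i / c (Fin.last d)) (div_self hc)
        have sc : ∀ Q : MvPolynomial (Fin (d + 1)) C, Q.IsHomogeneous (Multiset.card θ) →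
            MvPolynomial.eval c Q = c (Fin.last d) ^ (Multiset.card θ) *
              MvPolynomial.eval (fun i => c i / c (Fin.last d)) Q := by
          intro Q hQ
          rw [MvPolynomial.eval_eq, MvPolynomial.eval_eq, Finset.mul_sum]
          refine Finset.sum_congr rfl fun e he => ?_
          have hw : ∑ i ∈ e.support, e i = Multiset.card θ := by
            have := hQ (MvPolynomial.mem_support_iff.1 he)
            simpa [Finsupp.weight_apply, Finsupp.sum] using this
          rw [mul_left_comm, ← hw, ← Finset.prod_pow_eq_pow_sum, ← Finset.prod_mul_distrib]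
          refine congrArg (_ * ·) (Finset.prod_congr rfl fun i _ => ?_)
          rw [← mul_pow, mul_div_cancel₀ _ hc]
        rw [map_sub, sc P hP, sc _ (isHomogeneous_normForm θ), key, sub_self, zero_mul]
    exact sub_eq_zero.1 ((mul_eq_zero.1 h4).resolve_right (MvPolynomial.X_ne_zero _))
  rw [h3, eval_normForm]

end Groth.Agent.H63.NormIdentity
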