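import Groth.Agent.H63.DegreePolyOne
import Groth.Agent.H63.NormIdentity
import Groth.Agent.H63.FunctionFieldDegree
import Groth.Prelude.Def_EndRing

/-!
# The degree of a homomorphism of abelian varieties

* `deg`: the degree of an isogeny, `0` otherwise; `deg_comp`
* `deg_aeval`: `deg F(α) = ∏ F(θ)` over the roots `θ` of the characteristic polynomial
-/

set_option autoImplicit false

universe u

open CategoryTheory MonoidalCategory CartesianMonoidalCategory AlgebraicGeometry
open scoped MonObj GrpObj

namespace Groth.Agent.H63.DegreeHom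

section FF

variable {X Y Z : Scheme.{u}} [IsIntegral X] [IsIntegral Y] [IsIntegral Z] (f : X ⟶ Y) (g : Y ⟶ Z)

/-- Degrees of finite flat surjective morphisms of integral schemes multiply. -/
theorem finrank_comp [IsLocallyNoetherian Y] [IsLocallyNoetherian Z]
    [IsFinite f] [Flat f] [Surjective f] [IsFinite g] [Flat g] [Surjective g] :
    (f ≫ g).finrank (genericPoint Z) = f.finrank (genericPoint Y) * g.finrank (genericPoint Z) := by
  open FunctionFieldDegree in
  have hf := genericPoint_map f
  have hg := genericPoint_map g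
  have hfg := genericPoint_map (f ≫ g)
  rw [← FunctionFieldDegree.finrank_ff f hf, ← FunctionFieldDegree.finrank_ff g hg,
    ← FunctionFieldDegree.finrank_ff (f ≫ g) hfg]
  have h : FunctionFieldDegree.ff (f ≫ g) hfg = FunctionFieldDegree.ff g hg ≫ FunctionFieldDegree.ff f hf := by
    apply Spec.map_injective
    rw [← cancel_mono (Z.fromSpecStalk (genericPoint Z)), FunctionFieldDegree.ff_spec, Spec.map_comp,
      Category.assoc, FunctionFieldDegree.ff_spec, ← Category.assoc, ← Category.assoc,
      FunctionFieldDegree.ff_spec]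
  letI : Algebra Y.functionField X.functionField := (FunctionFieldDegree.ff f hf).hom.toAlgebra
  letI : Algebra Z.functionField Y.functionField := (FunctionFieldDegree.ff g hg).hom.toAlgebra
  letI : Algebra Z.functionField X.functionField := (FunctionFieldDegree.ff (f ≫ g) hfg).hom.toAlgebra
  have : IsScalarTower Z.functionField Y.functionField X.functionField :=
    IsScalarTower.of_algebraMap_eq fun x => (ConcreteCategory.congr_hom h x)
  rw [mul_comm]
  exact (Module.finrank_mul_finrank Z.functionField Y.functionField X.functionField).symm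

end FF

variable {k : Type u} [Field k] {A B D : Over (Spec (CommRingCat.of k))}

open scoped Classical in
/-- The degree of a finite morphism, zero for the others. -/
noncomputable def deg [IrreducibleSpace B.left] (φ : A ⟶ B) : ℕ :=
  if IsFinite φ.left then φ.left.finrank (genericPoint B.left) else 0

theorem deg_of_isFinite [IrreducibleSpace B.left] {φ : A ⟶ B} (h : IsFinite φ.left) :
    deg φ = φ.left.finrank (genericPoint B.left) := if_pos h

theorem deg_of_not [IrreducibleSpace B.left] {φ : A ⟶ B} (h : ¬ IsFinite φ.left) : deg φ = 0 := if_neg h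

variable [GrpObj A] [GrpObj B] [GrpObj D] [IsProper A.hom] [GeometricallyIntegral A.hom]
  [IsProper B.hom] [GeometricallyIntegral B.hom] [IsProper D.hom] [GeometricallyIntegral D.hom]
  [IsIntegral A.left] [IsIntegral B.left] [IsIntegral D.left]

theorem deg_comp {r : ℕ} (hA : topologicalKrullDim A.left = r) (hB : topologicalKrullDim B.left = r)
    (hD : topologicalKrullDim D.left = r) (φ : A ⟶ B) [IsMonHom φ] (ψ : B ⟶ D) [IsMonHom ψ] :
    deg (φ ≫ ψ) = deg φ * deg ψ := by
  have hcomp : IsFinite (φ ≫ ψ).left ↔ IsFinite φ.left ∧ IsFinite ψ.left := by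
    refine ⟨fun h => ?_, fun ⟨h1, h2⟩ => by rw [Over.comp_left]; infer_instance⟩
    have hs := (DegreePoly.surjective_iff_isFinite A D hA hD (φ ≫ ψ)).1 h
    rw [Over.comp_left] at h hs
    haveI : IsSeparated (ψ.left ≫ D.hom) := by rw [Over.w]; infer_instance
    haveI : IsSeparated ψ.left := IsSeparated.of_comp ψ.left D.hom
    haveI := h
    haveI := hs
    exact ⟨IsFinite.of_comp φ.left ψ.left,
      (DegreePoly.surjective_iff_isFinite B D hB hD ψ).2 (Surjective.of_comp φ.left ψ.left)⟩
  by_cases h : IsFinite φ.left ∧ IsFinite ψ.left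
  · rw [deg_of_isFinite (hcomp.2 h), deg_of_isFinite h.1, deg_of_isFinite h.2]
    obtain ⟨h1, h2⟩ := h
    haveI := h1
    haveI := h2
    haveI := (DegreePoly.surjective_iff_isFinite A B hA hB φ).1 h1
    haveI := (DegreePoly.surjective_iff_isFinite B D hB hD ψ).1 h2
    haveI := (H4.IsogenyDim.isFinite_and_flat φ (hB ▸ hA.le)).2
    haveI := (H4.IsogenyDim.isFinite_and_flat ψ (hD ▸ hB.le)).2
    haveI : IsLocallyNoetherian B.left := LocallyOfFiniteType.isLocallyNoetherian B.hom
    haveI : IsLocallyNoetherian D.left := LocallyOfFiniteType.isLocallyNoetherian D.hom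
    exact finrank_comp φ.left ψ.left
  · rw [deg_of_not (mt hcomp.1 h)]
    rcases not_and_or.1 h with h | h <;> simp [deg_of_not h]

omit [GeometricallyIntegral B.hom] [IsProper B.hom] [GrpObj B] in
/-- The defining property determines `deg`. -/
theorem cast_deg_eq (φ : A ⟶ B) {q : ℚ}
    (h : (IsFinite φ.left → ∀ b : B.left, (φ.left.finrank b : ℚ) = q) ∧ (¬ IsFinite φ.left → q = 0)) :
    (deg φ : ℚ) = q := by
  by_cases hf : IsFinite φ.left
  · rw [deg_of_isFinite hf]; exact h.1 hf _
  · rw [deg_of_not hf, h.2 hf, Nat.cast_zero]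

theorem deg_prop {r : ℕ} (hA : topologicalKrullDim A.left = r) (hB : topologicalKrullDim B.left = r)
    (φ : A ⟶ B) [IsMonHom φ] :
    (IsFinite φ.left → ∀ b : B.left, φ.left.finrank b = deg φ) ∧ (¬ IsFinite φ.left → deg φ = 0) := by
  refine ⟨fun hf b => ?_, deg_of_not⟩
  rw [deg_of_isFinite hf]
  haveI := hf
  haveI := (DegreePoly.surjective_iff_isFinite A B hA hB φ).1 hf
  haveI := (H4.IsogenyDim.isFinite_and_flat φ (hB ▸ hA.le)).2
  haveI : IsLocallyNoetherian B.left := LocallyOfFiniteType.isLocallyNoetherian B.hom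
  exact (Scheme.Hom.isLocallyConstant_finrank (f := φ.left)).apply_eq_of_preconnectedSpace _ _

theorem deg_one {r : ℕ} (hA : topologicalKrullDim A.left = r) : deg (𝟙 A) = 1 := by
  have h := AVDegree.finrank_zpow A hA (d := 1) one_ne_zero (genericPoint A.left)
  rw [zpow_one] at h
  rw [deg_of_isFinite (by rw [Over.id_left]; infer_instance), h]
  simp

section End

variable [IsCommMonObj A] {r : ℕ} (hA : topologicalKrullDim A.left = r)

include hA

theorem deg_list_prod (l : List (EndAV.End A)) :
    deg (EndAV.End.toHom l.prod) = (l.map fun x => deg (EndAV.End.toHom x)).prod := by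
  induction l with
  | nil => simpa using deg_one hA
  | cons x l ih =>
    rw [List.prod_cons, List.map_cons, List.prod_cons, ← ih, EndAV.End.toHom_mul, deg_comp hA hA hA,
      mul_comm]

theorem exists_charPoly (α : EndAV.End A) :
    ∃ P : Polynomial ℚ, P.Monic ∧ P.natDegree = 2 * r ∧
      ∀ n : ℤ, (deg (EndAV.End.toHom (α - (n : EndAV.End A))) : ℚ) = P.eval (n : ℚ) := by
  obtain ⟨P, hm, hd, h⟩ := DegreePolyOne.exists_monic A hA (EndAV.End.toHom α)
  refine ⟨P.comp (-Polynomial.X), ?_, ?_, fun n => ?_⟩
  · rw [Polynomial.Monic, Polynomial.leadingCoeff_comp (by simp), hm.leadingCoeff, hd]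
    simp [pow_mul]
  · rw [Polynomial.natDegree_comp, hd]
    simp
  · refine cast_deg_eq _ ?_
    have h' := h (-n)
    rw [EndAV.End.toHom_sub, EndAV.End.toHom_intCast, div_eq_mul_inv, ← zpow_neg]
    simpa using h'

/-- `deg F(α) = ∏ F(θ)`. -/
theorem deg_aeval (α : EndAV.End A) (P : Polynomial ℚ) (hm : P.Monic) (hd : P.natDegree = 2 * r)
    (hP : ∀ n : ℤ, (deg (EndAV.End.toHom (α - (n : EndAV.End A))) : ℚ) = P.eval (n : ℚ))
    (C : Type*) [Field C] [CharZero C] [IsAlgClosed C] (F : Polynomial ℤ) :
    (deg (EndAV.End.toHom (Polynomial.aeval α F)) : C) =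
      ((P.map (algebraMap ℚ C)).roots.map fun t => Polynomial.aeval t F).prod := by
  classical
  let θ := (P.map (algebraMap ℚ C)).roots
  have hs : (P.map (algebraMap ℚ C)).Splits := IsAlgClosed.splits _
  have hcard : Multiset.card θ = 2 * r := by
    rw [← hd, ← Polynomial.natDegree_map (algebraMap ℚ C), hs.natDegree_eq_card_roots]
  let d := F.natDegree
  obtain ⟨Q, hQh, hQ⟩ := DegreePoly.exists_poly A A hA hA
    (fun i : Fin (d + 1) => EndAV.End.toHom (α ^ (i : ℕ))) fun i => inferInstance
  have hev : ∀ c : Fin (d + 1) → ℤ,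
      (deg (EndAV.End.toHom (∑ i, c i • α ^ (i : ℕ))) : ℚ) = MvPolynomial.eval (fun i => (c i : ℚ)) Q := by
    intro c
    refine cast_deg_eq _ ?_
    have e : EndAV.End.toHom (∑ i, c i • α ^ (i : ℕ)) = ∏ i : Fin (d + 1), EndAV.End.toHom (α ^ (i : ℕ)) ^ c i := by
      let T : Multiplicative (EndAV.End A) →* (A ⟶ A) :=
        MonoidHom.mk' (fun x => EndAV.End.toHom x.toAdd) fun x y => rfl
      show T (Multiplicative.ofAdd (∑ i, c i • α ^ (i : ℕ))) = _
      rw [ofAdd_sum, map_prod]
      exact Finset.prod_congr rfl fun i _ => EndAV.End.toHom_zsmul _ _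
    rw [e]
    exact hQ c
  have key := NormIdentity.eval_eq_prod (MvPolynomial.map (algebraMap ℚ C) Q) θ
    (hcard ▸ hQh.map (algebraMap ℚ C)) fun n => ?_
  · have hF := key fun i => ((F.coeff i : ℤ) : C)
    have e : ∑ i : Fin (d + 1), F.coeff i • α ^ (i : ℕ) = Polynomial.aeval α F := by
      rw [Polynomial.aeval_eq_sum_range, Fin.sum_univ_eq_sum_range (fun i => F.coeff i • α ^ i)]
    rw [← e, show ((deg (EndAV.End.toHom (∑ i : Fin (d + 1), F.coeff i • α ^ (i : ℕ))) : ℕ) : C) =
      algebraMap ℚ C ((deg (EndAV.End.toHom (∑ i : Fin (d + 1), F.coeff i • α ^ (i : ℕ))) : ℕ) : ℚ) by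
        rw [map_natCast], hev]
    rw [MvPolynomial.eval_map] at hF
    rw [← MvPolynomial.eval₂_id, MvPolynomial.eval₂_comp_left, RingHom.comp_id]
    refine (Eq.trans ?_ hF).trans (congrArg Multiset.prod (Multiset.map_congr rfl fun t _ => ?_))
    · congr 1
      funext i
      simp
    · rw [Polynomial.aeval_eq_sum_range, ← Fin.sum_univ_eq_sum_range (fun i => F.coeff i • t ^ i)]
      simp only [zsmul_eq_mul]
      rfl
  · -- split polynomials
    let G : Polynomial ℤ := ∏ j : Fin d, (Polynomial.X - Polynomial.C (n j))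
    have hGdeg : G.natDegree = d := by
      rw [Polynomial.natDegree_finsetProd_X_sub_C_eq_card, Finset.card_univ, Fintype.card_fin]
    have hG : (fun i : Fin (d + 1) => (∏ j : Fin d, (Polynomial.X - Polynomial.C ((n j : ℤ) : C))).coeff (i : ℕ)) =
        fun i : Fin (d + 1) => algebraMap ℚ C ((G.coeff i : ℤ) : ℚ) := by
      funext i
      rw [map_intCast, show ∏ j : Fin d, (Polynomial.X - Polynomial.C ((n j : ℤ) : C)) = G.map (Int.castRingHom C) by
        simp [G, Polynomial.map_prod], Polynomial.coeff_map]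
      simp
    have e1 : ∑ i : Fin (d + 1), G.coeff i • α ^ (i : ℕ) =
        ((List.ofFn fun j : Fin d => α - (n j : EndAV.End A))).prod := by
      rw [Fin.sum_univ_eq_sum_range (fun i => G.coeff i • α ^ i),
        ← Polynomial.aeval_eq_sum_range' (by rw [hGdeg]; exact Nat.lt_succ_self d),
        show G = (List.ofFn fun j : Fin d => Polynomial.X - Polynomial.C (n j)).prod from
          (List.prod_ofFn).symm, map_list_prod]
      refine congrArg List.prod ?_
      rw [List.map_ofFn]
      refine congrArg List.ofFn (funext fun j => ?_)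
      simp
    rw [MvPolynomial.eval_map, hG, ← Function.comp_def, ← MvPolynomial.eval₂_comp, ← hev, e1,
      deg_list_prod hA, List.map_ofFn, List.prod_ofFn, map_natCast, Nat.cast_prod]
    have hPC : ∀ m : ℤ, (θ.map fun t => t - (m : C)).prod = algebraMap ℚ C (P.eval (m : ℚ)) := fun m => by
      rw [← Polynomial.eval₂_at_apply, map_intCast, ← Polynomial.eval_map, hs.eq_prod_roots,
        Polynomial.Monic.leadingCoeff (hm.map _), map_one, one_mul, Polynomial.eval_multiset_prod,
        Multiset.map_map]
      show _ = Multiset.prod (Multiset.map (fun t => _) θ)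
      have : θ.map (fun t => t - (m : C)) = (θ.map fun t => (m : C) - t).map fun x => -x := by
        rw [Multiset.map_map]; simp
      rw [this, Multiset.prod_map_neg, Multiset.card_map, hcard, pow_mul, neg_one_sq, one_pow, one_mul]
      simp
    rw [Multiset.prod_map_prod]
    refine Finset.prod_congr rfl fun j _ => ?_
    rw [hPC, ← hP, map_natCast]
    rfl

end End

end Groth.Agent.H63.DegreeHom
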