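import Groth.Agent.H63.AVTorsion
import Groth.Agent.H63.DegreeHom
import Groth.Agent.H63.AVIsogeny
import Groth.Agent.Lib.DescAlg.Descends
import Groth.Prelude.Def_EndTate
import Groth.Prelude.Def_SGA7a

/-!
# Base change of abelian varieties along a field extension

* `ptsEquiv`: `A(Ω) ≃* A_Ω(Ω)`, `tateEquiv`: the Tate modules agree, compatibly with homomorphisms
* `bcHom`, `bcEnd`: base change of homomorphisms, `bcHom_injective`
* `deg_bc`: degrees are invariant
-/

set_option autoImplicit false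

universe u

open CategoryTheory CategoryTheory.Limits MonoidalCategory CartesianMonoidalCategory AlgebraicGeometry
open scoped MonObj GrpObj
open Groth.Agent.Lib

namespace Groth.Agent.H63.AVBaseChange

variable {k : Type u} [Field k] (Ω : Type u) [Field Ω] [Algebra k Ω]

/-- The base change functor. -/
noncomputable abbrev F : Over (Spec (CommRingCat.of k)) ⥤ Over (Spec (CommRingCat.of Ω)) :=
  Over.pullback (GrpSch.extBase k Ω)

/-- The base change of an object. -/
noncomputable abbrev bc (A : Over (Spec (CommRingCat.of k))) : Over (Spec (CommRingCat.of Ω)) :=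
  Red.bc (GrpSch.extBase k Ω) A

variable (A B : Over (Spec (CommRingCat.of k)))

theorem isProper_bc [IsProper A.hom] : IsProper (bc Ω A).hom :=
  GrpSch.bc_hom_of (P := @IsProper) _ A inferInstance

theorem geometricallyIntegral_bc [GeometricallyIntegral A.hom] : GeometricallyIntegral (bc Ω A).hom :=
  GrpSch.bc_hom_of (P := @GeometricallyIntegral) _ A inferInstance

theorem topologicalKrullDim_bc [IsProper A.hom] {g : ℕ} (hg : topologicalKrullDim A.left = g) :
    topologicalKrullDim (bc Ω A).left = g :=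
  (H56.DimBaseChange.topologicalKrullDim_baseChange (GrpSch.extBase k Ω) A.hom (bc Ω A).hom _
    (GrpSch.isPullback_bc _ A)).trans hg

theorem isCommMonObj_bc [GrpObj A] [IsProper A.hom] [GeometricallyIntegral A.hom] :
    IsCommMonObj (bc Ω A) :=
  haveI := isProper_bc Ω A
  haveI := geometricallyIntegral_bc Ω A
  isCommMonObj_of_isProper_of_geometricallyIntegral _

variable [GrpObj A] [GrpObj B]

local notation "T₀" => Over.mk (𝟙 (Spec (CommRingCat.of Ω)))

/-- The tautological point of `F (Spec Ω)`. -/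
noncomputable def diag : T₀ ⟶ (F Ω).obj (SGA7.pt (K := k) Ω) :=
  Over.homMk (pullback.lift (𝟙 _) (𝟙 _) rfl) (pullback.lift_snd _ _ _)

theorem diag_map_proj (x : SGA7.pt (K := k) Ω ⟶ A) :
    (diag Ω ≫ (F Ω).map x).left ≫ GrpSch.bcProj (GrpSch.extBase k Ω) A = x.left := by
  rw [Over.comp_left, Category.assoc, GrpSch.bc_map_proj, ← Category.assoc]
  exact (congrArg (· ≫ x.left) (pullback.lift_fst _ _ _)).trans (Category.id_comp _)

/-- `A(Ω) ≃* A_Ω(Ω)`. -/
noncomputable def ptsEquiv : (SGA7.pt (K := k) Ω ⟶ A) ≃* (T₀ ⟶ bc Ω A) where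
  toFun x := diag Ω ≫ (F Ω).map x
  invFun y := Over.homMk (y.left ≫ GrpSch.bcProj (GrpSch.extBase k Ω) A) (by
    show (y.left ≫ pullback.fst A.hom (GrpSch.extBase k Ω)) ≫ A.hom = GrpSch.extBase k Ω
    rw [Category.assoc, pullback.condition, ← Category.assoc]
    exact (congrArg (· ≫ GrpSch.extBase k Ω) (Over.w y)).trans (Category.id_comp _))
  left_inv x := Over.OverMorphism.ext (diag_map_proj Ω A x)
  right_inv y := by
    refine Over.OverMorphism.ext (pullback.hom_ext ?_ ?_)
    · exact diag_map_proj Ω A _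
    · exact (Over.w _).trans (Over.w y).symm
  map_mul' x y := (congrArg (diag Ω ≫ ·) ((Functor.homMonoidHom (F Ω)).map_mul x y)).trans
    (MonObj.comp_mul _ _ _)

variable {A B} in
theorem ptsEquiv_comp (x : SGA7.pt (K := k) Ω ⟶ A) (φ : A ⟶ B) :
    ptsEquiv Ω B (x ≫ φ) = ptsEquiv Ω A x ≫ (F Ω).map φ := by
  show diag Ω ≫ (F Ω).map (x ≫ φ) = (diag Ω ≫ (F Ω).map x) ≫ (F Ω).map φ
  rw [Functor.map_comp, Category.assoc]

variable [IsCommMonObj A] [IsCommMonObj B]

section Tate

variable [IsCommMonObj (bc Ω A)] [IsCommMonObj (bc Ω B)] (l : ℕ) [Fact l.Prime]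

/-- The Tate modules before and after base change agree. -/
noncomputable def tateEquiv :
    AbDual.TateMod A l (SGA7.pt (K := k) Ω) ≃ₗ[ℤ_[l]] AbDual.TateMod (bc Ω A) l T₀ where
  toFun x := ⟨fun n => (ptsEquiv Ω A).toAdditive (x.1 n),
    ⟨fun n => by rw [← map_nsmul, x.torsion n, map_zero], fun n => by rw [← map_nsmul, x.compat n]⟩⟩
  invFun y := ⟨fun n => (ptsEquiv Ω A).toAdditive.symm (y.1 n),
    ⟨fun n => by rw [← map_nsmul, y.torsion n, map_zero], fun n => by rw [← map_nsmul, y.compat n]⟩⟩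
  left_inv x := AbDual.TateMod.ext fun n => (ptsEquiv Ω A).toAdditive.symm_apply_apply _
  right_inv y := AbDual.TateMod.ext fun n => (ptsEquiv Ω A).toAdditive.apply_symm_apply _
  map_add' x y := AbDual.TateMod.ext fun n => map_add (ptsEquiv Ω A).toAdditive _ _
  map_smul' a x := AbDual.TateMod.ext fun n => map_nsmul (ptsEquiv Ω A).toAdditive _ _

variable {A B} in
theorem tateEquiv_natural (φ : A ⟶ B) [IsMonHom φ] (x : AbDual.TateMod A l (SGA7.pt (K := k) Ω)) :
    tateEquiv Ω B l (AbDual.tateMapₗ (l := l) (T := SGA7.pt (K := k) Ω) φ x) =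
      AbDual.tateMapₗ (l := l) (T := T₀) ((F Ω).map φ) (tateEquiv Ω A l x) :=
  AbDual.TateMod.ext fun n => congrArg Additive.ofMul (ptsEquiv_comp Ω (x.1 n).toMul φ)

variable {A B} in
theorem tateMap_conj (φ : A ⟶ B) [IsMonHom φ] :
    AbDual.tateMapₗ (l := l) (T := SGA7.pt (K := k) Ω) φ =
      (tateEquiv Ω B l).symm.toLinearMap ∘ₗ
        AbDual.tateMapₗ (l := l) (T := T₀) ((F Ω).map φ) ∘ₗ (tateEquiv Ω A l).toLinearMap := by
  refine LinearMap.ext fun x => ?_
  show _ = (tateEquiv Ω B l).symm (AbDual.tateMapₗ (l := l) (T := T₀) ((F Ω).map φ) (tateEquiv Ω A l x))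
  rw [← tateEquiv_natural, LinearEquiv.symm_apply_apply]

/-- Base change of homomorphisms. -/
noncomputable def bcHom : EndAV.Hom A B →+ EndAV.Hom (bc Ω A) (bc Ω B) where
  toFun φ := EndAV.Hom.of ((F Ω).map φ.toHom)
  map_zero' := EndAV.Hom.ext ((Functor.homMonoidHom (F Ω)).map_one)
  map_add' φ ψ := EndAV.Hom.ext ((Functor.homMonoidHom (F Ω)).map_mul φ.toHom ψ.toHom)

theorem bcHom_injective : Function.Injective (bcHom Ω A B) := fun φ ψ h => by
  have h' : (F Ω).map φ.toHom = (F Ω).map ψ.toHom := congrArg EndAV.Hom.toHom h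
  have hp := GrpSch.bcProj_surjective_flat_qc k Ω A
  haveI : Surjective (GrpSch.bcProj (GrpSch.extBase k Ω) A) := hp.1.1
  haveI : Flat (GrpSch.bcProj (GrpSch.extBase k Ω) A) := hp.1.2
  haveI : QuasiCompact (GrpSch.bcProj (GrpSch.extBase k Ω) A) := hp.2
  haveI := Flat.epi_of_flat_of_surjective (GrpSch.bcProj (GrpSch.extBase k Ω) A)
  refine EndAV.Hom.ext (Over.OverMorphism.ext ?_)
  rw [← cancel_epi (GrpSch.bcProj (GrpSch.extBase k Ω) A), ← GrpSch.bc_map_proj, ← GrpSch.bc_map_proj, h']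

/-- Base change of endomorphisms. -/
noncomputable def bcEnd : EndAV.End A →+* EndAV.End (bc Ω A) where
  __ := bcHom Ω A A
  map_one' := EndAV.End.ext ((F Ω).map_id A)
  map_mul' φ ψ := EndAV.End.ext ((F Ω).map_comp ψ.toHom φ.toHom)

end Tate

variable {A B} [IsProper A.hom] [GeometricallyIntegral A.hom] [IsProper B.hom] [GeometricallyIntegral B.hom]
  [IsIntegral A.left] [IsIntegral B.left] [IsIntegral (bc Ω B).left]

omit [IsCommMonObj A] [IsCommMonObj B] in
/-- Degrees are invariant under base change. -/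
theorem deg_bc {r : ℕ} (hA : topologicalKrullDim A.left = r) (hB : topologicalKrullDim B.left = r)
    (φ : A ⟶ B) [IsMonHom φ] : DegreeHom.deg ((F Ω).map φ) = DegreeHom.deg φ := by
  by_cases hf : IsFinite φ.left
  · haveI := hf
    haveI := (DegreePoly.surjective_iff_isFinite A B hA hB φ).1 hf
    haveI := (H4.IsogenyDim.isFinite_and_flat φ (hB ▸ hA.le)).2
    rw [DegreeHom.deg_of_isFinite (GrpSch.bc_map_left_of (P := @IsFinite) _ φ hf),
      Scheme.Hom.finrank_of_isPullback _ _ _ _ (GrpSch.isPullback_bc_map (GrpSch.extBase k Ω) φ).flip]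
    exact (DegreeHom.deg_prop hA hB φ).1 hf _
  · rw [DegreeHom.deg_of_not hf, DegreeHom.deg_of_not fun h => hf
      (GrpSch.of_bc_map_left k Ω (P := @IsFinite) φ h)]

end Groth.Agent.H63.AVBaseChange
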