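import Groth.Agent.Lib.IntTheory.Push
import Groth.Agent.Lib.IntTheory.Roof
import Groth.Agent.Lib.IntTheory.Additive
import Groth.Agent.Lib.IntTheory.Positive
import Groth.Agent.Lib.IntTheory.Basic
import Groth.Agent.Lib.Perfect.Coherent
import Groth.Agent.H81.PushLocFree
import Groth.Agent.Lib.Modules.Free

/-!
# Intersection symbols of a finite flat cover

* `sym_pullback_finite_flat`: `(g^* l) = deg g · (l)` on an irreducible proper scheme over a field
* `sym_replicate_pow`: `(M^{⊗ N}, ..., M^{⊗ N}) = N^r (M, ..., M)`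
-/

set_option autoImplicit false

universe u

open CategoryTheory CategoryTheory.Limits AlgebraicGeometry TopologicalSpace
open Groth.Agent.Lib Groth.Agent.Lib.Snapper Groth.Agent.Lib.Snapper.Vanish
open Groth.Agent.Lib.IntTheory
open Groth.Agent.Lib.Devissage.Basic (CohIn)

namespace Groth.Agent.H63.SymDegree

variable {X : Scheme.{u}}

/-- `O^{n+1} ≅ O ⊞ O^n`. -/
theorem nonempty_freeMod_succ (n : ℕ) :
    Nonempty (FlatMod.freeMod X (n + 1) ≅ Coh.structureModule X ⊞ FlatMod.freeMod X n) := by
  refine ⟨⟨Sigma.desc (Fin.cases biprod.inl fun i => Sigma.ι (fun _ : Fin n => Coh.structureModule X) i ≫ biprod.inr),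
    biprod.desc (Sigma.ι (fun _ : Fin (n + 1) => Coh.structureModule X) 0)
      (Sigma.desc fun i => Sigma.ι (fun _ : Fin (n + 1) => Coh.structureModule X) i.succ), ?_, ?_⟩⟩
  · refine Sigma.hom_ext _ _ fun i => ?_
    refine Fin.cases ?_ (fun i => ?_) i <;> simp
  · refine biprod.hom_ext' _ _ ?_ ?_
    · simp
    · rw [biprod.inr_desc_assoc]
      refine Sigma.hom_ext _ _ fun i => ?_
      simp

variable [IsNoetherian X]

theorem isAdd_freeMod {φ : X.Modules → ℤ} (hφ : Additive.IsAdd φ) :
    ∀ n : ℕ, φ (FlatMod.freeMod X n) = n * φ (Coh.structureModule X)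
  | 0 => by
    rw [Nat.cast_zero, zero_mul]
    refine hφ.zero ((IsZero.iff_id_eq_zero _).2 (Sigma.hom_ext _ _ fun i => i.elim0))
  | n + 1 => by
    obtain ⟨e⟩ := nonempty_freeMod_succ (X := X) n
    let S : ShortComplex X.Modules := ShortComplex.mk
      (biprod.inl : Coh.structureModule X ⟶ Coh.structureModule X ⊞ FlatMod.freeMod X n) biprod.snd (by simp)
    have hS : S.ShortExact := (ShortComplex.Splitting.ofHasBinaryBiproduct _ _).shortExact
    have h := hφ.add hS (Snapper.Twist.isCoh_structureModule X)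
      (CohBasics.Closure.isCoh_of_iso e (Lib.Perfect.Coherent.isCoh_freeMod X (n + 1)))
      (Lib.Perfect.Coherent.isCoh_freeMod X n)
    rw [hφ.iso e, h, isAdd_freeMod hφ n]
    push_cast
    ring

variable {k : Type u} [Field k] [X.Over (Spec (CommRingCat.of k))] [IsProper (X ↘ Spec (CommRingCat.of k))]

/-- Powers in all slots. -/
theorem sym_replicate_pow {d : ℕ} (hd : topologicalKrullDim X ≤ d) {M : X.Modules} (hM : PicF.IsInvertible M)
    (N : ℕ) {F : X.Modules} (hF : Coh.IsCoh F) :
    ∀ j i : ℕ, topologicalKrullDim (CohB1.support F) ≤ (j + i : ℕ) →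
      sym k X d (List.replicate j (CohB1.tensorPow M N) ++ List.replicate i M) F =
        (N : ℤ) ^ j * sym k X d (List.replicate (j + i) M) F
  | 0, i, _ => by simp
  | j + 1, i, hr => by
    have hfin := Finite.cohFinite k X
    have hinv : ∀ P ∈ List.replicate j (CohB1.tensorPow M N) ++ List.replicate i M, PicF.IsInvertible P := by
      intro P hP
      rcases List.mem_append.1 hP with h | h <;> rw [List.eq_of_mem_replicate h]
      · exact TensorMod.Invertible.isInvertible_tensorPow hM N
      · exact hM
    rw [List.replicate_succ, List.cons_append,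
      Basic.sym_pow hfin hd hM hinv hF (by simpa [Nat.add_right_comm] using hr) N,
      IntNum.sym_perm (List.perm_middle.symm :
        (M :: (List.replicate j (CohB1.tensorPow M N) ++ List.replicate i M)).Perm
          (List.replicate j (CohB1.tensorPow M N) ++ M :: List.replicate i M)) F,
      ← List.replicate_succ, sym_replicate_pow hd hM N hF j (i + 1) (by rwa [← Nat.add_right_comm, Nat.add_assoc] at hr),
      show j + (i + 1) = j + 1 + i by omega, pow_succ]
    ring

variable [IrreducibleSpace X] {X' : Scheme.{u}} [X'.Over (Spec (CommRingCat.of k))]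
  [IsProper (X' ↘ Spec (CommRingCat.of k))]

/-- Pulling back along a finite flat morphism multiplies the symbol by the degree. -/
theorem sym_pullback_finite_flat (g : X' ⟶ X) (hg : g ≫ (X ↘ Spec (CommRingCat.of k)) = X' ↘ Spec (CommRingCat.of k))
    [IsFinite g] [Flat g] {r : ℕ} (hX : topologicalKrullDim X ≤ r) (hX' : topologicalKrullDim X' ≤ r)
    (l : List X.Modules) (hl : ∀ M ∈ l, PicF.IsInvertible M) (hlr : l.length = r) :
    sym k X' r (l.map (Scheme.Modules.pullback g).obj) (Coh.structureModule X') =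
      (g.finrank (genericPoint X) : ℤ) * sym k X r l (Coh.structureModule X) := by
  have : IsNoetherian X' := Curves.GlobalSections.isNoetherian_of_proper k X'
  have hfin := Finite.cohFinite k X
  have hadd := Additive.isAdd_sym hfin hX hl
  have hv := Additive.vanishBelow_sym hfin hX hl hlr
  rw [Push.sym_push g hg hX hX' l hl _ (Snapper.Twist.isCoh_structureModule X')
    ((Topology.IsInducing.subtypeVal.topologicalKrullDim_le).trans (hlr.symm ▸ hX'))]
  have hlf := H81.PushLocFree.isFinLocFree_push g
  obtain ⟨U, n, hηU, ⟨i⟩⟩ := hlf (genericPoint X)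
  rw [H81.PushLocFree.finrank_eq hηU i, ← isAdd_freeMod hadd n]
  refine Roof.eq_of_iso_on (T := Set.univ) (fun S hS h₁ h₂ h₃ => hadd.add hS h₁.1 h₂.1 h₃.1) hadd.iso
    ⟨Lib.Perfect.Coherent.isCoh_of_isFinLocFree hlf, Set.subset_univ _⟩
    ⟨Lib.Perfect.Coherent.isCoh_freeMod X n, Set.subset_univ _⟩ U
    (i ≪≫ (Modules.Free.restrictFreeIso U.ι n).symm) fun K hK => hv K hK.1 ?_
  -- the complement of a nonempty open has smaller dimension
  haveI := hK.1.2
  refine Push.dim_lt_of_pdim_lt (f := X ↘ Spec (CommRingCat.of k)) (Modules.Support.isClosed_support K) fun x hx => ?_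
  have hsp : genericPoint X ⤳ x := (genericPoint_spec X).specializes trivial
  have h1 := VarDim.Basic.pdim_lt (X ↘ Spec (CommRingCat.of k)) hsp fun h => (hK.2 hx).2 (h ▸ hηU)
  have h2 := (VarDim.Basic.pdim_le_topologicalKrullDim (X ↘ Spec (CommRingCat.of k)) isClosed_univ.isLocallyClosed
    (Set.mem_univ (genericPoint X))).trans ((Topology.IsInducing.subtypeVal.topologicalKrullDim_le).trans hX)
  have h3 : VarDim.Basic.pdim (X ↘ Spec (CommRingCat.of k)) (genericPoint X) ≤ r := by exact_mod_cast h2
  omega

end Groth.Agent.H63.SymDegree
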