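import Groth.Agent.H63.AVSymmetric
import Groth.Agent.H63.SymDegree
import Groth.Agent.H4.MulIso

/-!
# The degree of multiplication by an integer on an abelian variety

* `finrank_zpow`: `deg [d] = d^{2g}`
-/

set_option autoImplicit false

universe u

open CategoryTheory MonoidalCategory CartesianMonoidalCategory AlgebraicGeometry TopologicalSpace
open scoped MonObj GrpObj
open Groth.Agent.Lib Groth.Agent.Lib.Snapper Groth.Agent.Lib.IntTheory

namespace Groth.Agent.H63.AVDegree

variable {k : Type u} [Field k] (A : Over (Spec (CommRingCat.of k))) [GrpObj A]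
  [IsProper A.hom] [GeometricallyIntegral A.hom]

theorem finrank_zpow {g : ℕ} (hg : topologicalKrullDim A.left = g) {d : ℤ} (hd : d ≠ 0) (a : A.left) :
    ((𝟙 A : A ⟶ A) ^ d).left.finrank a = d.natAbs ^ (2 * g) := by
  obtain ⟨hfin, hflat, -⟩ := H4.MulIso.int A hd
  haveI : IsIntegral A.left := GeometricallyIntegral.isIntegral_of_subsingleton A.hom
  letI : A.left.Over (Spec (CommRingCat.of k)) := ⟨A.hom⟩
  haveI : IsProper (A.left ↘ Spec (CommRingCat.of k)) := ‹IsProper A.hom›
  haveI := Curves.GlobalSections.isNoetherian_of_proper k A.left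
  obtain ⟨L, M, hL, hM, hLM, hpull⟩ := AVSymmetric.exists_symmetric_ample A
  obtain ⟨e⟩ := hpull d
  let q := ((𝟙 A : A ⟶ A) ^ d).left
  haveI : IsFinite q := hfin
  haveI : Flat q := hflat
  let N := d.natAbs * d.natAbs
  let l := List.replicate g M
  have hl : ∀ P ∈ l, PicF.IsInvertible P := fun P hP => by rw [List.eq_of_mem_replicate hP]; exact hM
  have hO := Snapper.Twist.isCoh_structureModule A.left
  have h1 := SymDegree.sym_pullback_finite_flat (k := k) q (Over.w ((𝟙 A : A ⟶ A) ^ d)) hg.le hg.le l hl
    (List.length_replicate)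
  have h2 := SymDegree.sym_replicate_pow (k := k) hg.le hM N hO g 0
    ((Topology.IsInducing.subtypeVal.topologicalKrullDim_le).trans (hg.le.trans (by simp)))
  have h3 : Vanish.sym k A.left g (l.map (Scheme.Modules.pullback q).obj) (Coh.structureModule A.left) =
      Vanish.sym k A.left g (List.replicate g (CohB1.tensorPow M N)) (Coh.structureModule A.left) := by
    simp only [l, List.map_replicate]
    have key : ∀ j (F : A.left.Modules), Vanish.sym k A.left g (List.replicate j ((Scheme.Modules.pullback q).obj M)) F =
        Vanish.sym k A.left g (List.replicate j (CohB1.tensorPow M N)) F := by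
      intro j
      induction j with
      | zero => exact fun _ => rfl
      | succ j ih =>
        intro F
        rw [List.replicate_succ, List.replicate_succ, IntNum.sym_cons_iso e, IntNum.sym_congr_cons ih]
    exact key g _
  have hsupp : CohB1.support (Coh.structureModule A.left) = Set.univ := by
    refine Set.eq_univ_of_forall fun x => ?_
    obtain ⟨e⟩ := Cyc.SheafLen.exists_unit_stalk_equiv (X := A.left) x
    exact not_subsingleton_iff_nontrivial.2 e.toEquiv.nontrivial
  have hdim : topologicalKrullDim (CohB1.support (Coh.structureModule A.left)) = g := by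
    rw [hsupp, IsHomeomorph.topologicalKrullDim_eq _ (Homeomorph.Set.univ A.left).isHomeomorph, hg]
  have hpos : 0 < Vanish.sym k A.left g l (Coh.structureModule A.left) := by
    refine Additive.pos A.hom (Additive.isAdd_sym (Finite.cohFinite k A.left) hg.le hl)
      (Additive.vanishBelow_sym (Finite.cohFinite k A.left) hg.le hl List.length_replicate) hO hdim fun y hy => ?_
    refine Positive.sym_closure_pos hg.le l hl (fun P hP => ?_) y (hy.2.trans (by simp [l]))
    rw [List.eq_of_mem_replicate hP]
    exact ⟨L, hL, hLM⟩
  simp only [List.replicate_zero, List.append_nil, add_zero] at h2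
  rw [h3, h2] at h1
  have h4 : (q.finrank (genericPoint A.left) : ℤ) = (N : ℤ) ^ g := (mul_right_cancel₀ hpos.ne' h1).symm
  have h5 : q.finrank a = q.finrank (genericPoint A.left) :=
    (Scheme.Hom.isLocallyConstant_finrank (f := q)).apply_eq_of_preconnectedSpace _ _
  rw [h5, Nat.cast_inj (R := ℤ) |>.1 (h4.trans (Nat.cast_pow N g).symm), pow_mul, pow_two]

end Groth.Agent.H63.AVDegree
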