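import Groth.Prelude.Def_Frob
import Mathlib.AlgebraicGeometry.Morphisms.Separated
import Mathlib.FieldTheory.Finite.Basic
import Mathlib.CategoryTheory.Monoidal.Cartesian.Over
import Mathlib.CategoryTheory.Monoidal.Mon

/-!
# The `q`-Frobenius endomorphism of a scheme over a finite field

* `exists_frob`: the endomorphism that is the identity on points and `s ↦ s ^ q`; natural, and a homomorphism on group objects
-/

set_option autoImplicit false

universe u

open CategoryTheory CategoryTheory.Limits MonoidalCategory CartesianMonoidalCategory MonObj AlgebraicGeometry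

namespace Groth.Agent.H63.FrobExists

variable (p : ℕ) [Fact p.Prime]

/-- Iterates of the absolute Frobenius. -/
noncomputable def fr (X : Scheme.{u}) [FrobSch.IsCharP X p] : ℕ → (X ⟶ X)
  | 0 => 𝟙 X
  | n + 1 => fr X n ≫ FrobSch.frob X p

theorem fr_base (X : Scheme.{u}) [FrobSch.IsCharP X p] (n : ℕ) : (fr p X n).base = 𝟙 _ := by
  induction n with
  | zero => rfl
  | succ n ih =>
    rw [fr, Scheme.Hom.comp_base, ih, Category.id_comp]
    rfl

theorem fr_comp {X Y : Scheme.{u}} [FrobSch.IsCharP X p] [FrobSch.IsCharP Y p] (f : X ⟶ Y) (n : ℕ) :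
    fr p X n ≫ f = f ≫ fr p Y n := by
  induction n with
  | zero => simp [fr]
  | succ n ih => rw [fr, fr, Category.assoc, FrobSch.frob_comp, reassoc_of% ih]

theorem le_fr (X : Scheme.{u}) [FrobSch.IsCharP X p] (n : ℕ) (U : X.Opens) : U ≤ fr p X n ⁻¹ᵁ U := fun x hx => by
  show (fr p X n).base x ∈ U
  rw [fr_base]; exact hx

theorem fr_appLE (X : Scheme.{u}) [FrobSch.IsCharP X p] (n : ℕ) :
    ∀ (U : X.Opens) (h : U ≤ fr p X n ⁻¹ᵁ U) (s : Γ(X, U)), ((fr p X n).appLE U U h).hom s = s ^ p ^ n := by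
  induction n with
  | zero =>
    intro U h s
    rw [pow_zero, pow_one]
    simp [fr, Scheme.Hom.appLE]
    change ((X.presheaf.map (𝟙 _))).hom s = s
    rw [CategoryTheory.Functor.map_id]
    rfl
  | succ n ih =>
    intro U h s
    have e : (fr p X (n + 1)).appLE U U h = (FrobSch.frob X p).appLE U U le_rfl ≫ (fr p X n).appLE U U (le_fr p X n U) :=
      (Scheme.Hom.appLE_comp_appLE (fr p X n) (FrobSch.frob X p) U U U le_rfl (le_fr p X n U)).symm
    rw [e, CommRingCat.hom_comp, RingHom.comp_apply, ih U]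
    have e2 : ((FrobSch.frob X p).appLE U U le_rfl).hom s = s ^ p := by
      simp only [Scheme.Hom.appLE]
      change (((FrobSch.frob X p).app U) ≫ X.presheaf.map (𝟙 _)).hom s = s ^ p
      rw [X.presheaf.map_id, Category.comp_id]
      rfl
    rw [e2, ← pow_mul, pow_succ']

theorem fr_spec (k : Type u) [Field k] [Fintype k] [CharP k p] {e : ℕ} (he : Fintype.card k = p ^ e) :
    fr p (Spec (CommRingCat.of k)) e = 𝟙 _ := by
  apply ext_of_isAffine
  ext s
  have h := fr_appLE p (Spec (CommRingCat.of k)) e ⊤ (le_fr p _ e ⊤) s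
  have h2 : (fr p (Spec (CommRingCat.of k)) e).appTop s = s ^ p ^ e := by
    rw [← h]
    simp only [Scheme.Hom.appTop, Scheme.Hom.appLE]
    change _ = ((fr p (Spec (CommRingCat.of k)) e).app ⊤ ≫ (Spec (CommRingCat.of k)).presheaf.map (𝟙 _)).hom s
    rw [CategoryTheory.Functor.map_id, Category.comp_id]
    rfl
  rw [h2, Scheme.Hom.id_appTop, ← he]
  apply (Scheme.ΓSpecIso (CommRingCat.of k)).commRingCatIsoToRingEquiv.injective
  rw [map_pow]
  exact FiniteField.pow_card _

/-- The `q`-Frobenius of a scheme over a finite field. -/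
theorem exists_frob (k : Type u) [Field k] [Finite k] (A : Over (Spec (CommRingCat.of k))) :
    ∃ (π : A ⟶ A) (_ : π.left.base = 𝟙 _) (hle : ∀ U : A.left.Opens, U ≤ π.left ⁻¹ᵁ U),
      (∀ (U : A.left.Opens) (s : Γ(A.left, U)), (π.left.appLE U U (hle U)).hom s = s ^ Nat.card k) ∧
      ∀ [GrpObj A], IsMonHom π := by
  haveI : Fintype k := Fintype.ofFinite k
  obtain ⟨p, hp⟩ := CharP.exists k
  obtain ⟨e, hpp, hcard⟩ := FiniteField.card k p
  haveI : Fact p.Prime := ⟨hpp⟩
  haveI hX : ∀ B : Over (Spec (CommRingCat.of k)), FrobSch.IsCharP B.left p :=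
    fun B => FrobSch.IsCharP.of_hom B.hom p
  let π : ∀ B : Over (Spec (CommRingCat.of k)), B ⟶ B := fun B =>
    Over.homMk (fr p B.left e) (by rw [fr_comp, fr_spec p k hcard, Category.comp_id])
  have nat : ∀ {B C : Over (Spec (CommRingCat.of k))} (g : B ⟶ C), π B ≫ g = g ≫ π C := fun g =>
    Over.OverMorphism.ext (fr_comp p g.left e)
  refine ⟨π A, fr_base p _ e, le_fr p _ e, fun U s => ?_, fun {_} => ?_⟩
  · rw [Nat.card_eq_fintype_card, hcard]
    exact fr_appLE p _ e U _ s
  · refine ⟨?_, ?_⟩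
    · have h1 : π (𝟙_ (Over (Spec (CommRingCat.of k)))) = 𝟙 _ := toUnit_unique _ _
      rw [← nat η[A], h1, Category.id_comp]
    · have h2 : π (A ⊗ A) = π A ⊗ₘ π A := by
        apply CartesianMonoidalCategory.hom_ext
        · rw [tensorHom_fst, nat]
        · rw [tensorHom_snd, nat]
      rw [← h2]
      exact (nat μ[A]).symm

end Groth.Agent.H63.FrobExists
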