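import Groth.Agent.H63.TateEnd
import Groth.Agent.H4.HomImage
import Mathlib.RingTheory.Flat.Basic
import Mathlib.RingTheory.TensorProduct.Basic
import Mathlib.FieldTheory.Minpoly.IsIntegrallyClosed
import Mathlib.RingTheory.Polynomial.RationalRoot
import Mathlib.RingTheory.Int.Basic
import Mathlib.Algebra.EuclideanDomain.Int

/-!
# The rational endomorphism algebra

* `aeval_eq_zero`: Cayley–Hamilton; `toEnd0_injective`, `exists_smul_eq`, `isUnit_of_isFinite`, `eq_pow_minpoly`
-/

set_option autoImplicit false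

universe u

open CategoryTheory MonoidalCategory CartesianMonoidalCategory AlgebraicGeometry
open scoped MonObj GrpObj TensorProduct

namespace Groth.Agent.H63.End0Basic

variable {k : Type u} [Field k] {A : Over (Spec (CommRingCat.of k))} [GrpObj A] [IsCommMonObj A]
  [IsProper A.hom] [GeometricallyIntegral A.hom]

theorem moduleFree_finite : Module.Free ℤ (EndAV.End A) ∧ Module.Finite ℤ (EndAV.End A) := by
  obtain ⟨l, hlp, hl⟩ := HomLattice.exists_prime_ne_zero k
  haveI : Fact l.Prime := ⟨hlp⟩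
  exact ⟨HomLattice.moduleFree (AlgebraicClosure k) A A l hl, HomLattice.moduleFinite (AlgebraicClosure k) A A l hl⟩

theorem toEnd0_injective : Function.Injective (EndAV.toEnd0 (A := A)) := by
  haveI : Module.Free ℤ (EndAV.End A) := moduleFree_finite.1
  exact Algebra.TensorProduct.includeRight_injective (by rw [algebraMap_int_eq]; exact Int.cast_injective)

theorem exists_smul_eq (x : EndAV.End0 A) : ∃ (N : ℤ) (φ : EndAV.End A), N ≠ 0 ∧ (N : ℚ) • x = EndAV.toEnd0 φ := by
  induction x using TensorProduct.induction_on with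
  | zero => exact ⟨1, 0, one_ne_zero, by simp⟩
  | tmul q φ =>
    refine ⟨q.den, q.num • φ, Int.natCast_ne_zero.2 q.den_nz, ?_⟩
    rw [TensorProduct.smul_tmul', map_zsmul, EndAV.toEnd0_apply, TensorProduct.smul_tmul']
    congr 1
    rw [smul_eq_mul, zsmul_eq_mul, _root_.mul_one, Int.cast_natCast, mul_comm, Rat.mul_den_eq_num]
  | add x y hx hy =>
    obtain ⟨N, φ, hN, h⟩ := hx
    obtain ⟨N', φ', hN', h'⟩ := hy
    refine ⟨N * N', N' • φ + N • φ', mul_ne_zero hN hN', ?_⟩
    rw [map_add, map_zsmul, map_zsmul, ← h, ← h', smul_add, ← Int.cast_smul_eq_zsmul ℚ, ← Int.cast_smul_eq_zsmul ℚ,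
      smul_smul, smul_smul, Int.cast_mul, mul_comm (N : ℚ)]

theorem aeval_eq_zero (Ω : Type u) [Field Ω] [Algebra k Ω] [IsAlgClosed Ω] {g : ℕ}
    (hg : topologicalKrullDim A.left = g) (f : EndAV.End A) (P : Polynomial ℤ)
    (hP : ∀ (l : ℕ) [Fact l.Prime], (l : k) ≠ 0 →
        ∀ [Module.Free ℤ_[l] (AbDual.TateMod A l (SGA7.pt (K := k) Ω))]
          [Module.Finite ℤ_[l] (AbDual.TateMod A l (SGA7.pt (K := k) Ω))],
          (AbDual.tateMapₗ (l := l) (T := SGA7.pt (K := k) Ω) f.toHom).charpoly =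
            P.map (Int.castRingHom ℤ_[l])) : Polynomial.aeval f P = 0 := by
  obtain ⟨l, hlp, hl⟩ := HomLattice.exists_prime_ne_zero k
  haveI : Fact l.Prime := ⟨hlp⟩
  obtain ⟨h1, h2, -⟩ := HomLattice.tate_free_finite Ω A l hl hg
  haveI := h1
  haveI := h2
  haveI : Module.Free ℤ (EndAV.Hom A A) := moduleFree_finite.1
  have h0 : EndAV.End.tateRep l (SGA7.pt (K := k) Ω) (Polynomial.aeval f P) = 0 := by
    have h := LinearMap.aeval_self_charpoly (EndAV.End.tateRep l (SGA7.pt (K := k) Ω) f)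
    rw [EndAV.End.tateRep_apply, hP l hl, Polynomial.aeval_def, Polynomial.eval₂_map] at h
    rw [Polynomial.aeval_def, Polynomial.hom_eval₂, ← h]
    exact congrArg (fun φ => Polynomial.eval₂ φ _ P) (RingHom.ext_int _ _)
  by_contra hne
  haveI : NoZeroSMulDivisors ℤ (EndAV.End A) := S15656.result k A A
  exact (HomLattice.linearIndependent_tateMap Ω A A l hl (fun _ : Unit => Polynomial.aeval f P)
    (LinearIndependent.of_subsingleton () hne)).ne_zero () h0

variable [IsIntegral A.left]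

/-- An isogeny is invertible in `End⁰`. -/
theorem isUnit_of_isFinite {g : ℕ} (hg : topologicalKrullDim A.left = g) (f : EndAV.End A)
    (hf : IsFinite f.toHom.left) : IsUnit (EndAV.toEnd0 f) := by
  obtain ⟨P, -, -, hP, hc⟩ := TateEnd.exists_charpoly (AlgebraicClosure k) hg f
  have h0 := aeval_eq_zero (AlgebraicClosure k) hg f P hc
  have hne : P.coeff 0 ≠ 0 := by
    have h := hP 0
    rw [Int.cast_zero, sub_zero, ← Polynomial.coeff_zero_eq_eval_zero] at h
    rw [← h]
    haveI := hf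
    haveI := (DegreePoly.surjective_iff_isFinite A A hg hg f.toHom).1 hf
    haveI := (H4.IsogenyDim.isFinite_and_flat f.toHom le_rfl).2
    haveI : IsLocallyNoetherian A.left := LocallyOfFiniteType.isLocallyNoetherian A.hom
    rw [DegreeHom.deg_of_isFinite hf]
    exact_mod_cast Nat.one_le_iff_ne_zero.1 ((Scheme.Hom.one_le_finrank_iff_surjective f.toHom.left).2 inferInstance _)
  have h1 : Polynomial.aeval (EndAV.toEnd0 f) P = 0 := by rw [Polynomial.aeval_algHom_apply, h0, map_zero]
  have e := congrArg (Polynomial.aeval (EndAV.toEnd0 f)) (Polynomial.X_mul_divX_add P)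
  rw [map_add, map_mul, Polynomial.aeval_X, Polynomial.aeval_C, h1, add_eq_zero_iff_eq_neg, ← map_neg] at e
  have hu : IsUnit (algebraMap ℤ (EndAV.End0 A) (-P.coeff 0)) := by
    rw [eq_intCast, ← map_intCast (algebraMap ℚ (EndAV.End0 A))]
    exact ((isUnit_iff_ne_zero.2 (by exact_mod_cast neg_ne_zero.2 hne) : IsUnit ((-P.coeff 0 : ℤ) : ℚ))).map _
  rw [← e] at hu
  refine ((Commute.isUnit_mul_iff ?_).1 hu).1
  conv_lhs => rw [← Polynomial.aeval_X (R := ℤ) (EndAV.toEnd0 f)]
  exact (Commute.all (Polynomial.X : Polynomial ℤ) P.divX).map (Polynomial.aeval (EndAV.toEnd0 f))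

/-- For an irreducible minimal polynomial, the characteristic polynomial is a power of it. -/
theorem eq_pow_minpoly {g : ℕ} (hg : topologicalKrullDim A.left = g) (φ : EndAV.End A) (P : Polynomial ℤ)
    (hm : P.Monic) (hd : P.natDegree = 2 * g)
    (hP : ∀ n : ℤ, (DegreeHom.deg (EndAV.End.toHom (φ - (n : EndAV.End A))) : ℤ) = P.eval n)
    (h0 : Polynomial.aeval φ P = 0) (hirr : Irreducible (minpoly ℚ (EndAV.toEnd0 φ))) :
    P.map (Int.castRingHom ℚ) =
      minpoly ℚ (EndAV.toEnd0 φ) ^ (2 * g / (minpoly ℚ (EndAV.toEnd0 φ)).natDegree) := by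
  set x := EndAV.toEnd0 φ with hx
  set mu := minpoly ℚ x
  set PQ := P.map (Int.castRingHom ℚ) with hPQ
  have hPQm : PQ.Monic := hm.map _
  have hPx : Polynomial.aeval x PQ = 0 := by
    rw [hPQ, ← algebraMap_int_eq, Polynomial.aeval_map_algebraMap, hx, Polynomial.aeval_algHom_apply, h0, map_zero]
  have hint : IsIntegral ℚ x := ⟨PQ, hPQm, hPx⟩
  have hdeg : ∀ F : Polynomial ℤ, (DegreeHom.deg (EndAV.End.toHom (Polynomial.aeval φ F)) : ℂ) =
      ((PQ.map (algebraMap ℚ ℂ)).roots.map fun t => Polynomial.aeval t F).prod :=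
    fun F => DegreeHom.deg_aeval hg φ PQ hPQm (by rw [hPQ, hm.natDegree_map, hd]) (fun n => by
      rw [hPQ, Polynomial.eval_intCast_map, eq_intCast, Int.cast_id, ← hP n, Int.cast_natCast]) ℂ F
  have hroot : ∀ t ∈ (PQ.map (algebraMap ℚ ℂ)).roots, Polynomial.aeval t mu = 0 := by
    intro t ht
    by_contra hmut
    have htint : IsIntegral ℤ t := ⟨P, hm, by
      have := (Polynomial.mem_roots'.1 ht).2
      rwa [Polynomial.IsRoot, Polynomial.eval_map, hPQ, Polynomial.eval₂_map,
        RingHom.ext_int ((algebraMap ℚ ℂ).comp (Int.castRingHom ℚ)) (algebraMap ℤ ℂ)] at this⟩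
    have hR : minpoly ℚ t = (minpoly ℤ t).map (algebraMap ℤ ℚ) :=
      minpoly.isIntegrallyClosed_eq_field_fractions' ℚ htint
    have htQ : IsIntegral ℚ t := ⟨minpoly ℚ t, by rw [hR]; exact (minpoly.monic htint).map _, minpoly.aeval ℚ t⟩
    have hco : IsCoprime (minpoly ℚ t) mu := by
      refine ((minpoly.irreducible htQ).coprime_iff_not_dvd).2 fun h => hmut ?_
      obtain ⟨c, hc⟩ := h
      rw [hc, map_mul, minpoly.aeval, zero_mul]
    obtain ⟨a, b, hab⟩ := hco
    obtain ⟨N, hN, ha⟩ := IsLocalization.integerNormalization_spec (M := nonZeroDivisors ℤ) a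
    set a' := IsLocalization.integerNormalization (nonZeroDivisors ℤ) a
    have hval : Polynomial.aeval φ (a' * minpoly ℤ t) = Polynomial.aeval φ (Polynomial.C N) := by
      apply toEnd0_injective
      rw [← Polynomial.aeval_algHom_apply, ← Polynomial.aeval_algHom_apply, ← hx,
        ← Polynomial.aeval_map_algebraMap ℚ x, ← Polynomial.aeval_map_algebraMap ℚ x (Polynomial.C N),
        Polynomial.map_mul, ← hR, ha, Polynomial.map_C]
      have h2 := congrArg (Polynomial.aeval x) hab
      rw [map_add, map_mul (Polynomial.aeval x) b, minpoly.aeval, mul_zero, add_zero, map_one] at h2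
      rw [smul_mul_assoc, map_zsmul, h2, Polynomial.aeval_C, Algebra.algebraMap_eq_smul_one,
        eq_intCast, Int.cast_smul_eq_zsmul]
    have h3 := hdeg (a' * minpoly ℤ t)
    rw [hval, hdeg (Polynomial.C N)] at h3
    have h4 : ((PQ.map (algebraMap ℚ ℂ)).roots.map fun t' => Polynomial.aeval t' (a' * minpoly ℤ t)).prod = 0 :=
      Multiset.prod_eq_zero (Multiset.mem_map.2 ⟨t, ht, by rw [map_mul, minpoly.aeval, mul_zero]⟩)
    rw [h4, Multiset.prod_eq_zero_iff] at h3
    obtain ⟨s, -, hs⟩ := Multiset.mem_map.1 h3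
    rw [Polynomial.aeval_C, algebraMap_int_eq, eq_intCast, Int.cast_eq_zero] at hs
    exact nonZeroDivisors.ne_zero hN hs
  have hs : (PQ.map (algebraMap ℚ ℂ)).Splits := IsAlgClosed.splits _
  have hdvd : PQ ∣ mu ^ (2 * g) := by
    rw [← Polynomial.map_dvd_map' (algebraMap ℚ ℂ), Polynomial.map_pow,
      hs.eq_prod_roots_of_monic (hPQm.map _)]
    have hcard : Multiset.card (PQ.map (algebraMap ℚ ℂ)).roots = 2 * g := by
      rw [← hs.natDegree_eq_card_roots, hPQm.natDegree_map, hPQ, hm.natDegree_map, hd]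
    rw [← hcard, ← Multiset.prod_replicate, ← Multiset.map_const']
    refine Multiset.prod_dvd_prod_of_dvd _ _ fun t ht => ?_
    rw [Polynomial.dvd_iff_isRoot, Polynomial.IsRoot, Polynomial.eval_map_algebraMap]
    exact hroot t ht
  obtain ⟨i, -, hi⟩ := (dvd_prime_pow hirr.prime _).1 hdvd
  have heq : PQ = mu ^ i := Polynomial.eq_of_monic_of_associated hPQm ((minpoly.monic hint).pow i) hi
  have hdd := congrArg Polynomial.natDegree heq
  rw [Polynomial.natDegree_pow, hPQ, hm.natDegree_map, hd] at hdd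
  rw [heq, hdd, Nat.mul_div_cancel _ hirr.natDegree_pos]

end Groth.Agent.H63.End0Basic
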