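import Groth.Agent.H63.QuasiSection
import Groth.Agent.H63.End0Basic
import Mathlib.RingTheory.Artinian.Module
import Mathlib.RingTheory.Artinian.Instances
import Mathlib.RingTheory.TensorProduct.Finite

/-!
# The rational endomorphism algebra is von Neumann regular and semisimple

* `exists_regular`: every endomorphism `φ` has `ψ` with `φψφ = N φ`
* `isSemisimpleRing_of_regular`: a finite-dimensional von Neumann regular algebra is semisimple
-/

set_option autoImplicit false

universe u

open CategoryTheory CategoryTheory.Limits MonoidalCategory CartesianMonoidalCategory AlgebraicGeometry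
open scoped MonObj GrpObj TensorProduct

namespace Groth.Agent.H63.End0Regular

theorem isSemisimpleRing_of_regular (R : Type*) [Ring R] [Algebra ℚ R] [Module.Finite ℚ R]
    (h : ∀ x : R, ∃ y : R, x * y * x = x) : IsSemisimpleRing R := by
  haveI : IsArtinianRing R := IsArtinianRing.of_finite ℚ R
  rw [IsArtinianRing.isSemisimpleRing_iff_jacobson, Submodule.eq_bot_iff]
  intro x hx
  obtain ⟨y, hy⟩ := h x
  obtain ⟨n, hn⟩ := IsSemiprimaryRing.isNilpotent (R := R)
  have he : y * x ∈ Ring.jacobson R := Ideal.mul_mem_left _ y hx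
  have hidem : IsIdempotentElem (y * x) := by
    show y * x * (y * x) = y * x
    rw [mul_assoc, ← mul_assoc x, hy]
  have hpow : (y * x) ^ n ∈ Ring.jacobson R ^ n := Ideal.pow_mem_pow he _
  rw [hn] at hpow
  have h0 : (y * x) ^ n = 0 := hpow
  have h1 : y * x = 0 := by rw [← hidem.pow_succ_eq n, pow_succ, h0, zero_mul]
  rw [← hy, mul_assoc, h1, mul_zero]

variable {k : Type u} [Field k] {A : Over (Spec (CommRingCat.of k))} [GrpObj A] [IsCommMonObj A]
  [IsProper A.hom] [GeometricallyIntegral A.hom]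

theorem exists_regular (φ : EndAV.End A) :
    ∃ (ψ : EndAV.End A) (N : ℕ), 0 < N ∧ φ * ψ * φ = (N : EndAV.End A) * φ := by
  haveI : IsIntegral A.left := GeometricallyIntegral.isIntegral_of_subsingleton A.hom
  haveI : GeometricallyReduced A.hom := inferInstance
  obtain ⟨B, gB, i, hi, hic, hBp, hBg, hr⟩ := H4.HomImage.exists_image A A φ.toHom
  haveI := hi; haveI := hic; haveI := hBp; haveI := hBg
  haveI := isCommMonObj_of_isProper_of_geometricallyIntegral B
  haveI : Mono i := Over.mono_of_mono_left _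
  obtain ⟨f, hf⟩ := H4.HomImage.exists_factor i φ.toHom hr.ge
  haveI : IsMonHom f := by
    refine H4.AVHom.isMonHom_of_pointed f ?_
    rw [← cancel_mono i, Category.assoc, hf, IsMonHom.one_hom, IsMonHom.one_hom]
  haveI : Surjective f.left := ⟨fun c => by
    obtain ⟨a, ha⟩ := hr.le ⟨c, rfl⟩
    refine ⟨a, i.left.isClosedEmbedding.injective ?_⟩
    rw [← ha, ← hf, Over.comp_left, Scheme.Hom.comp_apply]⟩
  obtain ⟨-, -, -, -, -, -, -, p, -, d, hp, -, hd, hip, -⟩ := Poincare.exists_complement i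
  haveI := hp
  obtain ⟨s, n, hs, hn, hsf⟩ := QuasiSection.exists_quasiSection f
  haveI := hs
  refine ⟨EndAV.End.of (p ≫ s), d * n, Nat.mul_pos hd hn, EndAV.End.ext ?_⟩
  rw [EndAV.End.toHom_mul, EndAV.End.toHom_mul, EndAV.End.toHom_mul, EndAV.End.toHom_of,
    EndAV.End.toHom_natCast, Poincare.comp_pow_id, ← hf]
  simp only [Category.assoc]
  haveI : IsMonHom (f ≫ i) := inferInstance
  rw [reassoc_of% hsf, reassoc_of% hip, Poincare.pow_id_comp i n, MonObj.comp_pow, MonObj.comp_pow,
    Poincare.pow_id_comp i d, MonObj.comp_pow, ← pow_mul]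

theorem exists_regular0 (x : EndAV.End0 A) : ∃ y, x * y * x = x := by
  obtain ⟨N, φ, hN, e⟩ := End0Basic.exists_smul_eq x
  obtain ⟨ψ, M, hM, h⟩ := exists_regular φ
  refine ⟨((N : ℚ) * (M : ℚ)⁻¹) • EndAV.toEnd0 ψ, ?_⟩
  have h' : EndAV.toEnd0 φ * EndAV.toEnd0 ψ * EndAV.toEnd0 φ = (M : ℚ) • EndAV.toEnd0 φ := by
    rw [← map_mul, ← map_mul, h, map_mul, map_natCast, ← nsmul_eq_mul, Nat.cast_smul_eq_nsmul ℚ]
  have hN' : (N : ℚ) ≠ 0 := Int.cast_ne_zero.2 hN
  have hM' : (M : ℚ) ≠ 0 := Nat.cast_ne_zero.2 hM.ne'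
  have hx : x = (N : ℚ)⁻¹ • EndAV.toEnd0 φ := by rw [← e, inv_smul_smul₀ hN']
  rw [hx]
  simp only [smul_mul_assoc, mul_smul_comm, smul_smul, h']
  congr 1
  field_simp

theorem isSemisimpleRing_end0 : IsSemisimpleRing (EndAV.End0 A) := by
  haveI : Module.Finite ℤ (EndAV.End A) := End0Basic.moduleFree_finite.2
  exact isSemisimpleRing_of_regular _ exists_regular0

end Groth.Agent.H63.End0Regular
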