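import Groth.Agent.H63.CurveDeg
import Groth.Agent.H63.AVBaseChange
import Groth.Agent.H4.TateDiv
import Groth.Agent.S12028
import Groth.Agent.S12029
import Groth.Agent.S15656
import Groth.Agent.S12397

/-!
# `Hom(A, B)` is a lattice acting faithfully on Tate modules

* `linearIndependent_tateMap`, `moduleFinite`, `moduleFree`, `finrank_le`, `tate_free_finite`
-/

set_option autoImplicit false

universe u

open CategoryTheory MonoidalCategory CartesianMonoidalCategory AlgebraicGeometry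
open scoped MonObj GrpObj

namespace Groth.Agent.H63.HomLattice

variable {k : Type u} [Field k] (Ω : Type u) [Field Ω] [Algebra k Ω] [IsAlgClosed Ω]
  (A B : Over (Spec (CommRingCat.of k)))
  [GrpObj A] [IsCommMonObj A] [IsProper A.hom] [GeometricallyIntegral A.hom]
  [GrpObj B] [IsCommMonObj B] [IsProper B.hom] [GeometricallyIntegral B.hom]

include Ω

omit [IsAlgClosed Ω] [IsCommMonObj A] [IsCommMonObj B] in
theorem cast_ne_zero {l : ℕ} (hl : (l : k) ≠ 0) : (l : Ω) ≠ 0 := by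
  rw [← map_natCast (algebraMap k Ω)]
  exact fun h => hl ((algebraMap k Ω).injective (h.trans (map_zero _).symm))

/-- A positive form on `Hom(A, B)` over any field. -/
theorem exists_form :
    ∃ b : EndAV.Hom A B →+ EndAV.Hom A B →+ ℤ, (∀ x y, b x y = b y x) ∧ ∀ x, x ≠ 0 → 0 < b x x := by
  haveI := AVBaseChange.isProper_bc Ω A
  haveI := AVBaseChange.isProper_bc Ω B
  haveI := AVBaseChange.geometricallyIntegral_bc Ω A
  haveI := AVBaseChange.geometricallyIntegral_bc Ω B
  haveI := AVBaseChange.isCommMonObj_bc Ω A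
  haveI := AVBaseChange.isCommMonObj_bc Ω B
  obtain ⟨b, hs, hp⟩ := CurveDeg.exists_form (AVBaseChange.bc Ω A) (AVBaseChange.bc Ω B)
  let F := AVBaseChange.bcHom Ω A B
  refine ⟨AddMonoidHom.mk' (fun x => (b (F x)).comp F) fun x y => ?_, fun x y => hs _ _, fun x hx => ?_⟩
  · ext z; simp
  · exact hp (F x) fun h => hx (AVBaseChange.bcHom_injective Ω A B (h.trans (map_zero F).symm))

variable (l : ℕ) [Fact l.Prime]

/-- The Tate module is free of rank `2g`. -/
theorem tate_free_finite (hl : (l : k) ≠ 0) {g : ℕ} (hg : topologicalKrullDim A.left = g) :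
    Module.Free ℤ_[l] (AbDual.TateMod A l (SGA7.pt (K := k) Ω)) ∧
      Module.Finite ℤ_[l] (AbDual.TateMod A l (SGA7.pt (K := k) Ω)) ∧
      Module.finrank ℤ_[l] (AbDual.TateMod A l (SGA7.pt (K := k) Ω)) = 2 * g := by
  haveI := AVBaseChange.isProper_bc Ω A
  haveI := AVBaseChange.geometricallyIntegral_bc Ω A
  haveI := AVBaseChange.isCommMonObj_bc Ω A
  obtain ⟨h1, h2, h3⟩ := S12397.result Ω l (cast_ne_zero Ω hl) (AVBaseChange.bc Ω A) g
    (AVBaseChange.topologicalKrullDim_bc Ω A hg)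
  let e := AVBaseChange.tateEquiv Ω A l
  exact ⟨Module.Free.of_equiv e.symm, Module.Finite.equiv e.symm, e.finrank_eq.trans h3⟩

omit [IsAlgClosed Ω] [IsProper A.hom] [GeometricallyIntegral A.hom] [IsProper B.hom]
  [GeometricallyIntegral B.hom] in
/-- `Hom(T A, T B)` inside `End(T A × T B)`. -/
noncomputable def toEnd :
    (AbDual.TateMod A l (SGA7.pt (K := k) Ω) →ₗ[ℤ_[l]] AbDual.TateMod B l (SGA7.pt (K := k) Ω)) →ₗ[ℤ_[l]]
      Module.End ℤ_[l] (AbDual.TateMod A l (SGA7.pt (K := k) Ω) × AbDual.TateMod B l (SGA7.pt (K := k) Ω)) where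
  toFun u := LinearMap.inr _ _ _ ∘ₗ u ∘ₗ LinearMap.fst _ _ _
  map_add' u v := by ext <;> simp
  map_smul' a u := by ext <;> simp

/-- The representation used for the lattice lemmas. -/
noncomputable def rep : EndAV.Hom A B →+
    Module.End ℤ_[l] (AbDual.TateMod A l (SGA7.pt (K := k) Ω) × AbDual.TateMod B l (SGA7.pt (K := k) Ω)) :=
  (toEnd Ω A B l).toAddMonoidHom.comp (EndAV.Hom.tateMap l (SGA7.pt (K := k) Ω))

theorem rep_div (hl : (l : k) ≠ 0) (β : EndAV.Hom A B) (n : ℕ)
    (h : ∀ v, ∃ w, rep Ω A B l β v = ((l : ℤ_[l]) ^ n) • w) : ∃ β₁, β = (l ^ n) • β₁ := by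
  choose w hw using fun x : AbDual.TateMod A l (SGA7.pt (K := k) Ω) => h (x, 0)
  have hw' : ∀ x, AbDual.tateMapₗ (l := l) (T := SGA7.pt (K := k) Ω) β.toHom x = ((l : ℤ_[l]) ^ n) • (w x).2 :=
    fun x => congrArg Prod.snd (hw x)
  have hinj : ∀ a b : AbDual.TateMod B l (SGA7.pt (K := k) Ω), ((l : ℤ_[l]) ^ n) • a = ((l : ℤ_[l]) ^ n) • b → a = b :=
    fun a b e => sub_eq_zero.1 (H4.TateBasic.pow_smul_eq_zero _ n (by rw [smul_sub, e, sub_self]))
  let u : AbDual.TateMod A l (SGA7.pt (K := k) Ω) →ₗ[ℤ_[l]] AbDual.TateMod B l (SGA7.pt (K := k) Ω) :=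
    { toFun := fun x => (w x).2
      map_add' := fun x y => hinj _ _ (by rw [smul_add, ← hw', ← hw', ← hw', map_add])
      map_smul' := fun a x => hinj _ _ (by rw [RingHom.id_apply, ← hw', map_smul, hw', smul_comm]) }
  obtain ⟨φ, hmon, hφ⟩ := H4.TateDiv.exists_div (Groth.Agent.Lib.GrpSch.extBase k Ω) hl β.toHom n u (LinearMap.ext hw')
  haveI := hmon
  refine ⟨EndAV.Hom.of φ, EndAV.Hom.ext ?_⟩
  rw [EndAV.Hom.toHom_nsmul, hφ, MonObj.pow_comp, Category.id_comp]
  rfl

theorem linearIndependent_tateMap (hl : (l : k) ≠ 0) {J : Type*} (a : J → EndAV.Hom A B)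
    (ha : LinearIndependent ℤ a) :
    LinearIndependent ℤ_[l] fun i => EndAV.Hom.tateMap (A := A) (B := B) l (SGA7.pt (K := k) Ω) (a i) := by
  obtain ⟨b, hs, hp⟩ := exists_form Ω A B
  exact LinearIndependent.of_comp (toEnd Ω A B l)
    (S12028.result l _ b hs hp _ (rep Ω A B l) (rep_div Ω A B l hl) J a ha)

theorem moduleFinite (hl : (l : k) ≠ 0) : Module.Finite ℤ (EndAV.Hom A B) := by
  haveI : IsIntegral A.left := GeometricallyIntegral.isIntegral_of_subsingleton A.hom
  haveI : IsIntegral B.left := GeometricallyIntegral.isIntegral_of_subsingleton B.hom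
  obtain ⟨g, hg⟩ := AVIsogeny.exists_dim (A := A)
  obtain ⟨h, hh⟩ := AVIsogeny.exists_dim (A := B)
  haveI := (tate_free_finite Ω A l hl hg).2.1
  haveI := (tate_free_finite Ω B l hl hh).2.1
  obtain ⟨b, hs, hp⟩ := exists_form Ω A B
  exact S12029.result l _ b hs hp _ (rep Ω A B l) (rep_div Ω A B l hl)

theorem moduleFree (hl : (l : k) ≠ 0) : Module.Free ℤ (EndAV.Hom A B) := by
  haveI := moduleFinite Ω A B l hl
  haveI := S15656.result k A B
  exact Module.free_of_finite_type_torsion_free'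

theorem finrank_le (hl : (l : k) ≠ 0) {g h : ℕ} (hg : topologicalKrullDim A.left = g)
    (hh : topologicalKrullDim B.left = h) : Module.finrank ℤ (EndAV.Hom A B) ≤ 4 * g * h := by
  obtain ⟨hA1, hA2, hA3⟩ := tate_free_finite Ω A l hl hg
  obtain ⟨hB1, hB2, hB3⟩ := tate_free_finite Ω B l hl hh
  haveI := moduleFinite Ω A B l hl
  haveI := moduleFree Ω A B l hl
  have h1 := (linearIndependent_tateMap Ω A B l hl _ (Module.finBasis ℤ (EndAV.Hom A B)).linearIndependent).fintype_card_le_finrank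
  rw [Fintype.card_fin, Module.finrank_linearMap, hA3, hB3] at h1
  calc _ ≤ 2 * g * (2 * h) := h1
    _ = 4 * g * h := by ring

end Groth.Agent.H63.HomLattice

namespace Groth.Agent.H63.HomLattice

theorem exists_prime_ne_zero (k : Type u) [Field k] : ∃ l : ℕ, l.Prime ∧ (l : k) ≠ 0 := by
  by_cases h2 : ((2 : ℕ) : k) = 0
  · refine ⟨3, Nat.prime_three, fun h3 => one_ne_zero (α := k) ?_⟩
    have e : ((3 : ℕ) : k) = ((2 : ℕ) : k) + 1 := by norm_num
    rwa [e, h2, zero_add] at h3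
  · exact ⟨2, Nat.prime_two, h2⟩

end Groth.Agent.H63.HomLattice
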