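import Groth.Agent.H63.Coord
import Groth.Agent.H47.EtaleLocus
import Groth.Agent.Lib.GrpSch.Basic
import Groth.Agent.Lib.GrpSch.SmoothReduced
import Groth.Agent.Lib.VarDim.Fibre
import Groth.Agent.H75.RedKer
import Groth.Agent.Lib.SourceDescent.Scheme
import Mathlib.AlgebraicGeometry.ZariskisMainTheorem
import Mathlib.AlgebraicGeometry.Geometrically.Integral

/-!
# A transversal to an abelian subvariety

* `exists_transversal`: there is a closed subvariety `Z ⊆ A` such that `(b, z) ↦ z / i(b)` from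
  `B × Z` to `A` is finite étale over a nonempty open of `A`
-/

set_option autoImplicit false

universe u

open CategoryTheory CategoryTheory.Limits MonoidalCategory CartesianMonoidalCategory AlgebraicGeometry
open scoped MonObj GrpObj
open Groth.Agent.Lib Groth.Agent.Lib.VarDim.Basic

namespace Groth.Agent.H63.Transversal

variable {k : Type u} [Field k]

/-- The trdeg of the image of a point at which a map is quasi-finite. -/
theorem pdim_apply_eq {X Y : Scheme.{u}} (qX : X ⟶ Spec (CommRingCat.of k)) (qY : Y ⟶ Spec (CommRingCat.of k))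
    [LocallyOfFiniteType qX] (φ : X ⟶ Y) [LocallyQuasiFinite φ] [LocallyOfFiniteType φ] (h : φ ≫ qY = qX) (x : X) :
    pdim qY (φ x) = pdim qX x := by
  have h0 : tdAt φ x = 0 := by
    have hd := (VarDim.Fibre.topologicalKrullDim_fibre_le_iff φ (φ x) 0).1 ?_ x rfl
    · exact_mod_cast le_antisymm hd (by exact_mod_cast Nat.zero_le _)
    · haveI : DiscreteTopology ↥(φ.base ⁻¹' {φ x}) := (φ.isDiscrete_preimage_singleton _).1
      exact (topologicalKrullDim_zero_of_discreteTopology _)
  rw [VarDim.Fibre.pdim_eq_add qX qY φ h x, h0, add_zero]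

variable {A B : Over (Spec (CommRingCat.of k))} [GrpObj A] [GrpObj B] [IsProper A.hom] [IsProper B.hom]
  [GeometricallyIntegral A.hom] [GeometricallyIntegral B.hom] (i : B ⟶ A) [IsMonHom i] [IsClosedImmersion i.left]

/-- `(b, a) ↦ a / i(b)`. -/
noncomputable def sub : B ⊗ A ⟶ A := snd B A * (fst B A ≫ i)⁻¹

theorem flat_sub : Flat (sub i).left := by
  let s : B ⊗ A ⟶ B ⊗ A := lift (fst B A) (sub i)
  let t : B ⊗ A ⟶ B ⊗ A := lift (fst B A) (snd B A * (fst B A ≫ i))
  have hst : s ≫ t = 𝟙 _ := by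
    apply CartesianMonoidalCategory.hom_ext
    · simp [s, t]
    · simp only [s, t, Category.assoc, lift_snd, MonObj.comp_mul, lift_fst_assoc, Category.id_comp]
      simp only [sub, _root_.inv_mul_cancel_right]
  have hts : t ≫ s = 𝟙 _ := by
    apply CartesianMonoidalCategory.hom_ext
    · simp [s, t]
    · simp only [s, t, Category.assoc, lift_snd, sub, MonObj.comp_mul, GrpObj.comp_inv, lift_fst_assoc,
        Category.id_comp, _root_.mul_inv_cancel_right]
  haveI : IsIso s := ⟨t, hst, hts⟩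
  haveI : IsIso s.left := inferInstanceAs (IsIso ((Over.forget _).map s))
  haveI : Smooth B.hom := by
    haveI : GeometricallyReduced B.hom := inferInstance
    exact H4.HomImage.smooth_of_geometricallyReduced B
  haveI : Flat (snd B A).left := GrpSch.snd_left_of (P := @Flat) A inferInstance
  have e : sub i = s ≫ snd B A := by simp [s]
  rw [e, Over.comp_left]
  infer_instance

theorem mem_range_whiskerLeft {Z : Over (Spec (CommRingCat.of k))} (z : Z ⟶ A) [IsClosedImmersion z.left]
    (p : (B ⊗ A).left) (h : (snd B A).left p ∈ Set.range z.left) : p ∈ Set.range (B ◁ z).left := by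
  let T : Over (Spec (CommRingCat.of k)) := Over.mk ((B ⊗ A).left.fromSpecResidueField p ≫ (B ⊗ A).hom)
  let t : T ⟶ B ⊗ A := Over.homMk ((B ⊗ A).left.fromSpecResidueField p) rfl
  haveI : IsReduced T.left := inferInstanceAs (IsReduced (Spec ((B ⊗ A).left.residueField p)))
  obtain ⟨g, hg⟩ := H4.HomImage.exists_factor z (t ≫ snd B A) (by
    rintro _ ⟨x, rfl⟩
    rw [Over.comp_left, Scheme.Hom.comp_apply]
    show (snd B A).left ((B ⊗ A).left.fromSpecResidueField p x) ∈ _
    rwa [Scheme.fromSpecResidueField_apply])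
  let x₀ : T.left := IsLocalRing.closedPoint ((B ⊗ A).left.residueField p)
  refine ⟨(lift (t ≫ fst B A) g).left x₀, ?_⟩
  rw [← Scheme.Hom.comp_apply, ← Over.comp_left, lift_whiskerLeft, hg, lift_comp_fst_snd]
  exact Scheme.fromSpecResidueField_apply p _

omit [GrpObj A] [IsProper A.hom] [GeometricallyIntegral A.hom] in
theorem mem_range_constSection {P : Over (Spec (CommRingCat.of k))} (o : 𝟙_ (Over (Spec (CommRingCat.of k))) ⟶ P)
    [IsClosedImmersion o.left] (p : (A ⊗ P).left) (h : (snd A P).left p ∈ Set.range o.left) :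
    p ∈ Set.range (lift (𝟙 A) (toUnit A ≫ o)).left := by
  let T : Over (Spec (CommRingCat.of k)) := Over.mk ((A ⊗ P).left.fromSpecResidueField p ≫ (A ⊗ P).hom)
  let t : T ⟶ A ⊗ P := Over.homMk ((A ⊗ P).left.fromSpecResidueField p) rfl
  haveI : IsReduced T.left := inferInstanceAs (IsReduced (Spec ((A ⊗ P).left.residueField p)))
  obtain ⟨g, hg⟩ := H4.HomImage.exists_factor o (t ≫ snd A P) (by
    rintro _ ⟨x, rfl⟩
    rw [Over.comp_left, Scheme.Hom.comp_apply]
    show (snd A P).left ((A ⊗ P).left.fromSpecResidueField p x) ∈ _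
    rwa [Scheme.fromSpecResidueField_apply])
  let x₀ : T.left := IsLocalRing.closedPoint ((A ⊗ P).left.residueField p)
  refine ⟨(t ≫ fst A P).left x₀, ?_⟩
  rw [← Scheme.Hom.comp_apply, ← Over.comp_left, comp_lift, Category.comp_id, ← Category.assoc,
    toUnit_unique ((t ≫ fst A P) ≫ toUnit A) g, hg, lift_comp_fst_snd]
  exact Scheme.fromSpecResidueField_apply p _

theorem exists_isIso_restrict_open {X Y : Scheme.{u}} (j : X ⟶ Y) [IsClosedImmersion j] (U : Y.Opens)
    [IsReduced (U : Scheme.{u})] (h : ∀ y ∈ U, y ∈ Set.range j) : IsIso (j ∣_ U) := by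
  haveI : Surjective (j ∣_ U) := ⟨fun y => by
    obtain ⟨x, hx⟩ := h y.1 y.2
    refine ⟨⟨x, show j x ∈ U from hx ▸ y.2⟩, Subtype.ext ?_⟩
    rw [← Scheme.Opens.ι_apply, ← Scheme.Hom.comp_apply, morphismRestrict_ι]
    exact hx⟩
  exact isIso_of_isClosedImmersion_of_surjective (j ∣_ U)

theorem etale_comp_of_isPullback {P X Y T T' : Scheme.{u}} {m : P ⟶ X} {Φ : X ⟶ Y} {q : P ⟶ T} {c : T ⟶ Y}
    (h : IsPullback m q Φ c) [Etale q] (c' : T' ⟶ Y) (j : T ≅ T') (hj : j.hom ≫ c' = c) :
    Etale (pullback.snd Φ c') := by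
  have h' : IsPullback m (q ≫ j.hom) Φ c' :=
    h.of_iso (Iso.refl _) (Iso.refl _) j (Iso.refl _) (by simp) (by simp) (by simp) (by simp [hj])
  rw [← h'.isoPullback_inv_snd]
  infer_instance

set_option maxHeartbeats 1600000 in
/-- A transversal closed subvariety. -/
theorem exists_transversal :
    ∃ (Z : Over (Spec (CommRingCat.of k))) (z : Z ⟶ A) (V : A.left.Opens),
      IsClosedImmersion z.left ∧ Nonempty V ∧ Nonempty (((B ◁ z) ≫ sub i).left ⁻¹ᵁ V) ∧
        IsFinite (Coord.opRes ((B ◁ z) ≫ sub i) V).left ∧ Etale (Coord.opRes ((B ◁ z) ≫ sub i) V).left := by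
  haveI : IsIntegral A.left := GeometricallyIntegral.isIntegral_of_subsingleton A.hom
  haveI : IsLocallyNoetherian A.left := LocallyOfFiniteType.isLocallyNoetherian A.hom
  haveI : Smooth B.hom := by
    haveI : GeometricallyReduced B.hom := inferInstance
    exact H4.HomImage.smooth_of_geometricallyReduced B
  haveI : Smooth A.hom := by
    haveI : GeometricallyReduced A.hom := inferInstance
    exact H4.HomImage.smooth_of_geometricallyReduced A
  obtain ⟨n, U, f, hxU, -, hf⟩ := Coord.exists_coord i (η[B].left (IsLocalRing.closedPoint k))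
  haveI := hf
  let P := Coord.aff (k := k) n
  let u : Coord.op U ⟶ A := Coord.opι U
  haveI : IsOpenImmersion u.left := inferInstanceAs (IsOpenImmersion U.ι)
  haveI : Mono u := Over.mono_of_mono_left _
  let Φ : B ⊗ Coord.op U ⟶ A ⊗ P := lift ((B ◁ u) ≫ sub i) (snd B (Coord.op U) ≫ f)
  -- local finiteness
  haveI : LocallyOfFiniteType (Coord.op U).hom := inferInstanceAs (LocallyOfFiniteType (U.ι ≫ A.hom))
  haveI : LocallyOfFiniteType (B ⊗ Coord.op U).hom := inferInstanceAs (LocallyOfFiniteType (pullback.fst B.hom (Coord.op U).hom ≫ B.hom))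
  haveI : LocallyOfFiniteType (A ⊗ P).hom := inferInstanceAs (LocallyOfFiniteType (pullback.fst A.hom P.hom ≫ A.hom))
  haveI : IsLocallyNoetherian (B ⊗ Coord.op U).left := LocallyOfFiniteType.isLocallyNoetherian (B ⊗ Coord.op U).hom
  haveI : IsLocallyNoetherian (A ⊗ P).left := LocallyOfFiniteType.isLocallyNoetherian (A ⊗ P).hom
  haveI : LocallyOfFiniteType (Φ.left ≫ (A ⊗ P).hom) := by rw [Over.w]; infer_instance
  haveI : LocallyOfFiniteType Φ.left := locallyOfFiniteType_of_comp _ (A ⊗ P).hom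
  haveI := Groth.Agent.H34.EtaleAt.locallyOfFinitePresentation Φ.left
  haveI : Flat ((B ◁ u).left) := GrpSch.whiskerLeft_left_of (P := @Flat) B u inferInstance
  haveI := flat_sub i
  haveI : Flat (Φ.left ≫ (fst A P).left) := by
    rw [← Over.comp_left, lift_fst, Over.comp_left]; infer_instance
  -- the zero fibre
  let W := i.left ⁻¹ᵁ U
  let eP : P ⟶ A ⊗ P := lift (toUnit P ≫ η[A]) (𝟙 P)
  let m : Coord.op W ⟶ B ⊗ Coord.op U := lift (Coord.opι W) (Coord.opRes i U)
  have hm1 : m ≫ fst B (Coord.op U) = Coord.opι W := lift_fst _ _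
  have hm2 : m ≫ snd B (Coord.op U) = Coord.opRes i U := lift_snd _ _
  have hcomm : m ≫ Φ = (Coord.opRes i U ≫ f) ≫ eP := by
    apply CartesianMonoidalCategory.hom_ext
    · simp only [Φ, eP, Category.assoc, lift_fst, lift_fst_assoc, sub, MonObj.comp_mul, GrpObj.comp_inv,
        whiskerLeft_fst_assoc, whiskerLeft_snd]
      rw [← Category.assoc m, hm2, ← Category.assoc m, hm1]
      show (Coord.opRes i U ≫ u) * _ = _
      rw [Coord.opRes_ι, mul_inv_cancel, ← Category.assoc, ← Category.assoc, toUnit_unique ((Coord.opRes i U ≫ f) ≫ toUnit P) (toUnit _)]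
      exact Hom.one_def
    · simp only [Φ, eP, Category.assoc, lift_snd, Category.comp_id]
      rw [← Category.assoc, hm2]
      exact congrArg (Coord.opRes i U ≫ ·) (Category.comp_id f).symm
  have hsqW : IsPullback (Coord.opRes i U) (Coord.opι W) u i := by
    refine IsPullback.of_map (Over.forget _) (Coord.opRes_ι i U) ?_
    exact isPullback_morphismRestrict i.left U
  have hpb : IsPullback m (Coord.opRes i U ≫ f) Φ eP := by
    have hmono : Mono m := by
      haveI : Mono (Coord.opι W) := (Over.forget _).mono_of_mono_map (inferInstanceAs (Mono W.ι))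
      haveI : Mono (m ≫ fst B (Coord.op U)) := hm1 ▸ inferInstance
      exact mono_of_mono m (fst B (Coord.op U))
    have key : ∀ c : PullbackCone Φ eP, (c.fst ≫ snd B (Coord.op U)) ≫ u = (c.fst ≫ fst B (Coord.op U)) ≫ i := fun c => by
      have h := congrArg (· ≫ fst A P) c.condition
      simp only [Φ, eP, Category.assoc, lift_fst, sub, MonObj.comp_mul, GrpObj.comp_inv,
        whiskerLeft_fst_assoc, whiskerLeft_snd] at h
      rw [← Category.assoc c.snd, toUnit_unique (c.snd ≫ toUnit P) (toUnit _)] at h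
      rw [Category.assoc, Category.assoc, ← mul_inv_eq_one]
      exact h.trans Hom.one_def.symm
    refine IsPullback.of_isLimit' ⟨hcomm⟩ (PullbackCone.IsLimit.mk _ (fun c => hsqW.lift _ _ (key c)) (fun c => ?_)
      (fun c => ?_) (fun c r hr _ => ?_))
    · apply CartesianMonoidalCategory.hom_ext
      · rw [Category.assoc, hm1, hsqW.lift_snd]
      · rw [Category.assoc, hm2, hsqW.lift_fst]
    · have h := congrArg (· ≫ snd A P) c.condition
      simp only [Φ, eP, Category.assoc, lift_snd, Category.comp_id] at h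
      rw [← Category.assoc, hsqW.lift_fst, Category.assoc, h]
      exact Category.comp_id _
    · rw [← cancel_mono m, hr]
      apply CartesianMonoidalCategory.hom_ext
      · rw [Category.assoc, hm1, hsqW.lift_snd]
      · rw [Category.assoc, hm2, hsqW.lift_fst]
  have hzero : IsPullback eP (toUnit P) (fst A P) η[A] := by
    refine IsPullback.of_isLimit' ⟨lift_fst _ _⟩ (PullbackCone.IsLimit.mk _ (fun c => c.fst ≫ snd A P) (fun c => ?_)
      (fun c => toUnit_unique _ _) (fun c r hr _ => ?_))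
    · apply CartesianMonoidalCategory.hom_ext
      · simp only [eP, Category.assoc, lift_fst]
        rw [c.condition, ← Category.assoc (snd A P) (toUnit P), ← Category.assoc c.fst]
        exact congrArg (· ≫ η[A]) (toUnit_unique _ _)
      · simp [eP]
    · rw [← hr]; simp [eP]
  let ε : Spec (CommRingCat.of k) ⟶ A.left := η[A].left
  let s₀ : A.left := ε (IsLocalRing.closedPoint k)
  let ψ : A.left.residueField s₀ ⟶ CommRingCat.of k :=
    A.left.descResidueField (Scheme.stalkClosedPointTo ε)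
  have hψ : Spec.map ψ ≫ A.left.fromSpecResidueField s₀ = η[A].left :=
    Scheme.descResidueField_stalkClosedPointTo_fromSpecResidueField k A.left ε
  haveI : IsIso ψ := by
    let κ : CommRingCat.of k ⟶ A.left.residueField s₀ := Spec.preimage (A.left.fromSpecResidueField s₀ ≫ A.hom)
    have hκ : κ ≫ ψ = 𝟙 _ := Spec.map_injective (by
      rw [Spec.map_comp, Spec.map_preimage, ← Category.assoc, hψ, Over.w η[A], Spec.map_id]
      rfl)
    exact (ConcreteCategory.isIso_iff_bijective ψ).2 ⟨ψ.hom.injective,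
      fun r => ⟨κ r, congr($hκ r)⟩⟩
  let ι₀ := A.left.fromSpecResidueField s₀
  haveI hψi : IsIso (Spec.map ψ) := by infer_instance
  let eψ : Spec (CommRingCat.of k) ≅ Spec (A.left.residueField s₀) := asIso (Spec.map ψ)
  have hg := hzero.map (Over.forget _)
  have hg' : IsPullback eP.left ((toUnit P).left ≫ Spec.map ψ) (fst A P).left ι₀ :=
    hg.of_iso (Iso.refl _) (Iso.refl _) eψ (Iso.refl _) (by simp) (by simp [eψ])
      (by simp) (by simpa [eψ, ι₀] using hψ.symm)
  haveI : Etale ((Over.forget (Spec (CommRingCat.of k))).map (Coord.opRes i U ≫ f)) := hf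
  have hloc : s₀ ∈ {s : A.left | Etale (Groth.Agent.H47.FibreLocus.bcMap Φ.left (fst A P).left (A.left.fromSpecResidueField s))} :=
    etale_comp_of_isPullback (hpb.map (Over.forget _)) _ hg'.isoPullback hg'.isoPullback_hom_fst
  rw [H47.EtaleLocus.setOf_etale_eq] at hloc
  -- the base change along a constant section of the affine space
  let eA₀ : Spec (CommRingCat.of k) ⟶ (U : Scheme.{u}) := IsOpenImmersion.lift U.ι ε (by
      rintro _ ⟨t, rfl⟩
      rw [Scheme.Opens.range_ι]
      have he : i.left (η[B].left (IsLocalRing.closedPoint k)) = η[A].left (IsLocalRing.closedPoint k) := by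
        rw [← Scheme.Hom.comp_apply, ← Over.comp_left, IsMonHom.one_hom]
      show η[A].left t ∈ U
      rw [Subsingleton.elim (α := Spec (CommRingCat.of k)) t (IsLocalRing.closedPoint k), ← he]
      exact hxU)
  let eA : 𝟙_ (Over (Spec (CommRingCat.of k))) ⟶ Coord.op U := Over.homMk eA₀ (by
      show eA₀ ≫ U.ι ≫ A.hom = _
      rw [IsOpenImmersion.lift_fac_assoc]
      exact Over.w η[A])
  have heA : eA ≫ u = η[A] := Over.OverMorphism.ext (IsOpenImmersion.lift_fac U.ι ε _)
  let o : 𝟙_ (Over (Spec (CommRingCat.of k))) ⟶ P := eA ≫ f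
  haveI : IsSeparated P.hom := inferInstanceAs (IsSeparated (Spec.map _))
  haveI : IsClosedImmersion o.left := by
    haveI : IsClosedImmersion (o.left ≫ P.hom) := by
      rw [Over.w o]; exact inferInstanceAs (IsClosedImmersion (𝟙 _))
    exact IsClosedImmersion.of_comp o.left P.hom
  let z₀ : A ⟶ A ⊗ P := lift (𝟙 A) (toUnit A ≫ o)
  haveI : IsClosedImmersion z₀.left := by
    haveI : IsSeparated (fst A P).left := GrpSch.fst_left_of (P := @IsSeparated) A inferInstance
    haveI : IsClosedImmersion (z₀.left ≫ (fst A P).left) := by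
      rw [← Over.comp_left, lift_fst]; exact inferInstanceAs (IsClosedImmersion (𝟙 A.left))
    exact IsClosedImmersion.of_comp z₀.left (fst A P).left
  let Y := pullback Φ.left z₀.left
  let jY : Y ⟶ (B ⊗ Coord.op U).left := pullback.fst Φ.left z₀.left
  let q : Y ⟶ A.left := pullback.snd Φ.left z₀.left
  haveI : IsClosedImmersion jY := inferInstanceAs (IsClosedImmersion (pullback.fst Φ.left z₀.left))
  haveI : LocallyOfFiniteType q := inferInstanceAs (LocallyOfFiniteType (pullback.snd Φ.left z₀.left))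
  haveI : IsLocallyNoetherian Y := LocallyOfFiniteType.isLocallyNoetherian q
  have hqσ : jY ≫ (Φ ≫ fst A P).left = q := by
    show pullback.fst Φ.left z₀.left ≫ Φ.left ≫ (fst A P).left = _
    rw [pullback.condition_assoc, ← Over.comp_left, lift_fst]
    exact Category.comp_id _
  let c : 𝟙_ (Over (Spec (CommRingCat.of k))) ⟶ B ⊗ Coord.op U := lift η[B] eA
  have hc : c ≫ Φ = η[A] ≫ z₀ := by
    apply CartesianMonoidalCategory.hom_ext
    · simp only [Φ, z₀, c, Category.assoc, lift_fst, sub, MonObj.comp_mul, GrpObj.comp_inv,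
        whiskerLeft_fst_assoc, whiskerLeft_snd, lift_fst_assoc, lift_snd_assoc, Category.comp_id]
      rw [IsMonHom.one_hom, heA]
      rw [show η[A] = (1 : 𝟙_ (Over (Spec (CommRingCat.of k))) ⟶ A) by
        rw [Hom.one_def, toUnit_unique (toUnit _) (𝟙 _), Category.id_comp], inv_one, _root_.mul_one]
    · simp only [Φ, z₀, c, Category.assoc, lift_snd, lift_snd_assoc]
      rw [← Category.assoc η[A], toUnit_unique (η[A] ≫ toUnit A) (𝟙 _), Category.id_comp]
  let y₀ : Y := pullback.lift (f := Φ.left) (g := z₀.left) c.left η[A].left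
    (by rw [← Over.comp_left, ← Over.comp_left, hc]) (IsLocalRing.closedPoint k)
  have hy₀ : jY y₀ ∈ H47.EtaleLocus.etalePts Φ.left := by
    by_contra hne
    refine hloc ⟨jY y₀, hne, ?_⟩
    show (Φ.left ≫ (fst A P).left) (jY y₀) = _
    rw [← Over.comp_left, ← Scheme.Hom.comp_apply, hqσ, ← Scheme.Hom.comp_apply, pullback.lift_snd]
  haveI := Groth.Agent.H34.EtaleAt.locallyOfFinitePresentation q
  obtain ⟨E, hy₀E, hE⟩ := (Unram.AtPrime.exists_etale_nhd_iff q y₀).2
    (H47.EtaleLocus.mem_etalePts_bc Φ.left (IsPullback.of_hasPullback Φ.left z₀.left) hy₀)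
  haveI := hE
  haveI : LocallyQuasiFinite (E.ι ≫ q) := SourceDescent.Scheme.locallyQuasiFinite_of_etale _
  haveI : LocallyOfFiniteType (q ≫ A.hom) := inferInstance
  have hpd : ∀ ν : Y, ν ∈ E → pdim (q ≫ A.hom) ν = pdim A.hom (q ν) := by
    intro ν hν
    have h1 := pdim_apply_eq (E.ι ≫ q ≫ A.hom) A.hom (E.ι ≫ q) (Category.assoc _ _ _) ⟨ν, hν⟩
    have h2 := pdim_apply_eq (E.ι ≫ q ≫ A.hom) (q ≫ A.hom) E.ι rfl ⟨ν, hν⟩
    rw [Scheme.Opens.ι_apply] at h2
    rw [Scheme.Hom.comp_apply, Scheme.Opens.ι_apply] at h1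
    rw [h2, ← h1]
  set η₀ := genericPoint A.left with hη₀
  have hgen : ∀ a : A.left, pdim A.hom a ≤ pdim A.hom η₀ := fun a =>
    pdim_le A.hom ((genericPoint_spec A.left).specializes trivial)
  obtain ⟨ξ', hξ'⟩ : η₀ ∈ Set.range (E.ι ≫ q) :=
    ((genericPoint_spec A.left).mem_open_set_iff (E.ι ≫ q).isOpenMap.isOpen_range).2
      ⟨_, trivial, ⟨y₀, hy₀E⟩, rfl⟩
  let ξ : Y := ξ'.1
  have hξE : ξ ∈ E := ξ'.2
  have hqξ : q ξ = η₀ := by rw [← hξ', Scheme.Hom.comp_apply]; rfl
  have hmax : ∀ ν : Y, ν ⤳ ξ → ν = ξ := fun ν h =>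
    eq_of_pdim_le (q ≫ A.hom) h (by rw [hpd ν (h.mem_open E.2 hξE), hpd ξ hξE, hqξ]; exact hgen _)
  -- the closed subvariety
  set uζ : (Coord.op U).left := (snd B (Coord.op U)).left (jY ξ) with huζ
  set ζ : A.left := u.left uζ with hζ
  let C : TopologicalSpace.Closeds A.left := ⟨closure {ζ}, isClosed_closure⟩
  let I := Scheme.IdealSheafData.vanishingIdeal C
  let Z : Over (Spec (CommRingCat.of k)) := Over.mk (I.subschemeι ≫ A.hom)
  let z : Z ⟶ A := Over.homMk I.subschemeι rfl
  haveI : IsClosedImmersion z.left := inferInstanceAs (IsClosedImmersion I.subschemeι)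
  haveI : IsReduced Z.left := H75.RedSub.isReduced_vanishingIdeal _
  have hrz : Set.range z.left = closure {ζ} :=
    (Scheme.IdealSheafData.range_subschemeι I).trans (Scheme.IdealSheafData.coe_support_vanishingIdeal C)
  haveI : IrreducibleSpace Z.left := by
    obtain ⟨g, hg⟩ : ζ ∈ Set.range z.left := hrz ▸ subset_closure rfl
    haveI : Nonempty Z.left := ⟨g⟩
    haveI : PreirreducibleSpace Z.left := by
      refine ⟨?_⟩
      have : closure {g} = (Set.univ : Set Z.left) := Set.eq_univ_of_forall fun y => by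
        rw [z.left.isClosedEmbedding.isInducing.closure_eq_preimage_closure_image, Set.image_singleton, hg,
          Set.mem_preimage, ← hrz]
        exact ⟨y, rfl⟩
      rw [← this]
      exact isIrreducible_singleton.closure.2
    exact { toNonempty := inferInstance }
  haveI : IsIntegral Z.left := isIntegral_of_irreducibleSpace_of_isReduced Z.left
  haveI : LocallyOfFiniteType Z.hom := inferInstanceAs (LocallyOfFiniteType (I.subschemeι ≫ A.hom))
  haveI : IsLocallyNoetherian Z.left := LocallyOfFiniteType.isLocallyNoetherian Z.hom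
  haveI : IsIntegral (B ⊗ Z).left := inferInstanceAs (IsIntegral (pullback B.hom Z.hom))
  haveI : IsProper Z.hom := inferInstanceAs (IsProper (I.subschemeι ≫ A.hom))
  haveI : IsProper (B ⊗ Z).hom := inferInstanceAs (IsProper (pullback.fst B.hom Z.hom ≫ B.hom))
  let τ : B ⊗ Z ⟶ A := (B ◁ z) ≫ sub i
  haveI : IsProper (τ.left ≫ A.hom) := by rw [Over.w]; infer_instance
  haveI : IsProper τ.left := IsProper.of_comp τ.left A.hom
  haveI := Groth.Agent.H34.EtaleAt.locallyOfFinitePresentation τ.left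
  haveI : IsClosedImmersion (B ◁ z).left := GrpSch.whiskerLeft_left_of (P := @IsClosedImmersion) B z inferInstance
  haveI : IsOpenImmersion (B ◁ u).left := GrpSch.whiskerLeft_left_of (P := @IsOpenImmersion) B u inferInstance
  let O₁ : (B ⊗ Z).left.Opens := (B ◁ z).left ⁻¹ᵁ (B ◁ u).left.opensRange
  -- the points of `B × Z` over `U` lie in the base change
  let g₁ : (O₁ : Scheme.{u}) ⟶ (B ⊗ Coord.op U).left :=
    IsOpenImmersion.lift (B ◁ u).left (O₁.ι ≫ (B ◁ z).left) (by
      rintro _ ⟨p, rfl⟩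
      exact p.2)
  have hg₁ : g₁ ≫ (B ◁ u).left = O₁.ι ≫ (B ◁ z).left := IsOpenImmersion.lift_fac _ _ _
  have hoc : IsClosed ({o.left (IsLocalRing.closedPoint k)} : Set P.left) := by
    have e : Set.range o.left = {o.left (IsLocalRing.closedPoint k)} := Set.eq_singleton_iff_unique_mem.2
      ⟨⟨_, rfl⟩, fun _ ⟨t, ht⟩ => ht ▸ congrArg o.left (Subsingleton.elim (α := PrimeSpectrum k) _ _)⟩
    rw [← e]
    exact o.left.isClosedEmbedding.isClosed_range
  have hfζ : f.left uζ = o.left (IsLocalRing.closedPoint k) := by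
    rw [huζ, ← Scheme.Hom.comp_apply, ← Over.comp_left]
    show (snd B (Coord.op U) ≫ f).left (jY ξ) = _
    have h : (Φ ≫ snd A P).left (jY ξ) = o.left ((toUnit A).left (q ξ)) := by
      rw [← Scheme.Hom.comp_apply, ← Scheme.Hom.comp_apply q, ← Scheme.Hom.comp_apply]
      refine congrArg (fun (F : Y ⟶ P.left) => F ξ) ?_
      show pullback.fst Φ.left z₀.left ≫ Φ.left ≫ (snd A P).left = (pullback.snd Φ.left z₀.left ≫ (toUnit A).left) ≫ o.left
      rw [pullback.condition_assoc, Category.assoc, ← Over.comp_left, ← Over.comp_left, lift_snd]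
    rw [lift_snd] at h
    rw [h]
    exact congrArg o.left (Subsingleton.elim (α := PrimeSpectrum k) _ _)
  have hin : ∀ p : (O₁ : Scheme.{u}), g₁ p ∈ Set.range jY := by
    intro p
    show g₁ p ∈ Set.range (pullback.fst Φ.left z₀.left)
    rw [Scheme.Pullback.range_fst, Set.mem_preimage]
    have hu : u.left ((snd B (Coord.op U)).left (g₁ p)) ∈ closure {ζ} := by
      rw [← hrz, ← Scheme.Hom.comp_apply, ← Over.comp_left, ← whiskerLeft_snd, Over.comp_left, Scheme.Hom.comp_apply,
        ← Scheme.Hom.comp_apply g₁, hg₁, Scheme.Hom.comp_apply, ← Scheme.Hom.comp_apply, ← Over.comp_left,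
        whiskerLeft_snd, Over.comp_left, Scheme.Hom.comp_apply]
      exact ⟨_, rfl⟩
    have hsp : uζ ⤳ (snd B (Coord.op U)).left (g₁ p) :=
      u.left.isOpenEmbedding.isInducing.specializes_iff.1 (specializes_iff_mem_closure.2 hu)
    have hf2 : f.left ((snd B (Coord.op U)).left (g₁ p)) = o.left (IsLocalRing.closedPoint k) := by
      have := (hsp.map f.left.continuous).mem_closed hoc (hfζ.symm ▸ rfl)
      simpa using this
    exact mem_range_constSection o _ (by
      refine ⟨IsLocalRing.closedPoint k, ?_⟩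
      rw [← hf2, ← Scheme.Hom.comp_apply, ← Over.comp_left, ← Scheme.Hom.comp_apply Φ.left, ← Over.comp_left]
      exact congrArg (fun F : B ⊗ Coord.op U ⟶ P => F.left (g₁ p)) (lift_snd _ _).symm)
  obtain ⟨g₂, hg₂⟩ := H75.RedKer.exists_lift g₁ jY (by rintro _ ⟨p, rfl⟩; exact hin p)
  haveI : IsClosedImmersion g₂ := by
    haveI : IsClosedImmersion g₁ := by
      have hsq : IsPullback g₁ O₁.ι (B ◁ u).left (B ◁ z).left :=
        IsOpenImmersion.isPullback _ _ _ _ hg₁.symm (by rw [Scheme.Opens.opensRange_ι])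
      exact MorphismProperty.of_isPullback (P := @IsClosedImmersion) hsq.flip inferInstance
    haveI : IsClosedImmersion (g₂ ≫ jY) := hg₂ ▸ inferInstance
    exact IsClosedImmersion.of_comp g₂ jY
  have hgτ : g₂ ≫ q = O₁.ι ≫ τ.left := by
    rw [← hqσ, reassoc_of% hg₂]
    show g₁ ≫ Φ.left ≫ (fst A P).left = _
    rw [← Over.comp_left, lift_fst, Over.comp_left, reassoc_of% hg₁]
    rfl
  obtain ⟨p₀, hp₀⟩ : ξ ∈ Set.range g₂ := by
    obtain ⟨w, hw⟩ : (B ◁ u).left (jY ξ) ∈ Set.range (B ◁ z).left := by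
      refine mem_range_whiskerLeft z _ ?_
      rw [hrz, ← Scheme.Hom.comp_apply, ← Over.comp_left, whiskerLeft_snd, Over.comp_left, Scheme.Hom.comp_apply]
      exact subset_closure rfl
    refine ⟨⟨w, show (B ◁ z).left w ∈ (B ◁ u).left.opensRange from hw ▸ ⟨_, rfl⟩⟩, jY.isClosedEmbedding.injective ?_⟩
    rw [← Scheme.Hom.comp_apply, hg₂]
    refine (B ◁ u).left.isOpenEmbedding.injective ?_
    rw [← Scheme.Hom.comp_apply, hg₁, Scheme.Hom.comp_apply]
    exact hw
  let S' : Y.Opens := ⟨(closure {ξ})ᶜ, isClosed_closure.isOpen_compl⟩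
  haveI : QuasiCompact S'.ι := inferInstance
  have hξS : ξ ∉ closure (Set.range S'.ι) := fun h => by
    obtain ⟨s, hs⟩ := VarDim.Fibre.exists_specializes_of_mem_closure_range S'.ι h
    exact s.2 (hmax _ hs ▸ subset_closure rfl)
  let N : Y.Opens := E ⊓ ⟨(closure (Set.range S'.ι))ᶜ, isClosed_closure.isOpen_compl⟩
  haveI : Etale (N.ι ≫ q) := by
    rw [← Scheme.homOfLE_ι Y (inf_le_left : N ≤ E), Category.assoc]
    infer_instance
  haveI : IsReduced (N : Scheme.{u}) := by
    haveI : Smooth (N.ι ≫ q) := inferInstance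
    exact GrpSch.isReduced_of_smooth_field ((N.ι ≫ q) ≫ A.hom)
  haveI : IsReduced (N.toScheme) := ‹_›
  have hN : ∀ y ∈ N, y ∈ Set.range g₂ := fun y hy => by
    have h1 : y ∈ closure ({ξ} : Set Y) := by
      by_contra hne
      exact hy.2 (subset_closure ⟨(⟨y, hne⟩ : S'.toScheme), rfl⟩)
    exact closure_minimal (Set.singleton_subset_iff.2 (show ξ ∈ Set.range g₂ from ⟨p₀, hp₀⟩)) g₂.isClosedEmbedding.isClosed_range h1
  haveI : IsIso (g₂ ∣_ N) := exists_isIso_restrict_open g₂ N hN
  have hp₀N : g₂ p₀ ∈ N := hp₀.symm ▸ ⟨hξE, hξS⟩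
  haveI : Etale ((g₂ ⁻¹ᵁ N).ι ≫ g₂ ≫ q) := by
    rw [← morphismRestrict_ι_assoc]; infer_instance
  have hτp : O₁.ι p₀ ∈ H47.EtaleLocus.etalePts τ.left := by
    refine (Unram.AtPrime.exists_etale_nhd_iff τ.left _).1 ⟨O₁.ι ''ᵁ (g₂ ⁻¹ᵁ N), Set.mem_image_of_mem _ (hp₀N : p₀ ∈ g₂ ⁻¹ᵁ N), ?_⟩
    rw [← (O₁.ι.isoImage (g₂ ⁻¹ᵁ N)).inv_hom_id_assoc ((O₁.ι ''ᵁ (g₂ ⁻¹ᵁ N)).ι), Scheme.Hom.isoImage_hom_ι,
      Category.assoc, Category.assoc, ← hgτ]
    infer_instance
  -- the generic point is etale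
  set ξX := genericPoint (B ⊗ Z).left with hξX
  have hτξX : ξX ∈ H47.EtaleLocus.etalePts τ.left :=
    ((genericPoint_spec _).specializes trivial).mem_open (H47.EtaleLocus.isOpen_etalePts τ.left) hτp
  obtain ⟨O, hξXO, hO⟩ := (Unram.AtPrime.exists_etale_nhd_iff τ.left ξX).2 hτξX
  haveI := hO
  haveI : LocallyQuasiFinite (O.ι ≫ τ.left) := SourceDescent.Scheme.locallyQuasiFinite_of_etale _
  have hpξX : pdim (B ⊗ Z).hom ξX ≤ pdim A.hom η₀ := by
    have h1 := pdim_apply_eq (O.ι ≫ (B ⊗ Z).hom) A.hom (O.ι ≫ τ.left) (by rw [Category.assoc, Over.w]) ⟨ξX, hξXO⟩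
    have h2 := pdim_apply_eq (O.ι ≫ (B ⊗ Z).hom) (B ⊗ Z).hom O.ι rfl ⟨ξX, hξXO⟩
    rw [Scheme.Opens.ι_apply] at h2
    rw [h2, ← h1]
    exact hgen _
  let V : A.left.Opens := ⟨(τ.left '' (H47.EtaleLocus.etalePts τ.left)ᶜ)ᶜ,
    (τ.left.isClosedMap _ (H47.EtaleLocus.isOpen_etalePts τ.left).isClosed_compl).isOpen_compl⟩
  have hηV : η₀ ∈ V := by
    rintro ⟨t, ht, htη⟩
    have hne : ξX ≠ t := fun e => ht (e ▸ hτξX)
    have h1 := pdim_lt (B ⊗ Z).hom ((genericPoint_spec _).specializes trivial : ξX ⤳ t) hne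
    have h2 := VarDim.Fibre.pdim_apply_le (B ⊗ Z).hom A.hom τ.left (Over.w τ) t
    rw [htη] at h2
    rw [hξX] at hpξX
    omega
  haveI : Etale (τ.left ∣_ V) := by
    haveI : LocallyOfFinitePresentation (τ.left ∣_ V) := inferInstance
    rw [H47.EtaleLocus.etale_iff_forall]
    intro p
    refine H47.EtaleLocus.mem_etalePts_bc τ.left (isPullback_morphismRestrict τ.left V).flip ?_
    by_contra hne
    exact p.2 ⟨_, hne, rfl⟩
  have hp₀V : τ.left (O₁.ι p₀) = η₀ := by
    rw [← Scheme.Hom.comp_apply, ← hgτ, Scheme.Hom.comp_apply, hp₀, hqξ]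
  refine ⟨Z, z, V, inferInstance, ⟨⟨η₀, hηV⟩⟩, ⟨⟨O₁.ι p₀, show τ.left (O₁.ι p₀) ∈ V from hp₀V.symm ▸ hηV⟩⟩, ?_,
    ‹Etale (τ.left ∣_ V)›⟩
  haveI : LocallyQuasiFinite (τ.left ∣_ V) := SourceDescent.Scheme.locallyQuasiFinite_of_etale _
  exact IsFinite.of_isProper_of_locallyQuasiFinite (τ.left ∣_ V)

end Groth.Agent.H63.Transversal
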