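import Groth.Agent.H63.SumPoints
import Groth.Agent.H63.Transversal
import Groth.Agent.H63.AVIsogeny
import Groth.Agent.H4.WeilExt
import Groth.Agent.H4.AVHom

/-!
# A retraction onto an abelian subvariety up to isogeny

* `exists_retraction`: for an abelian subvariety `i : B → A` there are `p : A → B` and `d > 0`
  with `i ≫ p = [d]`
-/

set_option autoImplicit false

universe u

open CategoryTheory CategoryTheory.Limits MonoidalCategory CartesianMonoidalCategory AlgebraicGeometry
open scoped MonObj GrpObj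
open Groth.Agent.Lib

namespace Groth.Agent.H63.Retraction

variable {k : Type u} [Field k]

/-- A morphism to a scheme landing in an open subscheme factors through it. -/
theorem exists_lift_op {A T : Over (Spec (CommRingCat.of k))} (U : A.left.Opens) (a : T ⟶ A)
    (h : ∀ t, a.left t ∈ U) : ∃ b : T ⟶ Coord.op U, b ≫ Coord.opι U = a := by
  have hr : Set.range a.left ⊆ Set.range U.ι := by
    rw [Scheme.Opens.range_ι]
    rintro _ ⟨t, rfl⟩
    exact h t
  let l : T.left ⟶ (U : Scheme.{u}) := IsOpenImmersion.lift U.ι a.left hr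
  exact ⟨Over.homMk l
      (show l ≫ U.ι ≫ A.hom = T.hom by
        rw [IsOpenImmersion.lift_fac_assoc, Over.w a]),
    Over.OverMorphism.ext (IsOpenImmersion.lift_fac U.ι a.left hr)⟩

theorem mono_opι {A : Over (Spec (CommRingCat.of k))} (U : A.left.Opens) : Mono (Coord.opι U) :=
  (Over.forget _).mono_of_mono_map (inferInstanceAs (Mono U.ι))

variable {A B : Over (Spec (CommRingCat.of k))} [GrpObj A] [GrpObj B] [IsProper A.hom] [IsProper B.hom]
  [GeometricallyIntegral A.hom] [GeometricallyIntegral B.hom]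

/-- Any geometric point of `A` is a quotient of two points in a given nonempty open. -/
theorem exists_points_mem {Ω : Type u} [Field Ω] [IsAlgClosed Ω] (b : Spec (CommRingCat.of Ω) ⟶ Spec (CommRingCat.of k))
    (x : Over.mk b ⟶ A) (V : A.left.Opens) (hV : (V : Set A.left).Nonempty) :
    ∃ a : Over.mk b ⟶ A, (∀ t, a.left t ∈ V) ∧ ∀ t, (a * x).left t ∈ V := by
  haveI : IsIntegral A.left := GeometricallyIntegral.isIntegral_of_subsingleton A.hom
  let T := Over.mk b
  let t₁ : T ⊗ A ⟶ T ⊗ A := lift (fst T A) (snd T A * (fst T A ≫ x))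
  let t₂ : T ⊗ A ⟶ T ⊗ A := lift (fst T A) (snd T A * (fst T A ≫ x)⁻¹)
  have h12 : t₁ ≫ t₂ = 𝟙 _ := by
    apply CartesianMonoidalCategory.hom_ext
    · simp [t₁, t₂]
    · simp only [t₁, t₂, Category.assoc, lift_snd, MonObj.comp_mul, GrpObj.comp_inv, lift_fst_assoc, Category.id_comp,
        _root_.mul_inv_cancel_right]
  have h21 : t₂ ≫ t₁ = 𝟙 _ := by
    apply CartesianMonoidalCategory.hom_ext
    · simp [t₁, t₂]
    · simp only [t₁, t₂, Category.assoc, lift_snd, MonObj.comp_mul, lift_fst_assoc, Category.id_comp,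
        _root_.inv_mul_cancel_right]
  haveI : IsIso t₁ := ⟨t₂, h12, h21⟩
  haveI : IsIso t₁.left := inferInstanceAs (IsIso ((Over.forget _).map t₁))
  haveI : Surjective T.hom := ⟨fun _ => ⟨IsLocalRing.closedPoint Ω, Subsingleton.elim (α := PrimeSpectrum k) _ _⟩⟩
  haveI : Surjective (snd T A).left := GrpSch.snd_left_of (P := @Surjective) A inferInstance
  haveI : LocallyOfFiniteType (fst T A).left := GrpSch.fst_left_of (P := @LocallyOfFiniteType) T inferInstance
  haveI : IsLocallyNoetherian (Spec (CommRingCat.of Ω)) := inferInstance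
  haveI : IsIntegral T.left := inferInstanceAs (IsIntegral (Spec (CommRingCat.of Ω)))
  haveI : IsLocallyNoetherian T.left := inferInstanceAs (IsLocallyNoetherian (Spec (CommRingCat.of Ω)))
  haveI : IsIntegral (T ⊗ A).left := inferInstanceAs (IsIntegral (pullback T.hom A.hom))
  let U₁ : (T ⊗ A).left.Opens := (snd T A).left ⁻¹ᵁ V
  let U₂ : (T ⊗ A).left.Opens := (t₁ ≫ snd T A).left ⁻¹ᵁ V
  obtain ⟨v, hv⟩ := hV
  obtain ⟨w, hw⟩ := (snd T A).left.surjective v
  have h₁ : (U₁ : Set (T ⊗ A).left).Nonempty := ⟨w, show (snd T A).left w ∈ V from hw ▸ hv⟩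
  obtain ⟨w', hw'⟩ := t₁.left.surjective w
  have h₂ : (U₂ : Set (T ⊗ A).left).Nonempty :=
    ⟨w', show (t₁ ≫ snd T A).left w' ∈ V by rw [Over.comp_left, Scheme.Hom.comp_apply, hw', hw]; exact hv⟩
  let h₀ : (T ⊗ A).left ⟶ Spec (CommRingCat.of Ω) := (fst T A).left
  haveI : LocallyOfFiniteType h₀ := inferInstanceAs (LocallyOfFiniteType (fst T A).left)
  haveI : JacobsonSpace (T ⊗ A).left := LocallyOfFiniteType.jacobsonSpace h₀
  obtain ⟨e, he, hec⟩ := nonempty_inter_closedPoints (nonempty_preirreducible_inter U₁.2 U₂.2 h₁ h₂)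
    (U₁.2.inter U₂.2).isLocallyClosed
  obtain ⟨⟨s, hs⟩, hse⟩ := (pointEquivClosedPoint h₀).surjective ⟨e, hec⟩
  have hse' : s (IsLocalRing.closedPoint Ω) = e := congrArg Subtype.val hse
  let sT : T ⟶ T ⊗ A := Over.homMk s (by
    rw [← Over.w (fst T A), ← Category.assoc]
    exact (congrArg (· ≫ b) hs).trans (Category.id_comp _))
  have hsT : sT ≫ fst T A = 𝟙 T := Over.OverMorphism.ext hs
  refine ⟨sT ≫ snd T A, fun t => ?_, fun t => ?_⟩
  · rw [Subsingleton.elim (α := PrimeSpectrum Ω) t (IsLocalRing.closedPoint Ω), Over.comp_left, Scheme.Hom.comp_apply]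
    show (snd T A).left (s (IsLocalRing.closedPoint Ω)) ∈ V
    rw [hse']
    exact he.1
  · have ee : (sT ≫ snd T A) * x = sT ≫ t₁ ≫ snd T A := by
      rw [lift_snd, MonObj.comp_mul, ← Category.assoc sT (fst T A), hsT, Category.id_comp]
    rw [ee, Subsingleton.elim (α := PrimeSpectrum Ω) t (IsLocalRing.closedPoint Ω), Over.comp_left, Scheme.Hom.comp_apply]
    show (t₁ ≫ snd T A).left (s (IsLocalRing.closedPoint Ω)) ∈ V
    rw [hse']
    exact he.2

variable (i : B ⟶ A) [IsMonHom i] [IsClosedImmersion i.left]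

theorem comp_mul_of_isMonHom {C : Type*} [Category C] [CartesianMonoidalCategory C] {X Y Z : C} [GrpObj Y] [GrpObj Z]
    (p : Y ⟶ Z) [IsMonHom p] (a c : X ⟶ Y) : (a * c) ≫ p = (a ≫ p) * (c ≫ p) :=
  MonObj.mul_comp a c p

/-- A retraction up to isogeny. -/
theorem exists_retraction :
    ∃ (p : A ⟶ B) (d : ℕ), IsMonHom p ∧ 0 < d ∧ i ≫ p = (𝟙 B) ^ d := by
  classical
  haveI : IsIntegral A.left := GeometricallyIntegral.isIntegral_of_subsingleton A.hom
  haveI : IsCommMonObj A := isCommMonObj_of_isProper_of_geometricallyIntegral A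
  haveI : IsCommMonObj B := isCommMonObj_of_isProper_of_geometricallyIntegral B
  haveI : Smooth A.hom := by
    haveI : GeometricallyReduced A.hom := inferInstance
    exact H4.HomImage.smooth_of_geometricallyReduced A
  obtain ⟨Z, z, V, hz, hV, hW, hfin, het⟩ := Transversal.exists_transversal i
  let τ : B ⊗ Z ⟶ A := (B ◁ z) ≫ Transversal.sub i
  let f := Coord.opRes τ V
  haveI : IsFinite f.left := hfin
  haveI : Etale f.left := het
  haveI : Smooth (Coord.op V).hom := inferInstanceAs (Smooth (V.ι ≫ A.hom))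
  have hVne : (V : Set A.left).Nonempty := ⟨hV.some.1, hV.some.2⟩
  haveI : Nonempty (Coord.op V).left := hV
  haveI : IrreducibleSpace (Coord.op V).left := by
    haveI : Nonempty (V : Scheme.{u}) := hV
    haveI : IsIntegral (V : Scheme.{u}) := isIntegral_of_isOpenImmersion V.ι
    exact (inferInstance : IrreducibleSpace (V : Scheme.{u}))
  haveI : LocallyOfFinitePresentation f.left := inferInstance
  obtain ⟨v₀⟩ := hV
  have hd : ∀ v : (Coord.op V).left, f.left.finrank v = f.left.finrank (v₀ : (Coord.op V).left) := fun v =>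
    f.left.isLocallyConstant_finrank.apply_eq_of_preconnectedSpace _ _
  set d := f.left.finrank (v₀ : (Coord.op V).left) with hd₀
  have hdpos : 0 < d := by
    obtain ⟨w⟩ := hW
    rw [← hd (f.left w)]
    exact Scheme.Hom.one_le_finrank_map f.left w
  let h : Coord.op (τ.left ⁻¹ᵁ V) ⟶ B := (Coord.opι _ ≫ fst B Z)⁻¹
  obtain ⟨σ, hσ⟩ := SumPoints.exists_sum f d hd h
  obtain ⟨g₀, hg₀, hg₀σ⟩ := H4.WeilExt.exists_extension (X := A) (A := B) V hVne σ.left (Over.w σ)
  let g : A ⟶ B := Over.homMk g₀ hg₀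
  have hgσ : Coord.opι V ≫ g = σ := Over.OverMorphism.ext hg₀σ
  let p : A ⟶ B := g * (toUnit A ≫ η[A] ≫ g)⁻¹
  haveI : IsMonHom p := H4.AVHom.isMonHom_of_pointed p (by
    rw [MonObj.comp_mul, GrpObj.comp_inv, ← Category.assoc η[A], toUnit_unique (η[A] ≫ toUnit A) (𝟙 _),
      Category.id_comp, mul_inv_cancel, Hom.one_def, toUnit_unique (toUnit _) (𝟙 _), Category.id_comp])
  haveI : IsIntegral B.left := GeometricallyIntegral.isIntegral_of_subsingleton B.hom
  refine ⟨p, d, inferInstance, hdpos, SumPoints.eq_of_geometric _ _ fun Ω _ _ b x => ?_⟩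
  obtain ⟨a, ha, ha'⟩ := exists_points_mem b (x ≫ i) V hVne
  obtain ⟨v, hv⟩ := exists_lift_op V a ha
  obtain ⟨v', hv'⟩ := exists_lift_op V (a * (x ≫ i)) ha'
  haveI := mono_opι (τ.left ⁻¹ᵁ V)
  haveI := mono_opι V
  let L := {w : Over.mk b ⟶ Coord.op (τ.left ⁻¹ᵁ V) // w ≫ f = v}
  have hcard : Nat.card L = d := by rw [FibreCount.natCard_lifts f v, hd]
  haveI : Finite L := Nat.finite_of_card_ne_zero (by rw [hcard]; omega)
  let e : Fin d ≃ L := (finCongr hcard.symm).trans (Finite.equivFin L).symm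
  let pt : L → (Over.mk b ⟶ B ⊗ Z) := fun w =>
    lift ((w.1 ≫ Coord.opι _ ≫ fst B Z) * x⁻¹) (w.1 ≫ Coord.opι _ ≫ snd B Z)
  have hpt : ∀ w, pt w ≫ τ = a * (x ≫ i) := fun w => by
    have h1 : (w.1 ≫ Coord.opι _) ≫ τ = a := by
      rw [Category.assoc, ← Coord.opRes_ι, ← Category.assoc, w.2, hv]
    rw [← h1]
    simp only [pt, τ, Transversal.sub, MonObj.comp_mul, GrpObj.comp_inv, whiskerLeft_fst_assoc, whiskerLeft_snd,
      lift_fst_assoc, lift_snd_assoc, Category.assoc, comp_mul_of_isMonHom, mul_inv_rev, GrpObj.inv_comp, inv_inv]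
    ac_rfl
  have hlift : ∀ w, ∃ w' : Over.mk b ⟶ Coord.op (τ.left ⁻¹ᵁ V), w' ≫ Coord.opι _ = pt w ∧ w' ≫ f = v' := fun w => by
    obtain ⟨w', hw'⟩ := exists_lift_op (τ.left ⁻¹ᵁ V) (pt w) fun t => by
      show τ.left ((pt w).left t) ∈ V
      rw [← Scheme.Hom.comp_apply, ← Over.comp_left, hpt]
      exact ha' t
    refine ⟨w', hw', ?_⟩
    rw [← cancel_mono (Coord.opι V), Category.assoc, Coord.opRes_ι, ← Category.assoc, hw', hpt, hv']
  choose w' hw' hw'f using hlift
  have hinj : Function.Injective fun n => w' (e n) := fun n m hnm => by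
    apply e.injective
    have h1 : pt (e n) = pt (e m) := by rw [← hw', ← hw']; exact congrArg (· ≫ _) hnm
    have h2 := congrArg (· ≫ fst B Z) h1
    have h3 := congrArg (· ≫ snd B Z) h1
    simp only [pt, lift_fst, lift_snd, mul_left_inj] at h2 h3
    refine Subtype.ext ((cancel_mono (Coord.opι _)).1 (CartesianMonoidalCategory.hom_ext _ _ ?_ ?_))
    · simpa only [Category.assoc] using h2
    · simpa only [Category.assoc] using h3
  have E1 := hσ Ω b v (fun n => (e n).1) (Subtype.val_injective.comp e.injective) (fun n => (e n).2)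
  have E2 := hσ Ω b v' (fun n => w' (e n)) hinj (fun n => hw'f _)
  have E3 : ∀ n, w' (e n) ≫ h = ((e n).1 ≫ h) * x := fun n => by
    simp only [h, GrpObj.comp_inv, ← Category.assoc, hw']
    simp only [pt, lift_fst, mul_inv_rev, inv_inv, Category.assoc, mul_comm]
  simp only [E3, Finset.prod_mul_distrib, Finset.prod_const, Finset.card_univ, Fintype.card_fin] at E2
  rw [← E1, ← hgσ, ← Category.assoc, ← Category.assoc, hv, hv'] at E2
  have hc : ∀ y : Over.mk b ⟶ A, y ≫ p = (y ≫ g) * (toUnit _ ≫ η[A] ≫ g)⁻¹ := fun y => by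
    rw [MonObj.comp_mul, GrpObj.comp_inv, ← Category.assoc y, toUnit_unique (y ≫ toUnit A) (toUnit _)]
  have E4 : (a * (x ≫ i)) ≫ p = (a ≫ p) * x ^ d := by
    rw [hc, hc, E2]
    ac_rfl
  rw [comp_mul_of_isMonHom, mul_right_inj, Category.assoc] at E4
  rw [E4, MonObj.comp_pow, Category.comp_id]

end Groth.Agent.H63.Retraction
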