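import Groth.Agent.H3.CubeRel
import Mathlib.Data.Nat.Choose.Basic

/-! `[n]^* c = c^(n(n+1)/2) · ([-1]^* c)^(n(n-1)/2)` on classes (after H4.CubeCons, with few imports). -/

set_option autoImplicit false

universe u

open CategoryTheory MonoidalCategory CartesianMonoidalCategory AlgebraicGeometry
open scoped MonObj GrpObj
open Groth.Agent.H3

namespace Groth.Agent.H63.CubePow

variable [∀ Y : Scheme.{u}, PicGrp.Law Y] {k : Type u} [Field k]
  (A : Over (Spec (CommRingCat.of k))) [GrpObj A]

/-- The relation of the theorem of the cube for three morphisms into `A`, on classes. -/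
def CubeRel : Prop :=
  ∀ (V : Over (Spec (CommRingCat.of k))) (f g h : V ⟶ A) (c : PicLoc.PicSet A.left),
    PicCalc.ph (f * g * h) c * PicCalc.ph f c * PicCalc.ph g c * PicCalc.ph h c =
      PicCalc.ph (f * g) c * PicCalc.ph (f * h) c * PicCalc.ph (g * h) c

variable {A}

theorem ph_one' (V : Over (Spec (CommRingCat.of k))) (c : PicLoc.PicSet A.left) :
    PicCalc.ph (1 : V ⟶ A) c = 1 := by
  haveI : Subsingleton (𝟙_ (Over (Spec (CommRingCat.of k)))).left :=
    inferInstanceAs (Subsingleton (Spec (CommRingCat.of k)))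
  haveI : Nonempty (𝟙_ (Over (Spec (CommRingCat.of k)))).left :=
    inferInstanceAs (Nonempty (Spec (CommRingCat.of k)))
  rw [Hom.one_def, PicCalc.ph_comp, PicCalc.eq_one_of_subsingleton (PicCalc.ph η[A] c), map_one]

/-- `[n]^* c = c^(n(n+1)/2) · ([-1]^* c)^(n(n-1)/2)`. -/
theorem ph_pow (hcube : CubeRel A) {V : Over (Spec (CommRingCat.of k))} (x : V ⟶ A)
    (c : PicLoc.PicSet A.left) (n : ℕ) :
    PicCalc.ph (x ^ n) c =
      PicCalc.ph x c ^ (n + 1).choose 2 * PicCalc.ph x⁻¹ c ^ n.choose 2 := by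
  induction n using Nat.strong_induction_on with
  | _ n ih =>
    match n with
    | 0 => simp [ph_one']
    | 1 => simp
    | m + 2 =>
      have h := hcube V (x ^ (m + 1)) x x⁻¹ c
      rw [show x ^ (m + 1) * x * x⁻¹ = x ^ (m + 1) from mul_inv_cancel_right _ _,
        show x ^ (m + 1) * x = x ^ (m + 2) from (pow_succ x (m + 1)).symm,
        show x ^ (m + 1) * x⁻¹ = x ^ m by rw [pow_succ, mul_inv_cancel_right],
        mul_inv_cancel, ph_one', mul_one, ih (m + 1) (by omega), ih m (by omega)] at h
      set a := PicCalc.ph x c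
      set b := PicCalc.ph x⁻¹ c
      refine mul_right_cancel (b := a ^ (m + 1).choose 2 * b ^ m.choose 2) (h.symm.trans ?_)
      have e : ∀ j : ℕ, (j + 1).choose 2 = j + j.choose 2 := fun j => by
        rw [Nat.choose_succ_succ, Nat.choose_one_right]
      rw [show m + 1 + 1 = m + 2 from rfl, show m + 2 + 1 = m + 1 + 1 + 1 from rfl, e (m + 1 + 1),
        show m + 1 + 1 = m + 2 from rfl, show (m + 2).choose 2 = m + 1 + (m + 1).choose 2 from e (m + 1),
        e m]
      simp only [pow_add, pow_one]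
      rw [show a ^ (2 : ℕ) = a * a from pow_two a]
      generalize a ^ (m + 1).choose 2 = p, a ^ m = q, b ^ m.choose 2 = r, b ^ m = t
      ac_rfl


end Groth.Agent.H63.CubePow
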