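import Groth.Agent.H63.PDegree
import Groth.Agent.H63.FunctionFieldDegree
import Groth.Agent.H63.AVDegree
import Groth.Agent.H4.NPowUnram
import Groth.Agent.Lib.Cyc.FieldDim
import Mathlib.AlgebraicGeometry.Group.Abelian
import Mathlib.RingTheory.DualNumber

/-!
# Inseparability of multiplication by `p`

* `natCard_torsion_le`: at most `p^g` rational points killed by `p`
-/

set_option autoImplicit false

universe u

open CategoryTheory MonoidalCategory CartesianMonoidalCategory AlgebraicGeometry TopologicalSpace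
open scoped MonObj GrpObj
open Groth.Agent.Lib Groth.Agent.H63.FunctionFieldDegree

namespace Groth.Agent.H63.AVInsep

section FunctionField

variable {k : Type u} [Field k] {X : Scheme.{u}} [IsIntegral X] (f : X ⟶ Spec (CommRingCat.of k))

/-- The structure of a `k`-algebra on the function field. -/
noncomputable abbrev ffHom : k →+* X.functionField :=
  (Spec.preimage (X.fromSpecStalk (genericPoint X) ≫ f)).hom

theorem ffHom_eq {U : X.Opens} (hU : IsAffineOpen U) [Nonempty U] :
    ffHom f = (X.germToFunctionField U).hom.comp (Cyc.FieldDim.structHom f U) := by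
  have hη : genericPoint X ∈ U :=
    ((genericPoint_spec X).mem_open_set_iff U.2).2 (by simpa using ‹Nonempty U›)
  suffices h : Spec.preimage (X.fromSpecStalk (genericPoint X) ≫ f) =
      CommRingCat.ofHom (Cyc.FieldDim.structHom f U) ≫ X.germToFunctionField U from
    congrArg CommRingCat.Hom.hom h
  apply Spec.map_injective
  rw [Spec.map_preimage, Spec.map_comp, ← hU.fromSpecStalk_eq_fromSpecStalk hη,
    IsAffineOpen.fromSpecStalk, Category.assoc]
  congr 1
  rw [Cyc.FieldDim.structHom, CommRingCat.ofHom_hom, Spec.map_comp,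
    ← IsAffineOpen.SpecMap_appLE_fromSpec f (isAffineOpen_top _) hU, IsAffineOpen.fromSpec_top, Scheme.isoSpec_Spec_inv]

variable [LocallyOfFiniteType f]

theorem essFiniteType :
    letI := (ffHom f).toAlgebra; Algebra.EssFiniteType k X.functionField := by
  obtain ⟨_, ⟨U, hU, rfl⟩, hη, -⟩ :=
    X.isBasis_affineOpens.exists_subset_of_mem_open (Set.mem_univ (genericPoint X)) isOpen_univ
  have : Nonempty U := ⟨⟨_, hη⟩⟩
  letI : Algebra k X.functionField := (ffHom f).toAlgebra
  letI := (Cyc.FieldDim.structHom f U).toAlgebra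
  have : Algebra.FiniteType k Γ(X, U) := Cyc.FieldDim.structHom_finiteType f hU
  have : IsScalarTower k Γ(X, U) X.functionField :=
    IsScalarTower.of_algebraMap_eq fun c => RingHom.congr_fun (ffHom_eq f hU) c
  have : IsFractionRing Γ(X, U) X.functionField := functionField_isFractionRing_of_isAffineOpen X U hU
  have : Algebra.EssFiniteType Γ(X, U) X.functionField :=
    Algebra.EssFiniteType.of_isLocalization X.functionField (nonZeroDivisors Γ(X, U))
  exact Algebra.EssFiniteType.comp k Γ(X, U) X.functionField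

theorem trdeg_eq {g : ℕ} (hg : topologicalKrullDim X = g) :
    letI := (ffHom f).toAlgebra; Algebra.trdeg k X.functionField = g := by
  obtain ⟨_, ⟨U, hU, rfl⟩, hη, -⟩ :=
    X.isBasis_affineOpens.exists_subset_of_mem_open (Set.mem_univ (genericPoint X)) isOpen_univ
  have : Nonempty U := ⟨⟨_, hη⟩⟩
  letI : Algebra k X.functionField := (ffHom f).toAlgebra
  letI := (Cyc.FieldDim.structHom f U).toAlgebra
  have : Algebra.FiniteType k Γ(X, U) := Cyc.FieldDim.structHom_finiteType f hU
  have : IsScalarTower k Γ(X, U) X.functionField :=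
    IsScalarTower.of_algebraMap_eq fun c => RingHom.congr_fun (ffHom_eq f hU) c
  have : IsFractionRing Γ(X, U) X.functionField := functionField_isFractionRing_of_isAffineOpen X U hU
  have h1 : Algebra.trdeg k X.functionField = Algebra.trdeg k Γ(X, U) := by
    have h := trdeg_add_eq k Γ(X, U) (A := X.functionField)
    have : Algebra.IsAlgebraic Γ(X, U) X.functionField :=
      IsLocalization.isAlgebraic (R := Γ(X, U)) X.functionField (nonZeroDivisors Γ(X, U))
    rw [trdeg_eq_zero (R := Γ(X, U)) (A := X.functionField), add_zero] at h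
    exact h.symm
  have h2 := Cyc.FieldDim.trdegAt_eq_dimQ f hU hη
  rw [Cyc.FieldDim.trdegAt_eq_fdelta, Nat.cast_inj] at h2
  have h3 := Cyc.FieldDim.topologicalKrullDim_closure f (genericPoint X)
  rw [(genericPoint_spec X).def, IsHomeomorph.topologicalKrullDim_eq _ (Homeomorph.Set.univ X).isHomeomorph,
    hg, Nat.cast_inj] at h3
  have h4 : (hU.primeIdealOf ⟨genericPoint X, hη⟩).asIdeal = ⊥ := by
    rw [hU.primeIdealOf_genericPoint, genericPoint_eq_bot_of_affine]
    rfl
  rw [h4] at h2
  rw [h1, Dim.Basic.trdeg_eq_trdegNat k, h3, h2, Dim.Basic.dimQ, Dim.Basic.trdegNat, Dim.Basic.trdegNat,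
    (AlgEquiv.quotientBot k Γ(X, U)).trdeg_eq]

end FunctionField

section Torsion

variable {k : Type u} [Field k] (p : ℕ) [Fact p.Prime] [CharP k p]
  (A : Over (Spec (CommRingCat.of k))) [GrpObj A] [IsProper A.hom] [GeometricallyIntegral A.hom]
  [IsIntegral A.left]

local notation "γA" => A.left.fromSpecStalk (genericPoint A.left)

local notation "K" => A.left.functionField

/-- The differential kills the image of `[p]` on the function field. -/
theorem derivation_ff_eq_zero (h : ((𝟙 A : A ⟶ A) ^ p).left (genericPoint A.left) = genericPoint A.left)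
    [Algebra k A.left.functionField] (halg : algebraMap k A.left.functionField = ffHom A.hom)
    (D : Derivation k A.left.functionField A.left.functionField) (a : A.left.functionField) :
    D ((ff ((𝟙 A : A ⟶ A) ^ p).left h).hom a) = 0 := by
  haveI : IsCommMonObj A := isCommMonObj_of_isProper_of_geometricallyIntegral A
  have : CharP K p := charP_of_injective_algebraMap (algebraMap k K).injective p
  let f : Spec (CommRingCat.of K) ⟶ Spec (CommRingCat.of k) := Spec.map (CommRingCat.ofHom (algebraMap k K))
  have hf : γA ≫ A.hom = f := by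
    show γA ≫ A.hom = Spec.map (CommRingCat.ofHom (algebraMap k K))
    rw [halg, ffHom, CommRingCat.ofHom_hom, Spec.map_preimage]
  let θ : K →+* DualNumber K :=
    { toFun := fun x => TrivSqZeroExt.inl x + TrivSqZeroExt.inr (D x)
      map_one' := by simp
      map_mul' := fun x y => by ext <;> simp [D.leibniz] <;> ring
      map_zero' := by simp
      map_add' := fun x y => by ext <;> simp }
  let gp : _root_.LieS.pt K f ⟶ A := Over.homMk γA hf
  let v : _root_.LieS.dpt K f ⟶ A := Over.homMk (Spec.map (CommRingCat.ofHom θ) ≫ γA) (by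
    change (Spec.map _ ≫ γA) ≫ A.hom = Spec.map _ ≫ Spec.map _
    rw [Category.assoc, hf, _root_.LieS.specMap_comp, _root_.LieS.specMap_comp]
    congr 2
    refine RingHom.ext fun c => ?_
    ext <;> simp [θ, TrivSqZeroExt.algebraMap_eq_inl'])
  let v₀ : _root_.LieS.dpt K f ⟶ A := _root_.LieS.proj K f ≫ gp
  have hv : _root_.LieS.zeroSec K f ≫ v = gp := by
    ext
    change Spec.map _ ≫ Spec.map _ ≫ γA = γA
    rw [← Category.assoc, _root_.LieS.specMap_comp]
    have : (TrivSqZeroExt.fstHom K K K).toRingHom.comp θ = RingHom.id K := RingHom.ext fun x => by simp [θ]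
    rw [this, CommRingCat.ofHom_id]
    erw [Spec.map_id]
    exact Category.id_comp _
  have hv₀ : _root_.LieS.zeroSec K f ≫ v₀ = gp := by
    rw [← Category.assoc, _root_.LieS.zeroSec_proj, Category.id_comp]
  have hw : _root_.LieS.zeroSec K f ≫ (v / v₀) = 1 := by rw [GrpObj.comp_div, hv, hv₀, div_self']
  have hp0 : (p : DualNumber K) * DualNumber.eps = 0 := by
    rw [← map_natCast (algebraMap K (DualNumber K)) p, CharP.cast_eq_zero K p, map_zero, zero_mul]
  have hwp : (v / v₀) ^ p = 1 := by
    exact (H4.NPowUnram.ev_natCast hw p (by rw [hp0, mul_zero])).symm.trans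
      (LieS.Points.ev_zero hw _ _ _ hp0)
  rw [div_pow, div_eq_one] at hwp
  have h1 := congrArg Over.Hom.left hwp
  rw [← Category.comp_id v, ← MonObj.comp_pow, ← Category.comp_id v₀, ← MonObj.comp_pow] at h1
  simp only [Over.comp_left, v, v₀, gp, Over.homMk_left, Category.id_comp, Category.assoc] at h1
  rw [← ff_spec _ h, ← Category.assoc, ← Category.assoc] at h1
  change (Spec.map _ ≫ Spec.map _) ≫ γA = (Spec.map _ ≫ Spec.map _) ≫ γA at h1
  rw [cancel_mono, ← Spec.map_comp, ← Spec.map_comp] at h1
  have h2 := congrArg (fun x => TrivSqZeroExt.snd x) (ConcreteCategory.congr_hom (Spec.map_injective h1) a)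
  simpa [θ, TrivSqZeroExt.algebraMap_eq_inl'] using h2

theorem natCard_torsion_le [IsAlgClosed k] {g : ℕ} (hg : topologicalKrullDim A.left = g) :
    Nat.card {a : 𝟙_ (Over (Spec (CommRingCat.of k))) ⟶ A // a ^ p = 1} ≤ p ^ g := by
  haveI : IsCommMonObj A := isCommMonObj_of_isProper_of_geometricallyIntegral A
  have hp : 0 < p := (Fact.out : p.Prime).pos
  obtain ⟨hfin, hflat, hsurj⟩ := H4.MulIso.nat A hp
  haveI : IsLocallyNoetherian A.left := LocallyOfFiniteType.isLocallyNoetherian A.hom
  set q := ((𝟙 A : A ⟶ A) ^ p).left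
  haveI : IsFinite q := hfin
  haveI : Flat q := hflat
  haveI : Surjective q := hsurj
  have h : q (genericPoint A.left) = genericPoint A.left := genericPoint_map q
  let φ := ff q h
  letI : Algebra k K := (ffHom A.hom).toAlgebra
  haveI : Algebra.EssFiniteType k K := essFiniteType A.hom
  have : CharP K p := charP_of_injective_algebraMap (algebraMap k K).injective p
  have hdeg : @Module.finrank K K _ _ φ.hom.toAlgebra.toModule = p ^ (2 * g) := by
    rw [finrank_ff q h]
    have h' := AVDegree.finrank_zpow A hg (Int.natCast_ne_zero.2 hp.ne') (genericPoint A.left)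
    rw [zpow_natCast, Int.natAbs_natCast] at h'
    exact h'
  have hD : ∀ x : K, KaehlerDifferential.D k K (φ.hom x) = 0 := fun x => by
    refine (Module.forall_dual_apply_eq_zero_iff K _).1 fun l => ?_
    exact derivation_ff_eq_zero p A h rfl (l.compDer (KaehlerDifferential.D k K)) x
  haveI : A.left.IsSeparated := ⟨by
    rw [← Limits.terminal.comp_from A.hom]
    infer_instance⟩
  haveI : IsDominant γA := ⟨by
    rw [DenseRange, dense_iff_closure_eq, ← Set.univ_subset_iff, ← (genericPoint_spec A.left).def]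
    exact closure_mono (Set.singleton_subset_iff.2 ⟨_, Scheme.fromSpecStalk_closedPoint⟩)⟩
  have htr : ∀ a : 𝟙_ (Over (Spec (CommRingCat.of k))) ⟶ A, Surjective (AmpleCompl.tr a).left := fun a => by
    haveI := AmpleCompl.isIso_tr a
    infer_instance
  let σ : ∀ a : 𝟙_ (Over (Spec (CommRingCat.of k))) ⟶ A, K ⟶ K := fun a =>
    haveI := htr a
    ff (AmpleCompl.tr a).left (genericPoint_map _)
  have hσ : ∀ a, Spec.map (σ a) ≫ γA = γA ≫ (AmpleCompl.tr a).left := fun a => ff_spec _ _
  have hfix : ∀ a, a ^ p = 1 → φ ≫ σ a = φ := fun a ha => by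
    apply Spec.map_injective
    rw [← cancel_mono γA, Spec.map_comp, Category.assoc, ff_spec, ← Category.assoc, hσ, Category.assoc,
      ← Over.comp_left, MonObj.comp_pow, Category.comp_id, AmpleCompl.tr, mul_pow, ← MonObj.comp_pow, ha,
      MonObj.comp_one, _root_.mul_one]
  letI : Algebra K K := φ.hom.toAlgebra
  refine le_trans ?_ (@PDegree.natCard_algHom_le k K _ _ _ _ _ p _ _ _ K _ φ.hom.toAlgebra g
    (trdeg_eq A.hom hg) hdeg hD)
  haveI hfd : @FiniteDimensional K K _ _ φ.hom.toAlgebra.toModule :=
    @FiniteDimensional.of_finrank_pos K K _ _ φ.hom.toAlgebra.toModule (hdeg.symm ▸ pow_pos hp _)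
  haveI : Finite (@AlgHom K K K _ _ _ φ.hom.toAlgebra φ.hom.toAlgebra) :=
    @Finite.of_fintype _ (@minpoly.AlgHom.fintype K K K _ _ _ _ φ.hom.toAlgebra φ.hom.toAlgebra hfd)
  refine Nat.card_le_card_of_injective (fun a =>
    ({ (σ a.1).hom with commutes' := fun x => ConcreteCategory.congr_hom (hfix a.1 a.2) x } : K →ₐ[K] K))
    fun a b hab => Subtype.ext ?_
  have h1 : σ a.1 = σ b.1 := CommRingCat.hom_ext (RingHom.ext fun x => DFunLike.congr_fun hab x)
  have h2 : (AmpleCompl.tr a.1).left = (AmpleCompl.tr b.1).left :=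
    ext_of_isDominant γA (by rw [← hσ, ← hσ, h1])
  have h3 := congrArg ((1 : 𝟙_ (Over (Spec (CommRingCat.of k))) ⟶ A) ≫ ·)
    (Over.OverMorphism.ext h2 : AmpleCompl.tr a.1 = AmpleCompl.tr b.1)
  simpa [AmpleCompl.comp_tr, toUnit_unique (toUnit (𝟙_ (Over (Spec (CommRingCat.of k))))) (𝟙 _)] using h3

end Torsion

end Groth.Agent.H63.AVInsep
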