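import Groth.Agent.H63.CubePow
import Groth.Agent.H63.AVProjective
import Groth.Agent.Lib.Ample.Pullback

/-!
# Symmetric ample classes on abelian varieties

* `exists_symmetric_ample`: an ample `L` with `[d]^* L ≅ L^{⊗ d²}` for every integer `d`
-/

set_option autoImplicit false

universe u

open CategoryTheory MonoidalCategory CartesianMonoidalCategory AlgebraicGeometry TopologicalSpace
open scoped MonObj GrpObj
open Groth.Agent.H3 Groth.Agent.Lib Groth.Agent.Lib.TensorMod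

namespace Groth.Agent.H63.AVSymmetric

noncomputable local instance (Y : Scheme.{u}) : PicGrp.Law Y := Groth.Agent.Lib.TensorMod.Invertible.law Y

variable {k : Type u} [Field k] (A : Over (Spec (CommRingCat.of k))) [GrpObj A]

theorem inv_comp_inv : ((𝟙 A)⁻¹ : A ⟶ A) ≫ (𝟙 A)⁻¹ = 𝟙 A := by
  rw [GrpObj.comp_inv, Category.comp_id, inv_inv]

theorem choose_add (m : ℕ) : (m + 1).choose 2 + m.choose 2 = m * m := by
  induction m with
  | zero => rfl
  | succ m ih =>
    have h2 : (m + 1).choose 2 = m + m.choose 2 := by rw [Nat.choose_succ_succ, Nat.choose_one_right]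
    have h3 : (m + 1 + 1).choose 2 = (m + 1) + (m + 1).choose 2 := by rw [Nat.choose_succ_succ, Nat.choose_one_right]
    rw [show (m + 1) * (m + 1) = m * m + 2 * m + 1 by ring]
    omega

variable [IsProper A.hom] [GeometricallyIntegral A.hom]

/-- A symmetric class is multiplied by `d²` under `[d]`. -/
theorem ph_zpow (c : PicLoc.PicSet A.left) (hc : PicCalc.ph ((𝟙 A)⁻¹ : A ⟶ A) c = c) (d : ℤ) :
    PicCalc.ph ((𝟙 A : A ⟶ A) ^ d) c = c ^ (d.natAbs * d.natAbs) := by
  have hcube : CubePow.CubeRel A := fun V f g h c => CubeRel.cube_rel f g h c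
  obtain ⟨n, rfl | rfl⟩ := d.eq_nat_or_neg
  · rw [zpow_natCast, Int.natAbs_natCast, CubePow.ph_pow hcube, PicCalc.ph_id, hc, ← pow_add, choose_add]
  · rw [zpow_neg, zpow_natCast, Int.natAbs_neg, Int.natAbs_natCast, ← inv_pow, CubePow.ph_pow hcube,
      hc, inv_inv, PicCalc.ph_id, ← pow_add, choose_add]

/-- An ample invertible module `L` with an inverse `M` such that `[d]^* M ≅ M^{⊗ d²}`. -/
theorem exists_symmetric_ample :
    ∃ (L M : A.left.Modules), CohB1.IsAmple L ∧ PicF.IsInvertible M ∧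
      Nonempty (CohB1.tensorMod L M ≅ Coh.structureModule A.left) ∧
      ∀ d : ℤ, Nonempty ((Scheme.Modules.pullback ((𝟙 A : A ⟶ A) ^ d).left).obj M ≅
        CohB1.tensorPow M (d.natAbs * d.natAbs)) := by
  obtain ⟨L₀, hL₀⟩ := AVProjective.exists_isAmple A
  let v : A ⟶ A := (𝟙 A)⁻¹
  haveI : IsIso v.left := ⟨v.left, by rw [← Over.comp_left, inv_comp_inv]; rfl,
    by rw [← Over.comp_left, inv_comp_inv]; rfl⟩
  let L₁ := (Scheme.Modules.pullback v.left).obj L₀
  have hL₁ : CohB1.IsAmple L₁ :=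
    Ample.Pullback.isAmple_pullback v.left (Ample.Pullback.isQuasiAffine_of_isAffineHom v.left) hL₀
  have hL : CohB1.IsAmple (CohB1.tensorMod L₀ L₁) := Ample.Basis.isAmple_tensor hL₀ hL₁.1 fun x => by
    obtain ⟨n, hn, s, hs, -⟩ := (Ample.Pow.isAmple_iff.1 hL₁).2.2 x
    exact ⟨n, hn, s, hs⟩
  set c₀ := PicGrp.cls L₀ hL₀.1
  set c := c₀ * PicCalc.ph v c₀ with hc
  have hcl : PicF.cl (CohB1.tensorMod L₀ L₁) = c.1 :=
    PicCalc.cl_tensor (a := c₀) rfl (PicCalc.cl_pullback v (a := c₀) rfl)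
  have hsym : PicCalc.ph v c = c := by
    rw [hc, map_mul, ← PicCalc.ph_comp, inv_comp_inv, PicCalc.ph_id, mul_comm]
  obtain ⟨M, hM, hMc⟩ := PicGrp.exists_eq_cls c⁻¹
  refine ⟨_, M, hL, hM, (PicCalc.iso_iff (b := 1) (PicCalc.cl_tensor hcl (b := c⁻¹) (by rw [hMc]; rfl))
    PicGrp.one_val.symm).2 (mul_inv_cancel c), fun d => ?_⟩
  refine (PicCalc.iso_iff (PicCalc.cl_pullback ((𝟙 A : A ⟶ A) ^ d) (a := c⁻¹) (by rw [hMc]; rfl))
    (AmpleCompl.cl_tensorPow (a := c⁻¹) (by rw [hMc]; rfl) _)).2 ?_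
  rw [map_inv, ph_zpow A c hsym, inv_pow]

end Groth.Agent.H63.AVSymmetric
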