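import Groth.Agent.H3.CubeRel
import Groth.Agent.H4.Locus
import Groth.Agent.Lib.Ample.Pow
import Groth.Agent.Lib.GrpSch.BaseChange
import Groth.Agent.H52.FDesc.AmpleDescent
import Mathlib.AlgebraicGeometry.AlgClosed.Basic
import Mathlib.AlgebraicGeometry.Group.Abelian
import Mathlib.FieldTheory.IsAlgClosed.AlgebraicClosure

/-!
# Ampleness on abelian varieties from an affine locus

* `isAmple_algClosed`, `isAmple`: an invertible module with a section whose locus is a nonempty affine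
  open is ample.
-/

set_option autoImplicit false

universe u

open CategoryTheory MonoidalCategory CartesianMonoidalCategory AlgebraicGeometry TopologicalSpace
open scoped MonObj GrpObj
open Groth.Agent.H3 Groth.Agent.Lib Groth.Agent.Lib.TensorMod
open Groth.Agent.H4.Locus

namespace Groth.Agent.H63.AmpleCompl

noncomputable local instance (Y : Scheme.{u}) : PicGrp.Law Y := Groth.Agent.Lib.TensorMod.Invertible.law Y

section Square

variable {k : Type u} [Field k]
  {A : Over (Spec (CommRingCat.of k))} [GrpObj A]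

/-- translation by a point -/
noncomputable def tr (a : 𝟙_ (Over (Spec (CommRingCat.of k))) ⟶ A) : A ⟶ A := 𝟙 A * (toUnit A ≫ a)

theorem comp_tr {V : Over (Spec (CommRingCat.of k))} (p : V ⟶ A) (a : 𝟙_ (Over (Spec (CommRingCat.of k))) ⟶ A) :
    p ≫ tr a = p * (toUnit V ≫ a) := by
  rw [tr, MonObj.comp_mul, Category.comp_id, ← Category.assoc, toUnit_unique (p ≫ toUnit A) (toUnit V)]

theorem tr_one : tr (1 : 𝟙_ (Over (Spec (CommRingCat.of k))) ⟶ A) = 𝟙 A := by
  rw [tr, MonObj.comp_one, _root_.mul_one]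

theorem tr_comp (a b : 𝟙_ (Over (Spec (CommRingCat.of k))) ⟶ A) : tr a ≫ tr b = tr (a * b) := by
  rw [comp_tr, tr, tr, MonObj.comp_mul, mul_assoc]

theorem isIso_tr (a : 𝟙_ (Over (Spec (CommRingCat.of k))) ⟶ A) : IsIso (tr a).left := by
  refine ⟨(tr a⁻¹).left, ?_, ?_⟩ <;>
    rw [← Over.comp_left, tr_comp] <;> simp [tr_one]

theorem ph_const {V : Over (Spec (CommRingCat.of k))} (a : 𝟙_ (Over (Spec (CommRingCat.of k))) ⟶ A)
    (c : PicLoc.PicSet A.left) : PicCalc.ph (toUnit V ≫ a) c = 1 := by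
  haveI : Subsingleton (𝟙_ (Over (Spec (CommRingCat.of k)))).left :=
    inferInstanceAs (Subsingleton (Spec (CommRingCat.of k)))
  haveI : Nonempty (𝟙_ (Over (Spec (CommRingCat.of k)))).left :=
    inferInstanceAs (Nonempty (Spec (CommRingCat.of k)))
  rw [PicCalc.ph_comp, PicCalc.eq_one_of_subsingleton (PicCalc.ph a c), map_one]

variable [IsProper A.hom] [GeometricallyIntegral A.hom]

theorem cube_two {V : Over (Spec (CommRingCat.of k))} (f g h : V ⟶ A) (c : PicLoc.PicSet A.left)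
    (hg : PicCalc.ph g c = 1) (hh : PicCalc.ph h c = 1) (hgh : PicCalc.ph (g * h) c = 1) :
    PicCalc.ph (f * g * h) c * PicCalc.ph f c = PicCalc.ph (f * g) c * PicCalc.ph (f * h) c := by
  have e := CubeRel.cube_rel f g h c
  rwa [hg, hh, hgh, _root_.mul_one, _root_.mul_one, _root_.mul_one] at e

/-- The theorem of the square. -/
theorem square (a b : 𝟙_ (Over (Spec (CommRingCat.of k))) ⟶ A) (c : PicLoc.PicSet A.left) :
    PicCalc.ph (tr (a * b)) c * c = PicCalc.ph (tr a) c * PicCalc.ph (tr b) c := by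
  have hm : (toUnit A ≫ a) * (toUnit A ≫ b) = toUnit A ≫ (a * b) := (MonObj.comp_mul _ _ _).symm
  refine Eq.trans ?_ (cube_two (𝟙 A) (toUnit A ≫ a) (toUnit A ≫ b) c (ph_const a c) (ph_const b c)
    (by rw [hm]; exact ph_const (a * b) c))
  rw [PicCalc.ph_id, mul_assoc (𝟙 A : A ⟶ A), hm]
  rfl

theorem triple (a b d : 𝟙_ (Over (Spec (CommRingCat.of k))) ⟶ A) (habd : a * b * d = 1)
    (c : PicLoc.PicSet A.left) :
    PicCalc.ph (tr a) c * PicCalc.ph (tr b) c * PicCalc.ph (tr d) c = c ^ 3 := by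
  have h2 := square (a * b) d c
  rw [habd, tr_one, PicCalc.ph_id] at h2
  rw [← square a b c, mul_assoc, mul_comm c, ← mul_assoc, ← h2, pow_succ, pow_two]

end Square

variable {k : Type u} [Field k] (A : Over (Spec (CommRingCat.of k))) [GrpObj A]

theorem cl_tensorPow {Y : Scheme.{u}} {M : Y.Modules}
    {a : PicLoc.PicSet Y} (ha : PicF.cl M = a.1) (m : ℕ) : PicF.cl (CohB1.tensorPow M m) = (a ^ m).1 := by
  induction m with
  | zero => rw [pow_zero, PicGrp.one_val]; rfl
  | succ m ih => rw [pow_succ]; exact PicCalc.cl_tensor ih ha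

theorem isAmple_algClosed [IsAlgClosed k] [IsProper A.hom] [GeometricallyIntegral A.hom]
    (L : A.left.Modules) (hL : PicF.IsInvertible L) (s : Coh.structureModule A.left ⟶ L)
    (hne : (CohB1.genLocus L s : Set A.left).Nonempty) (haff : IsAffineOpen (CohB1.genLocus L s)) :
    CohB1.IsAmple L := by
  haveI := isCommMonObj_of_isProper_of_geometricallyIntegral A
  haveI : IsIntegral A.left := GeometricallyIntegral.isIntegral_of_subsingleton A.hom
  haveI : IrreducibleSpace A.left := inferInstance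
  haveI : CompactSpace A.left := QuasiCompact.compactSpace_of_compactSpace A.hom
  haveI : JacobsonSpace A.left := LocallyOfFiniteType.jacobsonSpace A.hom
  haveI : A.left.IsSeparated := ⟨by
    rw [← Limits.terminal.comp_from A.hom]
    infer_instance⟩
  set U := CohB1.genLocus L s
  have hW : HasLocus (PicGrp.cls L hL) U := ⟨L, hL, s, rfl, rfl⟩
  refine Ample.Pow.isAmple_iff.2 ⟨hL, inferInstance, fun x => ?_⟩
  obtain ⟨x₀, hxx₀, hx₀⟩ : ∃ x₀ : A.left, x ⤳ x₀ ∧ IsClosed ({x₀} : Set A.left) := by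
    obtain ⟨y, hy, hyc⟩ := (isClosed_closure (s := ({x} : Set A.left))).exists_closed_singleton
      ⟨x, subset_closure rfl⟩
    exact ⟨y, specializes_iff_mem_closure.2 hy, hyc⟩
  let pt : ∀ (z : A.left), IsClosed ({z} : Set A.left) → (𝟙_ (Over (Spec (CommRingCat.of k))) ⟶ A) :=
    fun z hz => Over.homMk (pointOfClosedPoint A.hom z hz) (pointOfClosedPoint_comp A.hom z hz)
  obtain ⟨o⟩ : Nonempty (𝟙_ (Over (Spec (CommRingCat.of k)))).left :=
    inferInstanceAs (Nonempty (Spec (CommRingCat.of k)))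
  have hpt : ∀ z hz, (pt z hz).left o = z := fun z hz => pointOfClosedPoint_apply A.hom z hz o
  let p := pt x₀ hx₀
  obtain ⟨q₀, hq₀U, hq₀⟩ := nonempty_inter_closedPoints hne U.isOpen.isLocallyClosed
  let q := pt q₀ hq₀
  let φ : A ⟶ A := (𝟙 A)⁻¹ ≫ tr (p * p * p * q⁻¹)
  have hφ : IsIso φ.left := by
    rw [Over.comp_left]
    haveI := isIso_tr (p * p * p * q⁻¹)
    haveI : IsIso ((𝟙 A)⁻¹ : A ⟶ A).left := by
      refine ⟨((𝟙 A)⁻¹ : A ⟶ A).left, ?_, ?_⟩ <;>
        rw [← Over.comp_left, GrpObj.comp_inv, Category.comp_id, inv_inv] <;> rfl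
    infer_instance
  have hne2 : ((φ.left ⁻¹ᵁ U : A.left.Opens) : Set A.left).Nonempty := by
    obtain ⟨z, hz⟩ := hne
    obtain ⟨w, rfl⟩ := φ.left.surjective z
    exact ⟨w, hz⟩
  obtain ⟨r₀, ⟨hr₀U, hr₀φ⟩, hr₀⟩ := nonempty_inter_closedPoints
    (Z := (U : Set A.left) ∩ (φ.left ⁻¹ᵁ U : A.left.Opens))
    (nonempty_preirreducible_inter U.isOpen (φ.left ⁻¹ᵁ U).isOpen hne hne2)
    (U.isOpen.inter (φ.left ⁻¹ᵁ U).isOpen).isLocallyClosed
  let r := pt r₀ hr₀
  have happ : ∀ (v : 𝟙_ (Over (Spec (CommRingCat.of k))) ⟶ A) (g : A ⟶ A), g.left (v.left o) = (v ≫ g).left o :=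
    fun v g => rfl
  have hmem : ∀ (a w : 𝟙_ (Over (Spec (CommRingCat.of k))) ⟶ A), p * a = w → w.left o ∈ U →
      x₀ ∈ (tr a).left ⁻¹ᵁ U := by
    intro a w h hw
    show (tr a).left x₀ ∈ U
    rw [← hpt x₀ hx₀, happ, comp_tr, toUnit_unique (toUnit _) (𝟙 _), Category.id_comp]
    exact h ▸ hw
  let a := p⁻¹ * q
  let b := p⁻¹ * r
  let d := (a * b)⁻¹
  let T : A.left.Opens := (tr a).left ⁻¹ᵁ U ⊓ (tr b).left ⁻¹ᵁ U ⊓ (tr d).left ⁻¹ᵁ U
  have hxT : x₀ ∈ T := by
    refine ⟨⟨hmem a q (mul_inv_cancel_left _ _) ?_, hmem b r (mul_inv_cancel_left _ _) ?_⟩,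
      hmem d (r ≫ φ) ?_ ?_⟩
    · rw [hpt]; exact hq₀U
    · rw [hpt]; exact hr₀U
    · simp only [φ, d, a, b]
      rw [← Category.assoc, GrpObj.comp_inv, Category.comp_id, comp_tr,
        toUnit_unique (toUnit _) (𝟙 _), Category.id_comp]
      simp only [mul_inv_rev, inv_inv]
      ac_rfl
    · rw [← happ, hpt]; exact hr₀φ
  have hT : IsAffineOpen T := by
    haveI := isIso_tr a
    haveI := isIso_tr b
    haveI := isIso_tr d
    exact ((haff.preimage_of_isIso _).inf (haff.preimage_of_isIso _)).inf (haff.preimage_of_isIso _)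
  have hloc : HasLocus (PicGrp.cls L hL ^ 3) T := by
    rw [← triple a b d (mul_inv_cancel _)]
    exact ((hW.ph (tr a)).mul (hW.ph (tr b))).mul (hW.ph (tr d))
  obtain ⟨M, hM, t, hMc, hMT⟩ := hloc
  obtain ⟨e⟩ := (PicCalc.iso_iff (a := PicGrp.cls M hM) rfl (cl_tensorPow (a := PicGrp.cls L hL) rfl 3)).2 hMc
  refine Ample.Pow.AffineAt.mk (by norm_num : 0 < 3) e t ?_ (hMT ▸ hT)
  exact hMT ▸ hxx₀.mem_open T.isOpen hxT

/-- An invertible module on an abelian variety with a section whose locus is a nonempty affine open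
is ample. -/
theorem isAmple [IsProper A.hom] [GeometricallyIntegral A.hom]
    (L : A.left.Modules) (hL : PicF.IsInvertible L) (s : Coh.structureModule A.left ⟶ L)
    (hne : (CohB1.genLocus L s : Set A.left).Nonempty) (haff : IsAffineOpen (CohB1.genLocus L s)) :
    CohB1.IsAmple L := by
  let e := GrpSch.extBase k (AlgebraicClosure k)
  haveI : IsProper (Red.bc e A).hom := GrpSch.bc_hom_of (P := @IsProper) e A inferInstance
  haveI : GeometricallyIntegral (Red.bc e A).hom :=
    GrpSch.bc_hom_of (P := @GeometricallyIntegral) e A inferInstance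
  haveI : QuasiCompact A.hom := inferInstance
  refine Groth.Agent.H52.FDesc.AmpleDescent.isAmple_descent A.hom e L hL ?_
  let π : (Red.bc e A).left ⟶ A.left := Limits.pullback.fst A.hom e
  have hgl : CohB1.genLocus ((Scheme.Modules.pullback π).obj L)
      ((PicLoc.pullbackStructureIso π).inv ≫ (Scheme.Modules.pullback π).map s) = π ⁻¹ᵁ CohB1.genLocus L s :=
    Ample.GenLocus.genLocus_pullback π hL s (PicLoc.pullbackStructureIso π).symm
  refine isAmple_algClosed (k := AlgebraicClosure k) (Red.bc e A) _ (PicLoc.isInvertible_pullback π hL)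
    ((PicLoc.pullbackStructureIso π).inv ≫ (Scheme.Modules.pullback π).map s) ?_ ?_
  · rw [hgl]
    obtain ⟨z, hz⟩ := hne
    obtain ⟨w, rfl⟩ := π.surjective z
    exact ⟨w, hz⟩
  · rw [hgl]
    haveI : IsAffineHom π := MorphismProperty.pullback_fst (P := @IsAffineHom) _ _ inferInstance
    exact haff.preimage π

end Groth.Agent.H63.AmpleCompl
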