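import Mathlib.FieldTheory.IsAlgClosed.Classification
import Mathlib.FieldTheory.IsAlgClosed.AlgebraicClosure
import Mathlib.RingTheory.AlgebraicIndependent.TranscendenceBasis
import Mathlib.RingTheory.Localization.FractionRing
import Mathlib.RingTheory.MvPolynomial.Basic

set_option autoImplicit false
universe u

/-!
Two embeddings of a field into a large algebraically closed field differ by an automorphism.
-/

namespace Groth.Agent.H63.BigClosed

/-- a large algebraically closed extension -/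
abbrev Big (κ : Type u) [Field κ] : Type u :=
  AlgebraicClosure (FractionRing (MvPolynomial (κ ⊕ ULift.{u} ℕ) κ))

theorem exists_algEquiv {R K L : Type u} [Field R] [Field K] [Field L] [Algebra R K] [Algebra R L]
    [IsAlgClosed K] [IsAlgClosed L] (h : Algebra.trdeg R K = Algebra.trdeg R L) :
    Nonempty (K ≃ₐ[R] L) := by
  obtain ⟨ι, v, hv⟩ := exists_isTranscendenceBasis' R K
  obtain ⟨ι', w, hw⟩ := exists_isTranscendenceBasis' R L
  have hι : Cardinal.mk ι = Cardinal.mk ι' := by
    rw [hv.cardinalMk_eq_trdeg, hw.cardinalMk_eq_trdeg, h]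
  obtain ⟨e⟩ := Cardinal.eq.1 hι
  letI := IsAlgClosed.isAlgClosure_of_transcendence_basis v hv
  letI := IsAlgClosed.isAlgClosure_of_transcendence_basis w hw
  let e₀ : Algebra.adjoin R (Set.range v) ≃ₐ[R] Algebra.adjoin R (Set.range w) :=
    hv.1.aevalEquiv.symm.trans ((MvPolynomial.renameEquiv R e).trans hw.1.aevalEquiv)
  refine ⟨AlgEquiv.ofRingEquiv (f := IsAlgClosure.equivOfEquiv K L e₀.toRingEquiv) fun r => ?_⟩
  rw [IsScalarTower.algebraMap_apply R (Algebra.adjoin R (Set.range v)) K,
    IsAlgClosure.equivOfEquiv_algebraMap]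
  exact (congrArg (algebraMap _ L) (e₀.commutes r)).trans
    (IsScalarTower.algebraMap_apply R (Algebra.adjoin R (Set.range w)) L r).symm

theorem trdeg_big (k κ : Type u) [Field k] [Field κ] [Algebra k κ] :
    Algebra.trdeg k (Big κ) = Cardinal.mk (κ ⊕ ULift.{u} ℕ) := by
  let P := MvPolynomial (κ ⊕ ULift.{u} ℕ) κ
  have h1 : Algebra.trdeg κ P = Cardinal.mk (κ ⊕ ULift.{u} ℕ) := by simp [P]
  have : Algebra.IsAlgebraic P (FractionRing P) :=
    IsLocalization.isAlgebraic _ (nonZeroDivisors P)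
  have : Algebra.IsAlgebraic P (Big κ) := Algebra.IsAlgebraic.trans P (FractionRing P) (Big κ)
  have : FaithfulSMul P (Big κ) := by
    rw [faithfulSMul_iff_algebraMap_injective, IsScalarTower.algebraMap_eq P (FractionRing P) (Big κ),
      RingHom.coe_comp]
    exact (algebraMap (FractionRing P) (Big κ)).injective.comp (IsFractionRing.injective P _)
  have h2 : Algebra.trdeg κ (Big κ) = Cardinal.mk (κ ⊕ ULift.{u} ℕ) := by
    have h := trdeg_add_eq κ P (A := Big κ)
    rw [trdeg_eq_zero (R := P), add_zero, h1] at h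
    exact h.symm
  have h3 := trdeg_add_eq k κ (A := Big κ)
  rw [h2] at h3
  rw [← h3]
  refine Cardinal.add_eq_right (Cardinal.aleph0_le_mk _) (le_trans ?_ (Cardinal.mk_le_of_injective Sum.inl_injective))
  obtain ⟨s, hs⟩ := exists_isTranscendenceBasis k κ
  rw [← hs.cardinalMk_eq_trdeg]
  exact Cardinal.mk_le_of_injective Subtype.val_injective

/-- two embeddings into the big field differ by an automorphism -/
theorem exists_auto {k κ : Type u} [Field k] [Field κ] (σ τ : k →+* κ) :
    ∃ φ : Big κ ≃+* Big κ,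
      ∀ a, φ (algebraMap κ (Big κ) (σ a)) = algebraMap κ (Big κ) (τ a) := by
  let alg1 : Algebra k κ := σ.toAlgebra
  let A1 : Algebra k (Big κ) := ((algebraMap κ (Big κ)).comp σ).toAlgebra
  let A2 : Algebra k (Big κ) := ((algebraMap κ (Big κ)).comp τ).toAlgebra
  have t1 : @Algebra.trdeg k (Big κ) _ _ A1 = Cardinal.mk (κ ⊕ ULift.{u} ℕ) := by
    have := @trdeg_big k κ _ _ σ.toAlgebra
    convert! this using 2
    exact Algebra.algebra_ext _ _ fun a => rfl
  have t2 : @Algebra.trdeg k (Big κ) _ _ A2 = Cardinal.mk (κ ⊕ ULift.{u} ℕ) := by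
    have := @trdeg_big k κ _ _ τ.toAlgebra
    convert! this using 2
    exact Algebra.algebra_ext _ _ fun a => rfl
  obtain ⟨φ⟩ := @exists_algEquiv k (Big κ) (Big κ) _ _ _ A1 A2 _ _ (t1.trans t2.symm)
  exact ⟨@AlgEquiv.toRingEquiv k (Big κ) (Big κ) _ _ _ A1 A2 φ,
    fun a => @AlgEquiv.commutes k (Big κ) (Big κ) _ _ _ A1 A2 φ a⟩

end Groth.Agent.H63.BigClosed
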