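import Mathlib.RingTheory.Valuation.LocalSubring
import Mathlib.RingTheory.IntegralClosure.IntegrallyClosed
import Mathlib.FieldTheory.IsAlgClosed.Basic
import Mathlib.Algebra.Polynomial.Lifts
import Mathlib.RingTheory.Int.Basic
import Mathlib.Algebra.GCDMonoid.IntegrallyClosed
import Mathlib.RingTheory.PrincipalIdealDomain
import Mathlib.Data.Rat.Cast.CharZero
import Mathlib.Algebra.Algebra.Rat

/-!
# Integrality from integral norms

* `isIntegral_of_prod_mem`: if `∏ F(θ) ∈ ℤ` for every monic `F` then all `θ` are integral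
* `exists_int`: the monic polynomial with these roots has integer coefficients
-/

set_option autoImplicit false

universe u

open Polynomial

namespace Groth.Agent.H63.CharPolyInt

/-- pairwise coprime monic polynomials -/
noncomputable def seq : ℕ → ℤ[X]
  | 0 => X
  | n + 1 => X * (∏ i : Fin (n + 1), seq i.1) + 1
termination_by n => n
decreasing_by exact i.2

theorem seq_monic (n : ℕ) : (seq n).Monic ∧ 1 ≤ (seq n).natDegree := by
  induction n using Nat.strong_induction_on with
  | _ n ih =>
    cases n with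
    | zero => rw [seq]; exact ⟨monic_X, natDegree_X.ge⟩
    | succ n =>
      rw [seq]
      have hm : (∏ i : Fin (n + 1), seq i.1).Monic := monic_prod_of_monic _ _ fun i _ => (ih i.1 i.2).1
      have h1 : 1 ≤ (X * ∏ i : Fin (n + 1), seq i.1).natDegree := by
        rw [monic_X.natDegree_mul hm, natDegree_X]
        exact Nat.le_add_right _ _
      have hlt : (1 : ℤ[X]).degree < (X * ∏ i : Fin (n + 1), seq i.1).degree := by
        rw [degree_one]
        exact natDegree_pos_iff_degree_pos.1 h1
      refine ⟨(monic_X.mul hm).add_of_left hlt, ?_⟩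
      rwa [natDegree_add_eq_left_of_degree_lt hlt]

theorem seq_ne_zero {L : Type*} [CommRing L] [Nontrivial L] (s : L) {i j : ℕ} (hij : i < j)
    (hi : aeval s (seq i) = 0) : aeval s (seq j) ≠ 0 := by
  obtain ⟨n, rfl⟩ := Nat.exists_eq_add_one_of_ne_zero (Nat.ne_zero_of_lt hij)
  rw [seq, map_add, map_mul, map_prod, map_one, Finset.prod_eq_zero (i := ⟨i, hij⟩) (Finset.mem_univ _) hi,
    mul_zero, zero_add]
  exact one_ne_zero

variable {C : Type u} [Field C]

theorem isIntegral_of_prod_mem (θ : Multiset C)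
    (h : ∀ F : ℤ[X], F.Monic → ∃ z : ℤ, (θ.map fun t => aeval t F).prod = z) :
    ∀ t ∈ θ, IsIntegral ℤ t := by
  classical
  intro t ht
  by_contra hnot
  have hnot' : t ∉ (integralClosure (Subring.closure (∅ : Set C)) C).toSubring := fun hmem => by
    refine hnot ?_
    rw [Subring.closure_empty] at hmem
    haveI : Algebra.IsIntegral ℤ (⊥ : Subring C) := ⟨fun x => by
      obtain ⟨m, hm⟩ := Subring.mem_bot.1 x.2
      exact ⟨X - Polynomial.C m, monic_X_sub_C m, by
        rw [← aeval_def, map_sub, aeval_X, aeval_C, sub_eq_zero]; exact Subtype.ext (by simp [hm])⟩⟩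
    exact isIntegral_trans (A := (⊥ : Subring C)) t hmem
  rw [← iInf_valuationSubring_superset] at hnot'
  simp only [Subring.mem_iInf, not_forall] at hnot'
  obtain ⟨V, hV⟩ : ∃ V : ValuationSubring C, t ∉ V := hnot'.elim fun W hW => ⟨W.1, hW⟩
  let res : V →+* IsLocalRing.ResidueField V := IsLocalRing.residue V
  -- each residue kills at most one polynomial of the sequence
  obtain ⟨j, hj⟩ : ∃ j, ∀ s ∈ θ, ∀ hs : s ∈ V, aeval (res ⟨s, hs⟩) (seq j) ≠ 0 := by
    by_contra hall
    push Not at hall
    choose f hf hfV hf0 using hall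
    have hinj : Function.Injective fun j => (⟨f j, Multiset.mem_toFinset.2 (hf j)⟩ : θ.toFinset) := by
      intro i j hij
      simp only [Subtype.mk.injEq] at hij
      rcases lt_trichotomy i j with hl | hl | hl
      · have e : res ⟨f i, hfV i⟩ = res ⟨f j, hfV j⟩ := congrArg res (Subtype.ext hij)
        exact absurd (hf0 j) (seq_ne_zero _ hl (e ▸ hf0 i))
      · exact hl
      · have e : res ⟨f i, hfV i⟩ = res ⟨f j, hfV j⟩ := congrArg res (Subtype.ext hij)
        exact absurd (hf0 i) (seq_ne_zero _ hl (e.symm ▸ hf0 j))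
    exact not_finite_iff_infinite.2 (Infinite.of_injective _ hinj) inferInstance
  obtain ⟨hmon, hdeg⟩ := seq_monic j
  have hge : ∀ s ∈ θ, 1 ≤ V.valuation (aeval s (seq j)) ∧ (s ∉ V → 1 < V.valuation (aeval s (seq j))) := by
    intro s hs
    by_cases hsV : s ∈ V
    · refine ⟨le_of_eq ?_, fun h => absurd hsV h⟩
      have e : (aeval s (seq j)) = ((aeval (⟨s, hsV⟩ : V) (seq j) : V) : C) := by
        exact (aeval_algHom_apply (V.subtype.toIntAlgHom) (⟨s, hsV⟩ : V) (seq j))
      rw [e]
      refine ((V.valuation_eq_one_iff _).1 ((IsLocalRing.residue_ne_zero_iff_isUnit _).1 ?_)).symm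
      show res _ ≠ 0
      rw [← RingHom.toIntAlgHom_apply res, ← aeval_algHom_apply]
      exact hj s hs hsV
    · have : aeval s (seq j) ∉ V := fun hmem => hsV <| by
        have hint : IsIntegral V s := by
          refine ⟨(seq j).map (algebraMap ℤ V) - Polynomial.C ⟨_, hmem⟩, ?_, ?_⟩
          · exact (hmon.map _).sub_of_left (lt_of_le_of_lt degree_C_le (by
              rw [hmon.degree_map]; exact natDegree_pos_iff_degree_pos.1 hdeg))
          · rw [← aeval_def, map_sub, aeval_map_algebraMap, aeval_C, sub_eq_zero]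
            rfl
        obtain ⟨y, hy⟩ := (IsIntegrallyClosed.isIntegral_iff (R := V) (K := C)).1 hint
        exact hy ▸ y.2
      exact ⟨le_of_lt (not_le.1 (mt (V.valuation_le_one_iff _).1 this)),
        fun _ => not_le.1 (mt (V.valuation_le_one_iff _).1 this)⟩
  obtain ⟨z, hz⟩ := h _ hmon
  obtain ⟨θ', rfl⟩ := Multiset.exists_cons_of_mem ht
  have h1 : V.valuation ((Multiset.map (fun t => aeval t (seq j)) (t ::ₘ θ')).prod) ≤ 1 := by
    rw [hz, V.valuation_le_one_iff]
    exact intCast_mem V.toSubring z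
  have h2 : ∀ m : Multiset C, (∀ s ∈ m, 1 ≤ V.valuation (aeval s (seq j))) →
      1 ≤ V.valuation ((m.map fun t => aeval t (seq j)).prod) := by
    intro m
    induction m using Multiset.induction with
    | empty => simp
    | cons s m ih =>
      intro hm
      rw [Multiset.map_cons, Multiset.prod_cons, map_mul]
      exact one_le_mul (hm s (Multiset.mem_cons_self s m)) (ih fun x hx => hm x (Multiset.mem_cons_of_mem hx))
  rw [Multiset.map_cons, Multiset.prod_cons, map_mul] at h1
  have h3 := (hge t (Multiset.mem_cons_self _ _)).2 hV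
  have h4 := h2 θ' fun x hx => (hge x (Multiset.mem_cons_of_mem hx)).1
  exact absurd h1 (not_le.2 (lt_of_lt_of_le h3 (le_mul_of_one_le_right' h4)))

/-- A monic rational polynomial with integral norms has integer coefficients. -/
theorem exists_int [IsAlgClosed C] [CharZero C] (P : ℚ[X]) (hm : P.Monic)
    (h : ∀ F : ℤ[X], F.Monic → ∃ z : ℤ, ((P.map (algebraMap ℚ C)).roots.map fun t => aeval t F).prod = z) :
    ∃ Q : ℤ[X], Q.Monic ∧ Q.map (Int.castRingHom ℚ) = P := by
  have hint := isIntegral_of_prod_mem _ h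
  have hs : (P.map (algebraMap ℚ C)).Splits := IsAlgClosed.splits _
  have hlifts : ∀ i, IsIntegral ℤ ((P.map (algebraMap ℚ C)).coeff i) := by
    have hmem : P.map (algebraMap ℚ C) ∈ Polynomial.lifts (algebraMap (integralClosure ℤ C) C) := by
      rw [hs.eq_prod_roots, (hm.map _).leadingCoeff, map_one, one_mul]
      refine Subsemiring.multiset_prod_mem _ _ fun f hf => ?_
      obtain ⟨t, ht, rfl⟩ := Multiset.mem_map.1 hf
      exact ⟨X - Polynomial.C (⟨t, hint t ht⟩ : integralClosure ℤ C), by simp⟩
    intro i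
    obtain ⟨y, hy⟩ := (Polynomial.lifts_iff_coeff_lifts _).1 hmem i
    rw [← hy]
    exact y.2
  have hP : P ∈ Polynomial.lifts (Int.castRingHom ℚ) := by
    refine (Polynomial.lifts_iff_coeff_lifts _).2 fun i => ?_
    have h1 := hlifts i
    rw [Polynomial.coeff_map, isIntegral_algebraMap_iff (algebraMap ℚ C).injective] at h1
    obtain ⟨y, hy⟩ := IsIntegrallyClosed.isIntegral_iff.1 h1
    exact ⟨y, by simpa using hy⟩
  obtain ⟨Q, hQ, -, hQm⟩ := Polynomial.lifts_and_degree_eq_and_monic hP hm
  exact ⟨Q, hQm, hQ⟩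

end Groth.Agent.H63.CharPolyInt
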