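import Groth.Agent.H63.DegreeHom
import Groth.Agent.H63.CharPolyInt
import Mathlib.Analysis.Complex.Polynomial.Basic

/-!
# The characteristic polynomial of an endomorphism of an abelian variety

* `exists_int`: it has integer coefficients
-/

set_option autoImplicit false

universe u

open CategoryTheory MonoidalCategory CartesianMonoidalCategory AlgebraicGeometry
open scoped MonObj GrpObj

namespace Groth.Agent.H63.CharPolyAV

variable {k : Type u} [Field k] {A : Over (Spec (CommRingCat.of k))} [GrpObj A] [IsCommMonObj A]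
  [IsProper A.hom] [GeometricallyIntegral A.hom] [IsIntegral A.left]

theorem exists_int {r : ℕ} (hA : topologicalKrullDim A.left = r) (α : EndAV.End A) :
    ∃ P : Polynomial ℤ, P.Monic ∧ P.natDegree = 2 * r ∧
      ∀ n : ℤ, (DegreeHom.deg (EndAV.End.toHom (α - (n : EndAV.End A))) : ℤ) = P.eval n := by
  obtain ⟨P, hm, hd, hP⟩ := DegreeHom.exists_charPoly hA α
  obtain ⟨Q, hQm, hQ⟩ := CharPolyInt.exists_int (C := ℂ) P hm fun F _ =>
    ⟨(DegreeHom.deg (EndAV.End.toHom (Polynomial.aeval α F)) : ℤ), by
      rw [← DegreeHom.deg_aeval hA α P hm hd hP ℂ F]; simp⟩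
  refine ⟨Q, hQm, ?_, fun n => ?_⟩
  · rw [← hd, ← hQ, Polynomial.natDegree_map_eq_of_injective Int.cast_injective]
  · have h := hP n
    rw [← hQ, Polynomial.eval_intCast_map] at h
    simp only [eq_intCast] at h
    exact_mod_cast h

end Groth.Agent.H63.CharPolyAV
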