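import Mathlib.NumberTheory.Padics.RingHoms
import Mathlib.RingTheory.Polynomial.Resultant.Basic
import Mathlib.RingTheory.Polynomial.GaussLemma
import Mathlib.LinearAlgebra.Matrix.Charpoly.Basic
import Mathlib.LinearAlgebra.Matrix.Polynomial
import Mathlib.FieldTheory.IsAlgClosed.AlgebraicClosure
import Mathlib.RingTheory.DedekindDomain.Dvr
import Mathlib.RingTheory.Polynomial.UniqueFactorization

/-!
# Monic `p`-adic polynomials are determined by valuations of resultants

* `eq_of_resultant`
* `det_aeval`: `det F(M) = ± Res(F, charpoly M)`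
-/

set_option autoImplicit false

open Polynomial

namespace Groth.Agent.H63.CharPolyUnique

variable {R : Type*} [CommRing R]

theorem resultant_map_monic {S : Type*} [CommRing S] [Nontrivial S] (φ : R →+* S) {F g : R[X]}
    (hF : F.Monic) (hg : g.Monic) : resultant (F.map φ) (g.map φ) = φ (resultant F g) := by
  rw [← resultant_map_map, hF.natDegree_map, hg.natDegree_map]

theorem resultant_mul_monic {F g₁ g₂ : R[X]} (h₁ : g₁.Monic) (h₂ : g₂.Monic) :
    resultant F (g₁ * g₂) = resultant F g₁ * resultant F g₂ := by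
  rw [h₁.natDegree_mul h₂]
  exact resultant_mul_right F g₁ g₂ _ le_rfl

theorem resultant_pow_monic [Nontrivial R] {F g : R[X]} (hg : g.Monic) (c : ℕ) :
    resultant F (g ^ c) = resultant F g ^ c := by
  induction c with
  | zero => simp
  | succ c ih => rw [pow_succ, resultant_mul_monic (hg.pow c) hg, ih, pow_succ]

theorem resultant_ne_zero_of_irreducible [IsDomain R] [IsIntegrallyClosed R] {f g : R[X]} (hf : f.Monic)
    (hi : Irreducible f) (hg : g.Monic) (hd : ¬ f ∣ g) : resultant f g ≠ 0 := by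
  let K := FractionRing R
  have hK : Irreducible (f.map (algebraMap R K)) :=
    (Monic.irreducible_iff_irreducible_map_fraction_map hf).1 hi
  have hd' : ¬ f.map (algebraMap R K) ∣ g.map (algebraMap R K) :=
    fun h => hd ((map_dvd_map _ (IsFractionRing.injective R K) hf).1 h)
  intro h0
  have h1 : resultant (f.map (algebraMap R K)) (g.map (algebraMap R K)) = 0 := by
    rw [resultant_map_monic _ hf hg, h0, map_zero]
  exact (resultant_eq_zero_iff.1 h1).2 ((hK.coprime_iff_not_dvd).2 hd')

variable {p : ℕ} [Fact p.Prime]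

local notation "iz" => (Int.castRingHom ℤ_[p])

theorem valuation_neg_pow_mul (n : ℕ) {x : ℤ_[p]} (hx : x ≠ 0) : ((-1) ^ n * x).valuation = x.valuation := by
  have h : (-1 : ℤ_[p]).valuation = 0 := by
    have := PadicInt.valuation_mul (x := (-1 : ℤ_[p])) (y := -1) (by simp) (by simp)
    rw [neg_one_mul, neg_neg, PadicInt.valuation_one] at this
    omega
  rw [PadicInt.valuation_mul (pow_ne_zero _ (by simp)) hx, PadicInt.valuation_pow, h, mul_zero, zero_add]

/-- Monic `p`-adic polynomials with the same valuations of resultants agree. -/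
theorem eq_of_resultant {G : ℤ_[p][X]} (hG : G.Monic) :
    ∀ (n : ℕ) (P Q : ℤ_[p][X]), P.Monic → Q.Monic → P.natDegree = n → Q.natDegree = n → P ∣ G → Q ∣ G →
      (∀ F : ℤ[X], F.Monic → resultant (F.map iz) G ≠ 0 →
        (resultant (F.map iz) P).valuation = (resultant (F.map iz) Q).valuation) → P = Q := by
  intro n
  induction n using Nat.strong_induction_on with
  | _ n ih =>
  intro P Q hP hQ hdP hdQ hPG hQG H
  rcases Nat.eq_zero_or_pos n with rfl | hn
  · rw [eq_one_of_monic_natDegree_zero hP hdP, eq_one_of_monic_natDegree_zero hQ hdQ]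
  -- a monic irreducible factor
  obtain ⟨f₀, hf₀, c₀, hc₀⟩ : ∃ f₀, Irreducible f₀ ∧ f₀ ∣ P :=
    WfDvdMonoid.exists_irreducible_factor
      (fun h => hn.ne' (hdP ▸ Polynomial.natDegree_eq_zero_of_isUnit h)) hP.ne_zero
  have hu : f₀.leadingCoeff * c₀.leadingCoeff = 1 := by rw [← leadingCoeff_mul, ← hc₀]; exact hP
  let f := C c₀.leadingCoeff * f₀
  have hfm : f.Monic := by
    rw [Monic, leadingCoeff_mul, leadingCoeff_C, mul_comm, hu]
  have hfu : IsUnit (C c₀.leadingCoeff : ℤ_[p][X]) :=
    isUnit_C.2 ((IsUnit.of_mul_eq_one _ (by rw [mul_comm]; exact hu)))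
  have hfi : Irreducible f := (irreducible_isUnit_mul hfu).2 hf₀
  have hfP : f ∣ P := (hfu.mul_left_dvd).2 ⟨c₀, hc₀⟩
  obtain ⟨P₁, hP₁⟩ := hfP
  have hP₁m : P₁.Monic := hfm.of_mul_monic_left (hP₁ ▸ hP)
  have hfd : 0 < f.natDegree := Nat.pos_of_ne_zero fun h => hfi.not_isUnit
    (by rw [eq_one_of_monic_natDegree_zero hfm h]; exact isUnit_one)
  by_cases hfQ : f ∣ Q
  · obtain ⟨Q₁, hQ₁⟩ := hfQ
    have hQ₁m : Q₁.Monic := hfm.of_mul_monic_left (hQ₁ ▸ hQ)
    have eP : f.natDegree + P₁.natDegree = n := by rw [← hfm.natDegree_mul hP₁m, ← hP₁, hdP]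
    have eQ : f.natDegree + Q₁.natDegree = n := by rw [← hfm.natDegree_mul hQ₁m, ← hQ₁, hdQ]
    rw [hP₁, hQ₁, ih P₁.natDegree (by omega) P₁ Q₁ hP₁m hQ₁m rfl (by omega)
      ((Dvd.intro_left f hP₁.symm).trans hPG) ((Dvd.intro_left f hQ₁.symm).trans hQG) fun F hF h0 => ?_]
    have h := H F hF h0
    have hne : ∀ {g : ℤ_[p][X]}, g.Monic → g ∣ G → resultant (F.map iz) g ≠ 0 := by
      rintro g hg ⟨g', rfl⟩ e
      exact h0 (by rw [resultant_mul_monic hg (hg.of_mul_monic_left hG), e, zero_mul])
    have hfG : f ∣ G := (Dvd.intro P₁ hP₁.symm).trans hPG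
    rw [hP₁, hQ₁, resultant_mul_monic hfm hP₁m, resultant_mul_monic hfm hQ₁m,
      PadicInt.valuation_mul (hne hfm hfG) (hne hP₁m ((Dvd.intro_left f hP₁.symm).trans hPG)),
      PadicInt.valuation_mul (hne hfm hfG) (hne hQ₁m ((Dvd.intro_left f hQ₁.symm).trans hQG))] at h
    omega
  exfalso
  obtain ⟨G', hG', hfG'⟩ :=
    (finiteMultiplicity_of_degree_pos_of_monic (natDegree_pos_iff_degree_pos.1 hfd) hfm hG.ne_zero).exists_eq_pow_mul_and_not_dvd
  have hG'm : G'.Monic := (hfm.pow _).of_mul_monic_left (hG' ▸ hG)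
  have hQ0 := resultant_ne_zero_of_irreducible hfm hfi hQ hfQ
  have hG0 := resultant_ne_zero_of_irreducible hfm hfi hG'm hfG'
  set N := (resultant f Q).valuation + (resultant f G').valuation + 1 with hN
  let q := PadicInt.toZModPow (p := p) N
  haveI : Fact (1 < p ^ N) := ⟨Nat.one_lt_pow (by omega) (Fact.out : p.Prime).one_lt⟩
  obtain ⟨F₀, hF₀, hF₀d, hF₀m⟩ := lifts_and_natDegree_eq_and_monic (f := Int.castRingHom (ZMod (p ^ N)))
    (p := f.map q) (Polynomial.map_surjective _ (ZMod.intCast_surjective) _) (hfm.map q)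
  rw [hfm.natDegree_map] at hF₀d
  -- a perturbation, never equal to `f`
  obtain ⟨F, hFm, hFd, hFq, hFf⟩ : ∃ F : ℤ[X], F.Monic ∧ F.natDegree = f.natDegree ∧
      (F.map iz).map q = f.map q ∧ F.map iz ≠ f := by
    have e : ∀ F : ℤ[X], (F.map iz).map q = F.map (Int.castRingHom (ZMod (p ^ N))) := fun F => by
      rw [Polynomial.map_map]; exact congrArg (fun φ => F.map φ) (RingHom.ext_int _ _)
    by_cases h : F₀.map iz = f
    · refine ⟨F₀ + C ((p : ℤ) ^ N), hF₀m.add_of_left ?_, by rw [natDegree_add_C, hF₀d], ?_, ?_⟩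
      · refine lt_of_le_of_lt degree_C_le ?_
        rw [← natDegree_pos_iff_degree_pos, hF₀d]
        exact hfd
      · rw [e, Polynomial.map_add, hF₀, Polynomial.map_C]
        simp [show ((p : ZMod (p ^ N))) ^ N = 0 by rw [← Nat.cast_pow, ZMod.natCast_self]]
      · rw [Polynomial.map_add, h, Polynomial.map_C]
        intro hh
        simp [(Fact.out : p.Prime).ne_zero] at hh
    · exact ⟨F₀, hF₀m, hF₀d, (e F₀).trans hF₀, h⟩
  set F' := F.map iz with hF'
  have hF'm : F'.Monic := hFm.map _
  have hF'd : F'.natDegree = f.natDegree := by rw [hF', hFm.natDegree_map, hFd]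
  have hq : ∀ g : ℤ_[p][X], q (resultant F' g) = q (resultant f g) := fun g => by
    rw [← resultant_map_map, ← resultant_map_map, hFq, hF'd]
  have hqne : ∀ {x : ℤ_[p]}, x ≠ 0 → x.valuation < N → q x ≠ 0 := fun {x} hx hv h0 => by
    have h1 : x ∈ RingHom.ker (PadicInt.toZModPow (p := p) N) := h0
    rw [PadicInt.ker_toZModPow, PadicInt.mem_span_pow_iff_le_valuation x hx] at h1
    omega
  have hQq : q (resultant F' Q) ≠ 0 := by rw [hq]; exact hqne hQ0 (by omega)
  have hG'q : q (resultant F' G') ≠ 0 := by rw [hq]; exact hqne hG0 (by omega)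
  have hFf0 : resultant F' f ≠ 0 := by
    rw [resultant_comm]
    refine mul_ne_zero (pow_ne_zero _ (neg_ne_zero.2 one_ne_zero))
      (resultant_ne_zero_of_irreducible hfm hfi hF'm fun hd => hFf ?_)
    exact (eq_of_monic_of_dvd_of_natDegree_le hfm hF'm hd hF'd.le)
  have hFG : resultant F' G ≠ 0 := by
    rw [hG', resultant_mul_monic (hfm.pow _) hG'm, resultant_pow_monic hfm]
    exact mul_ne_zero (pow_ne_zero _ hFf0) fun e => hG'q (by rw [e, map_zero])
  have hval := H F hFm hFG
  have hQne : resultant F' Q ≠ 0 := fun e => hQq (by rw [e, map_zero])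
  have hlt : (resultant F' Q).valuation < N := lt_of_not_ge fun hle => hQq (by
    show resultant F' Q ∈ RingHom.ker q
    rw [PadicInt.ker_toZModPow, PadicInt.mem_span_pow_iff_le_valuation _ hQne]
    exact hle)
  have hFP : resultant F' P₁ ≠ 0 := by
    obtain ⟨g', hg'⟩ := (Dvd.intro_left f hP₁.symm).trans hPG
    intro e
    exact hFG (by rw [hg', resultant_mul_monic hP₁m (hP₁m.of_mul_monic_left (hg' ▸ hG)), e, zero_mul])
  have hge : N ≤ (resultant F' f).valuation := by
    rw [← PadicInt.mem_span_pow_iff_le_valuation _ hFf0, ← PadicInt.ker_toZModPow]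
    show q (resultant F' f) = 0
    rw [hq, resultant_self_eq_zero f hfd.ne', map_zero]
  rw [← hF', hP₁, resultant_mul_monic hfm hP₁m, PadicInt.valuation_mul hFf0 hFP] at hval
  omega

/-- `det F(M)` is a resultant. -/
theorem det_aeval {K : Type*} [CommRing K] [IsDomain K] {m : Type*} [Fintype m] [DecidableEq m]
    (M : Matrix m m K) {F : K[X]} (hF : F.Monic) :
    (aeval M F).det = (-1) ^ (Fintype.card m * F.natDegree) * resultant F M.charpoly := by
  let L := AlgebraicClosure (FractionRing K)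
  let φ : K →+* L := (algebraMap (FractionRing K) L).comp (algebraMap K (FractionRing K))
  have hφ : Function.Injective φ :=
    (algebraMap (FractionRing K) L).injective.comp (IsFractionRing.injective K (FractionRing K))
  apply hφ
  have hdet : φ (aeval M F).det = (aeval (M.map φ) (F.map φ)).det := by
    rw [RingHom.map_det]
    congr 1
    show φ.mapMatrix (aeval M F) = _
    rw [aeval_def, hom_eval₂, aeval_def, eval₂_map]
    congr 1
    ext a i j
    simp [Matrix.algebraMap_matrix_apply, apply_ite φ]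
  have hs : (F.map φ).Splits := IsAlgClosed.splits _
  have hev : ∀ a : L, (aeval (M.map φ) (X - C a)).det = (-1) ^ Fintype.card m * (M.map φ).charpoly.eval a := by
    intro a
    rw [Matrix.eval_charpoly, ← Matrix.det_neg, neg_sub, map_sub, aeval_X, aeval_C, Matrix.algebraMap_eq_diagonal]
    congr 1
  let D : L[X] →* L := Matrix.detMonoidHom.comp (aeval (R := L) (M.map φ)).toRingHom.toMonoidHom
  have hD : (aeval (M.map φ) (F.map φ)).det = D ((F.map φ).roots.map fun a => X - C a).prod := by
    conv_lhs => rw [hs.eq_prod_roots_of_monic (hF.map φ)]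
    rfl
  rw [hdet, hD, map_multiset_prod, Multiset.map_map, map_mul, map_pow, map_neg, map_one,
    ← resultant_map_monic φ hF M.charpoly_monic, ← Matrix.charpoly_map,
    resultant_eq_prod_eval _ _ _ le_rfl hs, (hF.map φ).leadingCoeff, one_pow, _root_.one_mul,
    ← hF.natDegree_map φ, hs.natDegree_eq_card_roots, pow_mul, ← Multiset.prod_replicate,
    ← Multiset.map_const', ← Multiset.prod_map_mul]
  exact congrArg Multiset.prod (Multiset.map_congr rfl fun a _ => hev a)

end Groth.Agent.H63.CharPolyUnique
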