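import Groth.Agent.H4.HomImage
import Mathlib.AlgebraicGeometry.Morphisms.Smooth
import Mathlib.AlgebraicGeometry.Morphisms.ClosedImmersion
import Mathlib.AlgebraicGeometry.Morphisms.Etale
import Mathlib.RingTheory.RingHom.StandardSmooth

/-!
# Coordinates transversal to a smooth closed subscheme

* `exists_coord`: near a point of a smooth closed subscheme `B` of a `k`-scheme `A` there is a
  morphism to an affine space which is étale on `B`
-/

set_option autoImplicit false

universe u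

open CategoryTheory AlgebraicGeometry

namespace Groth.Agent.H63.Coord

variable {k : Type u} [Field k]

/-- Affine `n`-space. -/
noncomputable def aff (n : ℕ) : Over (Spec (CommRingCat.of k)) :=
  Over.mk (Spec.map (CommRingCat.ofHom (MvPolynomial.C : k →+* MvPolynomial (Fin n) k)))

instance (n : ℕ) : Smooth (aff (k := k) n).hom := by
  show Smooth (Spec.map _)
  rw [HasRingHomProperty.Spec_iff (P := @Smooth), CommRingCat.hom_ofHom,
    ← MvPolynomial.algebraMap_eq]
  exact RingHom.smooth_algebraMap.2 (show Algebra.Smooth k (MvPolynomial (Fin n) k) from ⟨inferInstance, inferInstance⟩)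

/-- An open subscheme over the base. -/
noncomputable def op {A : Over (Spec (CommRingCat.of k))} (U : A.left.Opens) : Over (Spec (CommRingCat.of k)) :=
  Over.mk (U.ι ≫ A.hom)

/-- The inclusion of an open subscheme. -/
noncomputable def opι {A : Over (Spec (CommRingCat.of k))} (U : A.left.Opens) : op U ⟶ A := Over.homMk U.ι rfl

/-- The restriction of a morphism to an open subscheme. -/
noncomputable def opRes {A B : Over (Spec (CommRingCat.of k))} (i : B ⟶ A) (U : A.left.Opens) :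
    op (i.left ⁻¹ᵁ U) ⟶ op U :=
  Over.homMk (i.left ∣_ U) (show (i.left ∣_ U) ≫ U.ι ≫ A.hom = (i.left ⁻¹ᵁ U).ι ≫ B.hom by
    rw [morphismRestrict_ι_assoc, Over.w i])

theorem opRes_ι {A B : Over (Spec (CommRingCat.of k))} (i : B ⟶ A) (U : A.left.Opens) :
    opRes i U ≫ opι U = opι (i.left ⁻¹ᵁ U) ≫ i :=
  Over.OverMorphism.ext (morphismRestrict_ι i.left U)

theorem exists_coord {A B : Over (Spec (CommRingCat.of k))} [Smooth B.hom] (i : B ⟶ A)
    [IsClosedImmersion i.left] (x : B.left) :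
    ∃ (n : ℕ) (U : A.left.Opens) (f : op U ⟶ aff n), i.left x ∈ U ∧ IsAffineOpen U ∧
      Etale (opRes i U ≫ f).left := by
  obtain ⟨T, hT, V, hV, hxV, e, hstd⟩ := Smooth.exists_isStandardSmooth B.hom x
  obtain ⟨n, g, hgC, hg⟩ := RingHom.IsStandardSmooth.exists_etale_mvPolynomial hstd
  have hTtop : T = ⊤ := by
    ext y
    simp only [TopologicalSpace.Opens.coe_top, Set.mem_univ, iff_true]
    exact Subsingleton.elim (B.hom x) y ▸ e hxV
  subst hTtop
  let σ := (Scheme.ΓSpecIso (CommRingCat.of k)).commRingCatIsoToRingEquiv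
  let g' : MvPolynomial (Fin n) k →+* Γ(B.left, V) := g.comp (MvPolynomial.map σ.symm.toRingHom)
  have hg' : g'.Etale := by
    refine RingHom.Etale.stableUnderComposition _ _ ?_ hg
    have hb : (MvPolynomial.map σ.symm.toRingHom : MvPolynomial (Fin n) k →+* _) =
        (MvPolynomial.mapEquiv (Fin n) σ.symm).toRingHom := RingHom.ext fun _ => rfl
    rw [hb, ← RingHom.comp_id (MvPolynomial.mapEquiv (Fin n) σ.symm).toRingHom]
    refine RingHom.Etale.respectsIso.1 (RingHom.id _) (MvPolynomial.mapEquiv (Fin n) σ.symm) ?_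
    rw [← Algebra.algebraMap_self]
    exact RingHom.etale_algebraMap.2 inferInstance
  let ψ : (V : Scheme.{u}) ⟶ (aff (k := k) n).left := V.toSpecΓ ≫ Spec.map (CommRingCat.ofHom g')
  haveI : IsIso V.toSpecΓ := hV.isoSpec_hom ▸ inferInstance
  haveI : Etale (Spec.map (CommRingCat.ofHom g')) := (HasRingHomProperty.Spec_iff (P := @Etale)).2 hg'
  haveI : Etale ψ := inferInstanceAs (Etale (V.toSpecΓ ≫ Spec.map (CommRingCat.ofHom g')))
  have hψ : ψ ≫ (aff (k := k) n).hom = V.ι ≫ B.hom := by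
    show (V.toSpecΓ ≫ Spec.map (CommRingCat.ofHom g')) ≫ Spec.map (CommRingCat.ofHom MvPolynomial.C) = _
    have hc : CommRingCat.ofHom (MvPolynomial.C : k →+* MvPolynomial (Fin n) k) ≫ CommRingCat.ofHom g' =
        (Scheme.ΓSpecIso (CommRingCat.of k)).inv ≫ B.hom.appLE ⊤ V e := by
      refine CommRingCat.hom_ext (RingHom.ext fun r => ?_)
      show g (MvPolynomial.map σ.symm.toRingHom (MvPolynomial.C r)) = _
      rw [MvPolynomial.map_C]
      exact RingHom.congr_fun hgC _
    rw [Category.assoc, ← Spec.map_comp, hc, Spec.map_comp]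
    refine ext_of_isAffine ?_
    simp only [Scheme.Hom.comp_appTop, Scheme.Opens.toSpecΓ_appTop, Scheme.ΓSpecIso_naturality_assoc,
      Scheme.Hom.appLE, Category.assoc]
    rw [← cancel_epi (Scheme.ΓSpecIso (CommRingCat.of k)).inv]
    simp [Scheme.Opens.topIso, Scheme.Opens.ι_app, Scheme.Hom.app_eq_appLE]
    erw [Scheme.Hom.appLE_map, Scheme.Hom.appLE_map]
  obtain ⟨O, hO, hOV⟩ := i.left.isClosedEmbedding.isInducing.isOpen_iff.1 V.2
  have hxO : i.left x ∈ O := by
    have : x ∈ i.left ⁻¹' O := hOV ▸ hxV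
    exact this
  obtain ⟨U, hU, hxU, hUO⟩ := exists_isAffineOpen_mem_and_subset (x := i.left x) (U := ⟨O, hO⟩) hxO
  set W := i.left ⁻¹ᵁ U with hW
  have hWV : W ≤ V := fun y hy => hOV.le (hUO hy)
  haveI : IsAffine (U : Scheme.{u}) := hU
  haveI : IsClosedImmersion (i.left ∣_ U) := inferInstance
  obtain ⟨-, hsurj⟩ := IsClosedImmersion.isAffine_surjective_of_isAffine (i.left ∣_ U)
  let χ : (W : Scheme.{u}) ⟶ (aff (k := k) n).left := B.left.homOfLE hWV ≫ ψ
  haveI : Etale χ := inferInstanceAs (Etale (B.left.homOfLE hWV ≫ ψ))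
  let q : CommRingCat.of (MvPolynomial (Fin n) k) ⟶ Γ((W : Scheme.{u}), ⊤) :=
    (Scheme.ΓSpecIso (CommRingCat.of (MvPolynomial (Fin n) k))).inv ≫ χ.appTop
  choose a ha using fun j : Fin n => hsurj (q.hom (MvPolynomial.X j))
  let κ : CommRingCat.of k ⟶ Γ((U : Scheme.{u}), ⊤) :=
    (Scheme.ΓSpecIso (CommRingCat.of k)).inv ≫ (U.ι ≫ A.hom).appTop
  let φ : CommRingCat.of (MvPolynomial (Fin n) k) ⟶ Γ((U : Scheme.{u}), ⊤) :=
    CommRingCat.ofHom (MvPolynomial.eval₂Hom κ.hom a)
  let f₀ : (U : Scheme.{u}) ⟶ (aff (k := k) n).left := (U : Scheme.{u}).toSpecΓ ≫ Spec.map φ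
  have hf₀ : f₀.appTop = (Scheme.ΓSpecIso (CommRingCat.of (MvPolynomial (Fin n) k))).hom ≫ φ := by
    show ((U : Scheme.{u}).toSpecΓ ≫ Spec.map φ).appTop = _
    rw [Scheme.Hom.comp_appTop, Scheme.toSpecΓ_appTop, Scheme.ΓSpecIso_naturality]
  have hw : f₀ ≫ (aff (k := k) n).hom = U.ι ≫ A.hom := by
    refine ext_of_isAffine ?_
    rw [Scheme.Hom.comp_appTop, hf₀]
    show (Spec.map (CommRingCat.ofHom (MvPolynomial.C : k →+* MvPolynomial (Fin n) k))).appTop ≫ _ ≫ φ = _
    rw [Scheme.ΓSpecIso_naturality_assoc, ← cancel_epi (Scheme.ΓSpecIso (CommRingCat.of k)).inv,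
      Iso.inv_hom_id_assoc]
    exact CommRingCat.hom_ext (RingHom.ext fun r => MvPolynomial.eval₂Hom_C κ.hom a r)
  refine ⟨n, U, Over.homMk f₀ hw, hxU, hU, ?_⟩
  have hfχ : (i.left ∣_ U) ≫ f₀ = χ := by
    haveI : IsAffine (aff (k := k) n).left := inferInstanceAs (IsAffine (Spec (CommRingCat.of (MvPolynomial (Fin n) k))))
    refine ext_of_isAffine ?_
    rw [Scheme.Hom.comp_appTop, hf₀]
    refine (cancel_epi (Scheme.ΓSpecIso (CommRingCat.of (MvPolynomial (Fin n) k))).inv).1 ?_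
    erw [Category.assoc, Iso.inv_hom_id_assoc]
    refine CommRingCat.hom_ext (MvPolynomial.ringHom_ext (fun r => ?_) fun j => ?_)
    · show (i.left ∣_ U).appTop.hom (φ.hom (MvPolynomial.C r)) = q.hom (MvPolynomial.C r)
      rw [show φ.hom (MvPolynomial.C r) = κ.hom r from MvPolynomial.eval₂Hom_C κ.hom a r]
      have h1 : κ ≫ (i.left ∣_ U).appTop = CommRingCat.ofHom MvPolynomial.C ≫ q := by
        show _ = _ ≫ (Scheme.ΓSpecIso (CommRingCat.of (MvPolynomial (Fin n) k))).inv ≫ χ.appTop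
        rw [Scheme.ΓSpecIso_inv_naturality_assoc, Category.assoc]
        congr 1
        rw [← Scheme.Hom.comp_appTop]
        refine Eq.trans ?_ (Scheme.Hom.comp_appTop χ (Spec.map (CommRingCat.ofHom MvPolynomial.C)))
        congr 1
        show (i.left ∣_ U) ≫ U.ι ≫ A.hom = (B.left.homOfLE hWV ≫ ψ) ≫ (aff (k := k) n).hom
        rw [Category.assoc, hψ, Scheme.homOfLE_ι_assoc, morphismRestrict_ι_assoc, Over.w i]
      exact congr($h1 r)
    · show (i.left ∣_ U).appTop.hom (φ.hom (MvPolynomial.X j)) = q.hom (MvPolynomial.X j)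
      rw [show φ.hom (MvPolynomial.X j) = a j from MvPolynomial.eval₂Hom_X' κ.hom a j, ha]
  show Etale ((i.left ∣_ U) ≫ f₀)
  rw [hfχ]
  infer_instance

end Groth.Agent.H63.Coord
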