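import Groth.Agent.H63.AVDegree
import Groth.Agent.H4.AVHom
import Groth.Agent.H4.IsogenyDim
import Groth.Agent.Lib.Cyc.PP.Push
import Mathlib.AlgebraicGeometry.Group.Abelian
import Mathlib.RingTheory.MvPolynomial.Homogeneous

/-!
# The degree as a polynomial function

* `exists_poly`: `deg (∑ aᵢ fᵢ)` is a homogeneous polynomial of degree `2r`
-/

set_option autoImplicit false

universe u

open CategoryTheory MonoidalCategory CartesianMonoidalCategory AlgebraicGeometry TopologicalSpace
open scoped MonObj GrpObj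
open Groth.Agent.H3 Groth.Agent.Lib Groth.Agent.Lib.Snapper Groth.Agent.Lib.IntTheory

namespace Groth.Agent.H63.DegreePoly

noncomputable local instance (Y : Scheme.{u}) : PicGrp.Law Y := Groth.Agent.Lib.TensorMod.Invertible.law Y

section Sym

variable (k : Type u) [Field k] (X : Scheme.{u}) [X.Over (Spec (CommRingCat.of k))]

/-- A representative of an invertible class. -/
noncomputable def rep {X : Scheme.{u}} (c : PicLoc.PicSet X) : X.Modules := (PicGrp.exists_eq_cls c).choose

theorem isInvertible_rep {X : Scheme.{u}} (c : PicLoc.PicSet X) : PicF.IsInvertible (rep c) :=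
  (PicGrp.exists_eq_cls c).choose_spec.choose

theorem cl_rep {X : Scheme.{u}} (c : PicLoc.PicSet X) : PicF.cl (rep c) = c.1 :=
  (congrArg Subtype.val (PicGrp.exists_eq_cls c).choose_spec.choose_spec).symm

/-- The symbol on classes. -/
noncomputable def symC (r : ℕ) (l : List (PicLoc.PicSet X)) : ℤ :=
  Vanish.sym k X r (l.map rep) (Coh.structureModule X)

variable {k X}

theorem invertible_map (l : List (PicLoc.PicSet X)) : ∀ M ∈ l.map rep, PicF.IsInvertible M := by
  intro M hM
  obtain ⟨c, -, rfl⟩ := List.mem_map.1 hM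
  exact isInvertible_rep c

theorem symC_perm {r : ℕ} {l l' : List (PicLoc.PicSet X)} (h : l.Perm l') : symC k X r l = symC k X r l' :=
  IntNum.sym_perm (h.map rep) _

variable [IsProper (X ↘ Spec (CommRingCat.of k))] [IsNoetherian X]

theorem symC_mul {r : ℕ} (hd : topologicalKrullDim X ≤ r) (x y : PicLoc.PicSet X)
    (l : List (PicLoc.PicSet X)) (hl : l.length + 1 = r) :
    symC k X r (x * y :: l) = symC k X r (x :: l) + symC k X r (y :: l) := by
  have hO := Snapper.Twist.isCoh_structureModule X
  obtain ⟨e⟩ : Nonempty (rep (x * y) ≅ CohB1.tensorMod (rep x) (rep y)) :=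
    (PicCalc.iso_iff (cl_rep _) (PicCalc.cl_tensor (cl_rep x) (cl_rep y))).2 rfl
  simp only [symC, List.map_cons]
  rw [IntNum.sym_cons_iso e, IntNum.sym_tensor_of_dim (Finite.cohFinite k X) hd (isInvertible_rep x)
    (isInvertible_rep y) _ (invertible_map l) hO]
  refine lt_of_le_of_lt ((Topology.IsInducing.subtypeVal.topologicalKrullDim_le).trans hd) ?_
  rw [List.length_map, ← hl]
  exact_mod_cast Nat.lt_succ_self _

/-- The symbol in the first variable. -/
noncomputable def symHom {r : ℕ} (hd : topologicalKrullDim X ≤ r) (l : List (PicLoc.PicSet X))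
    (hl : l.length + 1 = r) : Additive (PicLoc.PicSet X) →+ ℤ :=
  AddMonoidHom.mk' (fun c => symC k X r (c.toMul :: l)) fun x y => symC_mul hd x.toMul y.toMul l hl

end Sym

section Quad

variable {k : Type u} [Field k] {A B : Over (Spec (CommRingCat.of k))} [GrpObj B]
  [IsProper B.hom] [GeometricallyIntegral B.hom] [IsCommMonObj B]

/-- The bilinear form of a class. -/
noncomputable def bil (c : PicLoc.PicSet B.left) (x y : A ⟶ B) : PicLoc.PicSet A.left :=
  PicCalc.ph (x * y) c / (PicCalc.ph x c * PicCalc.ph y c)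

theorem bil_comm (c : PicLoc.PicSet B.left) (x y : A ⟶ B) : bil c x y = bil c y x := by
  rw [bil, bil, mul_comm x, mul_comm (PicCalc.ph x c)]

theorem bil_mul (c : PicLoc.PicSet B.left) (x y z : A ⟶ B) : bil c (x * y) z = bil c x z * bil c y z := by
  have h := CubeRel.cube_rel x y z c
  simp only [bil, div_mul_div_comm]
  rw [div_eq_div_iff_mul_eq_mul]
  generalize PicCalc.ph (x * y * z) c = u, PicCalc.ph (x * y) c = v, PicCalc.ph (x * z) c = w,
    PicCalc.ph (y * z) c = t, PicCalc.ph x c = a, PicCalc.ph y c = b, PicCalc.ph z c = d at h ⊢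
  calc u * (a * d * (b * d)) = (u * a * b * d) * d := by ac_rfl
    _ = (v * w * t) * d := by rw [h]
    _ = w * t * (v * d) := by ac_rfl

theorem ph_inv (c : PicLoc.PicSet B.left) (hc : PicCalc.ph ((𝟙 B)⁻¹ : B ⟶ B) c = c) (x : A ⟶ B) :
    PicCalc.ph x⁻¹ c = PicCalc.ph x c := by
  rw [← Category.comp_id x, ← GrpObj.comp_inv, PicCalc.ph_comp, hc, Category.comp_id]

theorem bil_self (c : PicLoc.PicSet B.left) (hc : PicCalc.ph ((𝟙 B)⁻¹ : B ⟶ B) c = c) (x : A ⟶ B) :
    bil c x x = PicCalc.ph x c * PicCalc.ph x c := by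
  have h := CubePow.ph_pow (fun V f g h c => CubeRel.cube_rel f g h c) x c 2
  rw [ph_inv c hc] at h
  rw [bil, ← pow_two x, h, div_eq_iff_eq_mul]
  norm_num
  generalize PicCalc.ph x c = a
  rw [pow_succ, pow_succ, pow_succ, pow_zero, one_mul]
  ac_rfl

/-- `bil` in the first variable. -/
noncomputable def bilHom (c : PicLoc.PicSet B.left) (z : A ⟶ B) : (A ⟶ B) →* PicLoc.PicSet A.left :=
  MonoidHom.mk' (fun x => bil c x z) fun x y => bil_mul c x y z

theorem bil_prod (c : PicLoc.PicSet B.left) {J : Type*} [Fintype J] (f : J → (A ⟶ B)) (a : J → ℤ) :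
    bil c (∏ i, f i ^ a i) (∏ i, f i ^ a i) = ∏ i, ∏ j, bil c (f i) (f j) ^ (a i * a j) := by
  set y := ∏ i, f i ^ a i with hy
  show bilHom c y (∏ i, f i ^ a i) = _
  rw [map_prod]
  refine Finset.prod_congr rfl fun i _ => ?_
  rw [map_zpow]
  show bil c (f i) y ^ a i = _
  rw [bil_comm, hy]
  show bilHom c (f i) (∏ j, f j ^ a j) ^ a i = _
  rw [map_prod, ← Finset.prod_zpow]
  refine Finset.prod_congr rfl fun j _ => ?_
  rw [map_zpow, ← zpow_mul, mul_comm]
  show bil c (f j) (f i) ^ _ = _
  rw [bil_comm]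

theorem linear_quad (c : PicLoc.PicSet B.left) (hc : PicCalc.ph ((𝟙 B)⁻¹ : B ⟶ B) c = c)
    (L : Additive (PicLoc.PicSet A.left) →+ ℤ) {J : Type*} [Fintype J] (f : J → (A ⟶ B)) (a : J → ℤ) :
    2 * L (Additive.ofMul (PicCalc.ph (∏ i, f i ^ a i) c)) =
      ∑ i, ∑ j, a i * a j * L (Additive.ofMul (bil c (f i) (f j))) := by
  rw [two_mul, ← map_add, ← ofMul_mul, ← bil_self c hc, bil_prod]
  simp only [ofMul_prod, ofMul_zpow, map_sum, map_zsmul, smul_eq_mul]

end Quad

section Degree

variable {k : Type u} [Field k] (A B : Over (Spec (CommRingCat.of k))) [GrpObj A] [GrpObj B]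
  [IsProper A.hom] [GeometricallyIntegral A.hom] [IsProper B.hom] [GeometricallyIntegral B.hom]

theorem exists_poly_sym {m r : ℕ} [A.left.Over (Spec (CommRingCat.of k))]
    [IsProper (A.left ↘ Spec (CommRingCat.of k))] [IsNoetherian A.left]
    (hA : topologicalKrullDim A.left ≤ r) (c : PicLoc.PicSet B.left)
    (hc : PicCalc.ph ((𝟙 B)⁻¹ : B ⟶ B) c = c) [IsCommMonObj B] (f : Fin m → (A ⟶ B)) :
    ∀ (j : ℕ) (tail : List (PicLoc.PicSet A.left)), tail.length + j = r →
      ∃ P : MvPolynomial (Fin m) ℚ, P.IsHomogeneous (2 * j) ∧ ∀ a : Fin m → ℤ,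
        MvPolynomial.eval (fun i => (a i : ℚ)) P =
          symC k A.left r (List.replicate j (PicCalc.ph (∏ i, f i ^ a i) c) ++ tail) := by
  intro j
  induction j with
  | zero =>
    intro tail _
    exact ⟨MvPolynomial.C (symC k A.left r tail : ℚ), MvPolynomial.isHomogeneous_C _ _, fun a => by simp⟩
  | succ j ih =>
    intro tail htail
    choose P hPh hP using fun i l => ih (bil c (f i) (f l) :: tail) (by rw [List.length_cons]; omega)
    refine ⟨∑ i, ∑ l, MvPolynomial.C (1 / 2 : ℚ) * (MvPolynomial.X i * MvPolynomial.X l * P i l),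
      MvPolynomial.IsHomogeneous.sum _ _ _ fun i _ => MvPolynomial.IsHomogeneous.sum _ _ _ fun l _ => ?_,
      fun a => ?_⟩
    · have h := (MvPolynomial.isHomogeneous_C (Fin m) (1 / 2 : ℚ)).mul
        (((MvPolynomial.isHomogeneous_X ℚ i).mul (MvPolynomial.isHomogeneous_X ℚ l)).mul (hPh i l))
      rwa [show 2 * (j + 1) = 0 + (1 + 1 + 2 * j) by ring]
    · set x := PicCalc.ph (∏ i, f i ^ a i) c with hx
      have hlen : (List.replicate j x ++ tail).length + 1 = r := by
        rw [List.length_append, List.length_replicate]; omega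
      let L := symHom (k := k) hA (List.replicate j x ++ tail) hlen
      have hL : ∀ y : PicLoc.PicSet A.left,
          L (Additive.ofMul y) = symC k A.left r (y :: (List.replicate j x ++ tail)) := fun y => rfl
      have hperm : ∀ y : PicLoc.PicSet A.left, symC k A.left r (y :: (List.replicate j x ++ tail)) =
          symC k A.left r (List.replicate j x ++ y :: tail) := fun y => symC_perm List.perm_middle.symm
      have h2 := linear_quad c hc L f a
      rw [hL, ← hx] at h2
      simp only [hL, hperm] at h2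
      have h3 : (2 : ℚ) * (symC k A.left r (List.replicate (j + 1) x ++ tail) : ℚ) =
          ∑ i, ∑ l, (a i : ℚ) * (a l : ℚ) * MvPolynomial.eval (fun i => (a i : ℚ)) (P i l) := by
        rw [List.replicate_succ, List.cons_append, hperm]
        simp only [hP, ← hx]
        exact_mod_cast h2
      simp only [map_sum, map_mul, MvPolynomial.eval_C, MvPolynomial.eval_X, ← Finset.mul_sum]
      linarith

theorem surjective_iff_isFinite {r : ℕ} (hA : topologicalKrullDim A.left = r)
    (hB : topologicalKrullDim B.left = r) (φ : A ⟶ B) [IsMonHom φ] :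
    IsFinite φ.left ↔ Surjective φ.left := by
  haveI : IsIntegral A.left := GeometricallyIntegral.isIntegral_of_subsingleton A.hom
  haveI : IsIntegral B.left := GeometricallyIntegral.isIntegral_of_subsingleton B.hom
  refine ⟨fun h => ?_, fun h => ?_⟩
  · exact H4.IsogenyDim.surjective_of_finite φ (hA ▸ hB.le)
  · exact (H4.IsogenyDim.isFinite_and_flat φ (hB ▸ hA.le)).1

/-- The degree, zero off the isogenies, as a multiple of an intersection symbol. -/
theorem exists_deg_eq {r : ℕ} (hA : topologicalKrullDim A.left = r) (hB : topologicalKrullDim B.left = r)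
    [A.left.Over (Spec (CommRingCat.of k))] (hAo : (A.left ↘ Spec (CommRingCat.of k)) = A.hom)
    [IsProper (A.left ↘ Spec (CommRingCat.of k))] [IsNoetherian A.left] :
    ∃ (c : PicLoc.PicSet B.left) (D : ℤ), D ≠ 0 ∧ PicCalc.ph ((𝟙 B)⁻¹ : B ⟶ B) c = c ∧
      ∀ (φ : A ⟶ B) [IsMonHom φ],
        (IsFinite φ.left → ∀ b : B.left,
          symC k A.left r (List.replicate r (PicCalc.ph φ c)) = (φ.left.finrank b : ℤ) * D) ∧
        (¬ IsFinite φ.left → symC k A.left r (List.replicate r (PicCalc.ph φ c)) = 0) := by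
  haveI : IsIntegral A.left := GeometricallyIntegral.isIntegral_of_subsingleton A.hom
  haveI : IsIntegral B.left := GeometricallyIntegral.isIntegral_of_subsingleton B.hom
  letI : B.left.Over (Spec (CommRingCat.of k)) := ⟨B.hom⟩
  haveI : IsProper (B.left ↘ Spec (CommRingCat.of k)) := ‹IsProper B.hom›
  haveI := Curves.GlobalSections.isNoetherian_of_proper k B.left
  obtain ⟨L, M, hL, hM, hLM, hpull⟩ := AVSymmetric.exists_symmetric_ample B
  let l := List.replicate r M
  have hl : ∀ P ∈ l, PicF.IsInvertible P := fun P hP => by rw [List.eq_of_mem_replicate hP]; exact hM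
  have hlr : l.length = r := List.length_replicate
  have hO := Snapper.Twist.isCoh_structureModule B.left
  have hpos : 0 < Vanish.sym k B.left r l (Coh.structureModule B.left) := by
    have hsupp : CohB1.support (Coh.structureModule B.left) = Set.univ := by
      refine Set.eq_univ_of_forall fun x => ?_
      obtain ⟨e⟩ := Cyc.SheafLen.exists_unit_stalk_equiv (X := B.left) x
      exact not_subsingleton_iff_nontrivial.2 e.toEquiv.nontrivial
    have hdim : topologicalKrullDim (CohB1.support (Coh.structureModule B.left)) = r := by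
      rw [hsupp, IsHomeomorph.topologicalKrullDim_eq _ (Homeomorph.Set.univ B.left).isHomeomorph, hB]
    refine Additive.pos B.hom (Additive.isAdd_sym (Finite.cohFinite k B.left) hB.le hl)
      (Additive.vanishBelow_sym (Finite.cohFinite k B.left) hB.le hl hlr) hO hdim fun y hy => ?_
    refine Positive.sym_closure_pos hB.le l hl (fun P hP => ?_) y (hy.2.trans (by simp [l]))
    rw [List.eq_of_mem_replicate hP]
    exact ⟨L, hL, hLM⟩
  let c := PicGrp.cls M hM
  have hc : PicCalc.ph ((𝟙 B)⁻¹ : B ⟶ B) c = c := by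
    obtain ⟨e⟩ := hpull (-1)
    have h := (PicCalc.iso_iff (PicCalc.cl_pullback ((𝟙 B : B ⟶ B) ^ (-1 : ℤ)) (a := c) rfl)
      (AmpleCompl.cl_tensorPow (a := c) rfl _)).1 ⟨e⟩
    rw [zpow_neg_one] at h
    simpa using h
  refine ⟨c, Vanish.sym k B.left r l (Coh.structureModule B.left), hpos.ne', hc, fun φ hφ => ?_⟩
  have hsym : symC k A.left r (List.replicate r (PicCalc.ph φ c)) =
      Vanish.sym k A.left r (l.map (Scheme.Modules.pullback φ.left).obj) (Coh.structureModule A.left) := by
    obtain ⟨e⟩ : Nonempty (rep (PicCalc.ph φ c) ≅ (Scheme.Modules.pullback φ.left).obj M) :=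
      (PicCalc.iso_iff (cl_rep _) (PicCalc.cl_pullback φ (a := c) rfl)).2 rfl
    simp only [symC, l, List.map_replicate]
    have key : ∀ j (F : A.left.Modules),
        Vanish.sym k A.left r (List.replicate j (rep (PicCalc.ph φ c))) F =
          Vanish.sym k A.left r (List.replicate j ((Scheme.Modules.pullback φ.left).obj M)) F := by
      intro j
      induction j with
      | zero => exact fun _ => rfl
      | succ j ih =>
        intro F
        rw [List.replicate_succ, List.replicate_succ, IntNum.sym_cons_iso e, IntNum.sym_congr_cons ih]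
    exact key r _
  have hg : φ.left ≫ (B.left ↘ Spec (CommRingCat.of k)) = A.left ↘ Spec (CommRingCat.of k) :=
    (Over.w φ).trans hAo.symm
  refine ⟨fun hfin b => ?_, fun hfin => ?_⟩
  · haveI : Surjective φ.left := (surjective_iff_isFinite A B hA hB φ).1 hfin
    obtain ⟨-, hflat⟩ := H4.IsogenyDim.isFinite_and_flat φ (hB ▸ hA.le)
    haveI := hflat
    haveI : IsLocallyNoetherian B.left := LocallyOfFiniteType.isLocallyNoetherian B.hom
    haveI : IsFinite φ.left := hfin
    rw [hsym, SymDegree.sym_pullback_finite_flat (k := k) φ.left hg hB.le hA.le l hl hlr,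
      (Scheme.Hom.isLocallyConstant_finrank (f := φ.left)).apply_eq_of_preconnectedSpace b (genericPoint B.left)]
  · haveI : IsProper φ.left := Push.isProper φ.left hg
    have hns : ¬ Surjective φ.left := fun h => hfin ((surjective_iff_isFinite A B hA hB φ).2 h)
    rw [hsym, Push.sym_push φ.left hg hB.le hA.le l hl _ (Snapper.Twist.isCoh_structureModule A.left)
      ((Topology.IsInducing.subtypeVal.topologicalKrullDim_le).trans (hlr.symm ▸ hA.le))]
    haveI : IsLocallyNoetherian A.left := inferInstance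
    refine Vanish.sym_eq_zero (Finite.cohFinite k B.left) hB.le l hl _
      (Cyc.PP.Push.isCoh_push φ.left (Snapper.Twist.isCoh_structureModule A.left)) ?_
    have hT := φ.left.isClosedMap.isClosed_range
    refine lt_of_le_of_lt (Devissage.Dim.dim_mono (Push.support_push_subset φ.left hT fun w _ => Set.mem_range_self w)) ?_
    rw [hlr]
    refine Push.dim_lt_of_pdim_lt (f := B.hom) hT fun x hx => ?_
    have hsp : genericPoint B.left ⤳ x := (genericPoint_spec B.left).specializes trivial
    have h1 := VarDim.Basic.pdim_lt B.hom hsp fun h => hns ⟨fun y => by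
      rw [← h] at hx
      exact Set.mem_of_eq_of_mem rfl (hT.stableUnderSpecialization ((genericPoint_spec B.left).specializes trivial) hx)⟩
    have h2 : VarDim.Basic.pdim B.hom (genericPoint B.left) = r := by
      have h := (VarDim.Basic.topologicalKrullDim_irreducibleSpace B.hom).symm.trans hB
      exact_mod_cast h
    omega

/-- The degree is a homogeneous polynomial of degree `2r` in the coefficients. -/
theorem exists_poly {r : ℕ} (hA : topologicalKrullDim A.left = r) (hB : topologicalKrullDim B.left = r)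
    [IsCommMonObj B] {m : ℕ} (f : Fin m → (A ⟶ B)) (hf : ∀ i, IsMonHom (f i)) :
    ∃ P : MvPolynomial (Fin m) ℚ, P.IsHomogeneous (2 * r) ∧ ∀ a : Fin m → ℤ,
      (IsFinite (∏ i, f i ^ a i).left →
          ∀ b : B.left, ((∏ i, f i ^ a i).left.finrank b : ℚ) = MvPolynomial.eval (fun i => (a i : ℚ)) P) ∧
        (¬ IsFinite (∏ i, f i ^ a i).left → MvPolynomial.eval (fun i => (a i : ℚ)) P = 0) := by
  letI : A.left.Over (Spec (CommRingCat.of k)) := ⟨A.hom⟩
  haveI : IsProper (A.left ↘ Spec (CommRingCat.of k)) := ‹IsProper A.hom›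
  haveI := Curves.GlobalSections.isNoetherian_of_proper k A.left
  obtain ⟨c, D, hD, hc, hdeg⟩ := exists_deg_eq A B hA hB rfl
  obtain ⟨P, hPh, hP⟩ := exists_poly_sym A B hA.le c hc f r [] (by simp)
  refine ⟨MvPolynomial.C (1 / D : ℚ) * P, by simpa using (MvPolynomial.isHomogeneous_C _ _).mul hPh, fun a => ?_⟩
  haveI : IsMonHom (∏ i, f i ^ a i) := by
    refine H4.AVHom.isMonHom_of_pointed _ ?_
    have hh : ∀ i, η[A] ≫ f i = 1 := fun i => by
      haveI := hf i
      rw [IsMonHom.one_hom, MonObj.one_eq_one]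
    let pre : (A ⟶ B) →* (𝟙_ (Over (Spec (CommRingCat.of k))) ⟶ B) :=
      MonoidHom.mk' (fun x => η[A] ≫ x) fun x y => MonObj.comp_mul _ x y
    show pre (∏ i, f i ^ a i) = _
    rw [map_prod, MonObj.one_eq_one]
    refine Finset.prod_eq_one fun i _ => ?_
    rw [map_zpow]
    show (η[A] ≫ f i) ^ a i = 1
    rw [hh, one_zpow]
  obtain ⟨h1, h2⟩ := hdeg (∏ i, f i ^ a i)
  have h := hP a
  rw [List.append_nil] at h
  refine ⟨fun hfin b => ?_, fun hfin => ?_⟩
  · rw [map_mul, MvPolynomial.eval_C, h, h1 hfin b]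
    have : (D : ℚ) ≠ 0 := by exact_mod_cast hD
    push_cast
    field_simp
  · rw [map_mul, h, h2 hfin]
    simp

end Degree

end Groth.Agent.H63.DegreePoly
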