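import Groth.Agent.H63.CurveGen
import Groth.Agent.H63.DegreePoly
import Groth.Agent.H97.CurvePositivity
import Groth.Agent.H75.RedSub
import Groth.Prelude.Def_EndRing

/-!
# A positive form on homomorphisms of abelian varieties

* `exists_form`: a symmetric biadditive integer form on `Hom(A, B)`, positive away from zero
-/

set_option autoImplicit false

universe u

open CategoryTheory CategoryTheory.Limits MonoidalCategory CartesianMonoidalCategory AlgebraicGeometry
open scoped MonObj GrpObj
open Groth.Agent.H3 Groth.Agent.Lib Groth.Agent.H63.GrpIrred Groth.Agent.H63.GrpComponent TopologicalSpace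
open Groth.Agent.H63.DegreePoly

namespace Groth.Agent.H63.CurveDeg

noncomputable local instance (Y : Scheme.{u}) : PicGrp.Law Y := Groth.Agent.Lib.TensorMod.Invertible.law Y

variable {k : Type u} [Field k] [IsAlgClosed k]

local notation "S₀" => Spec (CommRingCat.of k)

/-- The degree on a curve, as an additive map on classes. -/
noncomputable def degHom (C : Over S₀) [IsProper C.hom] [IsIntegral C.left] (hC : topologicalKrullDim C.left ≤ 1) :
    Additive (PicLoc.PicSet C.left) →+ ℤ :=
  letI : C.left.Over S₀ := ⟨C.hom⟩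
  haveI : IsProper (C.left ↘ S₀) := ‹IsProper C.hom›
  AddMonoidHom.mk' (fun c => Curv2.deg k C.left (rep c.toMul) 1) fun x y => by
    obtain ⟨e⟩ : Nonempty (rep (x + y).toMul ≅ CohB1.tensorMod (rep x.toMul) (rep y.toMul)) :=
      (PicCalc.iso_iff (cl_rep _) (PicCalc.cl_tensor (cl_rep _) (cl_rep _))).2 rfl
    show Curv2.deg k C.left (rep (x + y).toMul) 1 = _
    rw [Curves.Euler.deg_eq_of_iso e 1]
    exact Curves.Degree.deg_tensor (k := k) hC (isInvertible_rep _) (isInvertible_rep _)

theorem degHom_pos {C B : Over S₀} [IsProper C.hom] [IsIntegral C.left] (hC : topologicalKrullDim C.left = 1)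
    (q : C ⟶ B) [IsFinite q.left] {L : B.left.Modules} (hL : CohB1.IsAmple L) :
    0 < degHom C hC.le (Additive.ofMul (PicCalc.ph q (PicGrp.cls L hL.1))) := by
  letI : C.left.Over S₀ := ⟨C.hom⟩
  haveI : IsProper (C.left ↘ S₀) := ‹IsProper C.hom›
  have h2 : CohB1.IsAmple ((Scheme.Modules.pullback q.left).obj L) :=
    Ample.Pullback.isAmple_pullback q.left (Ample.Pullback.isQuasiAffine_of_isAffineHom q.left) hL
  obtain ⟨e⟩ : Nonempty (rep (PicCalc.ph q (PicGrp.cls L hL.1)) ≅ (Scheme.Modules.pullback q.left).obj L) :=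
    (PicCalc.iso_iff (cl_rep _) (PicCalc.cl_pullback q (a := PicGrp.cls L hL.1) rfl)).2 rfl
  show 0 < Curv2.deg k C.left (rep (PicCalc.ph q (PicGrp.cls L hL.1))) 1
  rw [Curves.Euler.deg_eq_of_iso e 1]
  exact H97.CurvePositivity.deg_pos_of_isAmple (k := k) hC h2

/-- A morphism out of a proper curve is constant or finite. -/
theorem isFinite_or_const {C B : Over S₀} [IsProper C.hom] [IsIntegral C.left]
    (hC : topologicalKrullDim C.left = 1) [IsSeparated B.hom] [LocallyOfFiniteType B.hom] (q : C ⟶ B) :
    IsFinite q.left ∨ ∃ b : B.left, IsClosed ({b} : Set B.left) ∧ ∀ x, q.left x = b := by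
  haveI : IsProper (q.left ≫ B.hom) := by rw [Over.w]; infer_instance
  haveI : IsProper q.left := IsProper.of_comp q.left B.hom
  have hgen : VarDim.Basic.pdim C.hom (genericPoint C.left) = 1 := by
    have h := (VarDim.Basic.topologicalKrullDim_irreducibleSpace C.hom).symm.trans hC
    exact_mod_cast h
  have hcl : ∀ x : C.left, x ≠ genericPoint C.left → IsClosed ({x} : Set C.left) := fun x hx => by
    have := VarDim.Basic.pdim_lt C.hom ((genericPoint_spec C.left).specializes (Set.mem_univ x)) (Ne.symm hx)
    exact (VarDim.Basic.pdim_eq_zero_iff C.hom x).1 (by omega)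
  by_cases hg : IsClosed ({q.left (genericPoint C.left)} : Set B.left)
  · refine Or.inr ⟨_, hg, fun x => ?_⟩
    exact (((genericPoint_spec C.left).specializes (Set.mem_univ x)).map q.left.continuous).mem_closed hg rfl
  refine Or.inl ?_
  haveI : IsLocallyNoetherian C.left := LocallyOfFiniteType.isLocallyNoetherian C.hom
  haveI : CompactSpace C.left := QuasiCompact.compactSpace_of_compactSpace C.hom
  haveI : IsNoetherian C.left := ⟨⟩
  haveI : LocallyQuasiFinite q.left := by
    rw [locallyQuasiFinite_iff_isDiscrete_preimage_singleton]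
    intro b
    by_cases hgb : genericPoint C.left ∈ q.left ⁻¹' {b}
    · -- the fibre is the generic point
      have hall : q.left ⁻¹' {b} = {genericPoint C.left} := by
        refine Set.eq_singleton_iff_unique_mem.2 ⟨hgb, fun x hx => ?_⟩
        by_contra hne
        have h3 := q.left.isClosedMap _ (hcl x hne)
        rw [Set.image_singleton, show q.left x = q.left (genericPoint C.left) from hx.trans hgb.symm] at h3
        exact hg h3
      rw [hall]
      exact ⟨inferInstance⟩
    · -- finitely many closed points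
      haveI : T1Space (q.left ⁻¹' {b}) := ⟨fun x => by
        rw [← Subtype.val_injective.preimage_image {x}, Set.image_singleton]
        exact (hcl x.1 fun h => hgb (h ▸ x.2)).preimage continuous_subtype_val⟩
      haveI : Finite (q.left ⁻¹' {b}) := by
        haveI : NoetherianSpace (q.left ⁻¹' {b}) :=
          (Topology.IsInducing.subtypeVal (t := q.left ⁻¹' {b})).noetherianSpace
        haveI : QuasiSober (q.left ⁻¹' {b}) := by
          refine VarDim.Basic.quasiSober_of_isLocallyClosed ?_
          by_cases hb : (q.left ⁻¹' {b}).Nonempty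
          · obtain ⟨x, hx⟩ := hb
            have h3 := q.left.isClosedMap _ (hcl x fun h => hgb (h ▸ hx))
            rw [Set.image_singleton, show q.left x = b from hx] at h3
            exact (h3.preimage q.left.continuous).isLocallyClosed
          · rw [Set.not_nonempty_iff_eq_empty.1 hb]
            exact isClosed_empty.isLocallyClosed
        obtain ⟨S, hS, hS'⟩ := NoetherianSpace.exists_finite_set_isClosed_irreducible
          (isClosed_univ (X := q.left ⁻¹' {b}))
        obtain ⟨hS₁, hS₂, hS₃⟩ := hS'
        rw [← Set.finite_univ_iff, hS₃]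
        refine hS.sUnion fun t ht => ?_
        obtain ⟨ξ, hξ⟩ := QuasiSober.sober (hS₂ t ht) (hS₁ t ht)
        rw [← hξ.def, closure_singleton]
        exact Set.finite_singleton ξ
      exact ⟨inferInstance⟩
  exact IsFinite.of_isProper_of_locallyQuasiFinite _

/-- The reduced curve with a given generic point. -/
theorem exists_curve (A : Over S₀) [IsProper A.hom] (y : A.left) (hy : VarDim.Basic.pdim A.hom y = 1) :
    ∃ (C : Over S₀) (ga : C ⟶ A), IsProper C.hom ∧ IsIntegral C.left ∧ IsClosedImmersion ga.left ∧
      topologicalKrullDim C.left = 1 ∧ Set.range ga.left = closure {y} := by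
  let I := Scheme.IdealSheafData.vanishingIdeal (X := A.left) ⟨closure {y}, isClosed_closure⟩
  let C : Over S₀ := Over.mk (I.subschemeι ≫ A.hom)
  let ga : C ⟶ A := Over.homMk I.subschemeι rfl
  haveI : IsClosedImmersion ga.left := inferInstanceAs (IsClosedImmersion I.subschemeι)
  haveI : AlgebraicGeometry.IsReduced C.left := H75.RedSub.isReduced_vanishingIdeal _
  have hr : Set.range ga.left = closure {y} := by
    show Set.range I.subschemeι = _
    rw [Scheme.IdealSheafData.range_subschemeι, Scheme.IdealSheafData.coe_support_vanishingIdeal]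
    rfl
  have e : C.left ≃ₜ (closure {y} : Set A.left) :=
    (ga.left.isClosedEmbedding.isEmbedding.toHomeomorph).trans (Homeomorph.setCongr hr)
  haveI : IrreducibleSpace (closure {y} : Set A.left) :=
    Subtype.irreducibleSpace isIrreducible_singleton.closure
  haveI : IrreducibleSpace C.left := e.irreducibleSpace_iff.2 inferInstance
  haveI : IsIntegral C.left := isIntegral_of_irreducibleSpace_of_isReduced _
  refine ⟨C, ga, by rw [← Over.w ga]; infer_instance, inferInstance, inferInstance, ?_, hr⟩
  rw [e.isHomeomorph.topologicalKrullDim_eq _, VarDim.Basic.topologicalKrullDim_isGenericPoint A.hom isGenericPoint_closure,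
    hy]
  rfl

/-- A positive symmetric biadditive form on homomorphisms. -/
theorem exists_form (A B : Over S₀) [GrpObj A] [IsCommMonObj A] [IsProper A.hom] [GeometricallyIntegral A.hom]
    [GrpObj B] [IsCommMonObj B] [IsProper B.hom] [GeometricallyIntegral B.hom] :
    ∃ b : EndAV.Hom A B →+ EndAV.Hom A B →+ ℤ, (∀ x y, b x y = b y x) ∧ ∀ x, x ≠ 0 → 0 < b x x := by
  classical
  haveI : IsIntegral A.left := GeometricallyIntegral.isIntegral_of_subsingleton A.hom
  obtain ⟨L, M, hL, hM, ⟨hLM⟩, hpull⟩ := AVSymmetric.exists_symmetric_ample B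
  set c := PicGrp.cls L hL.1 with hcdef
  have hc : PicCalc.ph ((𝟙 B)⁻¹ : B ⟶ B) c = c := by
    obtain ⟨e⟩ := hpull (-1)
    have h := (PicCalc.iso_iff (PicCalc.cl_pullback ((𝟙 B : B ⟶ B) ^ (-1 : ℤ)) (a := PicGrp.cls M hM) rfl)
      (AmpleCompl.cl_tensorPow (a := PicGrp.cls M hM) rfl _)).1 ⟨e⟩
    have h1 : c * PicGrp.cls M hM = 1 := (PicCalc.iso_iff (PicCalc.cl_tensor (a := c) (b := PicGrp.cls M hM) rfl rfl)
      PicGrp.one_val.symm).1 ⟨hLM⟩
    rw [eq_inv_of_mul_eq_one_left h1, map_inv]
    rw [zpow_neg_one] at h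
    simpa using h
  obtain ⟨s, hs, hscurve, hgen⟩ := CurveGen.exists_generators A
  haveI := hs.fintype
  choose C ga hCp hCi hga hCd hCr using fun i : s => exists_curve A i.1 (hscurve i.1 i.2).1
  let d : s → (PicLoc.PicSet A.left → ℤ) := fun i z =>
    haveI := hCp i
    haveI := hCi i
    degHom (C i) (hCd i).le (Additive.ofMul (PicCalc.ph (ga i) z))
  have hd : ∀ i z z', d i (z * z') = d i z + d i z' := fun i z z' => by
    haveI := hCp i
    haveI := hCi i
    simp only [d, map_mul, ofMul_mul, map_add]
  let f : EndAV.Hom A B → EndAV.Hom A B → ℤ := fun x y => ∑ i, d i (bil c x.toHom y.toHom)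
  have hcomm : ∀ x y, f x y = f y x := fun x y => by simp only [f, bil_comm c x.toHom]
  have hadd : ∀ x x' y, f (x + x') y = f x y + f x' y := fun x x' y => by
    simp only [f, EndAV.Hom.toHom_add, bil_mul, hd, Finset.sum_add_distrib]
  let b : EndAV.Hom A B →+ EndAV.Hom A B →+ ℤ := AddMonoidHom.mk'
    (fun x => AddMonoidHom.mk' (f x) fun y y' => by rw [hcomm, hadd, hcomm y, hcomm y'])
    fun x x' => AddMonoidHom.ext fun y => hadd x x' y
  refine ⟨b, hcomm, fun x hx => ?_⟩
  show 0 < f x x
  have hterm : ∀ i : s, 0 ≤ d i (bil c x.toHom x.toHom) ∧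
      (x.toHom.left i.1 ≠ unitPt B → 0 < d i (bil c x.toHom x.toHom)) := by
    intro i
    haveI := hCp i
    haveI := hCi i
    haveI := hga i
    let q : C i ⟶ B := ga i ≫ x.toHom
    have hdi : d i (bil c x.toHom x.toHom) = 2 * degHom (C i) (hCd i).le (Additive.ofMul (PicCalc.ph q c)) := by
      simp only [d, q, bil_self c hc, map_mul, PicCalc.ph_comp, ofMul_mul, map_add, two_mul]
    rcases isFinite_or_const (hCd i) q with h | ⟨p, hp, hpx⟩
    · haveI := h
      have := degHom_pos (hCd i) q hL
      rw [hdi]
      exact ⟨by rw [hcdef]; omega, fun _ => by rw [hcdef]; omega⟩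
    · obtain ⟨t, ht⟩ : unitPt A ∈ Set.range (ga i).left :=
        (hCr i) ▸ specializes_iff_mem_closure.1 (hscurve i.1 i.2).2
      have hx1 : x.toHom.left (unitPt A) = unitPt B := by
        show (η[A].left ≫ x.toHom.left) _ = _
        rw [← Over.comp_left, IsMonHom.one_hom]
      have hp1 : p = unitPt B := by
        rw [← hx1, ← ht, ← hpx t]
        rfl
      have hq : q = 1 := by
        refine Over.OverMorphism.ext ?_
        haveI : LocallyOfFiniteType (q.left ≫ B.hom) := by rw [Over.w]; infer_instance
        refine ext_of_apply_eq B.hom Set.univ isOpen_univ.isLocallyClosed dense_univ (fun z _ _ => ?_)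
          (by rw [Over.w, Over.w])
        rw [hpx z, hp1, Hom.one_def, Over.comp_left, Scheme.Hom.comp_apply]
        exact congrArg η[B].left (Subsingleton.elim (α := PrimeSpectrum k) _ _)
      refine ⟨by rw [hdi, hq, CubePow.ph_one']; simp, fun hne => (hne ?_).elim⟩
      obtain ⟨z, hz⟩ : i.1 ∈ Set.range (ga i).left := (hCr i) ▸ subset_closure rfl
      rw [← hz, ← hp1, ← hpx z]
      rfl
  refine Finset.sum_pos' (fun i _ => (hterm i).1) ?_
  by_contra hno
  apply hx
  refine EndAV.Hom.ext (hgen B x.toHom fun y hy => ?_)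
  by_contra hne
  exact hno ⟨⟨y, hy⟩, Finset.mem_univ _, (hterm ⟨y, hy⟩).2 hne⟩

end Groth.Agent.H63.CurveDeg
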