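import Groth.Agent.H63.AVIsogeny
import Groth.Agent.H4.LineLift
import Mathlib.Algebra.MvPolynomial.Equiv
import Mathlib.RingTheory.PrincipalIdealDomain

/-!
# Finitely many curves generate an abelian variety

* `exists_curve_point`: a curve through the unit, out of a given closed subset
* `exists_generators`: finitely many curves detect nonzero homomorphisms
-/

set_option autoImplicit false

universe u

open CategoryTheory CategoryTheory.Limits MonoidalCategory CartesianMonoidalCategory AlgebraicGeometry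
open scoped MonObj GrpObj
open Groth.Agent.Lib Groth.Agent.H63.GrpIrred Groth.Agent.H63.GrpComponent TopologicalSpace

namespace Groth.Agent.H63.CurveGen

variable {k : Type u} [Field k] [IsAlgClosed k] (A : Over (Spec (CommRingCat.of k))) [GrpObj A]
  [IsProper A.hom] [IsIntegral A.left]

local notation "T₀" => Over.mk (𝟙 (Spec (CommRingCat.of k)))

omit [IsIntegral A.left] in
theorem isClosed_unitPt : IsClosed ({unitPt A} : Set A.left) := by
  have h := ((AVIsogeny.ptsEquiv A) η[A]).2
  rwa [show ((AVIsogeny.ptsEquiv A) η[A]).1 = unitPt A from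
    congrArg η[A].left (Subsingleton.elim (α := PrimeSpectrum k) _ _)] at h

omit [GrpObj A] in
theorem nonzero_prime_isMaximal (P : Ideal (MvPolynomial (Fin 1) k)) [P.IsPrime] (hP : P ≠ ⊥) : P.IsMaximal :=
  haveI : IsPrincipalIdealRing (MvPolynomial (Fin 1) k) :=
    IsPrincipalIdealRing.of_surjective (MvPolynomial.uniqueAlgEquiv k (Fin 1)).symm.toRingEquiv.toRingHom
      (MvPolynomial.uniqueAlgEquiv k (Fin 1)).symm.surjective
  IsPrime.to_maximal_ideal hP

theorem exists_curve_point (Z : Set A.left) (hZ : IsClosed Z) (h0 : unitPt A ∈ Z) (hne : Z ≠ Set.univ) :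
    ∃ y x : A.left, VarDim.Basic.pdim A.hom y = 1 ∧ y ⤳ unitPt A ∧ y ⤳ x ∧ IsClosed ({x} : Set A.left) ∧ x ∉ Z := by
  haveI : JacobsonSpace A.left := LocallyOfFiniteType.jacobsonSpace A.hom
  obtain ⟨_, ⟨(W : A.left.Opens), hW, rfl⟩, hoW, -⟩ := A.left.isBasis_affineOpens.exists_subset_of_mem_open
    (Set.mem_univ (unitPt A)) isOpen_univ
  haveI : Nonempty (W : Scheme.{u}) := ⟨⟨unitPt A, hoW⟩⟩
  let R := Γ(A.left, W)
  haveI : IsDomain R := IsIntegral.component_integral (X := A.left) W
  let e := hW.fromSpec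
  let ρ : CommRingCat.of k ⟶ R := Spec.preimage (e ≫ A.hom)
  have hρ : Spec.map ρ = e ≫ A.hom := Spec.map_preimage _
  letI : Algebra k R := ρ.hom.toAlgebra
  haveI : IsOpenImmersion e := hW.isOpenImmersion_fromSpec
  haveI : Algebra.FiniteType k R := by
    have h : LocallyOfFiniteType (Spec.map (CommRingCat.ofHom (algebraMap k R))) := by
      change LocallyOfFiniteType (Spec.map ρ)
      rw [hρ]; infer_instance
    exact RingHom.finiteType_algebraMap.1 ((HasRingHomProperty.Spec_iff (P := @LocallyOfFiniteType)).1 h)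
  obtain ⟨p₀, hp₀⟩ : unitPt A ∈ Set.range e := by rw [hW.range_fromSpec]; exact hoW
  haveI : p₀.asIdeal.IsMaximal := by
    rw [← PrimeSpectrum.isClosed_singleton_iff_isMaximal]
    have := (isClosed_unitPt A).preimage e.continuous
    have e2 : e ⁻¹' {unitPt A} = {p₀} := Set.ext fun z => by
      rw [Set.mem_preimage, Set.mem_singleton_iff, Set.mem_singleton_iff, ← hp₀]
      exact ⟨fun h => e.isOpenEmbedding.injective h, fun h => h ▸ rfl⟩
    rwa [e2] at this
  let J := PrimeSpectrum.vanishingIdeal (e ⁻¹' Z)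
  have hJz : PrimeSpectrum.zeroLocus (J : Set R) = e ⁻¹' Z :=
    (PrimeSpectrum.zeroLocus_vanishingIdeal_eq_closure _).trans (hZ.preimage e.continuous).closure_eq
  have hJ : J ≠ ⊥ := by
    intro hJ
    refine hne (Set.eq_univ_of_univ_subset ?_)
    have h1 : Set.range e ⊆ Z := by
      rintro _ ⟨z, rfl⟩
      have : z ∈ e ⁻¹' Z := by rw [← hJz, hJ]; exact fun r hr => by simp_all
      exact this
    have h3 : Dense (Set.range e) := e.isOpenEmbedding.isOpen_range.dense ⟨_, p₀, rfl⟩
    exact fun w _ => closure_minimal h1 hZ (h3 w)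
  have hJm : J ≤ p₀.asIdeal := by
    have : p₀ ∈ PrimeSpectrum.zeroLocus (J : Set R) := by rw [hJz]; exact show e p₀ ∈ Z from hp₀ ▸ h0
    exact this
  obtain ⟨P, τ, m₁, hP, hPm₀, hτ, hτi, hm₁, hPm₁, hJm₁⟩ :=
    H4.LineLift.exists_curve_quotient k R p₀.asIdeal J hJ hJm
  let pP : PrimeSpectrum R := ⟨P, hP⟩
  let p₁ : PrimeSpectrum R := ⟨m₁, hm₁.isPrime⟩
  have hsp : ∀ q : PrimeSpectrum R, P ≤ q.asIdeal → e pP ⤳ e q := fun q hq =>
    ((PrimeSpectrum.le_iff_specializes pP q).1 hq).map e.continuous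
  -- between `P` and a maximal ideal there is no prime
  have hmax : ∀ Q : Ideal R, Q.IsPrime → P < Q → Q.IsMaximal := by
    intro Q hQ hlt
    haveI : (Q.map (Ideal.Quotient.mk P)).IsPrime :=
      Ideal.map_isPrime_of_surjective Ideal.Quotient.mk_surjective (by rw [Ideal.mk_ker]; exact hlt.le)
    have hne' : Q.map (Ideal.Quotient.mk P) ≠ ⊥ := fun h => hlt.not_ge (by
      have := Ideal.comap_map_of_surjective (Ideal.Quotient.mk P) Ideal.Quotient.mk_surjective Q
      rw [h, ← RingHom.ker_eq_comap_bot, Ideal.mk_ker] at this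
      exact (le_sup_left.trans_eq this.symm))
    obtain ⟨x, hx, hx0⟩ := Submodule.exists_mem_ne_zero_of_ne_bot hne'
    letI : Algebra (MvPolynomial (Fin 1) k) (R ⧸ P) := τ.toRingHom.toAlgebra
    have hc := Ideal.comap_ne_bot_of_integral_mem (R := MvPolynomial (Fin 1) k) hx0 hx (hτi x)
    have := nonzero_prime_isMaximal _ hc
    have h2 := Ideal.isMaximal_of_isIntegral_of_isMaximal_comap' τ.toRingHom hτi _ this
    have h3 := Ideal.comap_isMaximal_of_surjective _ Ideal.Quotient.mk_surjective (K := Q.map (Ideal.Quotient.mk P))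
    rw [Ideal.comap_map_of_surjective _ Ideal.Quotient.mk_surjective, ← RingHom.ker_eq_comap_bot, Ideal.mk_ker,
      sup_eq_left.2 hlt.le] at h3
    exact h3
  have hPne : P ≠ p₀.asIdeal := fun h => by
    haveI : P.IsMaximal := h ▸ inferInstance
    letI := Ideal.Quotient.field P
    letI : Algebra (MvPolynomial (Fin 1) k) (R ⧸ P) := τ.toRingHom.toAlgebra
    haveI : Algebra.IsIntegral (MvPolynomial (Fin 1) k) (R ⧸ P) := ⟨hτi⟩
    have hf : IsField (MvPolynomial (Fin 1) k) :=
      isField_of_isIntegral_of_isField (R := MvPolynomial (Fin 1) k) (S := R ⧸ P) hτ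
        (Field.toIsField _)
    exact Polynomial.not_isField k (MulEquiv.isField hf (MvPolynomial.uniqueAlgEquiv k (Fin 1)).symm.toMulEquiv)
  have hyo : e pP ⤳ unitPt A := hp₀ ▸ hsp p₀ hPm₀
  have hne0 : e pP ≠ unitPt A := fun h => hPne
    (congrArg PrimeSpectrum.asIdeal (e.isOpenEmbedding.injective (h.trans hp₀.symm)))
  have hx : IsClosed ({e p₁} : Set A.left) := by
    refine isClosed_singleton_of_isLocallyClosed_singleton ?_
    rw [← Set.image_singleton]
    exact ((PrimeSpectrum.isClosed_singleton_iff_isMaximal p₁).2 hm₁).isLocallyClosed.image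
      e.isOpenEmbedding.isInducing e.isOpenEmbedding.isOpen_range.isLocallyClosed
  refine ⟨e pP, e p₁, ?_, hyo, hsp p₁ hPm₁, hx, fun h => hJm₁ ?_⟩
  · obtain ⟨z, h1, h2, h3⟩ := VarDim.Basic.exists_step_below A.hom hyo hne0
    have hcl := (VarDim.Basic.pdim_eq_zero_iff A.hom (unitPt A)).2 (isClosed_unitPt A)
    by_cases hz : z = unitPt A
    · rw [h3, hz, hcl]
    · exfalso
      obtain ⟨q, hq⟩ : z ∈ Set.range e := h2.mem_open e.isOpenEmbedding.isOpen_range ⟨p₀, hp₀⟩
      subst hq
      have hne1 : e pP ≠ e q := fun h => by rw [← h] at h3; omega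
      have hle : P ≤ q.asIdeal :=
        (PrimeSpectrum.le_iff_specializes pP q).2 (e.isOpenEmbedding.isInducing.specializes_iff.1 h1)
      have hlt : P < q.asIdeal :=
        lt_of_le_of_ne hle fun h => hne1 (congrArg e (PrimeSpectrum.ext h : pP = q))
      have hqm := hmax q.asIdeal q.isPrime hlt
      have hle' : q.asIdeal ≤ p₀.asIdeal :=
        (PrimeSpectrum.le_iff_specializes q p₀).2 (e.isOpenEmbedding.isInducing.specializes_iff.1 (hp₀ ▸ h2))
      exact hz (hp₀ ▸ congrArg e (PrimeSpectrum.ext (hqm.eq_of_le ‹p₀.asIdeal.IsMaximal›.ne_top hle')))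
  · have h' : p₁ ∈ PrimeSpectrum.zeroLocus (J : Set R) := by rw [hJz]; exact h
    exact h'

variable [IsCommMonObj A]

/-- Finitely many curves through the unit detect nonzero homomorphisms. -/
theorem exists_generators :
    ∃ s : Set A.left, s.Finite ∧ (∀ y ∈ s, VarDim.Basic.pdim A.hom y = 1 ∧ y ⤳ unitPt A) ∧
      ∀ (B : Over (Spec (CommRingCat.of k))) [GrpObj B] [IsProper B.hom] (f : A ⟶ B) [IsMonHom f],
        (∀ y ∈ s, f.left y = unitPt B) → f = 1 := by
  haveI : JacobsonSpace A.left := LocallyOfFiniteType.jacobsonSpace A.hom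
  let pt : (𝟙_ (Over (Spec (CommRingCat.of k))) ⟶ A) → A.left := fun b => b.left (IsLocalRing.closedPoint k)
  have hpts : ∀ x : A.left, IsClosed ({x} : Set A.left) → ∃ b, pt b = x := fun x hx =>
    ⟨(AVIsogeny.ptsEquiv A).symm ⟨x, hx⟩, congrArg Subtype.val ((AVIsogeny.ptsEquiv A).apply_symm_apply ⟨x, hx⟩)⟩
  have hpt1 : pt 1 = unitPt A := by
    show (1 : 𝟙_ (Over (Spec (CommRingCat.of k))) ⟶ A).left _ = _
    rw [Hom.one_def, toUnit_unique (toUnit (𝟙_ (Over (Spec (CommRingCat.of k))))) (𝟙 _), Category.id_comp]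
  have htr : ∀ a b, (AmpleCompl.tr a).left (pt b) = pt (b * a) := fun a b => by
    show (b.left ≫ (AmpleCompl.tr a).left) _ = _
    rw [← Over.comp_left, AmpleCompl.comp_tr, toUnit_unique (toUnit (𝟙_ (Over (Spec (CommRingCat.of k))))) (𝟙 _),
      Category.id_comp]
  suffices key : ∀ (n : ℕ) (s : Set A.left) (y : A.left), s.Finite →
      (∀ c ∈ s, VarDim.Basic.pdim A.hom c = 1 ∧ c ⤳ unitPt A) → y ⤳ unitPt A →
      VarDim.Basic.pdim A.hom (genericPoint A.left) ≤ VarDim.Basic.pdim A.hom y + n →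
      (∀ (B : Over (Spec (CommRingCat.of k))) [GrpObj B] [IsProper B.hom] (f : A ⟶ B) [IsMonHom f],
        (∀ c ∈ s, f.left c = unitPt B) → f.left y = unitPt B) →
      ∃ s : Set A.left, s.Finite ∧ (∀ c ∈ s, VarDim.Basic.pdim A.hom c = 1 ∧ c ⤳ unitPt A) ∧
        ∀ (B : Over (Spec (CommRingCat.of k))) [GrpObj B] [IsProper B.hom] (f : A ⟶ B) [IsMonHom f],
          (∀ c ∈ s, f.left c = unitPt B) → f.left (genericPoint A.left) = unitPt B by
    obtain ⟨s, hs, hsc, h⟩ := key _ ∅ (unitPt A) Set.finite_empty (fun _ h => h.elim) specializes_rfl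
      (Nat.le_add_left _ _) fun B _ _ f _ _ => by
        show (η[A].left ≫ f.left) _ = _
        rw [← Over.comp_left, IsMonHom.one_hom]
    refine ⟨s, hs, hsc, fun B _ _ f _ hf => Over.OverMorphism.ext ?_⟩
    have hall : ∀ x, f.left x = unitPt B := fun x => by
      have h1 : f.left (genericPoint A.left) ⤳ f.left x :=
        ((genericPoint_spec A.left).specializes trivial).map f.left.continuous
      rw [h B f hf] at h1
      exact h1.mem_closed (isClosed_unitPt B) rfl
    haveI : LocallyOfFiniteType (f.left ≫ B.hom) := by rw [Over.w]; infer_instance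
    refine ext_of_apply_eq B.hom Set.univ isOpen_univ.isLocallyClosed dense_univ (fun x _ _ => ?_)
      (by rw [Over.w, Over.w])
    rw [hall x, Hom.one_def, Over.comp_left, Scheme.Hom.comp_apply]
    exact congrArg η[B].left (Subsingleton.elim (α := PrimeSpectrum k) _ _)
  intro n
  induction n with
  | zero =>
    intro s y hs hsc _ hd hy
    have := VarDim.Basic.eq_of_pdim_le A.hom ((genericPoint_spec A.left).specializes (Set.mem_univ y)) (by simpa using hd)
    exact ⟨s, hs, hsc, fun B _ _ f _ hf => this ▸ hy B f hf⟩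
  | succ n ih =>
    intro s y hs hsc hyo hd hy
    by_cases hall : y = genericPoint A.left
    · exact ⟨s, hs, hsc, fun B _ _ f _ hf => hall ▸ hy B f hf⟩
    let Y := closure ({y} : Set A.left)
    have hYo : unitPt A ∈ Y := specializes_iff_mem_closure.1 hyo
    have hYne : Y ≠ Set.univ := fun h => hall
      ((isGenericPoint_closure (x := y)).eq (show IsGenericPoint (genericPoint A.left) Y from by rw [h]; exact genericPoint_spec A.left))
    obtain ⟨c, x, hc, hco, hcx, hxc, hxY⟩ := exists_curve_point A Y isClosed_closure hYo hYne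
    let S : Set A.left := {z | ∃ a b, y ⤳ pt a ∧ c ⤳ pt b ∧ pt (b * a) = z}
    have hSir : IsIrreducible S := by
      refine ⟨⟨_, 1, 1, hpt1 ▸ hyo, hpt1 ▸ hco, rfl⟩, ?_⟩
      rintro U V hU hV ⟨_, ⟨a₁, b₁, ha₁, hb₁, rfl⟩, h₁⟩ ⟨_, ⟨a₂, b₂, ha₂, hb₂, rfl⟩, h₂⟩
      let O : Set A.left → Set A.left := fun W => ⋃ (a) (_ : y ⤳ pt a), (AmpleCompl.tr a).left ⁻¹' W
      have hO : ∀ W, IsOpen W → IsOpen (O W) := fun W hW =>
        isOpen_iUnion fun a => isOpen_iUnion fun _ => hW.preimage (AmpleCompl.tr a).left.continuous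
      have hcU : c ∈ O U := hb₁.mem_open (hO U hU)
        (Set.mem_iUnion₂.2 ⟨a₁, ha₁, show _ ∈ U by rwa [htr]⟩)
      have hcV : c ∈ O V := hb₂.mem_open (hO V hV)
        (Set.mem_iUnion₂.2 ⟨a₂, ha₂, show _ ∈ V by rwa [htr]⟩)
      obtain ⟨z, ⟨hzc, hzO⟩, hzcl⟩ := nonempty_inter_closedPoints
        (Z := closure {c} ∩ (O U ∩ O V)) ⟨c, subset_closure rfl, hcU, hcV⟩
        (isClosed_closure.isLocallyClosed.inter ((hO U hU).inter (hO V hV)).isLocallyClosed)
      obtain ⟨b, rfl⟩ := hpts z hzcl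
      obtain ⟨a, ha, haU⟩ := Set.mem_iUnion₂.1 hzO.1
      obtain ⟨a', ha', haV⟩ := Set.mem_iUnion₂.1 hzO.2
      rw [Set.mem_preimage, htr, mul_comm, ← htr] at haU haV
      have hyU : y ∈ (AmpleCompl.tr b).left ⁻¹' U := ha.mem_open (hU.preimage (AmpleCompl.tr b).left.continuous) haU
      have hyV : y ∈ (AmpleCompl.tr b).left ⁻¹' V := ha'.mem_open (hV.preimage (AmpleCompl.tr b).left.continuous) haV
      obtain ⟨w, ⟨hwy, hwU⟩, hwcl⟩ := nonempty_inter_closedPoints
        (Z := closure {y} ∩ ((AmpleCompl.tr b).left ⁻¹' U ∩ (AmpleCompl.tr b).left ⁻¹' V))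
        ⟨y, subset_closure rfl, hyU, hyV⟩
        (isClosed_closure.isLocallyClosed.inter
          ((hU.inter hV).preimage (AmpleCompl.tr b).left.continuous).isLocallyClosed)
      obtain ⟨a'', rfl⟩ := hpts w hwcl
      refine ⟨pt (b * a''), ⟨a'', b, specializes_iff_mem_closure.2 hwy, specializes_iff_mem_closure.2 hzc, rfl⟩, ?_⟩
      rw [mul_comm, ← htr]
      exact hwU
    obtain ⟨y', hy'⟩ := QuasiSober.sober hSir.closure isClosed_closure
    have hin : ∀ {z}, z ∈ S → y' ⤳ z := fun hz => hy'.specializes (subset_closure hz)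
    have hyy : y' ⤳ y := by
      refine hy'.specializes ?_
      have h := JacobsonSpace.closure_inter_closedPoints_eq_closure (X := A.left)
        (S := closure ({y} : Set A.left)) isClosed_closure.isLocallyClosed
      have hyC : y ∈ closure (closure ({y} : Set A.left)) := subset_closure (subset_closure rfl)
      rw [← h] at hyC
      refine closure_mono ?_ hyC
      rintro z ⟨hz, hzc⟩
      obtain ⟨a, rfl⟩ := hpts z hzc
      exact ⟨a, 1, specializes_iff_mem_closure.2 hz, hpt1 ▸ hco, by rw [_root_.one_mul]⟩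
    have hy'x : y' ⤳ x := by
      obtain ⟨b, rfl⟩ := hpts x hxc
      exact hin ⟨1, b, hpt1 ▸ hyo, hcx, by rw [_root_.mul_one]⟩
    have hne : y' ≠ y := fun h => hxY (specializes_iff_mem_closure.1 (h ▸ hy'x))
    have hlt := VarDim.Basic.pdim_lt A.hom hyy hne
    refine ih (insert c s) y' (hs.insert c) (fun d hd' => ?_) (hyy.trans hyo) (by omega) fun B _ _ f _ hf => ?_
    · rcases hd' with rfl | hd'
      · exact ⟨hc, hco⟩
      · exact hsc d hd'
    · have hkill : ∀ z, f.left z = unitPt B → ∀ b, z ⤳ pt b → b ≫ f = 1 := fun z hz b hb => by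
        have h1 := hb.map f.left.continuous
        rw [hz] at h1
        refine (AVIsogeny.ptsEquiv B).injective (Subtype.ext ?_)
        show (b ≫ f).left _ = (1 : 𝟙_ (Over (Spec (CommRingCat.of k))) ⟶ B).left _
        rw [Over.comp_left, Scheme.Hom.comp_apply]
        refine (h1.mem_closed (isClosed_unitPt B) rfl).trans ?_
        rw [Hom.one_def, toUnit_unique (toUnit (𝟙_ (Over (Spec (CommRingCat.of k))))) (𝟙 _), Category.id_comp]
      have hsub : S ⊆ f.left ⁻¹' {unitPt B} := by
        rintro _ ⟨a, b, ha, hb, rfl⟩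
        show ((b * a) ≫ f).left _ = _
        rw [MonObj.mul_comp, hkill y (hy B f fun d hd' => hf d (Set.mem_insert_of_mem _ hd')) a ha,
          hkill c (hf c (Set.mem_insert _ _)) b hb, _root_.one_mul, Hom.one_def,
          toUnit_unique (toUnit (𝟙_ (Over (Spec (CommRingCat.of k))))) (𝟙 _), Category.id_comp]
      exact closure_minimal hsub ((isClosed_unitPt B).preimage f.left.continuous) hy'.mem

end Groth.Agent.H63.CurveGen
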