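import Groth.Agent.H63.DegreePoly
import Mathlib.Algebra.Polynomial.Degree.Lemmas

/-!
# The polynomial `n ↦ deg (α + n)`

* `exists_monic`: monic of degree `2r`
-/

set_option autoImplicit false

universe u

open CategoryTheory MonoidalCategory CartesianMonoidalCategory AlgebraicGeometry
open scoped MonObj GrpObj

namespace Groth.Agent.H63.DegreePolyOne

/-- Dehomogenisation at the first variable. -/
theorem exists_dehom {N : ℕ} (Q : MvPolynomial (Fin 2) ℚ) (hQ : Q.IsHomogeneous N) :
    ∃ P : Polynomial ℚ, P.natDegree ≤ N ∧ P.coeff N = MvPolynomial.eval ![0, 1] Q ∧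
      ∀ x : ℚ, P.eval x = MvPolynomial.eval ![1, x] Q := by
  classical
  refine ⟨∑ d ∈ Q.support, Polynomial.C (Q.coeff d) * Polynomial.X ^ (d 1), ?_, ?_, fun x => ?_⟩
  · refine Polynomial.natDegree_sum_le_of_forall_le _ _ fun d hd => ?_
    have h := hQ (MvPolynomial.mem_support_iff.1 hd)
    rw [Finsupp.weight_apply, Finsupp.sum_fintype _ _ (by simp), Fin.sum_univ_two] at h
    simp only [smul_eq_mul, Pi.one_apply, mul_one] at h
    exact (Polynomial.natDegree_C_mul_X_pow_le _ _).trans (by omega)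
  · rw [Polynomial.finsetSum_coeff, MvPolynomial.eval_eq']
    refine Finset.sum_congr rfl fun d hd => ?_
    have h := hQ (MvPolynomial.mem_support_iff.1 hd)
    rw [Finsupp.weight_apply, Finsupp.sum_fintype _ _ (by simp), Fin.sum_univ_two] at h
    simp only [smul_eq_mul, Pi.one_apply, mul_one] at h
    rw [Polynomial.coeff_C_mul_X_pow, Fin.prod_univ_two]
    by_cases h0 : d 0 = 0
    · rw [if_pos (by omega)]
      simp [h0]
    · rw [if_neg (by omega)]
      simp [h0]
  · rw [Polynomial.eval_finsetSum, MvPolynomial.eval_eq']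
    refine Finset.sum_congr rfl fun d _ => ?_
    rw [Fin.prod_univ_two]
    simp

variable {k : Type u} [Field k] (A : Over (Spec (CommRingCat.of k))) [GrpObj A]
  [IsProper A.hom] [GeometricallyIntegral A.hom]

theorem exists_monic {r : ℕ} (hr : topologicalKrullDim A.left = r) (α : A ⟶ A) [IsMonHom α] :
    ∃ P : Polynomial ℚ, P.Monic ∧ P.natDegree = 2 * r ∧
      ∀ n : ℤ, (IsFinite (α * 𝟙 A ^ n).left → ∀ a : A.left, ((α * 𝟙 A ^ n).left.finrank a : ℚ) = P.eval (n : ℚ)) ∧
        (¬ IsFinite (α * 𝟙 A ^ n).left → P.eval (n : ℚ) = 0) := by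
  haveI : IsCommMonObj A := isCommMonObj_of_isProper_of_geometricallyIntegral A
  haveI : IsIntegral A.left := GeometricallyIntegral.isIntegral_of_subsingleton A.hom
  obtain ⟨Q, hQh, hQ⟩ := DegreePoly.exists_poly A A hr hr ![α, 𝟙 A] fun i => by
    fin_cases i
    · exact ‹IsMonHom α›
    · exact (inferInstance : IsMonHom (𝟙 A))
  obtain ⟨P, hdeg, hlead, hP⟩ := exists_dehom Q hQh
  have h01 : P.coeff (2 * r) = 1 := by
    rw [hlead]
    have h := hQ ![0, 1]
    have e : (fun i => ((![0, 1] : Fin 2 → ℤ) i : ℚ)) = ![0, 1] := by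
      funext i; fin_cases i <;> simp
    simp only [Fin.prod_univ_two, Matrix.cons_val_zero, Matrix.cons_val_one, zpow_zero, zpow_one,
      one_mul, e] at h
    obtain ⟨a⟩ := (inferInstance : Nonempty A.left)
    haveI : IsIso (𝟙 A : A ⟶ A).left := by rw [Over.id_left]; infer_instance
    rw [← (h.1 inferInstance a)]
    have := H63.AVDegree.finrank_zpow A hr (d := 1) one_ne_zero a
    rw [zpow_one] at this
    rw [this]
    simp
  refine ⟨P, Polynomial.monic_of_natDegree_le_of_coeff_eq_one _ hdeg h01,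
    le_antisymm hdeg (Polynomial.le_natDegree_of_ne_zero (by rw [h01]; exact one_ne_zero)), fun n => ?_⟩
  have h := hQ ![1, n]
  have e : (fun i => ((![1, n] : Fin 2 → ℤ) i : ℚ)) = ![1, (n : ℚ)] := by
    funext i; fin_cases i <;> simp
  simp only [Fin.prod_univ_two, Matrix.cons_val_zero, Matrix.cons_val_one, zpow_one, e] at h
  rw [hP]
  exact h

end Groth.Agent.H63.DegreePolyOne
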