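import Mathlib.LinearAlgebra.FreeModule.PID
import Mathlib.LinearAlgebra.Matrix.Permutation
import Mathlib.LinearAlgebra.Matrix.NonsingularInverse
import Mathlib.LinearAlgebra.Matrix.Basis
import Mathlib.LinearAlgebra.Dimension.StrongRankCondition

/-!
# Multiplicative functions of integral matrices

* `exists_factor`: `A = U * diagonal a * V`
* `eq_det_pow`: a multiplicative function with known values on scalars is a power of the determinant
-/

set_option autoImplicit false

open Matrix

namespace Groth.Agent.H63.DetMult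

variable {r : ℕ}

theorem exists_factor (A : Matrix (Fin r) (Fin r) ℤ) (hA : A.det ≠ 0) :
    ∃ (U V : Matrix (Fin r) (Fin r) ℤ) (a : Fin r → ℤ), IsUnit U ∧ IsUnit V ∧ A = U * diagonal a * V := by
  let L := Matrix.toLin' A
  have hL : Function.Injective L := by
    rw [← LinearMap.ker_eq_bot, LinearMap.ker_eq_bot']
    intro v hv
    exact Matrix.eq_zero_of_mulVec_eq_zero hA hv
  let e := LinearEquiv.ofInjective L hL
  obtain ⟨b, a, c, hc⟩ := Submodule.exists_smith_normal_form_of_rank_eq (Pi.basisFun ℤ (Fin r))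
    (LinearMap.finrank_range_of_inj hL)
  let c' := c.map e.symm
  have hd : LinearMap.toMatrix c' b L = diagonal a := by
    ext i j
    have e1 : L (c' j) = a j • b j := by
      rw [← hc j]
      exact congrArg Subtype.val (e.apply_symm_apply (c j))
    rw [LinearMap.toMatrix_apply, e1, map_smul, Module.Basis.repr_self, Finsupp.smul_single, smul_eq_mul, mul_one]
    by_cases h : i = j
    · subst h; simp
    · simp [Finsupp.single_eq_of_ne h, diagonal_apply_ne _ h]
  refine ⟨(Pi.basisFun ℤ (Fin r)).toMatrix b, c'.toMatrix (Pi.basisFun ℤ (Fin r)), a, ?_, ?_, ?_⟩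
  · exact IsUnit.of_mul_eq_one (b.toMatrix (Pi.basisFun ℤ (Fin r))) (Module.Basis.toMatrix_mul_toMatrix_flip _ _)
  · exact IsUnit.of_mul_eq_one ((Pi.basisFun ℤ (Fin r)).toMatrix c') (Module.Basis.toMatrix_mul_toMatrix_flip _ _)
  · rw [← hd, basis_toMatrix_mul_linearMap_toMatrix_mul_basis_toMatrix]
    exact (LinearMap.toMatrix'_toLin' A).symm

/-- A multiplicative function is a power of the determinant. -/
theorem eq_det_pow (f : Matrix (Fin r) (Fin r) ℤ →* ℕ) (e : ℕ)
    (hs : ∀ d : ℤ, d ≠ 0 → f (diagonal fun _ => d) = d.natAbs ^ (e * r)) (A : Matrix (Fin r) (Fin r) ℤ)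
    (hA : A.det ≠ 0) : f A = A.det.natAbs ^ e := by
  classical
  have hU : ∀ U, IsUnit U → f U = 1 ∧ U.det.natAbs = 1 := fun U h =>
    ⟨Nat.isUnit_iff.1 (h.map f), Int.isUnit_iff_natAbs_eq.1 ((Matrix.isUnit_iff_isUnit_det U).1 h)⟩
  let g : (Fin r → ℤ) →* ℕ := f.comp (diagonalRingHom (Fin r) ℤ).toMonoidHom
  have hswap : ∀ (i j : Fin r) (d : ℤ), g (Pi.mulSingle i d) = g (Pi.mulSingle j d) := by
    intro i j d
    let S := (Equiv.swap i j).permMatrix ℤ
    have hS : S * S = 1 := by
      show (Equiv.swap i j).permMatrix ℤ * (Equiv.swap i j).permMatrix ℤ = 1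
      rw [← Matrix.permMatrix_mul, Equiv.swap_mul_self, Matrix.permMatrix_one]
    have hfS : f S * f S = 1 := by rw [← map_mul, hS, map_one]
    have key : S * diagonal (Pi.mulSingle i d) * S = diagonal (Pi.mulSingle j d) := by
      show (Equiv.swap i j).toPEquiv.toMatrix * _ * (Equiv.swap i j).toPEquiv.toMatrix = _
      rw [PEquiv.toMatrix_toPEquiv_mul, PEquiv.mul_toMatrix_toPEquiv]
      ext a b
      simp only [Matrix.submatrix_apply, diagonal_apply, Equiv.symm_swap, id_eq, EmbeddingLike.apply_eq_iff_eq]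
      refine if_congr Iff.rfl ?_ rfl
      rcases eq_or_ne a j with rfl | h
      · rw [Equiv.swap_apply_right, Pi.mulSingle_eq_same, Pi.mulSingle_eq_same]
      · rw [Pi.mulSingle_eq_of_ne h, Pi.mulSingle_eq_of_ne]
        intro h'
        have := congrArg (Equiv.swap i j) h'
        rw [Equiv.swap_apply_self, Equiv.swap_apply_left] at this
        exact h this
    show f (diagonal _) = f (diagonal _)
    rw [← key, map_mul, map_mul, mul_comm (f S), mul_assoc, hfS, mul_one]
  have hsing : ∀ (i : Fin r) (d : ℤ), d ≠ 0 → g (Pi.mulSingle i d) = d.natAbs ^ e := by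
    intro i d hd
    have h : g (Pi.mulSingle i d) ^ r = (d.natAbs ^ e) ^ r := by
      rw [← pow_mul, ← hs d hd, show f (diagonal fun _ => d) = g (fun _ => d) from rfl,
        ← Finset.univ_prod_mulSingle (fun _ : Fin r => d), map_prod, Finset.prod_eq_pow_card (b := g (Pi.mulSingle i d))
          (fun j _ => hswap j i d), Finset.card_univ, Fintype.card_fin]
    exact Nat.pow_left_injective (by rintro rfl; exact i.elim0) h
  obtain ⟨U, V, a, hUu, hVu, rfl⟩ := exists_factor A hA
  rw [det_mul, det_mul, det_diagonal] at hA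
  have ha : ∀ i, a i ≠ 0 := fun i h => hA (by rw [Finset.prod_eq_zero (Finset.mem_univ i) h, mul_zero, zero_mul])
  rw [map_mul, map_mul, (hU U hUu).1, (hU V hVu).1, one_mul, mul_one, det_mul, det_mul, det_diagonal, Int.natAbs_mul,
    Int.natAbs_mul, (hU U hUu).2, (hU V hVu).2, one_mul, mul_one, show f (diagonal a) = g a from rfl,
    ← Finset.univ_prod_mulSingle a, map_prod, Finset.univ_prod_mulSingle,
    show (∏ i, a i).natAbs = ∏ i, (a i).natAbs from map_prod (⟨⟨Int.natAbs, rfl⟩, Int.natAbs_mul⟩ : ℤ →* ℕ) _ _, ← Finset.prod_pow]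
  exact Finset.prod_congr rfl fun i _ => hsing i _ (ha i)

end Groth.Agent.H63.DetMult
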