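import Groth.Agent.S11684
import Mathlib.RingTheory.SimpleModule.Basic
import Mathlib.FieldTheory.Perfect
import Mathlib.LinearAlgebra.Projection

/-!
# Double centralisers of images of semisimple rational algebras

* `isSemisimpleRing_tensor`: extending scalars preserves semisimplicity over a perfect field
* `exists_idempotent`, `mem_range_of_commute`
-/

set_option autoImplicit false

universe u v w

open scoped TensorProduct

namespace Groth.Agent.H63.DoubleCentral

theorem exists_regular {R : Type*} [Ring R] [IsSemisimpleRing R] (x : R) : ∃ y, x * y * x = x := by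
  obtain ⟨e, he, hI⟩ := IsSemisimpleRing.ideal_eq_span_idempotent (Ideal.span {x})
  obtain ⟨z, hz⟩ := Ideal.mem_span_singleton'.1 (hI ▸ Ideal.mem_span_singleton_self x)
  obtain ⟨y, hy⟩ := Ideal.mem_span_singleton'.1 (hI.symm ▸ Ideal.mem_span_singleton_self e)
  exact ⟨y, by rw [mul_assoc, hy, ← hz, mul_assoc, he.eq]⟩

theorem isSemisimpleRing_tensor (k : Type u) [Field k] [PerfectField k] (A : Type v) [Ring A] [Algebra k A]
    [FiniteDimensional k A] [IsSemisimpleRing A] (k' : Type w) [Field k'] [Algebra k k'] :
    IsSemisimpleRing (k' ⊗[k] A) := by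
  haveI : Algebra.IsSeparable k (Subalgebra.center k A) := ⟨fun c => by
    have hint : IsIntegral k c := IsIntegral.of_finite k c
    refine PerfectField.separable_iff_squarefree.2 fun a ha => ?_
    obtain ⟨b, hb⟩ := ha
    have hne : minpoly k c ≠ 0 := minpoly.ne_zero hint
    have h0 : Polynomial.aeval c (a * b) = 0 := by
      obtain ⟨y, hy⟩ := exists_regular ((Polynomial.aeval c (a * b) : Subalgebra.center k A) : A)
      have hcomm := Subalgebra.mem_center_iff.1 (Polynomial.aeval c (a * b) : Subalgebra.center k A).2 y
      have hsq : (Polynomial.aeval c (a * b) : Subalgebra.center k A) * Polynomial.aeval c (a * b) = 0 := by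
        rw [← map_mul, show a * b * (a * b) = a * a * b * b by ring, ← hb, map_mul, minpoly.aeval, zero_mul]
      apply Subtype.ext
      show ((Polynomial.aeval c (a * b) : Subalgebra.center k A) : A) = 0
      rw [← hy, mul_assoc, hcomm, ← mul_assoc, show ((Polynomial.aeval c (a * b) : Subalgebra.center k A) : A) *
        ((Polynomial.aeval c (a * b) : Subalgebra.center k A) : A) = 0 from congrArg Subtype.val hsq, zero_mul]
    obtain ⟨e, he⟩ := minpoly.dvd k c h0
    have hab : a * b ≠ 0 := fun h => hne (by rw [hb, mul_assoc, h, mul_zero])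
    refine IsUnit.of_mul_eq_one e ?_
    have h2 : a * b * 1 = a * b * (a * e) := by
      rw [mul_one]
      calc a * b = minpoly k c * e := he
        _ = a * b * (a * e) := by rw [hb]; ring
    exact (mul_left_cancel₀ hab h2).symm⟩
  exact S11684.result k A k'

variable {F : Type u} [Field F] {V : Type v} [AddCommGroup V] [Module F V] (E : Subalgebra F (Module.End F V))
  [IsSemisimpleRing E]

theorem exists_idempotent {u : Module.End F V} (hu : u ∈ E) :
    ∃ e ∈ E, IsIdempotentElem e ∧ LinearMap.range e = LinearMap.range u := by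
  obtain ⟨⟨y, hyE⟩, hy⟩ := exists_regular (⟨u, hu⟩ : E)
  have h : u * y * u = u := congrArg Subtype.val hy
  refine ⟨u * y, E.mul_mem hu hyE, ?_, le_antisymm ?_ ?_⟩
  · show u * y * (u * y) = u * y
    rw [← mul_assoc, h]
  · rintro _ ⟨x, rfl⟩; exact ⟨y x, rfl⟩
  · rintro _ ⟨x, rfl⟩; exact ⟨u x, LinearMap.congr_fun h x⟩

theorem mem_range_of_commute [FiniteDimensional F V] (φ : Module.End F V)
    (h : ∀ c : Module.End F V, (∀ e ∈ E, c * e = e * c) → c * φ = φ * c) : φ ∈ E := by
  haveI : Module.Finite (Module.End E V) V := Module.Finite.of_restrictScalars_finite F _ _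
  let Φ : Module.End (Module.End E V) V :=
    { toFun := φ
      map_add' := map_add φ
      map_smul' := fun c v => by
        have hc := h (c.restrictScalars F) fun e he => LinearMap.ext fun w => c.map_smul (⟨e, he⟩ : E) w
        exact (LinearMap.congr_fun hc v).symm }
  obtain ⟨r, hr⟩ := Module.Finite.toModuleEnd_moduleEnd_surjective (R := E) (M := V) Φ
  have e : (r.1 : Module.End F V) = φ := LinearMap.ext fun v => LinearMap.congr_fun hr v
  exact e ▸ r.2

end Groth.Agent.H63.DoubleCentral
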