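import Groth.Agent.Lib.AlgSpDecent.EtaleCount
import Mathlib.AlgebraicGeometry.AlgClosed.Basic
import Mathlib.AlgebraicGeometry.Morphisms.FlatRank

/-!
# Points of the fibres of a finite étale morphism

* `natCard_lifts`: a point in an algebraically closed field has exactly `deg f` lifts
-/

set_option autoImplicit false

universe u

open CategoryTheory CategoryTheory.Limits AlgebraicGeometry

namespace Groth.Agent.H63.FibreCount

theorem natCard_sections {K : Type u} [Field K] [IsAlgClosed K] {X : Scheme.{u}}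
    (h : X ⟶ Spec (CommRingCat.of K)) [IsFinite h] [Etale h] :
    Nat.card {s : Spec (CommRingCat.of K) ⟶ X // s ≫ h = 𝟙 _} = h.finrank (IsLocalRing.closedPoint K) := by
  haveI : IsAffine X := isAffine_of_isAffineHom h
  let φ : CommRingCat.of K ⟶ Γ(X, ⊤) := Spec.preimage (X.isoSpec.inv ≫ h)
  have hφ : Spec.map φ = X.isoSpec.inv ≫ h := Spec.map_preimage _
  have hφe : φ.hom.Etale := (HasRingHomProperty.Spec_iff (P := @Etale)).1 (hφ ▸ inferInstance)
  have hφf : φ.hom.Finite := (IsFinite.SpecMap_iff φ).1 (hφ ▸ inferInstance)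
  letI : Algebra K Γ(X, ⊤) := φ.hom.toAlgebra
  haveI : Module.Finite K Γ(X, ⊤) := hφf
  haveI : Algebra.Etale K Γ(X, ⊤) := RingHom.etale_algebraMap.1 hφe
  haveI := Algebra.FormallyUnramified.isReduced_of_field K Γ(X, ⊤)
  haveI : IsArtinianRing Γ(X, ⊤) := IsArtinianRing.of_finite K _
  haveI : Finite X := Finite.of_equiv (PrimeSpectrum Γ(X, ⊤)) X.isoSpec.schemeIsoToHomeo.toEquiv.symm
  haveI : JacobsonSpace X := LocallyOfFiniteType.jacobsonSpace h
  haveI : DiscreteTopology X := inferInstance
  have hall : closedPoints X = Set.univ := Set.eq_univ_of_forall fun _ => isClosed_discrete _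
  calc Nat.card {s : Spec (CommRingCat.of K) ⟶ X // s ≫ h = 𝟙 _}
      = Nat.card (closedPoints X) := Nat.card_congr (pointEquivClosedPoint h)
    _ = Nat.card X := by rw [hall, Nat.card_univ]
    _ = Nat.card (PrimeSpectrum Γ(X, ⊤)) := Nat.card_congr X.isoSpec.schemeIsoToHomeo.toEquiv
    _ = Module.finrank K Γ(X, ⊤) := (Groth.Agent.Lib.AlgSpDecent.EtaleCount.finrank_eq_card).symm
    _ = Module.rankAtStalk Γ(X, ⊤) (IsLocalRing.closedPoint K) := by
      rw [Module.rankAtStalk_eq_finrank_of_free]; rfl
    _ = (Spec.map φ).finrank (IsLocalRing.closedPoint K) :=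
      (Scheme.Hom.finrank_SpecMap_algebraMap K Γ(X, ⊤) _).symm
    _ = h.finrank (IsLocalRing.closedPoint K) := by rw [hφ, Scheme.Hom.finrank_comp_left_of_isIso]

theorem natCard_lifts {S : Scheme.{u}} {K : Type u} [Field K] [IsAlgClosed K]
    {b : Spec (CommRingCat.of K) ⟶ S} {X Y : Over S} (f : X ⟶ Y) [IsFinite f.left] [Etale f.left]
    (y : Over.mk b ⟶ Y) :
    Nat.card {x : Over.mk b ⟶ X // x ≫ f = y} = f.left.finrank (y.left (IsLocalRing.closedPoint K)) := by
  let h : pullback f.left y.left ⟶ Spec (CommRingCat.of K) := pullback.snd f.left y.left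
  haveI : IsFinite h := inferInstanceAs (IsFinite (pullback.snd f.left y.left))
  haveI : Etale h := inferInstanceAs (Etale (pullback.snd f.left y.left))
  refine ((Nat.card_congr ?_).trans (natCard_sections h)).trans (Scheme.Hom.finrank_pullback_snd f.left y.left _)
  refine
    { toFun := fun x => ⟨pullback.lift (f := f.left) (g := y.left) x.1.left (𝟙 _) ?_, pullback.lift_snd _ _ _⟩
      invFun := fun s => ⟨Over.homMk (s.1 ≫ pullback.fst f.left y.left) ?_, ?_⟩
      left_inv := fun x => Subtype.ext (Over.OverMorphism.ext (pullback.lift_fst _ _ _))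
      right_inv := fun s => Subtype.ext ?_ }
  · rw [← Over.comp_left]
    exact (congrArg Over.Hom.left x.2).trans (Category.id_comp _).symm
  · change (s.1 ≫ pullback.fst f.left y.left) ≫ X.hom = b
    rw [Category.assoc, ← Over.w f, pullback.condition_assoc, Over.w y]
    exact ((Category.assoc _ _ _).symm.trans (congrArg (· ≫ b) s.2)).trans (Category.id_comp _)
  · ext1
    show (s.1 ≫ pullback.fst f.left y.left) ≫ f.left = y.left
    rw [Category.assoc, pullback.condition, ← Category.assoc]
    exact (congrArg (· ≫ y.left) s.2).trans (Category.id_comp _)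
  · apply pullback.hom_ext
    · exact pullback.lift_fst _ _ _
    · exact (pullback.lift_snd _ _ _).trans s.2.symm

end Groth.Agent.H63.FibreCount
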