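import Groth.Agent.Lib.Ample.Pullback
import Groth.Agent.Lib.Ample.Extend
import Groth.Agent.Lib.TensorMod.HomGlue
import Groth.Agent.H63.AmpleCompl

/-!
# Pullback of invertible modules by a power map

* `nonempty_iso`: an endomorphism which is the identity on points and the `q`-th power on sections pulls `L` back to `L^{⊗q}`
* `ph_eq_pow`: the same on classes
-/

set_option autoImplicit false

noncomputable section

universe u

open CategoryTheory CategoryTheory.Limits AlgebraicGeometry Opposite TopologicalSpace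

namespace Groth.Agent.H63.FrobPic

open Groth.Agent.Lib Groth.Agent.Lib.TensorMod Groth.Agent.Lib.TensorMod.Dual Groth.Agent.Lib.TensorMod.Gen
  Groth.Agent.Lib.Ample.GenLocus Groth.Agent.Lib.Ample.Extend Groth.Agent.Lib.TensorMod.Pullback

theorem nonempty_iso {X : Scheme.{u}} (f : X ⟶ X) (q : ℕ) (hb : f.base = 𝟙 _) (hle : ∀ U : X.Opens, U ≤ f ⁻¹ᵁ U)
    (happ : ∀ (U : X.Opens) (s : Γ(X, U)), (f.appLE U U (hle U)).hom s = s ^ q)
    {L : X.Modules} (hL : PicF.IsInvertible L) :
    Nonempty ((Scheme.Modules.pullback f).obj L ≅ CohB1.tensorPow L q) := by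
  have hge : ∀ U : X.Opens, f ⁻¹ᵁ U ≤ U := fun U x hx => by
    have h : f.base x ∈ U := hx
    rwa [hb] at h
  choose U e hx he using fun x : X => isInvertible_iff.1 hL x
  have hcov : iSup (fun x => f ⁻¹ᵁ U x) = ⊤ :=
    top_le_iff.1 fun x _ => Opens.mem_iSup.2 ⟨x, hle _ (hx x)⟩
  obtain ⟨φ, -⟩ := HomGlue.exists_iso_of_gen (L := (pb f).obj L) (M := CohB1.tensorPow L q) hcov
    (fun x => unitSec f L (e x)) (fun x => isGen_unitSec f (he x))
    (fun x => rs (CohB1.tensorPow L q) (hge (U x)) (powSec (e x) q))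
    (fun x => (isGen_powSec (he x) q).res (hge (U x))) fun i j W hi hj c hc => by
      have hi' : W ≤ U i := hi.trans (hge _)
      have hj' : W ≤ U j := hj.trans (hge _)
      obtain ⟨a, ha⟩ := ((he j) W hj').2 (rs L hi' (e i))
      simp only at ha
      rw [rs_rs, rs_rs, rs_powSec, rs_powSec, ← ha, powSec_smul]
      congr 1
      have h1 := congrArg (rs ((pb f).obj L) (hle W)) (congrArg (unitSec f L) ha)
      rw [unitSec_smul, rs_smul, ← unitSec_rs, ← unitSec_rs, rs_rs, rs_rs] at h1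
      have h2 : rf (hle W) (f.app W a) = a ^ q := by
        rw [← happ W a]
        rfl
      rw [h2] at h1
      exact (((isGen_unitSec f (he j)) W hj).1 (h1.trans hc))
  exact ⟨φ⟩

local instance (Y : Scheme.{u}) : PicGrp.Law Y := Groth.Agent.Lib.TensorMod.Invertible.law Y

open Groth.Agent.H3 in
theorem ph_eq_pow {S : Scheme.{u}} {X : Over S} (f : X ⟶ X) (q : ℕ) (hb : f.left.base = 𝟙 _)
    (hle : ∀ U : X.left.Opens, U ≤ f.left ⁻¹ᵁ U)
    (happ : ∀ (U : X.left.Opens) (s : Γ(X.left, U)), (f.left.appLE U U (hle U)).hom s = s ^ q)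
    (c : PicLoc.PicSet X.left) :
    PicCalc.ph f c = c ^ q := by
  obtain ⟨L, hL, rfl⟩ := PicGrp.exists_eq_cls c
  obtain ⟨φ⟩ := nonempty_iso f.left q hb hle happ hL
  exact (PicCalc.iso_iff (PicCalc.cl_pullback f (a := PicGrp.cls L hL) rfl)
    (AmpleCompl.cl_tensorPow (a := PicGrp.cls L hL) rfl q)).1 ⟨φ⟩

end Groth.Agent.H63.FrobPic
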