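import Groth.Agent.H63.CurveDeg
import Groth.Agent.H63.AVBaseChange
import Groth.Agent.H63.FrobPic
import Groth.Agent.H63.HomLattice

/-!
# A positive form scaled by Frobenius

* `exists_form`: over an algebraically closed field, the curve-degree form of a symmetric ample class; an endomorphism raising it to the `q` multiplies the form by `q`
* `exists_form_bc`: the form on homomorphisms over any field
-/

set_option autoImplicit false

universe u

open CategoryTheory CategoryTheory.Limits MonoidalCategory CartesianMonoidalCategory AlgebraicGeometry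
open scoped MonObj GrpObj
open Groth.Agent.H3 Groth.Agent.Lib Groth.Agent.H63.GrpIrred Groth.Agent.H63.GrpComponent TopologicalSpace
open Groth.Agent.H63.DegreePoly Groth.Agent.H63.CurveDeg

namespace Groth.Agent.H63.FrobForm

noncomputable local instance (Y : Scheme.{u}) : PicGrp.Law Y := Groth.Agent.Lib.TensorMod.Invertible.law Y

variable {k : Type u} [Field k] [IsAlgClosed k]

local notation "S₀" => Spec (CommRingCat.of k)

/-- A positive symmetric biadditive form on homomorphisms. -/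
theorem exists_form (A B : Over S₀) [GrpObj A] [IsCommMonObj A] [IsProper A.hom] [GeometricallyIntegral A.hom]
    [GrpObj B] [IsCommMonObj B] [IsProper B.hom] [GeometricallyIntegral B.hom] {L : B.left.Modules}
    (hL : CohB1.IsAmple L) (hc : PicCalc.ph ((𝟙 B)⁻¹ : B ⟶ B) (PicGrp.cls L hL.1) = PicGrp.cls L hL.1) :
    ∃ b : EndAV.Hom A B →+ EndAV.Hom A B →+ ℤ, (∀ x y, b x y = b y x) ∧ (∀ x, x ≠ 0 → 0 < b x x) ∧
      ∀ (q : ℕ) (π : B ⟶ B) [IsMonHom π], PicCalc.ph π (PicGrp.cls L hL.1) = PicGrp.cls L hL.1 ^ q →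
        ∀ x y : EndAV.Hom A B,
          b (EndAV.Hom.of (x.toHom ≫ π)) (EndAV.Hom.of (y.toHom ≫ π)) = q * b x y := by
  classical
  haveI : IsIntegral A.left := GeometricallyIntegral.isIntegral_of_subsingleton A.hom
  set c := PicGrp.cls L hL.1 with hcdef
  obtain ⟨s, hs, hscurve, hgen⟩ := CurveGen.exists_generators A
  haveI := hs.fintype
  choose C ga hCp hCi hga hCd hCr using fun i : s => exists_curve A i.1 (hscurve i.1 i.2).1
  let d : s → (PicLoc.PicSet A.left → ℤ) := fun i z =>
    haveI := hCp i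
    haveI := hCi i
    degHom (C i) (hCd i).le (Additive.ofMul (PicCalc.ph (ga i) z))
  have hd : ∀ i z z', d i (z * z') = d i z + d i z' := fun i z z' => by
    haveI := hCp i
    haveI := hCi i
    simp only [d, map_mul, ofMul_mul, map_add]
  let f : EndAV.Hom A B → EndAV.Hom A B → ℤ := fun x y => ∑ i, d i (bil c x.toHom y.toHom)
  have hcomm : ∀ x y, f x y = f y x := fun x y => by simp only [f, bil_comm c x.toHom]
  have hadd : ∀ x x' y, f (x + x') y = f x y + f x' y := fun x x' y => by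
    simp only [f, EndAV.Hom.toHom_add, bil_mul, hd, Finset.sum_add_distrib]
  let b : EndAV.Hom A B →+ EndAV.Hom A B →+ ℤ := AddMonoidHom.mk'
    (fun x => AddMonoidHom.mk' (f x) fun y y' => by rw [hcomm, hadd, hcomm y, hcomm y'])
    fun x x' => AddMonoidHom.ext fun y => hadd x x' y
  refine ⟨b, hcomm, fun x hx => ?_, fun q π _ hπ x y => ?_⟩
  swap
  · show (∑ i, d i (bil c (x.toHom ≫ π) (y.toHom ≫ π))) = (q : ℤ) * ∑ i, d i (bil c x.toHom y.toHom)
    rw [Finset.mul_sum]
    refine Finset.sum_congr rfl fun i _ => ?_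
    haveI := hCp i
    haveI := hCi i
    have e : bil c (x.toHom ≫ π) (y.toHom ≫ π) = bil c x.toHom y.toHom ^ q := by
      simp only [bil, ← MonObj.mul_comp, PicCalc.ph_comp, hπ, map_pow, div_pow, mul_pow]
    simp only [d, e, map_pow, ofMul_pow, map_nsmul, nsmul_eq_mul]
  show 0 < f x x
  have hterm : ∀ i : s, 0 ≤ d i (bil c x.toHom x.toHom) ∧
      (x.toHom.left i.1 ≠ unitPt B → 0 < d i (bil c x.toHom x.toHom)) := by
    intro i
    haveI := hCp i
    haveI := hCi i
    haveI := hga i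
    let q : C i ⟶ B := ga i ≫ x.toHom
    have hdi : d i (bil c x.toHom x.toHom) = 2 * degHom (C i) (hCd i).le (Additive.ofMul (PicCalc.ph q c)) := by
      simp only [d, q, bil_self c hc, map_mul, PicCalc.ph_comp, ofMul_mul, map_add, two_mul]
    rcases isFinite_or_const (hCd i) q with h | ⟨p, hp, hpx⟩
    · haveI := h
      have := degHom_pos (hCd i) q hL
      rw [hdi]
      exact ⟨by rw [hcdef]; omega, fun _ => by rw [hcdef]; omega⟩
    · obtain ⟨t, ht⟩ : unitPt A ∈ Set.range (ga i).left :=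
        (hCr i) ▸ specializes_iff_mem_closure.1 (hscurve i.1 i.2).2
      have hx1 : x.toHom.left (unitPt A) = unitPt B := by
        show (η[A].left ≫ x.toHom.left) _ = _
        rw [← Over.comp_left, IsMonHom.one_hom]
      have hp1 : p = unitPt B := by
        rw [← hx1, ← ht, ← hpx t]
        rfl
      have hq : q = 1 := by
        refine Over.OverMorphism.ext ?_
        haveI : LocallyOfFiniteType (q.left ≫ B.hom) := by rw [Over.w]; infer_instance
        refine ext_of_apply_eq B.hom Set.univ isOpen_univ.isLocallyClosed dense_univ (fun z _ _ => ?_)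
          (by rw [Over.w, Over.w])
        rw [hpx z, hp1, Hom.one_def, Over.comp_left, Scheme.Hom.comp_apply]
        exact congrArg η[B].left (Subsingleton.elim (α := PrimeSpectrum k) _ _)
      refine ⟨by rw [hdi, hq, CubePow.ph_one']; simp, fun hne => (hne ?_).elim⟩
      obtain ⟨z, hz⟩ : i.1 ∈ Set.range (ga i).left := (hCr i) ▸ subset_closure rfl
      rw [← hz, ← hp1, ← hpx z]
      rfl
  refine Finset.sum_pos' (fun i _ => (hterm i).1) ?_
  by_contra hno
  apply hx
  refine EndAV.Hom.ext (hgen B x.toHom fun y hy => ?_)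
  by_contra hne
  exact hno ⟨⟨y, hy⟩, Finset.mem_univ _, (hterm ⟨y, hy⟩).2 hne⟩

variable {K : Type u} [Field K]

/-- A positive form on homomorphisms over any field, scaled by `q` under endomorphisms raising classes to the `q`. -/
theorem exists_form_bc (A B : Over (Spec (CommRingCat.of K))) [GrpObj A] [IsCommMonObj A] [IsProper A.hom]
    [GeometricallyIntegral A.hom] [GrpObj B] [IsCommMonObj B] [IsProper B.hom] [GeometricallyIntegral B.hom] :
    ∃ b : EndAV.Hom A B →+ EndAV.Hom A B →+ ℤ, (∀ x y, b x y = b y x) ∧ (∀ x, x ≠ 0 → 0 < b x x) ∧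
      ∀ (q : ℕ) (π : B ⟶ B) [IsMonHom π], (∀ c : PicLoc.PicSet B.left, PicCalc.ph π c = c ^ q) →
        ∀ x y : EndAV.Hom A B,
          b (EndAV.Hom.of (x.toHom ≫ π)) (EndAV.Hom.of (y.toHom ≫ π)) = q * b x y := by
  let Ω := AlgebraicClosure K
  haveI := AVBaseChange.isProper_bc Ω A
  haveI := AVBaseChange.geometricallyIntegral_bc Ω A
  haveI := AVBaseChange.isCommMonObj_bc Ω A
  haveI := AVBaseChange.isProper_bc Ω B
  haveI := AVBaseChange.geometricallyIntegral_bc Ω B
  haveI := AVBaseChange.isCommMonObj_bc Ω B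
  obtain ⟨L, M, hL, hM, ⟨hLM⟩, hpull⟩ := AVSymmetric.exists_symmetric_ample B
  set c := PicGrp.cls L hL.1 with hcdef
  have hc : PicCalc.ph ((𝟙 B)⁻¹ : B ⟶ B) c = c := by
    obtain ⟨e⟩ := hpull (-1)
    have h := (PicCalc.iso_iff (PicCalc.cl_pullback ((𝟙 B : B ⟶ B) ^ (-1 : ℤ)) (a := PicGrp.cls M hM) rfl)
      (AmpleCompl.cl_tensorPow (a := PicGrp.cls M hM) rfl _)).1 ⟨e⟩
    have h1 : c * PicGrp.cls M hM = 1 := (PicCalc.iso_iff (PicCalc.cl_tensor (a := c) (b := PicGrp.cls M hM) rfl rfl)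
      PicGrp.one_val.symm).1 ⟨hLM⟩
    rw [eq_inv_of_mul_eq_one_left h1, map_inv]
    rw [zpow_neg_one] at h
    simpa using h
  let pr := GrpSch.bcProj (GrpSch.extBase K Ω) B
  haveI : IsAffineHom (GrpSch.extBase K Ω) := by unfold GrpSch.extBase; infer_instance
  haveI : IsAffineHom pr := GrpSch.bcProj_of (P := @IsAffineHom) _ B inferInstance
  have hL' : CohB1.IsAmple (X := (AVBaseChange.bc Ω B).left) ((Scheme.Modules.pullback pr).obj L) :=
    Ample.Pullback.isAmple_pullback pr (Ample.Pullback.isQuasiAffine_of_isAffineHom pr) hL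
  let Q : PicLoc.PicSet B.left →* PicLoc.PicSet (AVBaseChange.bc Ω B).left :=
    PicGrp.pullHom pr (Groth.Agent.Lib.TensorMod.Pullback.pullMul pr)
  have hcls : PicGrp.cls ((Scheme.Modules.pullback pr).obj L) hL'.1 = Q c :=
    (PicGrp.pullHom_cls pr (Groth.Agent.Lib.TensorMod.Pullback.pullMul pr) L hL.1).symm
  have hQ : ∀ (f : B ⟶ B) (z : PicLoc.PicSet B.left),
      PicCalc.ph ((AVBaseChange.F Ω).map f) (Q z) = Q (PicCalc.ph f z) := fun f z => by
    refine Subtype.ext ?_
    show PicF.pullCl _ (PicF.pullCl pr z.1) = PicF.pullCl pr (PicF.pullCl f.left z.1)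
    rw [← PicLoc.pullCl_comp, ← PicLoc.pullCl_comp]
    exact congrArg (fun g => PicF.pullCl g z.1) (GrpSch.bc_map_proj _ f)
  obtain ⟨b, hsym, hpos, hscale⟩ := exists_form (AVBaseChange.bc Ω A) (AVBaseChange.bc Ω B) hL' (by
    have e : (AVBaseChange.F Ω).map ((𝟙 B)⁻¹ : B ⟶ B) = (𝟙 (AVBaseChange.bc Ω B))⁻¹ := by
      refine ((Functor.homMonoidHom (AVBaseChange.F Ω)).map_inv (𝟙 B)).trans ?_
      exact congrArg (·⁻¹) ((AVBaseChange.F Ω).map_id B)
    rw [hcls, ← e, hQ, hc])
  let J := AVBaseChange.bcHom Ω A B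
  refine ⟨AddMonoidHom.mk' (fun x => (b (J x)).comp J) fun x y => AddMonoidHom.ext fun z => by simp,
    fun x y => hsym _ _, fun x hx => hpos _ fun h => hx ?_, fun q π _ hπ x y => ?_⟩
  · exact AVBaseChange.bcHom_injective Ω A B (h.trans J.map_zero.symm)
  · have e : ∀ z : EndAV.Hom A B, J (EndAV.Hom.of (z.toHom ≫ π)) =
        EndAV.Hom.of ((J z).toHom ≫ (AVBaseChange.F Ω).map π) := fun z =>
      EndAV.Hom.ext ((AVBaseChange.F Ω).map_comp z.toHom π)
    show b (J _) (J _) = _
    rw [e, e]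
    exact hscale q ((AVBaseChange.F Ω).map π) (by rw [hcls, hQ, hπ, map_pow]) (J x) (J y)

end Groth.Agent.H63.FrobForm
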