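import Groth.Agent.H63.WeilRH
import Mathlib.Analysis.Complex.Polynomial.Basic
import Mathlib.Analysis.SpecialFunctions.Exp
import Mathlib.RingTheory.IntegralClosure.IntegrallyClosed

/-!
# The roots of the characteristic polynomial of Frobenius

* `basic`: degree, absolute values, product, stability under conjugation
* `one_le_prod`: `∏ (c - α - ᾱ) ≥ 1` when positive
-/

set_option autoImplicit false

universe u

open CategoryTheory MonoidalCategory CartesianMonoidalCategory AlgebraicGeometry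
open scoped MonObj GrpObj

namespace Groth.Agent.H63.FrobRoots

variable {k : Type u} [Field k] {Ω : Type u} [Field Ω] [Algebra k Ω] [IsAlgClosed Ω] {l : ℕ} [Fact l.Prime]
  {A : Over (Spec (CommRingCat.of k))} [GrpObj A] [IsCommMonObj A] [IsProper A.hom] [GeometricallyIntegral A.hom]
  (f : A ⟶ A) [IsMonHom f]

/-- The given polynomial is the degree polynomial. -/
theorem eq_charpoly [IsIntegral A.left] {g : ℕ} (hg : topologicalKrullDim A.left = g) (hl : (l : k) ≠ 0)
    [Module.Free ℤ_[l] (AbDual.TateMod A l (SGA7.pt (K := k) Ω))]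
    [Module.Finite ℤ_[l] (AbDual.TateMod A l (SGA7.pt (K := k) Ω))] (P : Polynomial ℤ)
    (hP : (AbDual.tateMapₗ (l := l) (T := SGA7.pt (K := k) Ω) f).charpoly = P.map (Int.castRingHom ℤ_[l])) :
    P.Monic ∧ P.natDegree = 2 * g ∧
      ∀ n : ℤ, (DegreeHom.deg (EndAV.End.toHom (EndAV.End.of f - (n : EndAV.End A))) : ℤ) = P.eval n := by
  obtain ⟨P₀, hm, hd, hv, hc⟩ := TateEnd.exists_charpoly Ω hg (EndAV.End.of f)
  have e : P = P₀ := Polynomial.map_injective (Int.castRingHom ℤ_[l]) Int.cast_injective (hP.symm.trans (hc l hl))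
  subst e
  exact ⟨hm, hd, hv⟩

variable [Module.Free ℤ_[l] (AbDual.TateMod A l (SGA7.pt (K := k) Ω))]
  [Module.Finite ℤ_[l] (AbDual.TateMod A l (SGA7.pt (K := k) Ω))]

theorem basic (hl : (l : k) ≠ 0) (q : ℕ) (hb : f.left.base = 𝟙 _) (hle : ∀ U : A.left.Opens, U ≤ f.left ⁻¹ᵁ U)
    (happ : ∀ (U : A.left.Opens) (s : Γ(A.left, U)), (f.left.appLE U U (hle U)).hom s = s ^ q) {g : ℕ}
    (hg : topologicalKrullDim A.left = g) (P : Polynomial ℤ)
    (hP : (AbDual.tateMapₗ (l := l) (T := SGA7.pt (K := k) Ω) f).charpoly = P.map (Int.castRingHom ℤ_[l])) :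
    P.Monic ∧ Multiset.card (P.map (Int.castRingHom ℂ)).roots = 2 * g ∧
      (∀ a ∈ (P.map (Int.castRingHom ℂ)).roots, ‖a‖ = Real.sqrt q) ∧
      (P.map (Int.castRingHom ℂ)).roots.prod = (q : ℂ) ^ g ∧
      (P.map (Int.castRingHom ℂ)).roots.sum = -(P.nextCoeff : ℂ) ∧
      (P.map (Int.castRingHom ℂ)).roots.map (starRingEnd ℂ) = (P.map (Int.castRingHom ℂ)).roots ∧
      ∀ F : Polynomial ℤ, ∃ N : ℕ, (N : ℂ) = ((P.map (Int.castRingHom ℂ)).roots.map fun t => Polynomial.aeval t F).prod := by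
  haveI : IsIntegral A.left := GeometricallyIntegral.isIntegral_of_subsingleton A.hom
  obtain ⟨hm, hd, hv⟩ := eq_charpoly f hg hl P hP
  set PC := P.map (Int.castRingHom ℂ) with hPC
  have hPCm : PC.Monic := hm.map _
  have hs : PC.Splits := IsAlgClosed.splits _
  have hcard : Multiset.card PC.roots = 2 * g := by rw [← hs.natDegree_eq_card_roots, hPC, hm.natDegree_map, hd]
  have habs := WeilRH.norm_root hg f q (fun c => FrobPic.ph_eq_pow f q hb hle happ c) P hm hd hv
  have hF : ∀ F : Polynomial ℤ, (DegreeHom.deg (EndAV.End.toHom (Polynomial.aeval (EndAV.End.of f) F)) : ℂ) =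
      (PC.roots.map fun t => Polynomial.aeval t F).prod := fun F => by
    rw [DegreeHom.deg_aeval hg (EndAV.End.of f) (P.map (Int.castRingHom ℚ)) (hm.map _)
      (by rw [hm.natDegree_map, hd]) (fun n => by
        rw [Polynomial.eval_intCast_map, eq_intCast, Int.cast_id, ← hv n, Int.cast_natCast]) ℂ F]
    rw [hPC, Polynomial.map_map, RingHom.ext_int ((algebraMap ℚ ℂ).comp (Int.castRingHom ℚ)) (Int.castRingHom ℂ)]
  refine ⟨hm, hcard, habs, ?_, ?_, ?_, fun F => ⟨_, hF F⟩⟩
  · have h0 := hF Polynomial.X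
    simp only [Polynomial.aeval_X, Multiset.map_id'] at h0
    have h1 : ‖PC.roots.prod‖ = (q : ℝ) ^ g := by
      have e : ‖PC.roots.prod‖ = (PC.roots.map fun a => ‖a‖).prod :=
        (map_multiset_prod (normHom : ℂ →*₀ ℝ) PC.roots)
      rw [e, Multiset.map_congr rfl habs, Multiset.map_const', Multiset.prod_replicate, hcard, pow_mul,
        Real.sq_sqrt (Nat.cast_nonneg q)]
    rw [← h0, Complex.norm_natCast] at h1
    rw [← h0]
    exact_mod_cast h1
  · have h := hs.nextCoeff_eq_neg_sum_roots_of_monic hPCm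
    rw [hPC, Polynomial.nextCoeff_map Int.cast_injective] at h
    simp only [eq_intCast] at h
    rw [h, neg_neg]
  · rw [← hs.roots_map (starRingEnd ℂ), hPC, Polynomial.map_map,
      RingHom.ext_int ((starRingEnd ℂ).comp (Int.castRingHom ℂ)) (Int.castRingHom ℂ)]

/-- A positive product `∏ (c - α - ᾱ)` is at least one. -/
theorem one_le_prod {q g : ℕ} (hq : 0 < q) (P : Polynomial ℤ) (hm : P.Monic)
    (habs : ∀ a ∈ (P.map (Int.castRingHom ℂ)).roots, ‖a‖ = Real.sqrt q)
    (hprod : (P.map (Int.castRingHom ℂ)).roots.prod = (q : ℂ) ^ g)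
    (hF : ∀ F : Polynomial ℤ, ∃ N : ℕ, (N : ℂ) = ((P.map (Int.castRingHom ℂ)).roots.map fun t => Polynomial.aeval t F).prod)
    (c e : ℤ) (hpos : ∀ a ∈ (P.map (Int.castRingHom ℂ)).roots, 0 < (c : ℝ) - e * (2 * a.re)) :
    1 ≤ ((P.map (Int.castRingHom ℂ)).roots.map fun a => (c : ℝ) - e * (2 * a.re)).prod := by
  set R := (P.map (Int.castRingHom ℂ)).roots with hR
  set y := (R.map fun a => (c : ℝ) - e * (2 * a.re)).prod with hy
  have hy0 : 0 < y := Multiset.prod_pos fun x hx => by
    obtain ⟨a, ha, rfl⟩ := Multiset.mem_map.1 hx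
    exact hpos a ha
  have hyC : (y : ℂ) = (R.map fun a => (c : ℂ) - e * (a + (starRingEnd ℂ) a)).prod := by
    rw [hy, ← Complex.ofRealHom_eq_coe, map_multiset_prod, Multiset.map_map]
    refine congrArg _ (Multiset.map_congr rfl fun a _ => ?_)
    rw [Function.comp_apply, Complex.ofRealHom_eq_coe, Complex.add_conj]
    push_cast
    rfl
  obtain ⟨N, hN⟩ := hF (Polynomial.C c * Polynomial.X - Polynomial.C e * (Polynomial.X ^ 2 + Polynomial.C (q : ℤ)))
  have hN' : (N : ℂ) = (y : ℂ) * (q : ℂ) ^ g := by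
    have key : (R.map fun a => ((c : ℂ) - e * (a + (starRingEnd ℂ) a)) * a).prod =
        (R.map fun a => (c : ℂ) - e * (a + (starRingEnd ℂ) a)).prod * R.prod := by
      rw [Multiset.prod_map_mul, Multiset.map_id']
    rw [hN, hyC, ← hprod, ← key]
    refine congrArg _ (Multiset.map_congr rfl fun a ha => ?_)
    have h2 : (starRingEnd ℂ) a * a = (q : ℂ) := by
      rw [Complex.conj_mul', habs a ha]
      exact_mod_cast Real.sq_sqrt (Nat.cast_nonneg q)
    simp only [map_sub, map_add, map_mul, map_pow, Polynomial.aeval_X, Polynomial.aeval_C]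
    simp only [algebraMap_int_eq, eq_intCast, Int.cast_natCast]
    rw [← h2]
    ring
  have hint : IsIntegral ℤ (y : ℂ) := by
    rw [hyC]
    refine IsIntegral.multiset_prod fun x hx => ?_
    obtain ⟨a, ha, rfl⟩ := Multiset.mem_map.1 hx
    have haI : IsIntegral ℤ a := ⟨P, hm, by
      have := (Polynomial.mem_roots'.1 ha).2
      rwa [Polynomial.IsRoot, Polynomial.eval_map] at this⟩
    exact (isIntegral_algebraMap (x := c)).sub ((isIntegral_algebraMap (x := e)).mul (haI.add (map_isIntegral_int (starRingEnd ℂ) haI)))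
  have hrat : (y : ℂ) = algebraMap ℚ ℂ ((N : ℚ) / (q : ℚ) ^ g) := by
    rw [eq_ratCast]
    push_cast
    rw [eq_div_iff (pow_ne_zero _ (Nat.cast_ne_zero.2 hq.ne')), hN']
  rw [hrat, isIntegral_algebraMap_iff (algebraMap ℚ ℂ).injective] at hint
  obtain ⟨z, hz⟩ := IsIntegrallyClosed.isIntegral_iff.1 hint
  rw [← hz] at hrat
  have hyz : y = (z : ℝ) := by
    simp only [algebraMap_int_eq, eq_intCast, eq_ratCast, Rat.cast_intCast] at hrat
    exact_mod_cast hrat
  rw [hyz] at hy0 ⊢
  exact_mod_cast hy0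

/-- `∏ r ≥ 1` forces `∑ (r - 1) ≥ 0`, with equality only if all are one. -/
theorem sum_sub_one_nonneg (R : Multiset ℝ) (hpos : ∀ r ∈ R, 0 < r) (h : 1 ≤ R.prod) :
    0 ≤ (R.map fun r => r - 1).sum ∧ ((R.map fun r => r - 1).sum = 0 → ∀ r ∈ R, r = 1) := by
  have hle : ∀ (S : Multiset ℝ), (∀ r ∈ S, 0 < r) → S.prod ≤ Real.exp (S.map fun r => r - 1).sum := by
    intro S hS
    induction S using Multiset.induction_on with
    | empty => simp
    | cons a S ih =>
      rw [Multiset.map_cons, Multiset.sum_cons, Multiset.prod_cons, Real.exp_add]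
      have h1 : a ≤ Real.exp (a - 1) := by linarith [Real.add_one_le_exp (a - 1)]
      exact mul_le_mul h1 (ih fun r hr => hS r (Multiset.mem_cons_of_mem hr))
        (Multiset.prod_pos fun r hr => hS r (Multiset.mem_cons_of_mem hr)).le (Real.exp_pos _).le
  refine ⟨Real.one_le_exp_iff.1 (h.trans (hle R hpos)), fun h0 r hr => ?_⟩
  by_contra hne
  obtain ⟨S, rfl⟩ := Multiset.exists_cons_of_mem hr
  rw [Multiset.map_cons, Multiset.sum_cons] at h0
  rw [Multiset.prod_cons] at h
  have h1 : r < Real.exp (r - 1) := by linarith [Real.add_one_lt_exp (sub_ne_zero.2 hne)]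
  have h2 := mul_lt_mul h1 (hle S fun x hx => hpos x (Multiset.mem_cons_of_mem hx))
    (Multiset.prod_pos fun x hx => hpos x (Multiset.mem_cons_of_mem hx)) (Real.exp_pos _).le
  rw [← Real.exp_add, h0, Real.exp_zero] at h2
  linarith

end Groth.Agent.H63.FrobRoots
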