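import Groth.Agent.H63.End0Basic
import Groth.Agent.H63.FrobForm
import Mathlib.RingTheory.Artinian.Module
import Mathlib.RingTheory.Artinian.Instances

/-!
# Semisimplicity of Frobenius

* `eq_zero_of_sq_eq_zero`: a similitude of a positive form generates a ring without nilpotents
* `sq_eq_zero_imp`, `squarefree_minpoly`, `isSemisimpleRing_adjoin`: for Frobenius in `End⁰`
-/

set_option autoImplicit false

universe u

open CategoryTheory MonoidalCategory CartesianMonoidalCategory AlgebraicGeometry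
open scoped MonObj GrpObj TensorProduct

namespace Groth.Agent.H63.FrobSemisimple

theorem eq_zero_of_sq_eq_zero {E : Type*} [AddCommGroup E] (b : E →+ E →+ ℤ) (hsym : ∀ x y, b x y = b y x)
    (hpos : ∀ x, x ≠ 0 → 0 < b x x) (T : Module.End ℤ E) {q : ℕ} (hq : 0 < q)
    (hT : ∀ x y, b (T x) (T y) = q * b x y) (G : Polynomial ℤ)
    (h : Polynomial.aeval T G * Polynomial.aeval T G = 0) : Polynomial.aeval T G = 0 := by
  set d := G.natDegree
  let H : Polynomial ℤ := ∑ i ∈ Finset.range (d + 1), Polynomial.C (G.coeff i * (q : ℤ) ^ i) * Polynomial.X ^ (d - i)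
  set N := Polynomial.aeval T G with hN
  have hcomm : ∀ F F' : Polynomial ℤ, ∀ x, Polynomial.aeval T F (Polynomial.aeval T F' x) =
      Polynomial.aeval T F' (Polynomial.aeval T F x) := fun F F' x => by
    rw [← Module.End.mul_apply, ← map_mul, mul_comm, map_mul, Module.End.mul_apply]
  have hiter : ∀ i x y, b ((T ^ i) x) ((T ^ i) y) = (q : ℤ) ^ i * b x y := by
    intro i
    induction i with
    | zero => intro x y; simp
    | succ i ih => intro x y; rw [pow_succ', Module.End.mul_apply, Module.End.mul_apply, hT, ih, pow_succ', mul_assoc]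
  have hadj : ∀ x y, b (N x) ((T ^ d) y) = b x (Polynomial.aeval T H y) := by
    intro x y
    rw [hN, Polynomial.aeval_eq_sum_range, LinearMap.sum_apply, map_sum, AddMonoidHom.finsetSum_apply, map_sum,
      LinearMap.sum_apply, map_sum]
    refine Finset.sum_congr rfl fun i hi => ?_
    have hid : i ≤ d := Nat.lt_succ_iff.1 (Finset.mem_range.1 hi)
    rw [map_mul, Polynomial.aeval_C, map_pow, Polynomial.aeval_X, Module.End.mul_apply,
      Module.algebraMap_end_apply, LinearMap.smul_apply, map_zsmul, map_zsmul, AddMonoidHom.zsmul_apply]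
    conv_lhs => rw [show d = i + (d - i) by omega, pow_add, Module.End.mul_apply, hiter]
    simp only [smul_eq_mul]
    ring
  have hzero : ∀ x, b x x = 0 → x = 0 := fun x hx => by
    by_contra hne
    exact (hpos x hne).ne' hx
  have h1 : ∀ x, Polynomial.aeval T H (N x) = 0 := fun x => hzero _ (by
    rw [hsym, ← hadj]
    have e : N (Polynomial.aeval T H (N x)) = 0 := by
      rw [hN, hcomm G H, ← hN, ← Module.End.mul_apply N N, h, LinearMap.zero_apply, map_zero]
    rw [e, map_zero]
    rfl)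
  refine LinearMap.ext fun x => hzero _ ?_
  have h2 : b (N ((T ^ d) x)) ((T ^ d) (N x)) = 0 := by rw [hadj, h1, map_zero]
  have h3 : N ((T ^ d) x) = (T ^ d) (N x) := by
    have e : T ^ d = Polynomial.aeval T ((Polynomial.X : Polynomial ℤ) ^ d) := by simp
    rw [e, hN, hcomm]
  rw [h3, hiter] at h2
  exact (mul_eq_zero.1 h2).resolve_left (pow_ne_zero _ (Int.natCast_ne_zero.2 hq.ne'))

variable {k : Type u} [Field k] {A : Over (Spec (CommRingCat.of k))} [GrpObj A] [IsCommMonObj A]
  [IsProper A.hom] [GeometricallyIntegral A.hom] (f : A ⟶ A) [IsMonHom f] {q : ℕ}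

/-- In `ℚ[π]` an element of square zero vanishes. -/
theorem sq_eq_zero_imp (hq : 0 < q)
    (hf : letI : ∀ Y : Scheme.{u}, PicGrp.Law Y := Groth.Agent.Lib.TensorMod.Invertible.law
      ∀ c : PicLoc.PicSet A.left, Groth.Agent.H3.PicCalc.ph f c = c ^ q)
    (F : Polynomial ℚ) (h : Polynomial.aeval (EndAV.toEnd0 (EndAV.End.of f)) F *
      Polynomial.aeval (EndAV.toEnd0 (EndAV.End.of f)) F = 0) :
    Polynomial.aeval (EndAV.toEnd0 (EndAV.End.of f)) F = 0 := by
  obtain ⟨b, hsym, hpos, hscale⟩ := FrobForm.exists_form_bc A A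
  set x := EndAV.toEnd0 (EndAV.End.of f) with hx
  let T := Algebra.lmul ℤ (EndAV.End A) (EndAV.End.of f)
  have hT : ∀ z w : EndAV.End A, b (T z) (T w) = q * b z w := fun z w => by
    have e : ∀ z : EndAV.End A, T z = EndAV.Hom.of (z.toHom ≫ f) := fun z =>
      EndAV.End.ext ((EndAV.End.toHom_mul _ _).trans rfl)
    rw [e, e]
    exact hscale q f hf z w
  obtain ⟨N, hN, hG⟩ := IsLocalization.integerNormalization_spec (M := nonZeroDivisors ℤ) F
  set G := IsLocalization.integerNormalization (nonZeroDivisors ℤ) F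
  have hGx : EndAV.toEnd0 (Polynomial.aeval (EndAV.End.of f) G) = (N : ℤ) • Polynomial.aeval x F := by
    rw [← Polynomial.aeval_algHom_apply, ← hx, ← Polynomial.aeval_map_algebraMap ℚ x, hG, map_zsmul]
  have hsq : Polynomial.aeval (EndAV.End.of f) G * Polynomial.aeval (EndAV.End.of f) G = 0 := by
    apply End0Basic.toEnd0_injective
    rw [map_mul, map_zero, hGx, smul_mul_smul_comm, h, smul_zero]
  have h1 := eq_zero_of_sq_eq_zero b hsym hpos T hq hT G (by
    rw [Polynomial.aeval_algHom_apply, ← map_mul, hsq, map_zero])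
  rw [Polynomial.aeval_algHom_apply] at h1
  have h2 : Polynomial.aeval (EndAV.End.of f) G = 0 := by
    have := LinearMap.congr_fun h1 (1 : EndAV.End A)
    have e : Polynomial.aeval (EndAV.End.of f) G * (1 : EndAV.End A) = 0 := this
    rwa [mul_one] at e
  rw [h2, map_zero, eq_comm, ← Int.cast_smul_eq_zsmul ℚ] at hGx
  have hu : IsUnit (algebraMap ℚ (EndAV.End0 A) ((N : ℤ) : ℚ)) :=
    (isUnit_iff_ne_zero.2 (Int.cast_ne_zero.2 (nonZeroDivisors.ne_zero hN)) : IsUnit ((N : ℤ) : ℚ)).map _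
  exact hu.mul_right_eq_zero.1 ((Algebra.smul_def _ _).symm.trans hGx)

theorem isIntegral_toEnd0 (φ : EndAV.End A) : IsIntegral ℚ (EndAV.toEnd0 φ) := by
  haveI : IsIntegral A.left := GeometricallyIntegral.isIntegral_of_subsingleton A.hom
  obtain ⟨g, hg⟩ := AVIsogeny.exists_dim (A := A)
  obtain ⟨P, hm, -, -, hc⟩ := TateEnd.exists_charpoly (AlgebraicClosure k) hg φ
  refine ⟨P.map (algebraMap ℤ ℚ), hm.map _, ?_⟩
  rw [← Polynomial.aeval_def, Polynomial.aeval_map_algebraMap, Polynomial.aeval_algHom_apply,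
    End0Basic.aeval_eq_zero (AlgebraicClosure k) hg φ P hc, map_zero]

theorem squarefree_minpoly (hq : 0 < q)
    (hf : letI : ∀ Y : Scheme.{u}, PicGrp.Law Y := Groth.Agent.Lib.TensorMod.Invertible.law
      ∀ c : PicLoc.PicSet A.left, Groth.Agent.H3.PicCalc.ph f c = c ^ q) :
    Squarefree (minpoly ℚ (EndAV.toEnd0 (EndAV.End.of f))) := by
  intro a ha
  obtain ⟨c, hc⟩ := ha
  set x := EndAV.toEnd0 (EndAV.End.of f)
  have hne : a * a * c ≠ 0 := hc ▸ minpoly.ne_zero (isIntegral_toEnd0 (EndAV.End.of f))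
  have h0 : Polynomial.aeval x (a * c) = 0 := sq_eq_zero_imp f hq hf (a * c) (by
    rw [← map_mul, show a * c * (a * c) = a * a * c * c by ring, ← hc, map_mul, minpoly.aeval, zero_mul])
  obtain ⟨e, he⟩ := minpoly.dvd ℚ x h0
  refine IsUnit.of_mul_eq_one e (mul_left_cancel₀ (b := a * e) (c := 1)
    (mul_ne_zero (left_ne_zero_of_mul (left_ne_zero_of_mul hne)) (right_ne_zero_of_mul hne)) ?_)
  rw [mul_one]
  calc a * c * (a * e) = (a * a * c) * e := by ring
    _ = a * c := by rw [← hc, ← he]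

theorem isSemisimpleRing_adjoin (hq : 0 < q)
    (hf : letI : ∀ Y : Scheme.{u}, PicGrp.Law Y := Groth.Agent.Lib.TensorMod.Invertible.law
      ∀ c : PicLoc.PicSet A.left, Groth.Agent.H3.PicCalc.ph f c = c ^ q) :
    IsSemisimpleRing (EndAV.QAdj (EndAV.End.of f)) := by
  haveI : Module.Finite ℚ (EndAV.QAdj (EndAV.End.of f)) :=
    Module.Finite.iff_fg.2 (isIntegral_toEnd0 (EndAV.End.of f)).fg_adjoin_singleton
  letI : CommRing (EndAV.QAdj (EndAV.End.of f)) := Algebra.adjoinCommRingOfComm ℚ (by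
    rintro a rfl b rfl; rfl)
  haveI : IsArtinianRing (EndAV.QAdj (EndAV.End.of f)) := IsArtinianRing.of_finite ℚ (EndAV.QAdj (EndAV.End.of f))
  haveI : IsReduced (EndAV.QAdj (EndAV.End.of f)) := by
    rw [isReduced_iff_pow_one_lt 2 one_lt_two]
    rintro ⟨z, hz⟩ h2
    obtain ⟨F, rfl⟩ := Algebra.adjoin_mem_exists_aeval ℚ _ hz
    exact Subtype.ext (sq_eq_zero_imp f hq hf F (by simpa [pow_two] using congrArg Subtype.val h2))
  exact IsArtinianRing.isSemisimpleRing_of_isReduced _

end Groth.Agent.H63.FrobSemisimple
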