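import Mathlib.NumberTheory.Padics.PadicIntegers
import Mathlib.NumberTheory.Padics.ProperSpace
import Mathlib.RingTheory.Filtration
import Mathlib.Topology.Sequences
import Mathlib.RingTheory.Finiteness.Basic
import Mathlib.LinearAlgebra.FreeModule.Finite.Matrix

/-!
# Limits in finite modules over the `l`-adic integers

* `mem_of_forall_exists_pow`: finitely generated submodules are closed
* `exists_limit`: a sequence in a finite module has a congruential cluster point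
-/

set_option autoImplicit false

open Filter Topology

namespace Groth.Agent.H63.PadicLimit

variable {l : ℕ} [Fact l.Prime]

theorem mem_of_forall_exists_pow {M : Type*} [AddCommGroup M] [Module ℤ_[l] M] [Module.Finite ℤ_[l] M]
    (S : Submodule ℤ_[l] M) {x : M} (h : ∀ N : ℕ, ∃ s ∈ S, ∃ y : M, x = s + (l : ℤ_[l]) ^ N • y) : x ∈ S := by
  rw [← Submodule.Quotient.mk_eq_zero S, ← Submodule.mem_bot (R := ℤ_[l]),
    ← Ideal.iInf_pow_smul_eq_bot_of_isLocalRing (I := IsLocalRing.maximalIdeal ℤ_[l]) (M := M ⧸ S)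
      (Ideal.IsPrime.ne_top inferInstance), Submodule.mem_iInf]
  intro N
  obtain ⟨s, hs, y, rfl⟩ := h N
  rw [Submodule.Quotient.mk_add, (Submodule.Quotient.mk_eq_zero S).2 hs, zero_add, Submodule.Quotient.mk_smul]
  exact Submodule.smul_mem_smul (Ideal.pow_mem_pow (by
    rw [PadicInt.maximalIdeal_eq_span_p]; exact Ideal.mem_span_singleton_self _) N) Submodule.mem_top

theorem exists_limit {M : Type*} [AddCommGroup M] [Module ℤ_[l] M] [Module.Finite ℤ_[l] M] (v : ℕ → M) :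
    ∃ u : M, ∀ N : ℕ, ∃ j : ℕ, N ≤ j ∧ ∃ e : M, v j = u + (l : ℤ_[l]) ^ N • e := by
  obtain ⟨r, Φ, hΦ⟩ := Module.Finite.exists_fin' ℤ_[l] M
  choose c hc using fun j => hΦ (v j)
  obtain ⟨c0, -, φ, hφ, hlim⟩ := (isCompact_univ (X := Fin r → ℤ_[l])).tendsto_subseq (x := c) fun _ => Set.mem_univ _
  refine ⟨Φ c0, fun N => ?_⟩
  have hev : ∀ᶠ i in atTop, ∀ t, ‖c (φ i) t - c0 t‖ ≤ (l : ℝ) ^ (-(N : ℤ)) := by
    rw [eventually_all]
    intro t
    have h1 : Tendsto (fun i => c (φ i) t) atTop (𝓝 (c0 t)) := (tendsto_pi_nhds.1 hlim) t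
    have h2 := (tendsto_iff_norm_sub_tendsto_zero.1 h1).eventually
      (eventually_le_nhds (show (0 : ℝ) < (l : ℝ) ^ (-(N : ℤ)) from
        zpow_pos (Nat.cast_pos.2 (Fact.out : l.Prime).pos) _))
    exact h2
  obtain ⟨i, hi, hiN⟩ := (hev.and (eventually_ge_atTop N)).exists
  have hd : ∀ t, ∃ d, c (φ i) t - c0 t = (l : ℤ_[l]) ^ N * d := fun t => by
    have h := (PadicInt.norm_le_pow_iff_mem_span_pow _ N).1 (hi t)
    obtain ⟨d, hd⟩ := Ideal.mem_span_singleton'.1 h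
    exact ⟨d, by rw [← hd, mul_comm]⟩
  choose d hd using hd
  refine ⟨φ i, hiN.trans hφ.le_apply, Φ d, ?_⟩
  rw [← hc, ← map_smul, ← map_add]
  congr 1
  ext t
  rw [Pi.add_apply, Pi.smul_apply, smul_eq_mul, ← hd t, add_sub_cancel]

theorem exists_limit_mem {M : Type*} [AddCommGroup M] [Module ℤ_[l] M] [Module.Finite ℤ_[l] M] (E : Submodule ℤ_[l] M)
    (v : ℕ → M) (hv : ∀ j, v j ∈ E) :
    ∃ u ∈ E, ∀ N : ℕ, ∃ j : ℕ, N ≤ j ∧ ∃ e : M, v j = u + (l : ℤ_[l]) ^ N • e := by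
  haveI : Module.Finite ℤ_[l] E := Module.Finite.of_injective E.subtype Subtype.val_injective
  obtain ⟨u, hu⟩ := exists_limit (l := l) (M := E) (fun j => ⟨v j, hv j⟩)
  refine ⟨u.1, u.2, fun N => ?_⟩
  obtain ⟨j, hj, e, he⟩ := hu N
  exact ⟨j, hj, e.1, congrArg Subtype.val he⟩

/-- Cluster point of linear maps in a submodule, evaluated. -/
theorem exists_limit_range {M : Type*} [AddCommGroup M] [Module ℤ_[l] M] [Module.Free ℤ_[l] M] [Module.Finite ℤ_[l] M]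
    (E : Submodule ℤ_[l] (Module.End ℤ_[l] M)) (S : Submodule ℤ_[l] M) (v : ℕ → Module.End ℤ_[l] M)
    (n : ℕ → ℕ) (hn : ∀ j, j ≤ n j) (r : ℕ) (hv : ∀ j, v j ∈ E)
    (hA : ∀ j x, ∃ t ∈ S, ∃ y, v j x = t + (l : ℤ_[l]) ^ n j • y)
    (hB : ∀ j, ∀ s ∈ S, ∃ x, v j x = (l : ℤ_[l]) ^ r • s) :
    ∃ u ∈ E, (∀ x, u x ∈ S) ∧ ∀ s ∈ S, ∃ x, u x = (l : ℤ_[l]) ^ r • s := by
  obtain ⟨u, hu, hlim⟩ := exists_limit_mem E v hv
  refine ⟨u, hu, fun x => ?_, fun s hs => ?_⟩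
  · refine mem_of_forall_exists_pow S fun N => ?_
    obtain ⟨j, hj, e, he⟩ := hlim N
    obtain ⟨t, ht, y, hy⟩ := hA j x
    refine ⟨t, ht, (l : ℤ_[l]) ^ (n j - N) • y - e x, ?_⟩
    rw [he, LinearMap.add_apply, LinearMap.smul_apply] at hy
    rw [smul_sub, smul_smul, ← pow_add, Nat.add_sub_cancel' (hj.trans (hn j)), ← add_sub_assoc, ← hy, add_sub_cancel_right]
  · refine LinearMap.mem_range.1 (mem_of_forall_exists_pow (LinearMap.range u) fun N => ?_)
    obtain ⟨j, hj, e, he⟩ := hlim N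
    obtain ⟨x, hx⟩ := hB j s hs
    refine ⟨u x, LinearMap.mem_range_self _ x, e x, ?_⟩
    rw [← hx, he, LinearMap.add_apply, LinearMap.smul_apply]

end Groth.Agent.H63.PadicLimit
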