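import Groth.Agent.H63.GalQuotient
import Groth.Agent.H63.PadicLimit
import Groth.Agent.H63.AmpleCompl
import Groth.Agent.H4.AVPoints
import Groth.Agent.H4.AVHom
import Groth.Prelude.Def_AbDual
import Mathlib.RingTheory.TensorProduct.Basic
import Mathlib.LinearAlgebra.TensorProduct.Tower
import Mathlib.LinearAlgebra.FreeModule.PID

/-!
# Endomorphisms with prescribed Galois-stable image on the Tate module

* `tateMap_pow`, `exists_smul_eq_of_component`
* `exists_isogeny_range`: isogenies cutting out `S + l^n T` for a stable submodule `S`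
* `exists_range`: under the finiteness condition a stable saturated submodule is an image up to `l`
-/

set_option autoImplicit false

universe u

open CategoryTheory CategoryTheory.Limits MonoidalCategory CartesianMonoidalCategory AlgebraicGeometry
open scoped MonObj GrpObj TensorProduct
open Groth.Agent.Lib

namespace Groth.Agent.H63.GalRange

variable {k : Type u} [Field k] {Ω : Type u} [Field Ω] [Algebra k Ω] {l : ℕ} [Fact l.Prime]

section Elementary

variable {A B C : Over (Spec (CommRingCat.of k))} [GrpObj A] [IsCommMonObj A] [GrpObj B] [IsCommMonObj B]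
  [GrpObj C] [IsCommMonObj C]

theorem tateMap_comp (f : A ⟶ B) (g : B ⟶ C) [IsMonHom f] [IsMonHom g] (x : AbDual.TateMod A l (SGA7.pt (K := k) Ω)) :
    AbDual.tateMapₗ (f ≫ g) x = AbDual.tateMapₗ g (AbDual.tateMapₗ f x) :=
  AbDual.TateMod.ext fun m => congrArg Additive.ofMul (Category.assoc _ _ _).symm

theorem pow_smul_component (n m : ℕ) (x : AbDual.TateMod A l (SGA7.pt (K := k) Ω)) :
    (((l : ℤ_[l]) ^ n • x : AbDual.TateMod A l (SGA7.pt (K := k) Ω)) : ℕ → Additive (SGA7.pt (K := k) Ω ⟶ A)) m =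
      (l ^ n) • (x : ℕ → Additive (SGA7.pt (K := k) Ω ⟶ A)) m := by
  rw [← Nat.cast_pow, Nat.cast_smul_eq_nsmul]
  rfl

theorem tateMap_pow (n : ℕ) (f : A ⟶ A) [IsMonHom f] (hf : f = (𝟙 A) ^ (l ^ n)) (x : AbDual.TateMod A l (SGA7.pt (K := k) Ω)) :
    AbDual.tateMapₗ f x = (l : ℤ_[l]) ^ n • x :=
  AbDual.TateMod.ext fun m => by
    rw [pow_smul_component]
    show Additive.ofMul (((x : ℕ → Additive (SGA7.pt (K := k) Ω ⟶ A)) m).toMul ≫ f) = _
    rw [hf, MonObj.comp_pow, Category.comp_id]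
    rfl

theorem component_add (n m : ℕ) (x : AbDual.TateMod A l (SGA7.pt (K := k) Ω)) :
    (l ^ n) • (x : ℕ → Additive (SGA7.pt (K := k) Ω ⟶ A)) (m + n) = (x : ℕ → Additive (SGA7.pt (K := k) Ω ⟶ A)) m := by
  induction n with
  | zero => simp
  | succ n ih => rw [pow_succ, mul_nsmul', show m + (n + 1) = (m + n) + 1 by omega, x.compat, ih]

theorem exists_smul_eq_of_component {n : ℕ} {x : AbDual.TateMod A l (SGA7.pt (K := k) Ω)}
    (h : (x : ℕ → Additive (SGA7.pt (K := k) Ω ⟶ A)) n = 0) :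
    ∃ y : AbDual.TateMod A l (SGA7.pt (K := k) Ω), x = (l : ℤ_[l]) ^ n • y := by
  refine ⟨⟨fun m => (x : ℕ → Additive (SGA7.pt (K := k) Ω ⟶ A)) (m + n), fun m => ?_, fun m => ?_⟩,
    AbDual.TateMod.ext fun m => ?_⟩
  · show (l ^ m) • (x : ℕ → Additive (SGA7.pt (K := k) Ω ⟶ A)) (m + n) = 0
    rw [Nat.add_comm m n, component_add, h]
  · show l • (x : ℕ → Additive (SGA7.pt (K := k) Ω ⟶ A)) (m + 1 + n) = _
    rw [show m + 1 + n = (m + n) + 1 by omega, x.compat]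
  · rw [pow_smul_component]
    exact (component_add n m x).symm

end Elementary

variable [IsAlgClosure k Ω] {X : Over (Spec (CommRingCat.of k))} [GrpObj X] [IsCommMonObj X] [IsProper X.hom]
  [GeometricallyIntegral X.hom]
  (S : Submodule ℤ_[l] (AbDual.TateMod X l (SGA7.pt (K := k) Ω)))
  (hS : ∀ (τ : Ω ≃ₐ[k] Ω), ∀ z ∈ S, ∃ z' ∈ S, ∀ m : ℕ,
    (AbDual.TateMod.component X l (SGA7.pt (K := k) Ω) m z').toMul =
      SGA7.galAct τ (AbDual.TateMod.component X l (SGA7.pt (K := k) Ω) m z).toMul)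

include hS in
/-- The isogeny whose transpose has image `S + l^n T`. -/
theorem exists_isogeny_range (hl : (l : k) ≠ 0) (n : ℕ) :
    ∃ (Y : Over (Spec (CommRingCat.of k))) (_ : GrpObj Y) (_ : IsCommMonObj Y) (_ : IsProper Y.hom)
      (_ : GeometricallyIntegral Y.hom) (q : X ⟶ Y) (_ : IsMonHom q) (v : Y ⟶ X) (_ : IsMonHom v),
      q ≫ v = (𝟙 X) ^ (l ^ n) ∧ v ≫ q = (𝟙 Y) ^ (l ^ n) ∧
      (∀ y, ∃ s ∈ S, ∃ x, AbDual.tateMapₗ (l := l) (T := SGA7.pt (K := k) Ω) v y = s + (l : ℤ_[l]) ^ n • x) ∧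
      (∀ s ∈ S, ∃ y, AbDual.tateMapₗ (l := l) (T := SGA7.pt (K := k) Ω) v y = s) := by
  let c : AbDual.TateMod X l (SGA7.pt (K := k) Ω) →+ Additive (SGA7.pt (K := k) Ω ⟶ X) :=
    AbDual.TateMod.component X l (SGA7.pt (K := k) Ω) n
  let K : Subgroup (SGA7.pt (K := k) Ω ⟶ X) :=
    { carrier := {a | ∃ s ∈ S, c s = Additive.ofMul a}
      one_mem' := ⟨0, S.zero_mem, map_zero c⟩
      mul_mem' := fun {a b} ⟨s, hs, ha⟩ ⟨t, ht, hb⟩ => ⟨s + t, S.add_mem hs ht, by rw [map_add, ha, hb]; rfl⟩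
      inv_mem' := fun {a} ⟨s, hs, ha⟩ => ⟨-s, S.neg_mem hs, by rw [map_neg, ha]; rfl⟩ }
  have hK : ∀ a ∈ K, a ^ (l ^ n) = 1 := by
    rintro a ⟨s, -, ha⟩
    have h := s.torsion n
    rw [show (s : ℕ → Additive (SGA7.pt (K := k) Ω ⟶ X)) n = c s from rfl, ha] at h
    exact congrArg Additive.toMul h
  have hgal : ∀ (τ : Ω ≃ₐ[k] Ω), ∀ a ∈ K, SGA7.galAct τ a ∈ K := by
    rintro τ a ⟨s, hs, ha⟩
    obtain ⟨s', hs', h⟩ := hS τ s hs
    refine ⟨s', hs', congrArg Additive.ofMul (?_ : (c s').toMul = SGA7.galAct τ a)⟩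
    rw [show (c s').toMul = SGA7.galAct τ (c s).toMul from h n, ha]
    rfl
  obtain ⟨Y, gY, q, v, hYp, hYg, hq, hqf, hqs, hv, hqv, hvq, hker⟩ :=
    GalQuotient.exists_quotient Ω (n := l ^ n) (by rw [Nat.cast_pow]; exact pow_ne_zero _ hl) K hK hgal
  haveI := hYp; haveI := hYg; haveI := hqf; haveI := hqs
  haveI := isCommMonObj_of_isProper_of_geometricallyIntegral Y
  refine ⟨Y, gY, inferInstance, hYp, hYg, q, hq, v, hv, hqv, hvq, fun y => ?_, fun s hs => ?_⟩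
  · haveI : IsAlgClosed Ω := IsAlgClosure.isAlgClosed k
    obtain ⟨a, ha⟩ := H4.AVPoints.exists_lift (Spec.map (CommRingCat.ofHom (algebraMap k Ω))) q
      ((y : ℕ → Additive (SGA7.pt (K := k) Ω ⟶ Y)) n).toMul
    have h1 : (AbDual.tateMapₗ (l := l) (T := SGA7.pt (K := k) Ω) v y : ℕ → Additive (SGA7.pt (K := k) Ω ⟶ X)) n =
        Additive.ofMul (a ^ (l ^ n)) := by
      show Additive.ofMul (((y : ℕ → Additive (SGA7.pt (K := k) Ω ⟶ Y)) n).toMul ≫ v) = _
      rw [← ha, Category.assoc, hqv, MonObj.comp_pow, Category.comp_id]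
    have h2 : a ^ (l ^ n) ∈ K := (hker _).1 (by
      rw [MonObj.pow_comp, ha]
      exact congrArg Additive.toMul (y.torsion n))
    obtain ⟨s, hs, hsn⟩ := h2
    obtain ⟨x, hx⟩ := exists_smul_eq_of_component (n := n)
      (x := AbDual.tateMapₗ (l := l) (T := SGA7.pt (K := k) Ω) v y - s) (by
        show (AbDual.tateMapₗ (l := l) (T := SGA7.pt (K := k) Ω) v y : ℕ → Additive (SGA7.pt (K := k) Ω ⟶ X)) n - c s = 0
        rw [h1, hsn, sub_self])
    exact ⟨s, hs, x, eq_add_of_sub_eq' hx⟩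
  · refine ⟨⟨fun m => Additive.ofMul (((s : ℕ → Additive (SGA7.pt (K := k) Ω ⟶ X)) (m + n)).toMul ≫ q),
      fun m => ?_, fun m => ?_⟩, AbDual.TateMod.ext fun m => ?_⟩
    · show (l ^ m) • Additive.ofMul (((s : ℕ → Additive (SGA7.pt (K := k) Ω ⟶ X)) (m + n)).toMul ≫ q) = 0
      rw [← AbDual.nsmul_comp, Nat.add_comm m n, component_add]
      exact congrArg Additive.ofMul ((hker _).2 ⟨s, hs, rfl⟩)
    · show l • Additive.ofMul (((s : ℕ → Additive (SGA7.pt (K := k) Ω ⟶ X)) (m + 1 + n)).toMul ≫ q) = _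
      rw [← AbDual.nsmul_comp, show m + 1 + n = (m + n) + 1 by omega, s.compat]
    · show Additive.ofMul ((((s : ℕ → Additive (SGA7.pt (K := k) Ω ⟶ X)) (m + n)).toMul ≫ q) ≫ v) = _
      rw [Category.assoc, hqv, MonObj.comp_pow, Category.comp_id]
      exact component_add n m s

omit [IsCommMonObj X] in
/-- An isomorphism of abelian varieties as schemes gives one as groups. -/
theorem exists_isMonHom_iso {Y Y' : Over (Spec (CommRingCat.of k))} [GrpObj Y] [GrpObj Y'] [IsProper Y.hom]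
    [IsProper Y'.hom] [GeometricallyIntegral Y.hom] [GeometricallyIntegral Y'.hom] (α : Y ≅ Y') :
    ∃ h : Y ⟶ Y', IsMonHom h ∧ IsIso h := by
  haveI := isCommMonObj_of_isProper_of_geometricallyIntegral Y'
  haveI : IsIntegral Y.left := GeometricallyIntegral.isIntegral_of_subsingleton Y.hom
  haveI : IsIntegral Y'.left := GeometricallyIntegral.isIntegral_of_subsingleton Y'.hom
  haveI : IsIso (AmpleCompl.tr (η[Y] ≫ α.hom)⁻¹).left := AmpleCompl.isIso_tr _
  haveI : IsIso (AmpleCompl.tr (η[Y] ≫ α.hom)⁻¹) := by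
    haveI : IsIso ((Over.forget _).map (AmpleCompl.tr (η[Y] ≫ α.hom)⁻¹)) :=
      inferInstanceAs (IsIso (AmpleCompl.tr (η[Y] ≫ α.hom)⁻¹).left)
    exact isIso_of_reflects_iso _ (Over.forget _)
  refine ⟨α.hom ≫ AmpleCompl.tr (η[Y] ≫ α.hom)⁻¹, H4.AVHom.isMonHom_of_pointed _ ?_, inferInstance⟩
  rw [← Category.assoc, AmpleCompl.comp_tr, toUnit_unique (toUnit _) (𝟙 _), Category.id_comp, mul_inv_cancel,
    MonObj.one_eq_one]

include hS in
/-- Under the finiteness condition, `S` is an image up to a power of `l`. -/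
theorem exists_range (hl : (l : k) ≠ 0) [Module.Free ℤ_[l] (AbDual.TateMod X l (SGA7.pt (K := k) Ω))]
    [Module.Finite ℤ_[l] (AbDual.TateMod X l (SGA7.pt (K := k) Ω))]
    (hFin : ∃ (J : Type u) (_ : Finite J) (F : J → Over (Spec (CommRingCat.of k))),
      ∀ (Y : Over (Spec (CommRingCat.of k))) [GrpObj Y] [IsCommMonObj Y] [IsProper Y.hom] [GeometricallyIntegral Y.hom]
        (u : X ⟶ Y) [IsMonHom u] (v : Y ⟶ X) [IsMonHom v] (m : ℕ),
        u ≫ v = (𝟙 X) ^ (l ^ m) → v ≫ u = (𝟙 Y) ^ (l ^ m) → ∃ i, Nonempty (Y ≅ F i)) :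
    ∃ (u : Module.End ℤ_[l] (AbDual.TateMod X l (SGA7.pt (K := k) Ω))) (r : ℕ),
      u ∈ Submodule.span ℤ_[l] {ψ | ∃ (f : X ⟶ X) (_ : IsMonHom f),
        ψ = AbDual.tateMapₗ (l := l) (T := SGA7.pt (K := k) Ω) f} ∧
      (∀ x, u x ∈ S) ∧ ∀ s ∈ S, ∃ x, u x = (l : ℤ_[l]) ^ r • s := by
  obtain ⟨J, hJ, F, hF⟩ := hFin
  choose Y gY cY pY iY q hq v hv hqv hvq hup hdown using exists_isogeny_range S hS hl
  have hidx : ∀ n, ∃ i, Nonempty (Y n ≅ F i) := fun n => hF (Y n) (q n) (v n) n (hqv n) (hvq n)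
  choose i hi using hidx
  obtain ⟨i₀, hinf⟩ := Finite.exists_infinite_fiber i
  have hinf' : (i ⁻¹' {i₀}).Infinite := Set.infinite_coe_iff.1 hinf
  obtain ⟨n₀, hn₀⟩ := hinf'.nonempty
  have key : ∀ j : ℕ, ∃ n, j ≤ n ∧ ∃ (f : X ⟶ X) (_ : IsMonHom f),
      (∀ x, ∃ s ∈ S, ∃ y, AbDual.tateMapₗ (l := l) (T := SGA7.pt (K := k) Ω) f x = s + (l : ℤ_[l]) ^ n • y) ∧
      (∀ s ∈ S, ∃ x, AbDual.tateMapₗ (l := l) (T := SGA7.pt (K := k) Ω) f x = (l : ℤ_[l]) ^ n₀ • s) := by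
    intro j
    obtain ⟨n, hn, hjn⟩ := hinf'.exists_gt j
    obtain ⟨e₀⟩ := hi n₀
    obtain ⟨e⟩ := hi n
    obtain ⟨h, hh, hhi⟩ := exists_isMonHom_iso
      (e₀ ≪≫ eqToIso (congrArg F ((show i n₀ = i₀ from hn₀).trans (show i n = i₀ from hn).symm)) ≪≫ e.symm)
    haveI := hh; haveI := hhi; haveI := hq n₀; haveI := hv n; haveI := hv n₀; haveI := hq n
    haveI : IsMonHom (inv h) := H4.AVHom.isMonHom_of_pointed _ (by
      rw [← cancel_mono h, Category.assoc, IsIso.inv_hom_id, Category.comp_id]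
      exact (IsMonHom.one_hom h).symm)
    refine ⟨n, hjn.le, q n₀ ≫ h ≫ v n, inferInstance, fun x => ?_, fun s hs => ?_⟩
    · rw [tateMap_comp, tateMap_comp]
      exact hup n _
    · obtain ⟨y, hy⟩ := hdown n s hs
      refine ⟨AbDual.tateMapₗ (v n₀) (AbDual.tateMapₗ (inv h) y), ?_⟩
      rw [tateMap_comp, tateMap_comp, ← tateMap_comp (v n₀) (q n₀), tateMap_pow n₀ _ (hvq n₀), map_smul, map_smul,
        ← tateMap_comp (inv h) h]
      have e1 : AbDual.tateMapₗ (l := l) (T := SGA7.pt (K := k) Ω) (inv h ≫ h) y = y :=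
        AbDual.TateMod.ext fun m => by
          show Additive.ofMul (_ ≫ (inv h ≫ h)) = _
          rw [IsIso.inv_hom_id, Category.comp_id]
          rfl
      rw [e1, hy]
  choose n hn f hf hA hB using key
  set E := Submodule.span ℤ_[l] {ψ | ∃ (f : X ⟶ X) (_ : IsMonHom f),
    ψ = AbDual.tateMapₗ (l := l) (T := SGA7.pt (K := k) Ω) f}
  obtain ⟨u, hu, h1, h2⟩ := PadicLimit.exists_limit_range E S
    (fun j => haveI := hf j; AbDual.tateMapₗ (l := l) (T := SGA7.pt (K := k) Ω) (f j)) n hn n₀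
    (fun j => Submodule.subset_span ⟨f j, hf j, rfl⟩) hA hB
  exact ⟨u, n₀, hu, h1, h2⟩

end Groth.Agent.H63.GalRange
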