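import Mathlib.NumberTheory.Padics.PadicIntegers
import Mathlib.LinearAlgebra.TensorProduct.Tower
import Mathlib.RingTheory.TensorProduct.Basic

/-!
# Rationalising modules over the `l`-adic integers

* `exists_smul_eq`: every element of `ℚ_l ⊗ T` has a nonzero multiple in `T`
* `range_baseChange_eq`: the range of a base changed map with prescribed range up to a scalar
-/

set_option autoImplicit false

open scoped TensorProduct

namespace Groth.Agent.H63.PadicRat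

variable {l : ℕ} [Fact l.Prime] {T : Type*} [AddCommGroup T] [Module ℤ_[l] T]

theorem exists_smul_eq (x : ℚ_[l] ⊗[ℤ_[l]] T) :
    ∃ (a : ℤ_[l]) (t : T), a ≠ 0 ∧ algebraMap ℤ_[l] ℚ_[l] a • x = (1 : ℚ_[l]) ⊗ₜ[ℤ_[l]] t := by
  induction x using TensorProduct.induction_on with
  | zero => exact ⟨1, 0, one_ne_zero, by simp⟩
  | tmul q t =>
    obtain ⟨a, b, hb, rfl⟩ := IsFractionRing.div_surjective ℤ_[l] q
    refine ⟨b, a • t, nonZeroDivisors.ne_zero hb, ?_⟩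
    rw [TensorProduct.smul_tmul', smul_eq_mul, mul_div_cancel₀ _ (IsFractionRing.to_map_ne_zero_of_mem_nonZeroDivisors hb),
      TensorProduct.tmul_smul, TensorProduct.smul_tmul', Algebra.smul_def, _root_.mul_one]
  | add x y hx hy =>
    obtain ⟨a, t, ha, h⟩ := hx
    obtain ⟨b, s, hb, h'⟩ := hy
    refine ⟨a * b, b • t + a • s, mul_ne_zero ha hb, ?_⟩
    rw [TensorProduct.tmul_add, TensorProduct.tmul_smul, TensorProduct.tmul_smul, ← h, ← h', smul_add,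
      ← algebraMap_smul ℚ_[l] b, ← algebraMap_smul ℚ_[l] a (algebraMap ℤ_[l] ℚ_[l] b • y), smul_smul, smul_smul,
      map_mul, mul_comm (algebraMap ℤ_[l] ℚ_[l] a)]

theorem range_baseChange_eq (W : Submodule ℚ_[l] (ℚ_[l] ⊗[ℤ_[l]] T)) (u : T →ₗ[ℤ_[l]] T) (r : ℕ)
    (h1 : ∀ x, (1 : ℚ_[l]) ⊗ₜ[ℤ_[l]] u x ∈ W)
    (h2 : ∀ t, (1 : ℚ_[l]) ⊗ₜ[ℤ_[l]] t ∈ W → ∃ x, u x = (l : ℤ_[l]) ^ r • t) :
    LinearMap.range (u.baseChange ℚ_[l]) = W := by
  apply le_antisymm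
  · rintro _ ⟨x, rfl⟩
    induction x using TensorProduct.induction_on with
    | zero => simp
    | tmul q t =>
      rw [LinearMap.baseChange_tmul, ← _root_.mul_one q, ← smul_eq_mul, ← TensorProduct.smul_tmul']
      exact W.smul_mem q (h1 t)
    | add x y hx hy => rw [map_add]; exact W.add_mem hx hy
  · intro w hw
    obtain ⟨a, t, ha, h⟩ := exists_smul_eq w
    obtain ⟨x, hx⟩ := h2 t (h ▸ W.smul_mem _ hw)
    have hc : algebraMap ℤ_[l] ℚ_[l] ((l : ℤ_[l]) ^ r * a) ≠ 0 := by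
      rw [ne_eq, map_eq_zero_iff _ (IsFractionRing.injective ℤ_[l] ℚ_[l])]
      exact mul_ne_zero (pow_ne_zero _ (Nat.cast_ne_zero.2 (Fact.out : l.Prime).ne_zero)) ha
    refine ⟨(algebraMap ℤ_[l] ℚ_[l] ((l : ℤ_[l]) ^ r * a))⁻¹ • ((1 : ℚ_[l]) ⊗ₜ[ℤ_[l]] x), ?_⟩
    rw [map_smul, LinearMap.baseChange_tmul, hx, TensorProduct.tmul_smul, ← h,
      ← algebraMap_smul ℚ_[l] ((l : ℤ_[l]) ^ r) (algebraMap ℤ_[l] ℚ_[l] a • w), smul_smul, smul_smul, mul_assoc,
      ← map_mul, inv_mul_cancel₀ hc, one_smul]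

theorem baseChange_mem_span {T' : Type*} [AddCommGroup T'] [Module ℤ_[l] T'] {P : (T →ₗ[ℤ_[l]] T') → Prop}
    {u : T →ₗ[ℤ_[l]] T'} (h : u ∈ Submodule.span ℤ_[l] {ψ | P ψ}) :
    u.baseChange ℚ_[l] ∈ Submodule.span ℚ_[l] {φ | ∃ ψ, P ψ ∧ φ = ψ.baseChange ℚ_[l]} := by
  induction h using Submodule.span_induction with
  | mem x hx => exact Submodule.subset_span ⟨x, hx, rfl⟩
  | zero => rw [LinearMap.baseChange_zero]; exact Submodule.zero_mem _
  | add x y _ _ hx hy => rw [LinearMap.baseChange_add]; exact Submodule.add_mem _ hx hy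
  | smul c x _ hx =>
    rw [LinearMap.baseChange_smul, ← algebraMap_smul ℚ_[l] c (x.baseChange ℚ_[l])]
    exact Submodule.smul_mem _ _ hx

end Groth.Agent.H63.PadicRat
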