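import Groth.Agent.H63.DoubleCentral
import Groth.Agent.H63.End0Regular
import Groth.Agent.H63.HomLattice
import Groth.Agent.H52.FBase.GeomRedSch
import Groth.Agent.H4.Chow.Hom
import Groth.Agent.S16851

/-!
# Endomorphisms commuting with Galois, under the finiteness condition

* `vmap`: the map on rational Tate modules
* `exists_isCompl`, `mem_span_of_commute`
-/

set_option autoImplicit false
set_option synthInstance.maxHeartbeats 200000

universe u

open CategoryTheory CategoryTheory.Limits MonoidalCategory CartesianMonoidalCategory AlgebraicGeometry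
open scoped MonObj GrpObj TensorProduct

namespace Groth.Agent.H63.GalEnd

variable {k Ω : Type u} [Field k] [Field Ω] [Algebra k Ω] {l : ℕ} [Fact l.Prime]

/-- The rational Tate module. -/
abbrev VT (Ω : Type u) [Field Ω] [Algebra k Ω] (l : ℕ) [Fact l.Prime] (A : Over (Spec (CommRingCat.of k))) [GrpObj A]
    [IsCommMonObj A] : Type u := ℚ_[l] ⊗[ℤ_[l]] AbDual.TateMod A l (SGA7.pt (K := k) Ω)

section Maps

variable {A B C : Over (Spec (CommRingCat.of k))} [GrpObj A] [IsCommMonObj A] [GrpObj B] [IsCommMonObj B]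
  [GrpObj C] [IsCommMonObj C]

/-- The map induced by a homomorphism. -/
noncomputable def vmap (f : A ⟶ B) [IsMonHom f] : VT Ω l A →ₗ[ℚ_[l]] VT Ω l B :=
  (AbDual.tateMapₗ (l := l) (T := SGA7.pt (K := k) Ω) f).baseChange ℚ_[l]

theorem vmap_congr {f g : A ⟶ B} [IsMonHom f] [IsMonHom g] (h : f = g) : (vmap f : VT Ω l A →ₗ[ℚ_[l]] _) = vmap g := by
  subst h; rfl

theorem vmap_comp (f : A ⟶ B) (g : B ⟶ C) [IsMonHom f] [IsMonHom g] :
    (vmap (f ≫ g) : VT Ω l A →ₗ[ℚ_[l]] _) = vmap g ∘ₗ vmap f := by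
  rw [vmap, vmap, vmap, ← LinearMap.baseChange_comp]
  congr 1

theorem vmap_id : (vmap (𝟙 A) : VT Ω l A →ₗ[ℚ_[l]] _) = LinearMap.id := by
  rw [vmap, ← LinearMap.baseChange_id]
  congr 1

theorem vmap_mul (f g : A ⟶ B) [IsMonHom f] [IsMonHom g] [IsMonHom (f * g)] :
    (vmap (f * g) : VT Ω l A →ₗ[ℚ_[l]] _) = vmap f + vmap g := by
  rw [vmap, vmap, vmap, ← LinearMap.baseChange_add]
  congr 1
  exact LinearMap.ext fun x => AbDual.TateMod.ext fun m => congrArg Additive.ofMul (MonObj.comp_mul _ f g)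

theorem vmap_one [IsMonHom (1 : A ⟶ B)] : (vmap (1 : A ⟶ B) : VT Ω l A →ₗ[ℚ_[l]] _) = 0 := by
  rw [vmap, ← LinearMap.baseChange_zero]
  congr 1
  exact LinearMap.ext fun x => AbDual.TateMod.ext fun m => congrArg Additive.ofMul (MonObj.comp_one _)

end Maps

variable (X : Over (Spec (CommRingCat.of k))) [GrpObj X] [IsCommMonObj X] [IsProper X.hom] [GeometricallyIntegral X.hom]

/-- The endomorphisms, acting on the rational Tate module. -/
noncomputable def repZ : EndAV.End X →ₐ[ℤ] Module.End ℚ_[l] (VT Ω l X) :=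
  { (Module.End.baseChangeHom ℤ_[l] ℚ_[l] (AbDual.TateMod X l (SGA7.pt (K := k) Ω))).toRingHom.comp
      (EndAV.End.tateRep l (SGA7.pt (K := k) Ω)) with commutes' := fun z => by simp }

/-- The endomorphism algebra, acting on the rational Tate module. -/
noncomputable def rep : EndAV.End0 X →ₐ[ℚ] Module.End ℚ_[l] (VT Ω l X) :=
  Algebra.TensorProduct.lift (Algebra.ofId ℚ _) (repZ X) fun q x => Algebra.commute_algebraMap_left q _

theorem rep_toEnd0 (φ : EndAV.End X) : rep X (EndAV.toEnd0 φ) = (vmap φ.toHom : Module.End ℚ_[l] (VT Ω l X)) := by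
  show Algebra.TensorProduct.lift _ _ _ ((1 : ℚ) ⊗ₜ[ℤ] φ) = _
  rw [Algebra.TensorProduct.lift_tmul, map_one, _root_.one_mul]
  rfl

/-- Its extension of scalars. -/
noncomputable def repL : ℚ_[l] ⊗[ℚ] EndAV.End0 X →ₐ[ℚ_[l]] Module.End ℚ_[l] (VT Ω l X) :=
  Algebra.TensorProduct.lift (Algebra.ofId ℚ_[l] _) (rep X) fun q x => Algebra.commute_algebraMap_left q _

theorem range_eq_span :
    (repL (Ω := Ω) (l := l) X).range.toSubmodule = Submodule.span ℚ_[l] {ψ | ∃ (f : X ⟶ X) (_ : IsMonHom f),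
      ψ = (AbDual.tateMapₗ (l := l) (T := SGA7.pt (K := k) Ω) f).baseChange ℚ_[l]} := by
  apply le_antisymm
  · rintro _ ⟨x, rfl⟩
    induction x using TensorProduct.induction_on with
    | zero => simp
    | add x y hx hy => simpa using Submodule.add_mem _ hx hy
    | tmul q y =>
      show repL X (q ⊗ₜ[ℚ] y) ∈ _
      rw [repL, Algebra.TensorProduct.lift_tmul, Algebra.ofId_apply, ← Algebra.smul_def]
      refine Submodule.smul_mem _ q ?_
      obtain ⟨N, φ, hN, hφ⟩ := End0Basic.exists_smul_eq y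
      have hy : y = (N : ℚ)⁻¹ • EndAV.toEnd0 φ := by rw [← hφ, inv_smul_smul₀ (Int.cast_ne_zero.2 hN)]
      rw [hy, map_smul, rep_toEnd0, ← algebraMap_smul ℚ_[l] (N : ℚ)⁻¹ (vmap φ.toHom : Module.End ℚ_[l] (VT Ω l X))]
      exact Submodule.smul_mem _ _ (Submodule.subset_span ⟨φ.toHom, inferInstance, rfl⟩)
  · refine Submodule.span_le.2 ?_
    rintro _ ⟨f, hf, rfl⟩
    refine ⟨1 ⊗ₜ[ℚ] EndAV.toEnd0 (EndAV.End.of f), ?_⟩
    show repL X _ = _
    rw [repL, Algebra.TensorProduct.lift_tmul, map_one, _root_.one_mul, rep_toEnd0]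
    rfl

theorem isSemisimpleRing_range : IsSemisimpleRing (repL (Ω := Ω) (l := l) X).range := by
  haveI : Module.Finite ℤ (EndAV.End X) := End0Basic.moduleFree_finite.2
  haveI := End0Regular.isSemisimpleRing_end0 (A := X)
  haveI := DoubleCentral.isSemisimpleRing_tensor ℚ (EndAV.End0 X) ℚ_[l]
  exact RingHom.isSemisimpleRing_of_surjective (repL (Ω := Ω) (l := l) X).rangeRestrict.toRingHom
    (fun ⟨y, x, hx⟩ => ⟨x, Subtype.ext hx⟩)

section Galois

variable [IsAlgClosure k Ω] (hl : (l : k) ≠ 0)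
  (ρ : (Ω ≃ₐ[k] Ω) → Module.End ℤ_[l] (AbDual.TateMod X l (SGA7.pt (K := k) Ω)))
  (hρ : ∀ (τ : Ω ≃ₐ[k] Ω) (z : AbDual.TateMod X l (SGA7.pt (K := k) Ω)) (m : ℕ),
    (AbDual.TateMod.component X l (SGA7.pt (K := k) Ω) m (ρ τ z)).toMul =
      SGA7.galAct τ (AbDual.TateMod.component X l (SGA7.pt (K := k) Ω) m z).toMul)

include hρ in
theorem commute_gal (τ : Ω ≃ₐ[k] Ω) {e : Module.End ℚ_[l] (VT Ω l X)} (he : e ∈ (repL (Ω := Ω) (l := l) X).range) :
    e ∘ₗ (ρ τ).baseChange ℚ_[l] = (ρ τ).baseChange ℚ_[l] ∘ₗ e := by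
  replace he : e ∈ (repL (Ω := Ω) (l := l) X).range.toSubmodule := he
  rw [range_eq_span] at he
  induction he using Submodule.span_induction with
  | mem x hx =>
    obtain ⟨f, hf, rfl⟩ := hx
    rw [← LinearMap.baseChange_comp, ← LinearMap.baseChange_comp]
    congr 1
    refine LinearMap.ext fun z => AbDual.TateMod.ext fun m => congrArg Additive.ofMul
      (?_ : _ ≫ f = (AbDual.TateMod.component X l (SGA7.pt (K := k) Ω) m (ρ τ (AbDual.tateMapₗ f z))).toMul)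
    rw [hρ]
    refine (congrArg (· ≫ f) (hρ τ z m)).trans ?_
    exact Category.assoc _ _ _
  | zero => simp
  | add x y _ _ hx hy => rw [LinearMap.add_comp, LinearMap.comp_add, hx, hy]
  | smul c x _ hx => rw [LinearMap.smul_comp, LinearMap.comp_smul, hx]

include hl hρ in
/-- Stable subspaces have stable complements. -/
theorem exists_isCompl (hFin : (∃ (J : Type u) (_ : Finite J) (F : J → Over (Spec (CommRingCat.of k))),
        ∀ (Y : Over (Spec (CommRingCat.of k))) [GrpObj Y] [IsCommMonObj Y] [IsProper Y.hom] [GeometricallyIntegral Y.hom]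
          (u : X ⟶ Y) [IsMonHom u] (v : Y ⟶ X) [IsMonHom v] (m : ℕ),
          u ≫ v = (𝟙 X) ^ (l ^ m) → v ≫ u = (𝟙 Y) ^ (l ^ m) → ∃ i, Nonempty (Y ≅ F i)))
    [Module.Free ℤ_[l] (AbDual.TateMod X l (SGA7.pt (K := k) Ω))]
    [Module.Finite ℤ_[l] (AbDual.TateMod X l (SGA7.pt (K := k) Ω))]
    (W : Submodule ℚ_[l] (VT Ω l X)) (hW : ∀ τ : Ω ≃ₐ[k] Ω, W.map ((ρ τ).baseChange ℚ_[l]) ≤ W) :
    ∃ W' : Submodule ℚ_[l] (VT Ω l X), IsCompl W W' ∧ ∀ τ : Ω ≃ₐ[k] Ω, W'.map ((ρ τ).baseChange ℚ_[l]) ≤ W' := by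
  obtain ⟨u, hu, hr⟩ := S16851.result k Ω l hl X hFin ρ hρ W hW
  rw [← range_eq_span] at hu
  haveI := isSemisimpleRing_range (Ω := Ω) (l := l) X
  obtain ⟨e, he, hid, her⟩ := DoubleCentral.exists_idempotent (repL (Ω := Ω) (l := l) X).range hu
  refine ⟨LinearMap.ker e, by rw [← hr, ← her]; exact LinearMap.IsIdempotentElem.isCompl hid, fun τ => ?_⟩
  rintro _ ⟨x, hx, rfl⟩
  rw [LinearMap.mem_ker]
  refine (LinearMap.congr_fun (commute_gal X ρ hρ τ he) x).trans ?_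
  rw [LinearMap.comp_apply, LinearMap.mem_ker.1 hx, map_zero]

include hl hρ in
/-- Equivariant endomorphisms come from endomorphisms. -/
theorem mem_span_of_commute (hFin : ∀ (Z : Over (Spec (CommRingCat.of k))) [GrpObj Z] [IsCommMonObj Z] [IsProper Z.hom]
      [GeometricallyIntegral Z.hom], ∃ (J : Type u) (_ : Finite J) (F : J → Over (Spec (CommRingCat.of k))),
        ∀ (Y : Over (Spec (CommRingCat.of k))) [GrpObj Y] [IsCommMonObj Y] [IsProper Y.hom] [GeometricallyIntegral Y.hom]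
          (u : Z ⟶ Y) [IsMonHom u] (v : Y ⟶ Z) [IsMonHom v] (m : ℕ),
          u ≫ v = (𝟙 Z) ^ (l ^ m) → v ≫ u = (𝟙 Y) ^ (l ^ m) → ∃ i, Nonempty (Y ≅ F i))
    [Module.Free ℤ_[l] (AbDual.TateMod X l (SGA7.pt (K := k) Ω))]
    [Module.Finite ℤ_[l] (AbDual.TateMod X l (SGA7.pt (K := k) Ω))]
    (φ : Module.End ℚ_[l] (VT Ω l X))
    (hφ : ∀ τ : Ω ≃ₐ[k] Ω, φ ∘ₗ (ρ τ).baseChange ℚ_[l] = (ρ τ).baseChange ℚ_[l] ∘ₗ φ) :
    φ ∈ (repL (Ω := Ω) (l := l) X).range := by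
  haveI := isSemisimpleRing_range (Ω := Ω) (l := l) X
  refine DoubleCentral.mem_range_of_commute _ φ fun c hc => ?_
  haveI : IsAlgClosed Ω := IsAlgClosure.isAlgClosed k
  haveI := H4.Chow.isProper_prod X X
  haveI := H4.Chow.geometricallyIntegral_prod X X
  haveI : IsIntegral (X ⊗ X).left := GeometricallyIntegral.isIntegral_of_subsingleton (X ⊗ X).hom
  obtain ⟨g, hg⟩ := AVIsogeny.exists_dim (A := X ⊗ X)
  obtain ⟨hPfree, hPfin, -⟩ := HomLattice.tate_free_finite Ω (X ⊗ X) l hl hg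
  let i₁ : X ⟶ X ⊗ X := lift (𝟙 X) 1
  let i₂ : X ⟶ X ⊗ X := lift 1 (𝟙 X)
  haveI : IsMonHom i₁ := inferInstanceAs (IsMonHom (lift (𝟙 X) (1 : X ⟶ X)))
  haveI : IsMonHom i₂ := inferInstanceAs (IsMonHom (lift (1 : X ⟶ X) (𝟙 X)))
  let p₁ : X ⊗ X ⟶ X := fst X X
  let p₂ : X ⊗ X ⟶ X := snd X X
  haveI : IsMonHom p₁ := inferInstanceAs (IsMonHom (fst X X))
  haveI : IsMonHom p₂ := inferInstanceAs (IsMonHom (snd X X))
  have hsum : (p₁ ≫ i₁) * (p₂ ≫ i₂) = 𝟙 (X ⊗ X) := by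
    apply hom_ext
    · rw [MonObj.mul_comp, Category.assoc, Category.assoc, lift_fst, lift_fst, Category.comp_id, MonObj.comp_one,
        _root_.mul_one, Category.id_comp]
    · rw [MonObj.mul_comp, Category.assoc, Category.assoc, lift_snd, lift_snd, Category.comp_id, MonObj.comp_one,
        _root_.one_mul, Category.id_comp]
  let T₁ := AbDual.tateMapₗ (l := l) (T := SGA7.pt (K := k) Ω) p₁
  let T₂ := AbDual.tateMapₗ (l := l) (T := SGA7.pt (K := k) Ω) p₂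
  let U₁ := AbDual.tateMapₗ (l := l) (T := SGA7.pt (K := k) Ω) i₁
  let U₂ := AbDual.tateMapₗ (l := l) (T := SGA7.pt (K := k) Ω) i₂
  let ρ' : (Ω ≃ₐ[k] Ω) → Module.End ℤ_[l] (AbDual.TateMod (X ⊗ X) l (SGA7.pt (K := k) Ω)) := fun τ =>
    U₁ ∘ₗ ρ τ ∘ₗ T₁ + U₂ ∘ₗ ρ τ ∘ₗ T₂
  have hρ' : ∀ (τ : Ω ≃ₐ[k] Ω) (z : AbDual.TateMod (X ⊗ X) l (SGA7.pt (K := k) Ω)) (m : ℕ),
      (AbDual.TateMod.component (X ⊗ X) l (SGA7.pt (K := k) Ω) m (ρ' τ z)).toMul =
        SGA7.galAct τ (AbDual.TateMod.component (X ⊗ X) l (SGA7.pt (K := k) Ω) m z).toMul := fun τ z m => by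
    show ((AbDual.TateMod.component X l (SGA7.pt (K := k) Ω) m (ρ τ (T₁ z))).toMul ≫ i₁) *
      ((AbDual.TateMod.component X l (SGA7.pt (K := k) Ω) m (ρ τ (T₂ z))).toMul ≫ i₂) = _
    rw [hρ, hρ]
    set x := (AbDual.TateMod.component (X ⊗ X) l (SGA7.pt (K := k) Ω) m z).toMul with hx
    show (SGA7.galAct τ (x ≫ p₁) ≫ i₁) * (SGA7.galAct τ (x ≫ p₂) ≫ i₂) = SGA7.galAct τ x
    simp only [SGA7.galAct, Category.assoc]
    rw [← MonObj.comp_mul, ← MonObj.comp_mul, hsum, Category.comp_id]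
  let P₁ : VT Ω l (X ⊗ X) →ₗ[ℚ_[l]] VT Ω l X := vmap p₁
  let P₂ : VT Ω l (X ⊗ X) →ₗ[ℚ_[l]] VT Ω l X := vmap p₂
  let I₁ : VT Ω l X →ₗ[ℚ_[l]] VT Ω l (X ⊗ X) := vmap i₁
  let I₂ : VT Ω l X →ₗ[ℚ_[l]] VT Ω l (X ⊗ X) := vmap i₂
  have h11 : ∀ x, P₁ (I₁ x) = x := fun x => by
    rw [← LinearMap.comp_apply, ← vmap_comp, vmap_congr (lift_fst (𝟙 X) (1 : X ⟶ X)), vmap_id, LinearMap.id_apply]
  have h22 : ∀ x, P₂ (I₂ x) = x := fun x => by
    rw [← LinearMap.comp_apply, ← vmap_comp, vmap_congr (lift_snd (1 : X ⟶ X) (𝟙 X)), vmap_id, LinearMap.id_apply]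
  have h21 : ∀ x, P₂ (I₁ x) = 0 := fun x => by
    rw [← LinearMap.comp_apply, ← vmap_comp, vmap_congr (lift_snd (𝟙 X) (1 : X ⟶ X)), vmap_one, LinearMap.zero_apply]
  have h12 : ∀ x, P₁ (I₂ x) = 0 := fun x => by
    rw [← LinearMap.comp_apply, ← vmap_comp, vmap_congr (lift_fst (1 : X ⟶ X) (𝟙 X)), vmap_one, LinearMap.zero_apply]
  haveI : IsMonHom ((p₁ ≫ i₁) * (p₂ ≫ i₂)) := by rw [hsum]; infer_instance
  have hid : ∀ x, I₁ (P₁ x) + I₂ (P₂ x) = x := fun x => by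
    rw [← LinearMap.comp_apply, ← LinearMap.comp_apply, ← LinearMap.add_apply, ← vmap_comp, ← vmap_comp, ← vmap_mul,
      vmap_congr hsum, vmap_id, LinearMap.id_apply]
  have hg' : ∀ τ x, (ρ' τ).baseChange ℚ_[l] x =
      I₁ ((ρ τ).baseChange ℚ_[l] (P₁ x)) + I₂ ((ρ τ).baseChange ℚ_[l] (P₂ x)) := fun τ x => by
    simp only [ρ', LinearMap.baseChange_add, LinearMap.baseChange_comp, LinearMap.add_apply, LinearMap.comp_apply]
    rfl
  let W : Submodule ℚ_[l] (VT Ω l (X ⊗ X)) := LinearMap.ker (P₂ - φ ∘ₗ P₁)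
  have hmemW : ∀ x, x ∈ W ↔ P₂ x = φ (P₁ x) := fun x => by
    rw [LinearMap.mem_ker, LinearMap.sub_apply, sub_eq_zero, LinearMap.comp_apply]
  have hW : ∀ τ : Ω ≃ₐ[k] Ω, W.map ((ρ' τ).baseChange ℚ_[l]) ≤ W := fun τ => by
    rintro _ ⟨x, hx, rfl⟩
    have hx' : P₂ x = φ (P₁ x) := (hmemW x).1 hx
    rw [hmemW, hg', map_add, map_add, h21, h22, h11, h12, zero_add, add_zero, hx']
    exact (LinearMap.congr_fun (hφ τ) (P₁ x)).symm
  haveI : Module.Free ℤ_[l] (AbDual.TateMod (X ⊗ X) l (SGA7.pt (K := k) Ω)) := hPfree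
  haveI : Module.Finite ℤ_[l] (AbDual.TateMod (X ⊗ X) l (SGA7.pt (K := k) Ω)) := hPfin
  obtain ⟨u, hu, hr⟩ := S16851.result k Ω l hl (X ⊗ X) (hFin (X ⊗ X)) ρ' hρ' W hW
  let C : Module.End ℚ_[l] (VT Ω l (X ⊗ X)) := I₁ ∘ₗ c ∘ₗ P₁ + I₂ ∘ₗ c ∘ₗ P₂
  have hC₁ : ∀ x, P₁ (C x) = c (P₁ x) := fun x => by
    simp only [C, LinearMap.add_apply, LinearMap.comp_apply, map_add, h11, h12, add_zero]
  have hC₂ : ∀ x, P₂ (C x) = c (P₂ x) := fun x => by
    simp only [C, LinearMap.add_apply, LinearMap.comp_apply, map_add, h21, h22, zero_add]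
  have hE : ∀ (f : X ⟶ X) [IsMonHom f] (x : VT Ω l X), c (vmap f x) = vmap f (c x) := fun f _ x => by
    refine LinearMap.congr_fun (hc (vmap f) ?_) x
    show (vmap f : Module.End ℚ_[l] (VT Ω l X)) ∈ (repL (Ω := Ω) (l := l) X).range.toSubmodule
    rw [range_eq_span]
    exact Submodule.subset_span ⟨f, inferInstance, rfl⟩
  have hCu : ∀ x, C (u x) = u (C x) := by
    clear hr
    induction hu using Submodule.span_induction with
    | mem v hv =>
      obtain ⟨f, hf, rfl⟩ := hv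
      intro x
      have key : ∀ (p : X ⊗ X ⟶ X) [IsMonHom p], c (vmap p (vmap f x)) = vmap p (vmap f (C x)) := fun p _ => by
        have e : ∀ y, vmap p (vmap f y) = vmap (i₁ ≫ f ≫ p) (P₁ y) + vmap (i₂ ≫ f ≫ p) (P₂ y) := fun y => by
          conv_lhs => rw [← hid y, map_add, map_add]
          rw [vmap_comp i₁ (f ≫ p), vmap_comp i₂ (f ≫ p), vmap_comp f p]
          rfl
        rw [e, e, map_add, hE, hE, hC₁, hC₂]
      show C (vmap f x) = vmap f (C x)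
      refine ((hid _).symm.trans ?_).trans (hid _)
      rw [hC₁, hC₂]
      exact congrArg₂ (· + ·) (congrArg I₁ (key p₁)) (congrArg I₂ (key p₂))
    | zero => intro x; simp
    | add v w _ _ hv hw => intro x; simp only [LinearMap.add_apply, map_add, hv, hw]
    | smul a v _ hv => intro x; simp only [LinearMap.smul_apply, map_smul, hv]
  refine LinearMap.ext fun v => ?_
  obtain ⟨y, hy⟩ : I₁ v + I₂ (φ v) ∈ LinearMap.range u := by
    rw [hr, hmemW, map_add, map_add, h21, h22, h11, h12, zero_add, add_zero]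
  have hmem : C (I₁ v + I₂ (φ v)) ∈ W := by
    rw [← hy, hCu, ← hr]
    exact ⟨C y, rfl⟩
  simp only [hmemW, hC₁, hC₂, map_add, h21, h22, h11, h12, map_zero, zero_add, add_zero] at hmem
  exact hmem

end Galois

end Groth.Agent.H63.GalEnd
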