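import Groth.Prelude.Def_SGA7a
import Mathlib.AlgebraicGeometry.ResidueField
import Mathlib.AlgebraicGeometry.Morphisms.Finite
import Mathlib.AlgebraicGeometry.Morphisms.ClosedImmersion
import Mathlib.FieldTheory.Normal.Basic
import Mathlib.FieldTheory.IsAlgClosed.AlgebraicClosure

/-!
# Geometric points over a closed point are conjugate

* `exists_galAct_eq`: two points in an algebraic closure with the same image are Galois conjugate
* `exists_pt`: every point of a finite scheme over a field is the image of a geometric point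
-/

set_option autoImplicit false

universe u

open CategoryTheory CategoryTheory.Limits AlgebraicGeometry

namespace Groth.Agent.H63.GalOrbit

variable {k Ω : Type u} [Field k] [Field Ω] [Algebra k Ω] [IsAlgClosure k Ω]

theorem factor {X : Scheme.{u}} (a : Spec (CommRingCat.of Ω) ⟶ X) {x : X} (hx : a (IsLocalRing.closedPoint Ω) = x) :
    ∃ φ : X.residueField x ⟶ CommRingCat.of Ω, Spec.map φ ≫ X.fromSpecResidueField x = a := by
  subst hx
  exact ⟨_, Scheme.descResidueField_stalkClosedPointTo_fromSpecResidueField Ω X a⟩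

theorem exists_galAct_eq {X : Over (Spec (CommRingCat.of k))} (a b : SGA7.pt (K := k) Ω ⟶ X)
    (h : a.left (IsLocalRing.closedPoint Ω) = b.left (IsLocalRing.closedPoint Ω)) :
    ∃ τ : Ω ≃ₐ[k] Ω, SGA7.galAct τ b = a := by
  set x := b.left (IsLocalRing.closedPoint Ω)
  obtain ⟨φa, ha⟩ := factor a.left h
  obtain ⟨φb, hb⟩ := factor b.left (rfl : _ = x)
  obtain ⟨θ, hθ⟩ := Spec.map_surjective (X.left.fromSpecResidueField x ≫ X.hom)
  have hθa : θ ≫ φa = CommRingCat.ofHom (algebraMap k Ω) := Spec.map_injective (by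
    rw [Spec.map_comp, hθ, ← Category.assoc, ha]; exact Over.w a)
  have hθb : θ ≫ φb = CommRingCat.ofHom (algebraMap k Ω) := Spec.map_injective (by
    rw [Spec.map_comp, hθ, ← Category.assoc, hb]; exact Over.w b)
  letI : Algebra k (X.left.residueField x) := θ.hom.toAlgebra
  let fa : X.left.residueField x →ₐ[k] Ω :=
    { φa.hom with commutes' := fun c => ConcreteCategory.congr_hom hθa c }
  let fb : X.left.residueField x →ₐ[k] Ω :=
    { φb.hom with commutes' := fun c => ConcreteCategory.congr_hom hθb c }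
  let ψ : fb.fieldRange →ₐ[k] Ω := fa.comp (AlgEquiv.ofInjectiveField fb).symm.toAlgHom
  haveI : Normal k Ω := IsAlgClosure.normal k Ω
  haveI : Algebra.IsAlgebraic k Ω := IsAlgClosure.isAlgebraic
  let L : Ω →ₐ[k] Ω := ψ.liftNormal Ω
  let τ : Ω ≃ₐ[k] Ω := AlgEquiv.ofBijective L (Algebra.IsAlgebraic.algHom_bijective L)
  refine ⟨τ, Over.OverMorphism.ext ?_⟩
  show Spec.map (CommRingCat.ofHom (τ : Ω →+* Ω)) ≫ b.left = a.left
  rw [← ha, ← hb, ← Spec.map_comp_assoc]
  congr 2
  ext c
  show L (fb c) = fa c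
  have h1 : L (algebraMap fb.fieldRange Ω ((AlgEquiv.ofInjectiveField fb) c)) =
      ψ ((AlgEquiv.ofInjectiveField fb) c) := ψ.liftNormal_commutes Ω _
  refine h1.trans ?_
  show fa ((AlgEquiv.ofInjectiveField fb).symm ((AlgEquiv.ofInjectiveField fb) c)) = fa c
  rw [AlgEquiv.symm_apply_apply]

theorem exists_pt (X : Over (Spec (CommRingCat.of k))) [IsFinite X.hom] (x : X.left) (hx : IsClosed ({x} : Set X.left)) :
    ∃ a : SGA7.pt (K := k) Ω ⟶ X, a.left (IsLocalRing.closedPoint Ω) = x := by
  haveI : IsClosedImmersion (X.left.fromSpecResidueField x) := isClosed_singleton_iff_isClosedImmersion.1 hx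
  obtain ⟨θ, hθ⟩ := Spec.map_surjective (X.left.fromSpecResidueField x ≫ X.hom)
  haveI : IsFinite (Spec.map θ) := by rw [hθ]; infer_instance
  letI : Algebra k (X.left.residueField x) := θ.hom.toAlgebra
  haveI : Module.Finite k (X.left.residueField x) := (IsFinite.SpecMap_iff θ).1 ‹_›
  haveI : IsAlgClosed Ω := IsAlgClosure.isAlgClosed k
  let f : X.left.residueField x →ₐ[k] Ω := IsAlgClosed.lift
  refine ⟨Over.homMk (Spec.map (CommRingCat.ofHom f.toRingHom) ≫ X.left.fromSpecResidueField x) ?_, ?_⟩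
  · show (_ ≫ _) ≫ X.hom = Spec.map (CommRingCat.ofHom (algebraMap k Ω))
    rw [Category.assoc, ← hθ, ← Spec.map_comp]
    congr 1
    ext c
    exact f.commutes c
  · show (Spec.map (CommRingCat.ofHom f.toRingHom) ≫ X.left.fromSpecResidueField x) (IsLocalRing.closedPoint Ω) = x
    rw [Scheme.Hom.comp_apply]
    exact Scheme.fromSpecResidueField_apply x _

end Groth.Agent.H63.GalOrbit
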