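import Groth.Agent.H63.GalOrbit
import Groth.Agent.S3030
import Groth.Agent.H4.MulIso
import Groth.Agent.H4.NPowEtale
import Groth.Agent.H4.IsogenyFactor
import Groth.Agent.H4.KernelSquare
import Groth.Agent.H4.HomImage
import Groth.Agent.Lib.GrpdGen.Stabilizer
import Groth.Agent.Lib.GrpSch.SmoothReduced

/-!
# The quotient of an abelian variety by a Galois-stable finite group of torsion points

* `exists_etale_sub`: the subgroup scheme with those points
* `exists_quotient`: the quotient, dividing multiplication by the exponent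
-/

set_option autoImplicit false

universe u

open CategoryTheory CategoryTheory.Limits MonoidalCategory CartesianMonoidalCategory AlgebraicGeometry
open scoped MonObj GrpObj
open Groth.Agent.Lib

namespace Groth.Agent.H63.GalQuotient

variable {k : Type u} [Field k] (Ω : Type u) [Field Ω] [Algebra k Ω] [IsAlgClosure k Ω]

omit [IsAlgClosure k Ω] in
theorem apply_closedPoint {Y Z : Over (Spec (CommRingCat.of k))} (a : SGA7.pt (K := k) Ω ⟶ Y) (f : Y ⟶ Z) :
    f.left (a.left (IsLocalRing.closedPoint Ω)) = (a ≫ f).left (IsLocalRing.closedPoint Ω) := by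
  rw [Over.comp_left, Scheme.Hom.comp_apply]

variable {X : Over (Spec (CommRingCat.of k))} [GrpObj X] [IsProper X.hom] [GeometricallyIntegral X.hom]
  {n : ℕ} (hn : (n : k) ≠ 0) (K : Subgroup (SGA7.pt (K := k) Ω ⟶ X)) (hK : ∀ a ∈ K, a ^ n = 1)
  (hgal : ∀ (τ : Ω ≃ₐ[k] Ω), ∀ a ∈ K, SGA7.galAct τ a ∈ K)

include hn hK hgal in
theorem exists_etale_sub :
    ∃ (Z : Over (Spec (CommRingCat.of k))) (_ : GrpObj Z) (z : Z ⟶ X), IsMonHom z ∧ IsClosedImmersion z.left ∧
      IsFinite Z.hom ∧ z ≫ ((𝟙 X : X ⟶ X) ^ n) = 1 ∧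
      ∀ a : SGA7.pt (K := k) Ω ⟶ X, a ∈ K ↔ ∃ c, c ≫ z = a := by
  haveI := isCommMonObj_of_isProper_of_geometricallyIntegral X
  haveI : IsIntegral X.left := GeometricallyIntegral.isIntegral_of_subsingleton X.hom
  have hn0 : 0 < n := Nat.pos_of_ne_zero fun h => hn (by rw [h, Nat.cast_zero])
  let m : X ⟶ X := (𝟙 X) ^ n
  haveI : IsMonHom m := H4.NPowEtale.isMonHom_pow_id X n
  obtain ⟨hmf, -, -⟩ := H4.MulIso.nat X hn0
  haveI : IsFinite m.left := hmf
  haveI : Etale m.left := H4.NPowEtale.etale_pow hn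
  obtain ⟨N, gN, j, hj, hN, -⟩ := H4.IsogenyFactor.exists_kernel m
  haveI := hj
  haveI : IsFinite N.hom := H4.KernelSquare.hom_of m j hN (P := @IsFinite) inferInstance
  haveI : Etale N.hom := H4.KernelSquare.hom_of m j hN (P := @Etale) inferInstance
  haveI : IsClosedImmersion (η[X].left ≫ X.hom) := by
    rw [Over.w η[X]]; exact (inferInstance : IsClosedImmersion (𝟙 (Spec (CommRingCat.of k))))
  haveI : IsClosedImmersion η[X].left := IsClosedImmersion.of_comp η[X].left X.hom
  haveI : IsClosedImmersion j.left :=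
    MorphismProperty.of_isPullback (P := @IsClosedImmersion) (hN.map (Over.forget _)).flip ‹IsClosedImmersion η[X].left›
  haveI : Mono j := Over.mono_of_mono_left _
  haveI : Finite N.left := Set.finite_univ_iff.1 ((IsFinite.finite_preimage_singleton N.hom (IsLocalRing.closedPoint k)).subset
    fun z _ => Subsingleton.elim (α := PrimeSpectrum k) _ _)
  haveI : JacobsonSpace N.left := LocallyOfFiniteType.jacobsonSpace N.hom
  haveI : DiscreteTopology N.left := inferInstance
  have hjm : j ≫ m = 1 := H4.KernelSquare.comp_eq_one m j hN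
  have hlift : ∀ {T : Over (Spec (CommRingCat.of k))} (a : T ⟶ X), a ^ n = 1 → ∃ c : T ⟶ N, c ≫ j = a := fun {T} a ha =>
    ⟨hN.lift a (toUnit T) (by rw [MonObj.comp_pow, Category.comp_id, ha, Hom.one_def]), hN.lift_fst _ _ _⟩
  let pt := IsLocalRing.closedPoint Ω
  let Sg : Set N.left := {p | ∃ c : SGA7.pt (K := k) Ω ⟶ N, c ≫ j ∈ K ∧ c.left pt = p}
  have hmem : ∀ c : SGA7.pt (K := k) Ω ⟶ N, c.left pt ∈ Sg ↔ c ≫ j ∈ K := by
    refine fun c => ⟨fun ⟨c', hc', e⟩ => ?_, fun h => ⟨c, h, rfl⟩⟩
    obtain ⟨τ, hτ⟩ := GalOrbit.exists_galAct_eq c c' e.symm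
    rw [← hτ]
    show (SGA7.specAut τ ≫ c') ≫ j ∈ K
    rw [Category.assoc]
    exact hgal τ _ hc'
  let U : N.left.Opens := ⟨Sg, isOpen_discrete _⟩
  let Z : Over (Spec (CommRingCat.of k)) := Over.mk (U.ι ≫ N.hom)
  let zi : Z ⟶ N := Over.homMk U.ι rfl
  haveI : IsOpenImmersion zi.left := inferInstanceAs (IsOpenImmersion U.ι)
  haveI : Mono zi := Over.mono_of_mono_left _
  haveI : IsClosedImmersion U.ι := .of_isPreimmersion _ (by rw [U.range_ι]; exact isClosed_discrete _)
  haveI : IsFinite Z.hom := inferInstanceAs (IsFinite (U.ι ≫ N.hom))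
  have hrange : ∀ w : Z.left, zi.left w ∈ Sg := fun w => w.2
  have hfac : ∀ {T : Over (Spec (CommRingCat.of k))} (f : T ⟶ N), (∀ t, f.left t ∈ Sg) →
      ∃ f' : T ⟶ Z, f' ≫ zi = f := by
    intro T f hf
    let f' := IsOpenImmersion.lift U.ι f.left (by
      rintro _ ⟨t, rfl⟩
      rw [U.range_ι]; exact hf t)
    refine ⟨Over.homMk f' ?_, Over.OverMorphism.ext ?_⟩
    · show f' ≫ U.ι ≫ N.hom = T.hom
      rw [IsOpenImmersion.lift_fac_assoc, Over.w f]
    · exact IsOpenImmersion.lift_fac _ _ _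
  obtain ⟨gZ, hzi⟩ := H4.HomImage.exists_grpObj zi (by
      refine hfac η[N] fun t => ?_
      have h := (hmem 1).2 (by rw [MonObj.one_comp]; exact K.one_mem)
      rw [show (1 : SGA7.pt (K := k) Ω ⟶ N).left pt = η[N].left t from by
        rw [Hom.one_def, Over.comp_left, Scheme.Hom.comp_apply]
        exact congrArg η[N].left (Subsingleton.elim (α := PrimeSpectrum k) _ _)] at h
      exact h) (by
      refine hfac _ fun w => ?_
      haveI : IsFinite (Z ⊗ Z).hom := inferInstanceAs (IsFinite (pullback.fst Z.hom Z.hom ≫ Z.hom))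
      haveI : Finite (Z ⊗ Z).left := Set.finite_univ_iff.1
        ((IsFinite.finite_preimage_singleton (Z ⊗ Z).hom (IsLocalRing.closedPoint k)).subset
          fun z _ => Subsingleton.elim (α := PrimeSpectrum k) _ _)
      haveI : JacobsonSpace (Z ⊗ Z).left := LocallyOfFiniteType.jacobsonSpace (Z ⊗ Z).hom
      haveI : DiscreteTopology (Z ⊗ Z).left := inferInstance
      obtain ⟨P, rfl⟩ := GalOrbit.exists_pt (Ω := Ω) (Z ⊗ Z) w (isClosed_discrete _)
      rw [apply_closedPoint Ω P]
      refine (hmem _).2 ?_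
      rw [MonObj.comp_mul, MonObj.mul_comp]
      refine K.mul_mem ((hmem _).1 ?_) ((hmem _).1 ?_) <;>
      · rw [← Category.assoc, Over.comp_left, Scheme.Hom.comp_apply]
        exact hrange _) (by
      refine hfac _ fun w => ?_
      haveI : Finite Z.left := Finite.of_injective U.ι U.ι.isOpenEmbedding.injective
      haveI : JacobsonSpace Z.left := LocallyOfFiniteType.jacobsonSpace Z.hom
      haveI : DiscreteTopology Z.left := inferInstance
      obtain ⟨P, rfl⟩ := GalOrbit.exists_pt (Ω := Ω) Z w (isClosed_discrete _)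
      rw [apply_closedPoint Ω P]
      refine (hmem _).2 ?_
      rw [GrpObj.comp_inv, GrpObj.inv_comp]
      refine K.inv_mem ((hmem _).1 ?_)
      rw [Over.comp_left, Scheme.Hom.comp_apply]
      exact hrange _)
  letI := gZ
  haveI := hzi
  refine ⟨Z, gZ, zi ≫ j, inferInstance, by rw [Over.comp_left]; exact inferInstanceAs (IsClosedImmersion (U.ι ≫ j.left)),
    inferInstance, by rw [Category.assoc, hjm, MonObj.comp_one], fun a => ⟨fun ha => ?_, ?_⟩⟩
  · obtain ⟨c, rfl⟩ := hlift a (hK a ha)
    obtain ⟨c', hc'⟩ := hfac c fun t => by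
      rw [show t = pt from Subsingleton.elim (α := PrimeSpectrum Ω) _ _]
      exact (hmem c).2 ha
    exact ⟨c', by rw [← Category.assoc, hc']⟩
  · rintro ⟨c, rfl⟩
    rw [← Category.assoc]
    refine (hmem _).1 ?_
    rw [Over.comp_left, Scheme.Hom.comp_apply]
    exact hrange _

include hn hK hgal in
theorem exists_quotient :
    ∃ (Y : Over (Spec (CommRingCat.of k))) (_ : GrpObj Y) (q : X ⟶ Y) (v : Y ⟶ X),
      IsProper Y.hom ∧ GeometricallyIntegral Y.hom ∧ IsMonHom q ∧ IsFinite q.left ∧ Surjective q.left ∧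
      IsMonHom v ∧ q ≫ v = (𝟙 X) ^ n ∧ v ≫ q = (𝟙 Y) ^ n ∧
      ∀ a : SGA7.pt (K := k) Ω ⟶ X, a ≫ q = 1 ↔ a ∈ K := by
  haveI := isCommMonObj_of_isProper_of_geometricallyIntegral X
  haveI : IsIntegral X.left := GeometricallyIntegral.isIntegral_of_subsingleton X.hom
  obtain ⟨Z, gZ, z, hz, hzc, hZf, hzm, hpts⟩ := exists_etale_sub Ω hn K hK hgal
  haveI := hz; haveI := hzc; haveI := hZf
  haveI : Mono z := Over.mono_of_mono_left _
  haveI : GeometricallyReduced X.hom := inferInstance
  haveI : Smooth X.hom := H4.HomImage.smooth_of_geometricallyReduced X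
  obtain ⟨Y, gY, q, hq, hqf, hqs, hqp, hker, hYs, -, hYsm⟩ :=
    S3030.result k Z X z (fun T g c => ⟨c, by rw [mul_comm g, _root_.mul_inv_cancel_right]⟩)
  haveI := hq; haveI := hqf; haveI := hqs; haveI := hYs
  haveI : Smooth Y.hom := hYsm inferInstance
  haveI : IsProper Y.hom :=
    { toIsSeparated := hYs
      toUniversallyClosed := by
        haveI : UniversallyClosed (q.left ≫ Y.hom) := by rw [Over.w q]; infer_instance
        exact UniversallyClosed.of_comp_surjective q.left Y.hom
      toLocallyOfFiniteType := inferInstance }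
  haveI : ConnectedSpace Y.left := q.left.surjective.connectedSpace q.left.continuous
  haveI : GeometricallyReduced Y.hom := Lib.GrpSch.geometricallyReduced_of_smooth_field Y.hom
  haveI : GeometricallyIntegral Y.hom := H4.HomImage.geometricallyIntegral_of_connected Y
  haveI := isCommMonObj_of_isProper_of_geometricallyIntegral Y
  haveI : IsFinite q.left := by
    haveI : LocallyQuasiFinite Z.hom := inferInstance
    haveI : LocallyQuasiFinite (fst X Z).left :=
      GrpSch.fst_left_of (P := @LocallyQuasiFinite) X (show LocallyQuasiFinite Z.hom from inferInstance)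
    haveI : IsProper (q.left ≫ Y.hom) := by rw [Over.w]; infer_instance
    haveI : IsProper q.left := IsProper.of_comp q.left Y.hom
    haveI := GrpdGen.locallyQuasiFinite_of_kernelPair (H4.KernelSquare.isPullback_left q z hker).flip
    exact IsFinite.of_isProper_of_locallyQuasiFinite _
  haveI := H4.NPowEtale.isMonHom_pow_id X n
  obtain ⟨v, hv, hqv⟩ := H4.IsogenyFactor.exists_factor q z hker ((𝟙 X : X ⟶ X) ^ n) hzm
  haveI : Epi q.left := Flat.epi_of_flat_of_surjective q.left
  haveI : Epi q := Over.epi_of_epi_left q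
  refine ⟨Y, gY, q, v, inferInstance, inferInstance, hq, inferInstance, inferInstance, hv, hqv, ?_, fun a => ?_⟩
  · rw [← cancel_epi q, ← Category.assoc, hqv, MonObj.pow_comp, MonObj.comp_pow, Category.id_comp, Category.comp_id]
  · rw [hpts]
    constructor
    · intro h
      exact ⟨hker.lift a (toUnit _) (by rw [h, Hom.one_def]), hker.lift_fst _ _ _⟩
    · rintro ⟨c, rfl⟩
      rw [Category.assoc, H4.KernelSquare.comp_eq_one q z hker, MonObj.comp_one]

end Groth.Agent.H63.GalQuotient
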