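import Groth.Agent.H63.GrpConnected
import Groth.Agent.H80.DescentGen
import Mathlib.RingTheory.Artinian.Ring

/-!
# The neutral component of a group scheme over an artinian local ring
-/

set_option autoImplicit false
universe u

open AlgebraicGeometry CategoryTheory CategoryTheory.Limits MonoidalCategory
open CartesianMonoidalCategory MonObj GrpObj
open Groth.Agent.H63.GrpIrred Groth.Agent.H63.GrpComponent Groth.Agent.H63.GrpConnected

namespace Groth.Agent.H63.GrpArt

variable {A : Type u} [CommRing A] [IsArtinianRing A] [IsLocalRing A]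

theorem subsingleton_spec : Subsingleton (PrimeSpectrum A) :=
  ⟨fun p q ↦ PrimeSpectrum.ext ((IsLocalRing.eq_maximalIdeal inferInstance).trans
    (IsLocalRing.eq_maximalIdeal inferInstance).symm)⟩

variable (A)

/-- the closed point as a scheme -/
noncomputable def res : Spec (CommRingCat.of (IsLocalRing.ResidueField A)) ⟶ Spec (CommRingCat.of A) :=
  Spec.map (CommRingCat.ofHom (IsLocalRing.residue A))

instance : IsClosedImmersion (res A) :=
  IsClosedImmersion.spec_of_surjective _ IsLocalRing.residue_surjective

instance : Surjective (res A) :=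
  ⟨fun x ↦ ⟨IsLocalRing.closedPoint _, @Subsingleton.elim (PrimeSpectrum A) subsingleton_spec _ _⟩⟩

theorem exists_res_factor {L : Type u} [Field L]
    (s : Spec (CommRingCat.of L) ⟶ Spec (CommRingCat.of A)) : ∃ s', s' ≫ res A = s := by
  obtain ⟨φ, rfl⟩ := Spec.map_surjective s
  have hker : IsLocalRing.maximalIdeal A ≤ RingHom.ker φ.hom :=
    haveI : (RingHom.ker (φ.hom : A →+* L)).IsPrime := RingHom.ker_isPrime _
    (IsLocalRing.eq_maximalIdeal (I := RingHom.ker (φ.hom : A →+* L))
      (IsArtinianRing.isMaximal_of_isPrime _)).ge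
  refine ⟨Spec.map (CommRingCat.ofHom (Ideal.Quotient.lift _ φ.hom fun a ha ↦ hker ha)), ?_⟩
  rw [res, ← Spec.map_comp]
  congr 1

variable {A} (G : Over (Spec (CommRingCat.of A))) [GrpObj G]
  (pt : ↥(𝟙_ (Over (Spec (CommRingCat.of A)))).left)

theorem isPreconnected_preimage {L : Type u} [Field L]
    (s : Spec (CommRingCat.of L) ⟶ Spec (CommRingCat.of A)) :
    _root_.IsPreconnected (pullback.fst G.hom s ⁻¹' connectedComponent (η[G].left pt)) := by
  obtain ⟨s', rfl⟩ := exists_res_factor A s
  let Gk : Over (Spec (CommRingCat.of (IsLocalRing.ResidueField A))) := (Over.pullback (res A)).obj G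
  let : GrpObj Gk := ((Over.pullback (res A)).mapGrp.obj ⟨G⟩).grp
  let p : Gk.left ⟶ G.left := pullback.fst G.hom (res A)
  have : IsClosedImmersion p := MorphismProperty.pullback_fst (P := @IsClosedImmersion) _ _ inferInstance
  have : Surjective p := MorphismProperty.pullback_fst (P := @Surjective) _ _ inferInstance
  have hp : IsHomeomorph p := isHomeomorph_iff_isEmbedding_surjective.2
    ⟨p.isClosedEmbedding.isEmbedding, p.surjective⟩
  have he : p (unitPt Gk) = η[G].left pt := by
    have h1 : η[Gk].left ≫ p =
        ((Functor.LaxMonoidal.ε (Over.pullback (res A))).left ≫ pullback.fst _ _) ≫ η[G].left := by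
      show (_ ≫ (Over.pullback (res A)).map η[G]).left ≫ _ = _
      rw [Over.comp_left, Category.assoc, Category.assoc]
      exact congrArg _ (pullback.lift_fst _ _ _)
    show (η[Gk].left ≫ p) _ = _
    rw [h1, Scheme.Hom.comp_apply]
    exact congrArg η[G].left (@Subsingleton.elim (PrimeSpectrum A) subsingleton_spec _ _)
  have hC : p ⁻¹' connectedComponent (η[G].left pt) = comp0 Gk := by
    rw [← connectedComponent_unit Gk, ← he]
    ext x
    refine ⟨fun hx ↦ ?_, fun hx ↦ p.continuous.image_connectedComponent_subset _ ⟨x, hx, rfl⟩⟩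
    have := hp.homeomorph.symm.continuous.image_connectedComponent_subset _ ⟨p x, hx, rfl⟩
    rwa [show hp.homeomorph.symm (p x) = x from hp.homeomorph.symm_apply_apply x,
      show hp.homeomorph.symm (p (unitPt Gk)) = unitPt Gk from hp.homeomorph.symm_apply_apply _] at this
  have h3 := (isIrreducible_preimage Gk s').isConnected.isPreconnected
  rw [← hC] at h3
  let e := pullbackLeftPullbackSndIso G.hom (res A) s'
  have he' : e.inv ≫ pullback.fst _ s' ≫ p = pullback.fst G.hom (s' ≫ res A) :=
    pullbackLeftPullbackSndIso_inv_fst ..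
  rw [← he', Scheme.Hom.comp_base, TopCat.coe_comp, Set.preimage_comp, Scheme.Hom.comp_base,
    TopCat.coe_comp, Set.preimage_comp]
  show _root_.IsPreconnected (e.inv.homeomorph ⁻¹' _)
  rw [← Homeomorph.image_symm]
  exact h3.image _ (Homeomorph.continuous _).continuousOn

theorem one_apply {T : Over (Spec (CommRingCat.of A))} (t : T.left) :
    (1 : T ⟶ G).left t = η[G].left pt := by
  rw [Hom.one_def, Over.comp_left, Scheme.Hom.comp_apply]
  exact congrArg η[G].left (@Subsingleton.elim (PrimeSpectrum A) subsingleton_spec _ _)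

/-- two-sided translation keeps the neutral component if it keeps the unit in it -/
theorem mul_mul_mem {T : Over (Spec (CommRingCat.of A))} (g₁ m g₂ : T ⟶ G) (t : T.left)
    (hm : m.left t ∈ connectedComponent (η[G].left pt))
    (h : (g₁ * g₂).left t ∈ connectedComponent (η[G].left pt)) :
    (g₁ * m * g₂).left t ∈ connectedComponent (η[G].left pt) := by
  let X : Over (Spec (CommRingCat.of A)) := Over.mk (T.left.fromSpecResidueField t ≫ T.hom)
  let τ : X ⟶ T := Over.homMk (T.left.fromSpecResidueField t) rfl
  let x : X.left := IsLocalRing.closedPoint (T.left.residueField t)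
  have hτ : τ.left x = t := T.left.fromSpecResidueField_apply t _
  let φ : G ⊗ X ⟶ G := (snd G X ≫ τ ≫ g₁) * fst G X * (snd G X ≫ τ ≫ g₂)
  let P : Set ↑(G ⊗ X).left := (fst G X).left ⁻¹' connectedComponent (η[G].left pt)
  have hP : _root_.IsPreconnected P := isPreconnected_preimage G pt (L := T.left.residueField t) _
  have key : ∀ a : X ⟶ G, φ.left ((lift a (𝟙 X)).left x) = ((τ ≫ g₁) * a * (τ ≫ g₂)).left x := by
    intro a
    rw [← Scheme.Hom.comp_apply, ← Over.comp_left]
    congr 2
    simp [φ, MonObj.comp_mul]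
  have mem : ∀ a : X ⟶ G, a.left x ∈ connectedComponent (η[G].left pt) →
      (lift a (𝟙 X)).left x ∈ P := by
    intro a ha
    show (fst G X).left ((lift a (𝟙 X)).left x) ∈ connectedComponent (η[G].left pt)
    rwa [← Scheme.Hom.comp_apply, ← Over.comp_left, lift_fst]
  have h1 : φ.left ((lift (1 : X ⟶ G) (𝟙 X)).left x) ∈ connectedComponent (η[G].left pt) := by
    rw [key 1, _root_.mul_one, ← MonObj.comp_mul, Over.comp_left, Scheme.Hom.comp_apply, hτ]
    exact h
  have h2 := (hP.image φ.left φ.left.continuous.continuousOn).subset_connectedComponent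
    (Set.mem_image_of_mem φ.left (mem 1 (by rw [one_apply G pt x]; exact mem_connectedComponent)))
  have h3 := h2 (Set.mem_image_of_mem _ (mem (τ ≫ m) (by rw [Over.comp_left, Scheme.Hom.comp_apply, hτ]; exact hm)))
  rw [← connectedComponent_eq h1, key (τ ≫ m), ← MonObj.comp_mul, ← MonObj.comp_mul,
    Over.comp_left, Scheme.Hom.comp_apply, hτ] at h3
  exact h3

omit [IsArtinianRing A] [IsLocalRing A] in
theorem inv_mem {T : Over (Spec (CommRingCat.of A))} (h : T ⟶ G) (t : T.left)
    (hh : h.left t ∈ connectedComponent (η[G].left pt)) :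
    (h⁻¹).left t ∈ connectedComponent (η[G].left pt) := by
  rw [Hom.inv_def, Over.comp_left, Scheme.Hom.comp_apply]
  have h1 := ι[G].left.continuous.image_connectedComponent_subset (η[G].left pt) ⟨_, hh, rfl⟩
  have h2 : ι[G].left (η[G].left pt) = η[G].left pt := by
    rw [← Scheme.Hom.comp_apply, ← Over.comp_left]
    congr 2
    rw [← Hom.inv_def]
    have : η[G] = (1 : 𝟙_ _ ⟶ G) := by
      rw [Hom.one_def, toUnit_unique (toUnit _) (𝟙 _), Category.id_comp]
    rw [this, _root_.inv_one]
  rwa [h2] at h1

theorem mul_inv_mem {T : Over (Spec (CommRingCat.of A))} (g h : T ⟶ G) (t : T.left)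
    (hg : g.left t ∈ connectedComponent (η[G].left pt))
    (hh : h.left t ∈ connectedComponent (η[G].left pt)) :
    (g * h⁻¹).left t ∈ connectedComponent (η[G].left pt) := by
  have := mul_mul_mem G pt 1 g h⁻¹ t hg (by rw [_root_.one_mul]; exact inv_mem G pt h t hh)
  rwa [_root_.one_mul] at this

theorem conj_mem {T : Over (Spec (CommRingCat.of A))} (g n : T ⟶ G) (t : T.left)
    (hn : n.left t ∈ connectedComponent (η[G].left pt)) :
    (g * n * g⁻¹).left t ∈ connectedComponent (η[G].left pt) :=
  mul_mul_mem G pt g n g⁻¹ t hn (by rw [_root_.mul_inv_cancel, one_apply G pt]; exact mem_connectedComponent)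

omit [IsLocalRing A] in
theorem isOpen_component [LocallyOfFiniteType G.hom] :
    IsOpen (connectedComponent (η[G].left pt)) := by
  have : IsLocallyNoetherian G.left := LocallyOfFiniteType.isLocallyNoetherian G.hom
  exact Groth.Agent.H80.DescentGen.isOpen_component _ _

end Groth.Agent.H63.GrpArt
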