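import Groth.Agent.H63.GrpIrred
import Mathlib.AlgebraicGeometry.Morphisms.Integral
import Mathlib.Topology.Spectral.ConstructibleTopology

set_option autoImplicit false
universe u

open AlgebraicGeometry CategoryTheory CategoryTheory.Limits MonoidalCategory
open CartesianMonoidalCategory MonObj GrpObj
open Groth.Agent.H63.PullbackClosure Groth.Agent.H63.GrpIrred

namespace Groth.Agent.H63.GrpComponent

variable {K : Type u} [Field K] (G : Over (Spec (CommRingCat.of K))) [GrpObj G]

/-- the irreducible component of the identity -/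
noncomputable abbrev comp0 : Set G.left := irreducibleComponent (unitPt G)

theorem unitPt_mem : unitPt G ∈ comp0 G := mem_irreducibleComponent

theorem specializes_unit_mem {z : G.left} (h : z ⤳ unitPt G) : z ∈ comp0 G := by
  rw [comp0, mem_component_iff]; exact genPt_eq_of_specializes G h

theorem isIrreducible_preimage_of_isIntegralHom {Ω : Type u} [Field Ω]
    (g : Spec (CommRingCat.of Ω) ⟶ Spec (CommRingCat.of K)) [IsIntegralHom g] :
    IsIrreducible (pullback.fst G.hom g ⁻¹' comp0 G) := by
  let G' : Over (Spec (CommRingCat.of Ω)) := (Over.pullback g).obj G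
  let : GrpObj G' := ((Over.pullback g).mapGrp.obj ⟨G⟩).grp
  let pr : G'.left ⟶ G.left := pullback.fst G.hom g
  have : Flat pr := inferInstanceAs (Flat (pullback.fst G.hom g))
  have : IsIntegralHom pr := MorphismProperty.pullback_fst (P := @IsIntegralHom) _ _ ‹_›
  -- single point over the identity
  let e' : Spec (CommRingCat.of Ω) ⟶ G'.left :=
    pullback.lift (g ≫ η[G].left) (𝟙 _) ((Category.assoc _ _ _).trans
      ((congrArg (g ≫ ·) (Over.w η[G])).trans ((Category.comp_id g).trans (Category.id_comp g).symm)))
  let pe : G'.left := e' (IsLocalRing.closedPoint Ω)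
  have hfib : ∀ q : G'.left, pr q = unitPt G → q = pe := by
    intro q hq
    let m : pullback (η[G].left ≫ G.hom) g ⟶ pullback G.hom g :=
      pullback.map _ g G.hom g η[G].left (𝟙 _) (𝟙 _) (Category.comp_id _) (by simp)
    have : q ∈ Set.range m := by
      show q ∈ Set.range (pullback.map _ g G.hom g η[G].left (𝟙 _) (𝟙 _) _ _)
      rw [Scheme.Pullback.range_map]
      exact ⟨⟨_, hq.symm⟩, pullback.snd G.hom g q, rfl⟩
    obtain ⟨z, rfl⟩ := this
    have : IsIso (η[G].left ≫ G.hom) :=
      (Over.w η[G]).symm ▸ inferInstanceAs (IsIso (𝟙 _))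
    have hiso : IsIso (pullback.snd (η[G].left ≫ G.hom) g) := inferInstance
    have hsub : Subsingleton ↑(pullback (η[G].left ≫ G.hom) g) := by
      have := (pullback.snd (η[G].left ≫ G.hom) g).homeomorph
      exact ((pullback.snd (η[G].left ≫ G.hom) g).homeomorph.injective).subsingleton
    let w : Spec (CommRingCat.of Ω) ⟶ pullback (η[G].left ≫ G.hom) g :=
      pullback.lift g (𝟙 _) (by
        rw [Over.w η[G]]; exact (Category.comp_id g).trans (Category.id_comp g).symm)
    have hw : w ≫ m = e' := by
      apply pullback.hom_ext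
      · simp only [w, m, e', pullback.map, Category.assoc]
        rw [pullback.lift_fst, pullback.lift_fst, pullback.lift_fst_assoc]
      · simp only [w, m, e', pullback.map, Category.assoc, Category.comp_id]
        rw [pullback.lift_snd, pullback.lift_snd, pullback.lift_snd]
    show m z = e' (IsLocalRing.closedPoint Ω)
    rw [← hw, Scheme.Hom.comp_apply, Subsingleton.elim z]
  set c := genPt G' pe
  have key : ∀ w : G'.left, pr w ∈ comp0 G → genPt G' w = c := by
    intro w hw
    set c' := genPt G' w with hc'
    have h1 : pr c' ⤳ pr w := (genPt_specializes G' w).map pr.continuous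
    have h2 : genPt G (unitPt G) ⤳ pr c' := by
      rw [← (mem_component_iff G).1 hw]; exact genPt_of_specializes G h1
    obtain ⟨c'', hc1, hc2⟩ := Flat.generalizingMap pr h2
    have h3 : pr c' = genPt G (unitPt G) := by
      exact (congrArg pr (genPt_max G' hc1).symm).trans hc2
    have h4 : unitPt G ∈ pr '' closure {c'} := by
      have := pr.isClosedMap _ (isClosed_closure (s := {c'}))
      refine (IsClosed.closure_subset_iff this).2 ?_ (show unitPt G ∈ closure {genPt G (unitPt G)} from
        (genPt_specializes G _).mem_closure)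
      exact Set.singleton_subset_iff.2 ⟨c', subset_closure rfl, h3⟩
    obtain ⟨q, hq, hqe⟩ := h4
    have h5 := genPt_of_specializes G' (x := pe) ((hfib q hqe) ▸ specializes_iff_mem_closure.2 hq)
    exact (genPt_max G' h5).symm
  have hmem : pr c ∈ comp0 G := by
    refine specializes_unit_mem G ?_
    have hpe : pr pe = unitPt G := by
      show (e' ≫ pullback.fst G.hom g) _ = _
      rw [pullback.lift_fst, Scheme.Hom.comp_apply]
      exact congrArg η[G].left (Subsingleton.elim (α := PrimeSpectrum K) _ _)
    exact hpe ▸ (genPt_specializes G' pe).map pr.continuous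
  have heq : pr ⁻¹' comp0 G = closure {c} := by
    refine Set.Subset.antisymm (fun w hw => ?_) ?_
    · rw [← key w hw]; exact (genPt_specializes G' w).mem_closure
    · exact closure_minimal (Set.singleton_subset_iff.2 hmem)
        (isClosed_irreducibleComponent.preimage pr.continuous)
  show IsIrreducible (pr ⁻¹' comp0 G)
  rw [heq]
  exact isIrreducible_singleton.closure

/-- the component of the identity is geometrically irreducible -/
theorem isIrreducible_preimage {L : Type u} [Field L]
    (g : Spec (CommRingCat.of L) ⟶ Spec (CommRingCat.of K)) :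
    IsIrreducible (pullback.fst G.hom g ⁻¹' comp0 G) := by
  obtain ⟨φ, rfl⟩ := Spec.map_surjective g
  let : Algebra K L := φ.hom.toAlgebra
  let Ω := AlgebraicClosure L
  let KB := AlgebraicClosure K
  let ι' : KB →ₐ[K] Ω := IsAlgClosed.lift
  let g0 : Spec (CommRingCat.of KB) ⟶ Spec (CommRingCat.of K) :=
    Spec.map (CommRingCat.ofHom (algebraMap K KB))
  have : IsIntegralHom g0 := IsIntegralHom.SpecMap_iff.2 (Algebra.IsIntegral.isIntegral (R := K) (A := KB))
  have h0 := isIrreducible_preimage_of_isIntegralHom G g0
  let v : Spec (CommRingCat.of Ω) ⟶ Spec (CommRingCat.of KB) :=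
    Spec.map (CommRingCat.ofHom ι'.toRingHom)
  let h : Spec (CommRingCat.of Ω) ⟶ Spec (CommRingCat.of L) :=
    Spec.map (CommRingCat.ofHom (algebraMap L Ω))
  have hvh : v ≫ g0 = h ≫ Spec.map φ := by
    simp only [v, g0, h, ← Spec.map_comp]
    congr 1
    ext x
    show ι' (algebraMap K KB x) = algebraMap L Ω (φ.hom x)
    rw [AlgHom.commutes, IsScalarTower.algebraMap_apply K L Ω]
    rfl
  have : GeometricallyIrreducible v := geometricallyIrreducible_of_isSepClosed Ω v
  let p : pullback G.hom (v ≫ g0) ⟶ pullback G.hom g0 :=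
    (pullbackLeftPullbackSndIso G.hom g0 v).inv ≫ pullback.fst _ v
  have hp : p ≫ pullback.fst G.hom g0 = pullback.fst G.hom (v ≫ g0) := by simp [p]
  have hΩ : IsIrreducible (pullback.fst G.hom (v ≫ g0) ⁻¹' comp0 G) := by
    have h1 := (pullback.fst (pullback.snd G.hom g0) v).isIrreducible_preimage
      (pullback.fst (pullback.snd G.hom g0) v).isOpenMap h0
    rw [← hp, Scheme.Hom.comp_base, TopCat.coe_comp, Set.preimage_comp]
    have h2 := (pullbackLeftPullbackSndIso G.hom g0 v).inv.homeomorph
    show IsIrreducible (p ⁻¹' _)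
    have h3 : p ⁻¹' (pullback.fst G.hom g0 ⁻¹' comp0 G) =
        (pullbackLeftPullbackSndIso G.hom g0 v).inv.homeomorph ⁻¹'
          (pullback.fst (pullback.snd G.hom g0) v ⁻¹' (pullback.fst G.hom g0 ⁻¹' comp0 G)) := rfl
    rw [h3, ← Homeomorph.image_symm]
    exact h1.image _ (Homeomorph.continuous _).continuousOn
  let m : pullback G.hom (v ≫ g0) ⟶ pullback G.hom (Spec.map φ) :=
    pullback.map _ _ _ _ (𝟙 _) h (𝟙 _) (by simp) (by simp [hvh])
  have hm : m ≫ pullback.fst G.hom (Spec.map φ) = pullback.fst G.hom (v ≫ g0) := by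
    exact (pullback.lift_fst _ _ _).trans (Category.comp_id _)
  have hsurj : Function.Surjective m := by
    intro q
    have : q ∈ Set.range (pullback.map G.hom (v ≫ g0) G.hom (Spec.map φ) (𝟙 _) h (𝟙 _)
        (by simp) (by simp [hvh])) := by
      rw [Scheme.Pullback.range_map]
      refine ⟨⟨pullback.fst G.hom (Spec.map φ) q, rfl⟩, ?_⟩
      exact ⟨IsLocalRing.closedPoint Ω, Subsingleton.elim (α := PrimeSpectrum L) _ _⟩
    exact this
  have h5 := hΩ.image m m.continuous.continuousOn
  rwa [← hm, Scheme.Hom.comp_base, TopCat.coe_comp, Set.preimage_comp,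
    Set.image_preimage_eq _ hsurj] at h5

theorem geometricallyIrreducible_genPt :
    GeometricallyIrreducible (G.left.fromSpecResidueField (genPt G (unitPt G)) ≫ G.hom) := by
  refine ⟨geometrically_iff_of_isClosedUnderIsomorphisms.mpr fun L _ g => ?_⟩
  set η' := genPt G (unitPt G)
  set r := G.left.fromSpecResidueField η'
  show IrreducibleSpace ↑(pullback (r ≫ G.hom) g)
  let m : pullback (r ≫ G.hom) g ⟶ pullback G.hom g :=
    pullback.map _ g G.hom g r (𝟙 _) (𝟙 _) (by simp) (by simp)
  have hr : Set.range m = pullback.fst G.hom g ⁻¹' {η'} := by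
    show Set.range (pullback.map _ g G.hom g r (𝟙 _) (𝟙 _) _ _) = _
    rw [Scheme.Pullback.range_map]
    simp [r, Scheme.range_fromSpecResidueField]
  have hemb : Topology.IsEmbedding m := by
    have : IsPreimmersion m := by
      refine MorphismProperty.of_isPullback (P := @IsPreimmersion)
        (f' := pullback.fst (r ≫ G.hom) g) (f := pullback.fst G.hom g) (g := r) ?_ inferInstance
      have h1 : IsPullback (m ≫ pullback.snd G.hom g) (pullback.fst (r ≫ G.hom) g) g (r ≫ G.hom) := by
        rw [show m ≫ pullback.snd G.hom g = pullback.snd (r ≫ G.hom) g from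
          (pullback.lift_snd _ _ _).trans (Category.comp_id _)]
        exact (IsPullback.of_hasPullback (r ≫ G.hom) g).flip
      exact (IsPullback.of_right h1 (pullback.lift_fst _ _ _) (IsPullback.of_hasPullback G.hom g).flip).flip
    exact m.isEmbedding
  have hirr := isIrreducible_preimage G g
  set c := hirr.genericPoint
  have hc : IsGenericPoint c (pullback.fst G.hom g ⁻¹' comp0 G) :=
    hirr.isGenericPoint_genericPoint (isClosed_irreducibleComponent.preimage (Scheme.Hom.continuous _))
  obtain ⟨w, hw, -⟩ := Scheme.Pullback.exists_preimage_pullback (f := G.hom) (g := g) η'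
    (IsLocalRing.closedPoint L) (Subsingleton.elim (α := PrimeSpectrum K) _ _)
  have hcη : pullback.fst G.hom g c = η' := by
    have h1 : c ⤳ w := hc.specializes (by
      rw [Set.mem_preimage, hw]; exact specializes_unit_mem G (genPt_specializes G _))
    exact genPt_max G (hw ▸ (h1.map (Scheme.Hom.continuous (pullback.fst G.hom g))) : pullback.fst G.hom g c ⤳ η')
  obtain ⟨z, hz⟩ : c ∈ Set.range m := by rw [hr]; exact hcη
  have hgen : closure ({z} : Set ↑(pullback (r ≫ G.hom) g)) = Set.univ := by
    refine Set.eq_univ_of_forall fun y => ?_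
    rw [hemb.closure_eq_preimage_closure_image, Set.mem_preimage, Set.image_singleton, hz, hc.def]
    have : m y ∈ pullback.fst G.hom g ⁻¹' {η'} := hr ▸ ⟨y, rfl⟩
    rw [Set.mem_preimage, show pullback.fst G.hom g (m y) = η' from this]
    exact specializes_unit_mem G (genPt_specializes G _)
  rw [irreducibleSpace_def, Set.top_eq_univ, ← hgen]
  exact isIrreducible_singleton.closure

end Groth.Agent.H63.GrpComponent
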