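import Groth.Agent.H63.GrpConnected

set_option autoImplicit false
universe u

open AlgebraicGeometry CategoryTheory CategoryTheory.Limits MonoidalCategory
open CartesianMonoidalCategory MonObj GrpObj
open Groth.Agent.H63.GrpIrred Groth.Agent.H63.GrpComponent Groth.Agent.H63.GrpConnected

namespace Groth.Agent.H63.GrpFib

variable {K : Type u} [Field K] (G : Over (Spec (CommRingCat.of K)))

/-- the endomorphism of the fibre with given moving point -/
noncomputable def endo (y : G.left) (a : Fib G y ⟶ G) : Fib G y ⟶ Fib G y :=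
  Over.homMk (pullback.lift a.left (pullback.snd G.hom (G.left.fromSpecResidueField y ≫ G.hom))
      ((Over.w a).trans pullback.condition))
    (by exact (Category.assoc _ _ _).symm.trans ((congrArg (· ≫ G.hom) (pullback.lift_fst _ _ _)).trans (Over.w a)))

theorem endo_fa (y : G.left) (a : Fib G y ⟶ G) : endo G y a ≫ fa G y = a := by
  ext : 1
  exact pullback.lift_fst _ _ _

theorem endo_fb (y : G.left) (a : Fib G y ⟶ G) : endo G y a ≫ fb G y = fb G y := by
  ext : 1
  exact (Category.assoc _ _ _).symm.trans (congrArg (· ≫ _) (pullback.lift_snd _ _ _))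

theorem endo_comp_endo (y : G.left) (a b : Fib G y ⟶ G) :
    endo G y a ≫ endo G y b = endo G y (endo G y a ≫ b) := by
  ext : 1
  apply pullback.hom_ext
  · show (pullback.lift _ _ _ ≫ pullback.lift _ _ _) ≫ _ = pullback.lift _ _ _ ≫ _
    rw [Category.assoc, pullback.lift_fst, pullback.lift_fst]
    rfl
  · show (pullback.lift _ _ _ ≫ pullback.lift _ _ _) ≫ _ = pullback.lift _ _ _ ≫ _
    rw [Category.assoc, pullback.lift_snd, pullback.lift_snd, pullback.lift_snd]

theorem endo_fa_self (y : G.left) : endo G y (fa G y) = 𝟙 _ := by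
  ext : 1
  apply pullback.hom_ext
  · show pullback.lift _ _ _ ≫ _ = 𝟙 _ ≫ _
    rw [pullback.lift_fst, Category.id_comp]; rfl
  · show pullback.lift _ _ _ ≫ _ = 𝟙 _ ≫ _
    rw [pullback.lift_snd, Category.id_comp]

theorem isOpenMap_fa (y : G.left) : IsOpenMap (fa G y).left := by
  have : UniversallyOpen (pullback.fst G.hom (G.left.fromSpecResidueField y ≫ G.hom)) :=
    MorphismProperty.pullback_fst (P := @UniversallyOpen) _ _ inferInstance
  exact (pullback.fst G.hom (G.left.fromSpecResidueField y ≫ G.hom)).isOpenMap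

variable [GrpObj G]

theorem isIso_endo_quo (y : G.left) : IsIso (endo G y (quo G y)) := by
  refine ⟨endo G y ((fa G y)⁻¹ * fb G y), ?_, ?_⟩
  · rw [endo_comp_endo, MonObj.comp_mul, GrpObj.comp_inv, endo_fa, endo_fb, quo]
    rw [_root_.mul_inv_rev, _root_.inv_inv, inv_mul_cancel_right, endo_fa_self]
  · rw [endo_comp_endo, quo, MonObj.comp_mul, GrpObj.comp_inv, endo_fa, endo_fb]
    rw [_root_.mul_inv_rev, _root_.inv_inv, mul_inv_cancel_left, endo_fa_self]

theorem isOpenMap_quo (y : G.left) : IsOpenMap (quo G y).left := by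
  have := isIso_endo_quo G y
  have h : (endo G y (quo G y)).left ≫ (fa G y).left = (quo G y).left := by
    rw [← Over.comp_left, endo_fa]
  rw [← h]
  have : IsIso (endo G y (quo G y)).left := inferInstanceAs (IsIso ((Over.forget (Spec (CommRingCat.of K))).map (endo G y (quo G y))))
  rw [Scheme.Hom.comp_base, TopCat.coe_comp]
  exact (isOpenMap_fa G y).comp (endo G y (quo G y)).left.homeomorph.isOpenMap

theorem exists_fa_eq (y : G.left) (x : G.left) : ∃ w, (fa G y).left w = x := by
  obtain ⟨w, hw, -⟩ := Scheme.Pullback.exists_preimage_pullback (f := G.hom)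
    (g := G.left.fromSpecResidueField y ≫ G.hom) x (IsLocalRing.closedPoint _)
    (Subsingleton.elim (α := PrimeSpectrum K) _ _)
  exact ⟨w, hw⟩

theorem mul_apply_mem {T : Over (Spec (CommRingCat.of K))} (a b : T ⟶ G) (t : T.left)
    (ha : a.left t ∈ comp0 G) (hb : b.left t ∈ comp0 G) : (a * b).left t ∈ comp0 G := by
  rw [Hom.mul_def, Over.comp_left, Scheme.Hom.comp_apply]
  refine mul_mem G ?_ ?_
  · show ((lift a b).left ≫ (fst G G).left) t ∈ _
    rwa [← Over.comp_left, lift_fst]
  · show ((lift a b).left ≫ (snd G G).left) t ∈ _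
    rwa [← Over.comp_left, lift_snd]

theorem inv_apply_mem {T : Over (Spec (CommRingCat.of K))} (a : T ⟶ G) (t : T.left)
    (ha : a.left t ∈ comp0 G) : (a⁻¹).left t ∈ comp0 G := by
  rw [Hom.inv_def, Over.comp_left, Scheme.Hom.comp_apply]
  exact inv_mem G ha

/-- two open subsets meeting the component of the identity: `y` of that component is `u * v⁻¹` -/
theorem exists_div_point {y : G.left} (hy : y ∈ comp0 G) {U : Set G.left} (hU : IsOpen U)
    (hne : (U ∩ comp0 G).Nonempty) :
    ∃ w : ↑(Fib G y).left, (fb G y * fa G y).left w ∈ U ∧ (fa G y).left w ∈ U := by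
  obtain ⟨u, huU, huC⟩ := hne
  obtain ⟨w₀, hw₀⟩ := exists_fa_eq G y u
  have hirr : IsIrreducible ((fa G y).left ⁻¹' comp0 G) :=
    isIrreducible_preimage G (L := G.left.residueField y) (G.left.fromSpecResidueField y ≫ G.hom)
  let a := (fb G y)⁻¹ * fa G y
  have h1 : (fa G y).left ((endo G y a).left w₀) = a.left w₀ := by
    rw [← Scheme.Hom.comp_apply, ← Over.comp_left, endo_fa]
  have h2 : (fb G y * fa G y).left ((endo G y a).left w₀) = u := by
    rw [← Scheme.Hom.comp_apply, ← Over.comp_left, MonObj.comp_mul, endo_fa, endo_fb]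
    simp only [a, mul_inv_cancel_left, hw₀]
  obtain ⟨w, -, hw1, hw2⟩ := hirr.2 ((fb G y * fa G y).left ⁻¹' U) ((fa G y).left ⁻¹' U)
    (hU.preimage (Scheme.Hom.continuous _)) (hU.preimage (Scheme.Hom.continuous _))
    ⟨(endo G y a).left w₀, by
      rw [Set.mem_preimage, h1]
      exact mul_apply_mem G _ _ _ (inv_apply_mem G _ _ (by rw [fb_apply]; exact hy)) (by rw [hw₀]; exact huC),
      by rw [Set.mem_preimage, h2]; exact huU⟩
    ⟨w₀, by rw [Set.mem_preimage, hw₀]; exact huC, by rw [Set.mem_preimage, hw₀]; exact huU⟩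
  exact ⟨w, hw1, hw2⟩

theorem exists_mul_dense (y : G.left) {U V : Set G.left} (hU : IsOpen U) (hV : IsOpen V)
    (hUd : Dense U) (hVd : Dense V) :
    ∃ q : ↑(pullback G.hom G.hom), pullback.fst G.hom G.hom q ∈ U ∧
      pullback.snd G.hom G.hom q ∈ V ∧ μ[G].left q = y := by
  have h1 : Dense ((quo G y).left ⁻¹' U) := hUd.preimage (isOpenMap_quo G y)
  have h2 : Dense ((fa G y).left ⁻¹' V) := hVd.preimage (isOpenMap_fa G y)
  have : Nonempty ↑(Fib G y).left := ⟨diagPt G y⟩
  obtain ⟨w, hw1, hw2⟩ := (h1.inter_of_isOpen_left h2 (hU.preimage (Scheme.Hom.continuous _))).nonempty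
  obtain ⟨q, hq1, hq2, hq3⟩ := exists_quo_point G y w
  exact ⟨q, hq1.symm ▸ hw1, hq2.symm ▸ hw2, hq3⟩

end Groth.Agent.H63.GrpFib
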