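import Groth.Prelude.Def_Grpd
import Mathlib.AlgebraicGeometry.Morphisms.UniversallyOpen
import Mathlib.AlgebraicGeometry.PullbackCarrier

set_option autoImplicit false
universe u

open AlgebraicGeometry CategoryTheory CategoryTheory.Limits

namespace Groth.Agent.H63.GrpdBasic

variable {S : Scheme.{u}} (G : Grpd.GroupoidScheme S)

/-- composite of two composable T-points of arrows -/
noncomputable def cmp {T : Scheme.{u}} (α β : T ⟶ G.R) (h : α ≫ G.s = β ≫ G.t) : T ⟶ G.R :=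
  pullback.lift α β h ≫ G.c

variable {T T' : Scheme.{u}}

theorem cmp_congr {α α' β β' : T ⟶ G.R} (ha : α = α') (hb : β = β') (h : α ≫ G.s = β ≫ G.t)
    (h' : α' ≫ G.s = β' ≫ G.t) : cmp G α β h = cmp G α' β' h' := by
  subst ha; subst hb; rfl

@[reassoc (attr := simp)]
theorem cmp_s (α β : T ⟶ G.R) (h : α ≫ G.s = β ≫ G.t) : cmp G α β h ≫ G.s = β ≫ G.s :=
  G.comp_s α β h

@[reassoc (attr := simp)]
theorem cmp_t (α β : T ⟶ G.R) (h : α ≫ G.s = β ≫ G.t) : cmp G α β h ≫ G.t = α ≫ G.t :=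
  G.comp_t α β h

theorem comp_cmp (γ : T' ⟶ T) (α β : T ⟶ G.R) (h : α ≫ G.s = β ≫ G.t) :
    γ ≫ cmp G α β h =
      cmp G (γ ≫ α) (γ ≫ β) (by rw [Category.assoc, Category.assoc, h]) := by
  rw [cmp, cmp, ← Category.assoc]
  congr 1
  apply pullback.hom_ext
  · rw [Category.assoc, pullback.lift_fst, pullback.lift_fst]
  · rw [Category.assoc, pullback.lift_snd, pullback.lift_snd]

theorem c_eq_cmp :
    G.c = cmp G (pullback.fst G.s G.t) (pullback.snd G.s G.t) pullback.condition := by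
  rw [cmp]
  have : pullback.lift (pullback.fst G.s G.t) (pullback.snd G.s G.t) pullback.condition =
      𝟙 (pullback G.s G.t) := by
    apply pullback.hom_ext <;> simp
  rw [this, Category.id_comp]

@[reassoc]
theorem c_s : G.c ≫ G.s = pullback.snd G.s G.t ≫ G.s := by
  rw [c_eq_cmp, cmp_s]

@[reassoc]
theorem c_t : G.c ≫ G.t = pullback.fst G.s G.t ≫ G.t := by
  rw [c_eq_cmp, cmp_t]

theorem cmp_assoc (α β γ : T ⟶ G.R) (h₁ : α ≫ G.s = β ≫ G.t) (h₂ : β ≫ G.s = γ ≫ G.t) :
    cmp G (cmp G α β h₁) γ (by rw [cmp_s, h₂]) = cmp G α (cmp G β γ h₂) (by rw [cmp_t, h₁]) :=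
  G.assoc α β γ h₁ h₂

theorem cmp_one (α : T ⟶ G.R) (β : T ⟶ G.R) (hb : β = α ≫ G.s ≫ G.e)
    (h : α ≫ G.s = β ≫ G.t) : cmp G α β h = α := by
  subst hb; exact G.comp_e α

theorem one_cmp (α : T ⟶ G.R) (β : T ⟶ G.R) (hb : β = α ≫ G.t ≫ G.e)
    (h : β ≫ G.s = α ≫ G.t) : cmp G β α h = α := by
  subst hb; exact G.e_comp α

theorem cmp_inv (α : T ⟶ G.R) :
    cmp G α (α ≫ G.i) (by rw [Category.assoc, G.i_t]) = α ≫ G.t ≫ G.e :=
  G.comp_i α

theorem inv_cmp (α : T ⟶ G.R) :
    cmp G (α ≫ G.i) α (by rw [Category.assoc, G.i_s]) = α ≫ G.s ≫ G.e :=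
  G.i_comp α

theorem inv_cmp_cancel (α β : T ⟶ G.R) (h : α ≫ G.s = β ≫ G.t) :
    cmp G (α ≫ G.i) (cmp G α β h) (by rw [Category.assoc, G.i_s, cmp_t]) = β := by
  rw [← cmp_assoc G (α ≫ G.i) α β (by rw [Category.assoc, G.i_s]) h]
  refine one_cmp G β _ ?_ _
  rw [inv_cmp, reassoc_of% h]

theorem cmp_inv_cancel_left (α β : T ⟶ G.R) (h : α ≫ G.t = β ≫ G.t) :
    cmp G α (cmp G (α ≫ G.i) β (by rw [Category.assoc, G.i_s, h]))
      (by rw [cmp_t, Category.assoc, G.i_t]) = β := by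
  rw [← cmp_assoc G α (α ≫ G.i) β (by rw [Category.assoc, G.i_t]) (by rw [Category.assoc, G.i_s, h])]
  refine one_cmp G β _ ?_ _
  rw [cmp_inv, reassoc_of% h]

theorem cmp_cancel_right (α β : T ⟶ G.R) (h : α ≫ G.s = β ≫ G.t) :
    cmp G (cmp G α β h) (β ≫ G.i) (by rw [cmp_s, Category.assoc, G.i_t]) = α := by
  rw [cmp_assoc G α β (β ≫ G.i) h (by rw [Category.assoc, G.i_t])]
  refine cmp_one G α _ ?_ _
  rw [cmp_inv, reassoc_of% h]

theorem cmp_inv_cancel_right (α β : T ⟶ G.R) (h : α ≫ G.s = β ≫ G.s) :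
    cmp G (cmp G α (β ≫ G.i) (by rw [Category.assoc, G.i_t, h])) β
      (by rw [cmp_s, Category.assoc, G.i_s]) = α := by
  rw [cmp_assoc G α (β ≫ G.i) β (by rw [Category.assoc, G.i_t, h]) (by rw [Category.assoc, G.i_s])]
  refine cmp_one G α _ ?_ _
  rw [inv_cmp, reassoc_of% h]

theorem i_i : G.i ≫ G.i = 𝟙 G.R := by
  have h1 := inv_cmp_cancel G G.i (𝟙 G.R) (by rw [Category.id_comp, G.i_s])
  have h2 : cmp G G.i (𝟙 G.R) (by rw [Category.id_comp, G.i_s]) = (G.i ≫ G.i) ≫ G.s ≫ G.e := by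
    rw [Category.assoc, reassoc_of% G.i_s, reassoc_of% G.i_t]
    have := inv_cmp G (𝟙 G.R)
    simpa using this
  refine Eq.trans ?_ h1
  exact (cmp_one G (G.i ≫ G.i) _ h2 _).symm

instance isIso_i : IsIso G.i := ⟨G.i, i_i G, i_i G⟩

theorem s_eq : G.s = G.i ≫ G.t := G.i_t.symm

theorem t_eq : G.t = G.i ≫ G.s := G.i_s.symm

/-- `(α, β) ↦ (α, α∘β)` -/
noncomputable def stToTT : pullback G.s G.t ⟶ pullback G.t G.t :=
  pullback.lift (pullback.fst G.s G.t) G.c (c_t G).symm

/-- `(α, β) ↦ (α, α⁻¹∘β)` -/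
noncomputable def ttToST : pullback G.t G.t ⟶ pullback G.s G.t :=
  pullback.lift (pullback.fst G.t G.t)
    (cmp G (pullback.fst G.t G.t ≫ G.i) (pullback.snd G.t G.t)
      (by rw [Category.assoc, G.i_s, pullback.condition]))
    (by rw [cmp_t, Category.assoc, G.i_t])

@[reassoc (attr := simp)]
theorem stToTT_fst : stToTT G ≫ pullback.fst G.t G.t = pullback.fst G.s G.t :=
  pullback.lift_fst _ _ _

@[reassoc (attr := simp)]
theorem stToTT_snd : stToTT G ≫ pullback.snd G.t G.t = G.c :=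
  pullback.lift_snd _ _ _

@[reassoc (attr := simp)]
theorem ttToST_fst : ttToST G ≫ pullback.fst G.s G.t = pullback.fst G.t G.t :=
  pullback.lift_fst _ _ _

@[reassoc (attr := simp)]
theorem ttToST_snd : ttToST G ≫ pullback.snd G.s G.t =
    cmp G (pullback.fst G.t G.t ≫ G.i) (pullback.snd G.t G.t)
      (by rw [Category.assoc, G.i_s, pullback.condition]) :=
  pullback.lift_snd _ _ _

theorem ttToST_c : ttToST G ≫ G.c = pullback.snd G.t G.t := by
  conv_lhs => rw [c_eq_cmp, comp_cmp]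
  rw [cmp_congr G (ttToST_fst G) (ttToST_snd G)]
  exact cmp_inv_cancel_left G _ _ pullback.condition

theorem stToTT_ttToST : stToTT G ≫ ttToST G = 𝟙 _ := by
  apply pullback.hom_ext
  · simp
  · rw [Category.assoc, ttToST_snd, comp_cmp,
      cmp_congr G (stToTT_fst_assoc G G.i) (stToTT_snd G) _
        (by rw [Category.assoc, G.i_s, c_t]), Category.id_comp]
    rw [cmp_congr G rfl (c_eq_cmp G) _ (by rw [Category.assoc, G.i_s, cmp_t])]
    exact inv_cmp_cancel G _ _ pullback.condition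

theorem ttToST_stToTT : ttToST G ≫ stToTT G = 𝟙 _ := by
  apply pullback.hom_ext
  · simp
  · simp [ttToST_c]

/-- the translation isomorphism -/
noncomputable def stIsoTT : pullback G.s G.t ≅ pullback G.t G.t where
  hom := stToTT G
  inv := ttToST G
  hom_inv_id := stToTT_ttToST G
  inv_hom_id := ttToST_stToTT G

theorem isPullback_c_fst : IsPullback (pullback.fst G.s G.t) G.c G.t G.t :=
  IsPullback.of_iso_pullback ⟨(c_t G).symm⟩ (stIsoTT G) (stToTT_fst G) (stToTT_snd G)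

theorem isPullback_c_snd : IsPullback G.c (pullback.snd G.s G.t) G.s G.s := by
  refine ⟨⟨c_s G⟩, ⟨PullbackCone.IsLimit.mk _
    (fun c => pullback.lift (cmp G c.fst (c.snd ≫ G.i)
      (by rw [Category.assoc, G.i_t]; exact c.condition)) c.snd
      (by rw [cmp_s, Category.assoc, G.i_s])) ?_ ?_ ?_⟩⟩
  · intro c
    exact cmp_inv_cancel_right G c.fst c.snd c.condition
  · intro c; exact pullback.lift_snd _ _ _
  · intro c m h₁ h₂
    apply pullback.hom_ext
    · rw [pullback.lift_fst]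
      have h1 : cmp G (m ≫ pullback.fst G.s G.t) (m ≫ pullback.snd G.s G.t)
          (by simp [pullback.condition]) = c.fst := by
        rw [← comp_cmp G m _ _ pullback.condition, ← c_eq_cmp, h₁]
      rw [cmp_congr G h1.symm (by rw [← h₂] : c.snd ≫ G.i = (m ≫ pullback.snd G.s G.t) ≫ G.i) _
        (by rw [cmp_s, Category.assoc _ G.i, G.i_t]), cmp_cancel_right]
    · rw [pullback.lift_snd, h₂]

/-- properties stable under base change pass from `t` to `c` -/
theorem property_c {P : MorphismProperty Scheme.{u}} [P.IsStableUnderBaseChange] (h : P G.t) :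
    P G.c :=
  MorphismProperty.of_isPullback (P := P) (isPullback_c_fst G) h

theorem property_s {P : MorphismProperty Scheme.{u}} [P.RespectsIso] (h : P G.t) : P G.s := by
  rw [s_eq, P.cancel_left_of_respectsIso]; exact h

theorem isIntegral_of_iso_spec (k : Type u) [Field k] {X : Scheme.{u}}
    (e : X ≅ Spec (CommRingCat.of k)) : IsIntegral X :=
  IsIntegral.of_isIso e.inv

theorem subsingleton_of_iso_spec (k : Type u) [Field k] {X : Scheme.{u}}
    (e : X ≅ Spec (CommRingCat.of k)) : Subsingleton X :=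
  e.hom.homeomorph.subsingleton

theorem universallyOpen_t (k : Type u) [Field k] (eU : G.U ≅ Spec (CommRingCat.of k)) :
    UniversallyOpen G.t := by
  have := isIntegral_of_iso_spec k eU
  have := subsingleton_of_iso_spec k eU
  infer_instance

theorem universallyOpen_s (k : Type u) [Field k] (eU : G.U ≅ Spec (CommRingCat.of k)) :
    UniversallyOpen G.s :=
  property_s G (P := @UniversallyOpen) (universallyOpen_t G k eU)

theorem universallyOpen_c (k : Type u) [Field k] (eU : G.U ≅ Spec (CommRingCat.of k)) :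
    UniversallyOpen G.c :=
  property_c G (P := @UniversallyOpen) (universallyOpen_t G k eU)

theorem exists_cmp_point (r r' : G.R) (h : G.s r = G.t r') :
    ∃ q : G.R, G.t q = G.t r ∧ G.s q = G.s r' := by
  obtain ⟨z, h1, h2⟩ := Scheme.Pullback.exists_preimage_pullback r r' h
  refine ⟨G.c z, ?_, ?_⟩
  · rw [← Scheme.Hom.comp_apply, c_t, Scheme.Hom.comp_apply, h1]
  · rw [← Scheme.Hom.comp_apply, c_s, Scheme.Hom.comp_apply, h2]

end Groth.Agent.H63.GrpdBasic
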