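import Groth.Agent.H63.GrpdIrred
import Mathlib.AlgebraicGeometry.Morphisms.Integral

set_option autoImplicit false
universe u

open AlgebraicGeometry CategoryTheory CategoryTheory.Limits
open Groth.Agent.H63.GrpdBasic Groth.Agent.H63.GrpdRestrict Groth.Agent.H63.GrpdIrred

namespace Groth.Agent.H63.GrpdComponent

section Gen

variable {X : Scheme.{u}}

/-- generic point of the irreducible component -/
noncomputable def gp (x : X) : X := (isIrreducible_irreducibleComponent (x := x)).genericPoint

theorem gp_isGeneric (x : X) : IsGenericPoint (gp x) (irreducibleComponent x) :=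
  IsIrreducible.isGenericPoint_genericPoint _ isClosed_irreducibleComponent

theorem gp_specializes (x : X) : gp x ⤳ x :=
  (gp_isGeneric x).specializes mem_irreducibleComponent

theorem gp_max {x z : X} (h : z ⤳ gp x) : z = gp x := by
  have h1 : irreducibleComponent x ⊆ closure {z} := by
    rw [← (gp_isGeneric x).def]
    exact closure_minimal (Set.singleton_subset_iff.2 h.mem_closure) isClosed_closure
  have h2 := (irreducibleComponent_mem_irreducibleComponents x).2
    (isIrreducible_singleton.closure) h1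
  exact ((gp_isGeneric x).specializes (h2 (subset_closure rfl))).antisymm h |>.eq.symm

theorem gp_of_specializes (H : ∀ x y₁ y₂ : X, y₁ ⤳ x → y₂ ⤳ x → ∃ z, z ⤳ y₁ ∧ z ⤳ y₂)
    {x y : X} (h : y ⤳ x) : gp x ⤳ y := by
  obtain ⟨z, hz1, hz2⟩ := H _ _ _ (gp_specializes x) h
  rwa [gp_max hz1] at hz2

end Gen

variable {S : Scheme.{u}} (G : Grpd.GroupoidScheme S) {k : Type u} [Field k]
  (eU : G.U ≅ Spec (CommRingCat.of k))

include eU in
theorem common_gen_sbc {L : Type u} [Field L] (g : Spec (CommRingCat.of L) ⟶ G.U)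
    (z y₁ y₂ : SBC G g) (h₁ : y₁ ⤳ z) (h₂ : y₂ ⤳ z) : ∃ w : SBC G g, w ⤳ y₁ ∧ w ⤳ y₂ := by
  have := isIntegral_of_iso_spec k eU
  have := subsingleton_of_iso_spec k eU
  have : Flat (toBaseChange G g) := by
    unfold toBaseChange
    exact MorphismProperty.pullback_map (P := @Flat) (inferInstanceAs (Flat (pullback.snd g G.t)))
      inferInstance rfl (by simp)
  obtain ⟨p, rfl⟩ : z ∈ Set.range (toBaseChange G g) := by
    show z ∈ Set.range (pullback.map (pullback.snd g G.t ≫ G.s) g G.s g (pullback.snd g G.t) (𝟙 _) (𝟙 G.U) (by simp) (by simp))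
    rw [Scheme.Pullback.range_map]
    refine ⟨?_, ⟨pullback.snd G.s g z, rfl⟩⟩
    obtain ⟨w, -, hw⟩ := Scheme.Pullback.exists_preimage_pullback (f := g) (g := G.t)
      (IsLocalRing.closedPoint L) (pullback.fst G.s g z) (Subsingleton.elim _ _)
    exact ⟨w, hw⟩
  obtain ⟨x₁, hx₁, hx₁'⟩ := Flat.generalizingMap (toBaseChange G g) h₁
  obtain ⟨x₂, hx₂, hx₂'⟩ := Flat.generalizingMap (toBaseChange G g) h₂
  obtain ⟨w, hw₁, hw₂⟩ := GrpdIrred.common_gen (restrict G g)
    (Iso.refl _ : (restrict G g).U ≅ Spec (CommRingCat.of L)) (y₁ := x₁) (y₂ := x₂) hx₁ hx₂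
  refine ⟨toBaseChange G g w, ?_, ?_⟩
  · exact hx₁' ▸ hw₁.map (toBaseChange G g).continuous
  · exact hx₂' ▸ hw₂.map (toBaseChange G g).continuous

/-- the component of the identity -/
noncomputable abbrev comp0 : Set G.R := irreducibleComponent (ePt G eU)

theorem isIrreducible_preimage_of_isIntegralHom {Ω : Type u} [Field Ω]
    (g : Spec (CommRingCat.of Ω) ⟶ G.U) [IsIntegralHom g] :
    IsIrreducible (pullback.fst G.s g ⁻¹' comp0 G eU) := by
  have := isIntegral_of_iso_spec k eU
  have := subsingleton_of_iso_spec k eU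
  let pr := pullback.fst G.s g
  have : Flat pr := inferInstance
  have : IsIntegralHom pr := MorphismProperty.pullback_fst (P := @IsIntegralHom) _ _ ‹_›
  have H := common_gen_sbc G eU g
  let e' : Spec (CommRingCat.of Ω) ⟶ SBC G g :=
    pullback.lift (g ≫ G.e) (𝟙 _) (by rw [Category.assoc, G.e_s, Category.comp_id, Category.id_comp])
  let pe : SBC G g := e' (IsLocalRing.closedPoint Ω)
  have hpe : pr pe = ePt G eU := by
    show (e' ≫ pullback.fst G.s g) _ = _
    rw [pullback.lift_fst, Scheme.Hom.comp_apply]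
    exact congrArg G.e (Subsingleton.elim _ _)
  have hfib : ∀ q : SBC G g, pr q = ePt G eU → q = pe := by
    intro q hq
    let m : pullback (G.e ≫ G.s) g ⟶ pullback G.s g :=
      pullback.map _ _ _ _ G.e (𝟙 _) (𝟙 _) (by simp) (by simp)
    have hr : ∀ q, pullback.fst G.s g q = ePt G eU → q ∈ Set.range m := by
      intro q hq
      show q ∈ Set.range (pullback.map _ _ G.s g G.e (𝟙 _) (𝟙 _) _ _)
      rw [Scheme.Pullback.range_map]
      exact ⟨⟨_, hq.symm⟩, ⟨pullback.snd G.s g q, rfl⟩⟩
    have : IsIso (G.e ≫ G.s) := G.e_s.symm ▸ inferInstanceAs (IsIso (𝟙 _))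
    have : IsIso (pullback.snd (G.e ≫ G.s) g) := inferInstance
    have hsub : Subsingleton ↑(pullback (G.e ≫ G.s) g) :=
      ((pullback.snd (G.e ≫ G.s) g).homeomorph.injective).subsingleton
    obtain ⟨v, hv⟩ := hr _ hq
    obtain ⟨v', hv'⟩ := hr _ hpe
    rw [← hv, ← hv', Subsingleton.elim v v']
  set c := gp pe
  have key : ∀ w : SBC G g, pr w ∈ comp0 G eU → gp w = c := by
    intro w hw
    set c' := gp w
    have h1 : pr c' ⤳ pr w := (gp_specializes w).map pr.continuous
    have h2 : genR G (ePt G eU) ⤳ pr c' := by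
      rw [← (GrpdIrred.mem_component_iff G eU).1 hw]; exact genR_of_specializes G eU h1
    obtain ⟨c'', hc1, hc2⟩ := Flat.generalizingMap pr h2
    have h3 : pr c' = genR G (ePt G eU) := by
      exact (congrArg pr (gp_max hc1).symm).trans hc2
    have h4 : ePt G eU ∈ pr '' closure {c'} := by
      have := pr.isClosedMap _ (isClosed_closure (s := {c'}))
      refine (IsClosed.closure_subset_iff this).2 ?_ (show ePt G eU ∈ closure {genR G (ePt G eU)} from
        (genR_specializes G _).mem_closure)
      exact Set.singleton_subset_iff.2 ⟨c', subset_closure rfl, h3⟩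
    obtain ⟨q, hq, hqe⟩ := h4
    have h5 := gp_of_specializes H (x := pe) ((hfib q hqe) ▸ specializes_iff_mem_closure.2 hq)
    exact (gp_max h5).symm
  have hmem : pr c ∈ comp0 G eU := by
    rw [GrpdIrred.mem_component_iff G eU]
    exact genR_eq_of_specializes G eU (hpe ▸ (gp_specializes pe).map pr.continuous)
  have heq : pr ⁻¹' comp0 G eU = closure {c} := by
    refine Set.Subset.antisymm (fun w hw => ?_) ?_
    · rw [← key w hw]; exact (gp_specializes w).mem_closure
    · exact closure_minimal (Set.singleton_subset_iff.2 hmem)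
        (isClosed_irreducibleComponent.preimage pr.continuous)
  show IsIrreducible (pr ⁻¹' comp0 G eU)
  rw [heq]
  exact isIrreducible_singleton.closure

/-- the component of the identity stays irreducible under field extensions -/
theorem isIrreducible_preimage {L : Type u} [Field L]
    (g : Spec (CommRingCat.of L) ⟶ Spec (CommRingCat.of k)) :
    IsIrreducible (pullback.fst (G.s ≫ eU.hom) g ⁻¹' comp0 G eU) := by
  obtain ⟨φ, rfl⟩ := Spec.map_surjective g
  let : Algebra k L := φ.hom.toAlgebra
  let Ω := AlgebraicClosure L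
  let KB := AlgebraicClosure k
  let ι' : KB →ₐ[k] Ω := IsAlgClosed.lift
  let g0 : Spec (CommRingCat.of KB) ⟶ Spec (CommRingCat.of k) :=
    Spec.map (CommRingCat.ofHom (algebraMap k KB))
  have : IsIntegralHom g0 := IsIntegralHom.SpecMap_iff.2 (Algebra.IsIntegral.isIntegral (R := k) (A := KB))
  have : IsIntegralHom (g0 ≫ eU.inv) := inferInstance
  have h00 := isIrreducible_preimage_of_isIntegralHom G eU (g0 ≫ eU.inv)
  have h0 : IsIrreducible (pullback.fst (G.s ≫ eU.hom) g0 ⁻¹' comp0 G eU) := by
    have hsq : IsPullback (pullback.fst G.s (g0 ≫ eU.inv)) (pullback.snd G.s (g0 ≫ eU.inv))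
        (G.s ≫ eU.hom) g0 :=
      IsPullback.of_iso (IsPullback.of_hasPullback G.s (g0 ≫ eU.inv)) (Iso.refl _) (Iso.refl _)
        (Iso.refl _) eU (by simp) (by simp) (by simp) (by simp)
    have h3 : pullback.fst (G.s ≫ eU.hom) g0 ⁻¹' comp0 G eU =
        hsq.isoPullback.inv.homeomorph ⁻¹' (pullback.fst G.s (g0 ≫ eU.inv) ⁻¹' comp0 G eU) := by
      rw [← Set.preimage_comp]
      congr 1
      funext x
      show _ = pullback.fst G.s (g0 ≫ eU.inv) (hsq.isoPullback.inv x)
      rw [← Scheme.Hom.comp_apply, hsq.isoPullback_inv_fst]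
    rw [h3, ← Homeomorph.image_symm]
    exact h00.image _ (Homeomorph.continuous _).continuousOn
  let f := G.s ≫ eU.hom
  let v : Spec (CommRingCat.of Ω) ⟶ Spec (CommRingCat.of KB) :=
    Spec.map (CommRingCat.ofHom ι'.toRingHom)
  let h : Spec (CommRingCat.of Ω) ⟶ Spec (CommRingCat.of L) :=
    Spec.map (CommRingCat.ofHom (algebraMap L Ω))
  have hvh : v ≫ g0 = h ≫ Spec.map φ := by
    simp only [v, g0, h, ← Spec.map_comp]
    congr 1
    ext x
    show ι' (algebraMap k KB x) = algebraMap L Ω (φ.hom x)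
    rw [AlgHom.commutes, IsScalarTower.algebraMap_apply k L Ω]
    rfl
  have : GeometricallyIrreducible v := GrpIrred.geometricallyIrreducible_of_isSepClosed Ω v
  let p : pullback f (v ≫ g0) ⟶ pullback f g0 :=
    (pullbackLeftPullbackSndIso f g0 v).inv ≫ pullback.fst _ v
  have hp : p ≫ pullback.fst f g0 = pullback.fst f (v ≫ g0) := by simp [p]
  have hΩ : IsIrreducible (pullback.fst f (v ≫ g0) ⁻¹' comp0 G eU) := by
    have h1 := (pullback.fst (pullback.snd f g0) v).isIrreducible_preimage
      (pullback.fst (pullback.snd f g0) v).isOpenMap h0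
    rw [← hp, Scheme.Hom.comp_base, TopCat.coe_comp, Set.preimage_comp]
    have h3 : p ⁻¹' (pullback.fst f g0 ⁻¹' comp0 G eU) =
        (pullbackLeftPullbackSndIso f g0 v).inv.homeomorph ⁻¹'
          (pullback.fst (pullback.snd f g0) v ⁻¹' (pullback.fst f g0 ⁻¹' comp0 G eU)) := rfl
    show IsIrreducible (p ⁻¹' _)
    rw [h3, ← Homeomorph.image_symm]
    exact h1.image _ (Homeomorph.continuous _).continuousOn
  let m : pullback f (v ≫ g0) ⟶ pullback f (Spec.map φ) :=
    pullback.map _ _ _ _ (𝟙 _) h (𝟙 _) (by simp) (by simp [hvh])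
  have hm : m ≫ pullback.fst f (Spec.map φ) = pullback.fst f (v ≫ g0) :=
    (pullback.lift_fst _ _ _).trans (Category.comp_id _)
  have hsurj : Function.Surjective m := by
    intro q
    have : q ∈ Set.range (pullback.map f (v ≫ g0) f (Spec.map φ) (𝟙 _) h (𝟙 _)
        (by simp) (by simp [hvh])) := by
      rw [Scheme.Pullback.range_map]
      refine ⟨⟨pullback.fst f (Spec.map φ) q, rfl⟩, ?_⟩
      exact ⟨IsLocalRing.closedPoint Ω, Subsingleton.elim (α := PrimeSpectrum L) _ _⟩
    exact this
  have h5 := hΩ.image m m.continuous.continuousOn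
  rwa [← hm, Scheme.Hom.comp_base, TopCat.coe_comp, Set.preimage_comp,
    Set.image_preimage_eq _ hsurj] at h5

theorem geometricallyIrreducible_of_range {Z : Scheme.{u}} (incl : Z ⟶ G.R) [IsClosedImmersion incl]
    (hZ' : Set.range incl = comp0 G eU) : GeometricallyIrreducible (incl ≫ G.s ≫ eU.hom) := by
  refine ⟨geometrically_iff_of_isClosedUnderIsomorphisms.mpr fun L _ g => ?_⟩
  show IrreducibleSpace ↑(pullback (incl ≫ G.s ≫ eU.hom) g)
  let f := G.s ≫ eU.hom
  let m : pullback (incl ≫ f) g ⟶ pullback f g :=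
    pullback.map _ g f g incl (𝟙 _) (𝟙 _) (by simp) (by simp)
  have hr : Set.range m = pullback.fst f g ⁻¹' comp0 G eU := by
    show Set.range (pullback.map _ g f g incl (𝟙 _) (𝟙 _) _ _) = _
    rw [Scheme.Pullback.range_map, hZ']
    simp
  have hc : IsClosedImmersion m := by
    refine MorphismProperty.of_isPullback (P := @IsClosedImmersion)
      (f' := pullback.fst (incl ≫ f) g) (f := pullback.fst f g) (g := incl) ?_ ‹_›
    have h1 : IsPullback (m ≫ pullback.snd f g) (pullback.fst (incl ≫ f) g) g (incl ≫ f) := by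
      rw [show m ≫ pullback.snd f g = pullback.snd (incl ≫ f) g from
        (pullback.lift_snd _ _ _).trans (Category.comp_id _)]
      exact (IsPullback.of_hasPullback (incl ≫ f) g).flip
    exact (IsPullback.of_right h1 (pullback.lift_fst _ _ _) (IsPullback.of_hasPullback f g).flip).flip
  have hirr : IrreducibleSpace ↥(Set.range m) := by
    rw [hr]; exact Subtype.irreducibleSpace (isIrreducible_preimage G eU g)
  exact m.isClosedEmbedding.isEmbedding.toHomeomorph.symm.surjective.irreducibleSpace
    m.isClosedEmbedding.isEmbedding.toHomeomorph.symm.continuous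

end Groth.Agent.H63.GrpdComponent
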