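import Groth.Agent.H63.GrpdIrred
import Groth.Agent.H56.DimBaseChange
import Groth.Agent.Lib.VarDim.Basic
import Groth.Agent.Lib.VarDim.Fibre
import Groth.Agent.Lib.Cyc.LocalDim
import Groth.Agent.Lib.Cyc.DimFun
import Groth.Agent.Lib.TopDim.Basic

set_option autoImplicit false
universe u

open AlgebraicGeometry CategoryTheory CategoryTheory.Limits
open Groth.Agent.H63.GrpdBasic Groth.Agent.H63.GrpdIrred
open Groth.Agent.Lib.VarDim.Basic Groth.Agent.Lib.Cyc

namespace Groth.Agent.H63.GrpdDim

variable {S : Scheme.{u}} (G : Grpd.GroupoidScheme S) {k : Type u} [Field k]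
  (eU : G.U ≅ Spec (CommRingCat.of k)) [LocallyOfFiniteType G.s]

/-- source as a structure morphism to the field -/
noncomputable abbrev sK : G.R ⟶ Spec (CommRingCat.of k) := G.s ≫ eU.hom

theorem isPullback_sK {L : Type u} [Field L] (g : Spec (CommRingCat.of L) ⟶ G.U) :
    IsPullback (pullback.fst G.s g) (pullback.snd G.s g) (sK G eU) (g ≫ eU.hom) :=
  IsPullback.of_iso (IsPullback.of_hasPullback G.s g) (Iso.refl _) (Iso.refl _) (Iso.refl _) eU
    (by simp) (by simp) (by simp) (by simp)

include eU in
theorem localDim_eq_e (r : G.R) :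
    FlatMor.localDim ↥G.R r = FlatMor.localDim ↥G.R (ePt G eU) := by
  have h : ∀ (g : Spec (G.R.residueField r) ⟶ G.U) (w : SBC G g),
      FlatMor.localDim ↥(SBC G g) w = FlatMor.localDim ↥G.R (pullback.fst G.s g w) := fun g w =>
    H56.DimBaseChange.localDim_baseChange (K := G.R.residueField r) _ _ _ _ (isPullback_sK G eU g) w
  let d := diagAt G r (IsLocalRing.closedPoint (G.R.residueField r))
  have e := Lib.FibreDim.Basic.localDim_eq_of_homeomorph (transl G r).hom.homeomorph d
  calc FlatMor.localDim ↥G.R r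
      = FlatMor.localDim ↥(SBC G (G.R.fromSpecResidueField r ≫ G.s)) d := by rw [h, diagAt_fst]
    _ = FlatMor.localDim ↥(SBC G (G.R.fromSpecResidueField r ≫ G.t)) ((transl G r).hom d) := by
        first | exact e | exact e.symm
    _ = FlatMor.localDim ↥G.R (ePt G eU) := by rw [h, transl_diagAt_apply G eU r]

include eU in
theorem localDim_eq_pdim (r : G.R) :
    FlatMor.localDim ↥G.R r = (pdim (sK G eU) (genR G r) : WithBot ℕ∞) := by
  have h1 : FlatMor.localDim ↥G.R r ≤ ((pdim (sK G eU) (genR G r) : ℕ) : WithBot ℕ∞) := by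
    rw [LocalDim.localDim_le_iff (sK G eU)]
    intro ξ hξ
    rw [fdelta_eq]
    exact_mod_cast pdim_le (sK G eU) (show genR G r ⤳ ξ by
      rw [← genR_eq_of_specializes G eU hξ]; exact genR_specializes G ξ)
  refine le_antisymm h1 (le_of_not_gt fun hlt => ?_)
  obtain ⟨m, hm, hmn⟩ : ∃ m : ℕ, FlatMor.localDim ↥G.R r ≤ (m : WithBot ℕ∞) ∧
      m < pdim (sK G eU) (genR G r) := by
    rcases Nat.eq_zero_or_pos (pdim (sK G eU) (genR G r)) with h0 | hp
    · rw [h0] at hlt
      exact absurd hlt (not_lt.2 (Lib.TopDim.Basic.localDim_nonneg _))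
    · refine ⟨pdim (sK G eU) (genR G r) - 1, ?_, by omega⟩
      revert hlt
      generalize FlatMor.localDim ↥G.R r = d
      intro hlt
      induction d using WithBot.recBotCoe with
      | bot => simp
      | coe d =>
        induction d using ENat.recTopCoe with
        | top => exact absurd hlt (by exact not_lt.2 le_top)
        | coe d =>
          have : d < pdim (sK G eU) (genR G r) := by exact_mod_cast hlt
          exact WithBot.coe_le_coe.2 (ENat.natCast_le_natCast.2
            (by omega : d ≤ pdim (sK G eU) (genR G r) - 1))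
  have := (LocalDim.localDim_le_iff (sK G eU) r m).1 hm (genR G r) (genR_specializes G r)
  rw [fdelta_eq] at this
  omega

include eU in
theorem pdim_genR (r : G.R) :
    pdim (sK G eU) (genR G r) = pdim (sK G eU) (genR G (ePt G eU)) := by
  have h := localDim_eq_e G eU r
  rw [localDim_eq_pdim G eU, localDim_eq_pdim G eU] at h
  exact_mod_cast h

include eU in
theorem topologicalKrullDim_R :
    topologicalKrullDim ↥G.R = (pdim (sK G eU) (genR G (ePt G eU)) : WithBot ℕ∞) := by
  refine le_antisymm ((topologicalKrullDim_scheme_le_iff (sK G eU) _).2 fun x => ?_)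
    (pdim_le_topologicalKrullDim_scheme (sK G eU) _)
  rw [← pdim_genR G eU x]
  exact_mod_cast pdim_le (sK G eU) (genR_specializes G x)

include eU in
theorem ringKrullDim_stalk_of_isClosed (r : G.R) (hr : IsClosed ({r} : Set G.R)) :
    ringKrullDim (G.R.presheaf.stalk r) = topologicalKrullDim ↥G.R := by
  have : IsLocallyNoetherian G.R := LocallyOfFiniteType.isLocallyNoetherian (sK G eU)
  rw [DimFun.ringKrullDim_stalk_of_forall (FieldDim.isDimFun_fdelta (sK G eU)) r (genR G r)
    (genR_specializes G r) fun y hy => by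
      rw [← genR_eq_of_specializes G eU hy]; exact genR_specializes G y]
  rw [fdelta_eq, fdelta_eq, pdim_genR G eU, (pdim_eq_zero_iff (sK G eU) r).2 hr,
    topologicalKrullDim_R G eU]
  simp

include eU in
theorem topologicalKrullDim_component (Z : Set G.R) (hZ : Z ∈ irreducibleComponents ↥G.R) :
    topologicalKrullDim ↥Z = topologicalKrullDim ↥G.R := by
  obtain ⟨z, hz⟩ := hZ.1.nonempty
  rw [eq_irreducibleComponent G eU hZ hz,
    topologicalKrullDim_isGenericPoint (sK G eU) (genR_isGeneric G z),
    topologicalKrullDim_R G eU, pdim_genR G eU]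

end Groth.Agent.H63.GrpdDim
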