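import Mathlib.RingTheory.Spectrum.Prime.Chevalley
import Mathlib.RingTheory.FinitePresentation
import Mathlib.FieldTheory.Separable
import Mathlib.FieldTheory.IsAlgClosed.AlgebraicClosure

set_option autoImplicit false
universe u

/-!
An element of a finitely generated domain over a field such that `T ^ n - 1` is a unit for all `n`
prime to the characteristic is algebraic over the field.
-/

open Polynomial

namespace Groth.Agent.H63.GrpdTwoFields

theorem exists_basicOpen_subset_of_isConstructible {R : Type u} [CommRing R] [IsDomain R]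
    {s : Set (PrimeSpectrum R)} (hs : Topology.IsConstructible s) (h : (⊥ : PrimeSpectrum R) ∈ s) :
    ∃ f : R, f ≠ 0 ∧ (PrimeSpectrum.basicOpen f : Set (PrimeSpectrum R)) ⊆ s := by
  obtain ⟨d, rfl⟩ := PrimeSpectrum.exists_constructibleSetData_iff.2 hs
  simp only [PrimeSpectrum.ConstructibleSetData.toSet, Set.mem_iUnion, exists_prop] at h
  obtain ⟨C, hC, hg, hf⟩ := h
  have hg' : ∀ i, C.g i = 0 := fun i => by
    have := hg ⟨i, rfl⟩
    simpa using this
  refine ⟨C.f, fun h0 => hf (by simp [h0]), fun P hP => ?_⟩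
  simp only [PrimeSpectrum.ConstructibleSetData.toSet, Set.mem_iUnion, exists_prop]
  refine ⟨C, hC, ?_, ?_⟩
  · rintro _ ⟨i, rfl⟩
    rw [hg' i]; exact P.asIdeal.zero_mem
  · simpa using hP

theorem isAlgebraic_of_isUnit_pow_sub_one {k B : Type u} [Field k] [CommRing B] [IsDomain B]
    [Algebra k B] [Algebra.FiniteType k B] (T : B)
    (hT : ∀ n : ℕ, 0 < n → (n : k) ≠ 0 → IsUnit (T ^ n - 1)) : IsAlgebraic k T := by
  by_contra hA
  let φ : k[X] →ₐ[k] B := aeval T
  have hinj : Function.Injective φ := transcendental_iff_injective.1 hA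
  have hfp : φ.toRingHom.FinitePresentation := by
    algebraize [φ.toRingHom]
    have : IsScalarTower k k[X] B := .of_algebraMap_eq fun a => (φ.commutes a).symm
    have : Algebra.FiniteType k[X] B := Algebra.FiniteType.of_restrictScalars_finiteType k k[X] B
    exact RingHom.finitePresentation_algebraMap.2 (Algebra.FinitePresentation.of_finiteType.1 this)
  have hbot : (⊥ : PrimeSpectrum k[X]) ∈ Set.range (PrimeSpectrum.comap φ.toRingHom) := by
    refine ⟨⊥, PrimeSpectrum.ext ?_⟩
    show Ideal.comap φ.toRingHom ⊥ = ⊥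
    exact (RingHom.injective_iff_ker_eq_bot _).1 hinj
  obtain ⟨g, hg0, hg⟩ := exists_basicOpen_subset_of_isConstructible
    (PrimeSpectrum.isConstructible_range_comap hfp) hbot
  obtain ⟨n, hn0, hnd, hnk⟩ : ∃ n : ℕ, 0 < n ∧ g.natDegree < n ∧ (n : k) ≠ 0 := by
    by_cases h : ((g.natDegree + 1 : ℕ) : k) = 0
    · refine ⟨g.natDegree + 2, by omega, by omega, ?_⟩
      intro h2
      have : ((g.natDegree + 2 : ℕ) : k) = ((g.natDegree + 1 : ℕ) : k) + 1 := by push_cast; ring
      rw [this, h, zero_add] at h2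
      exact one_ne_zero h2
    · exact ⟨g.natDegree + 1, by omega, by omega, h⟩
  let Ω := AlgebraicClosure k
  classical
  have hsep : (X ^ n - 1 : k[X]).Separable := X_pow_sub_one_separable_iff.2 hnk
  have hcard : Fintype.card ((X ^ n - 1 : k[X]).rootSet Ω) = n := by
    rw [card_rootSet_eq_natDegree hsep (IsAlgClosed.splits _), ← C_1, natDegree_X_pow_sub_C]
  obtain ⟨a, ha, hga⟩ : ∃ a : Ω, a ∈ (X ^ n - 1 : k[X]).rootSet Ω ∧ aeval a g ≠ 0 := by
    by_contra hcon
    push Not at hcon
    have hsub : (X ^ n - 1 : k[X]).rootSet Ω ⊆ g.rootSet Ω := fun a ha =>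
      (mem_rootSet_of_ne hg0).2 (hcon a ha)
    have h1 : Fintype.card ((X ^ n - 1 : k[X]).rootSet Ω) ≤ Fintype.card (g.rootSet Ω) :=
      Set.card_le_card hsub
    have h2 : Fintype.card (g.rootSet Ω) ≤ g.natDegree := by
      refine (le_of_eq ?_).trans (((g.map (algebraMap k Ω)).roots.toFinset_card_le).trans
        ((card_roots' _).trans natDegree_map_le))
      simp [rootSet_def, aroots_def]
    omega
  let P : PrimeSpectrum k[X] := ⟨RingHom.ker (aeval a : k[X] →ₐ[k] Ω).toRingHom, RingHom.ker_isPrime _⟩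
  obtain ⟨Q, hQ⟩ := hg (show P ∈ (PrimeSpectrum.basicOpen g : Set _) from hga)
  have hroot : (X ^ n - 1 : k[X]) ∈ P.asIdeal :=
    RingHom.mem_ker.2 (aeval_eq_zero_of_mem_rootSet ha)
  rw [← hQ] at hroot
  refine Q.isPrime.ne_top (Ideal.eq_top_of_isUnit_mem _ hroot ?_)
  simpa [φ] using hT n hn0 hnk

end Groth.Agent.H63.GrpdTwoFields
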