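import Mathlib.AlgebraicGeometry.Morphisms.SchemeTheoreticallyDominant
import Mathlib.AlgebraicGeometry.Morphisms.UnderlyingMap

set_option autoImplicit false
universe u

open AlgebraicGeometry CategoryTheory

namespace Groth.Agent.H63.SchemeEpi

/-- a surjective morphism with injective maps on sections is an epimorphism of schemes -/
theorem epi_of_surjective_of_app_injective {X Y : Scheme.{u}} (f : X ⟶ Y) [Surjective f]
    (hinj : ∀ U : Y.Opens, Function.Injective (f.app U)) : Epi f := by
  refine ⟨fun {Z} u v h => ?_⟩
  have hbase : u.base = v.base := by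
    ext y
    obtain ⟨x, rfl⟩ := f.surjective y
    exact congrArg (fun g : X ⟶ Z => g x) h
  refine Scheme.Hom.ext hbase fun W => ?_
  ext s
  apply hinj
  have h2 := Scheme.Hom.congr_app h W
  have h3 := ConcreteCategory.congr_hom h2 s
  simp only [Scheme.Hom.comp_app] at h3
  simp only [ConcreteCategory.comp_apply]
  rw [← ConcreteCategory.comp_apply (Y.presheaf.map _) (f.app _), f.naturality]
  simp only [ConcreteCategory.comp_apply]
  refine (congrArg (fun z => (X.presheaf.map _).hom z) h3).trans ?_
  refine Eq.trans (ConcreteCategory.comp_apply _ _ _).symm ?_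
  erw [Category.assoc, ← Functor.map_comp]
  erw [Subsingleton.elim (_ ≫ _) (𝟙 _), CategoryTheory.Functor.map_id]
  rfl

/-- `Spec` of an injective ring map has injective maps on sections -/
theorem app_injective_SpecMap {R S : CommRingCat.{u}} (φ : R ⟶ S) (hφ : Function.Injective φ)
    (U : (Spec R).Opens) : Function.Injective ((Spec.map φ).app U) := by
  have : IsSchemeTheoreticallyDominant (Spec.map φ) := by
    refine ⟨?_⟩
    apply Scheme.IdealSheafData.ext_of_isAffine
    rw [Scheme.Hom.ker_apply, Scheme.IdealSheafData.ideal_bot]
    show RingHom.ker (Spec.map φ).appTop.hom = ⊥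
    rw [← RingHom.injective_iff_ker_eq_bot]
    have h := Scheme.ΓSpecIso_naturality φ
    intro a b hab
    apply (ConcreteCategory.bijective_of_isIso (Scheme.ΓSpecIso R).hom).1
    apply hφ
    have ha := ConcreteCategory.congr_hom h a
    have hb := ConcreteCategory.congr_hom h b
    simp only [ConcreteCategory.comp_apply] at ha hb
    rw [← ha, ← hb]
    exact congrArg _ hab
  exact (Spec.map φ).app_injective U

end Groth.Agent.H63.SchemeEpi
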