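import Groth.Agent.H63.GrpdDim
import Groth.Agent.H63.GrpdTwoFields
import Groth.Agent.H63.SchemeEpi
import Groth.Agent.Lib.PointDim.Basic
import Mathlib.FieldTheory.IntermediateField.Adjoin.Basic

set_option autoImplicit false
universe u

open AlgebraicGeometry CategoryTheory CategoryTheory.Limits
open Groth.Agent.H63.GrpdBasic Groth.Agent.H63.GrpdIrred Groth.Agent.H63.GrpdDim
open Groth.Agent.Lib.VarDim.Basic

namespace Groth.Agent.H63.GrpdDimStab

theorem pdim_eq_toNat {k : Type u} [Field k] {X : Scheme.{u}} (f : X ⟶ Spec (CommRingCat.of k)) (x : X) :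
    pdim f x = (Lib.PointDim.Basic.tdeg f x).toNat := by
  rw [pdim, tdAt, ← Lib.PointDim.Basic.trdeg_residueFieldMap]
  rfl

variable {S : Scheme.{u}} (G : Grpd.GroupoidScheme S) {k : Type u} [Field k]
  (eU : G.U ≅ Spec (CommRingCat.of k))

theorem j_fst : G.j ≫ pullback.fst G.pU G.pU = G.t := pullback.lift_fst _ _ _

theorem j_snd : G.j ≫ pullback.snd G.pU G.pU = G.s := pullback.lift_snd _ _ _

theorem stab_t : pullback.fst G.j G.diag ≫ G.t = (pullback.snd G.j G.diag) := by
  have h := congrArg (· ≫ pullback.fst G.pU G.pU) (pullback.condition (f := G.j) (g := G.diag))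
  simp only [Category.assoc, j_fst, Grpd.GroupoidScheme.diag, pullback.lift_fst, Category.comp_id] at h
  exact h

theorem stab_s : pullback.fst G.j G.diag ≫ G.s = (pullback.snd G.j G.diag) := by
  have h := congrArg (· ≫ pullback.snd G.pU G.pU) (pullback.condition (f := G.j) (g := G.diag))
  simp only [Category.assoc, j_snd, Grpd.GroupoidScheme.diag, pullback.lift_snd, Category.comp_id] at h
  exact h

variable {T : Scheme.{u}} (ρ : T ⟶ G.R)

theorem stab_cond {T' : Scheme.{u}} (γ : T' ⟶ G.R) (v : T' ⟶ G.U) (ht : γ ≫ G.t = v) (hs : γ ≫ G.s = v) :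
    γ ≫ G.j = v ≫ G.diag := by
  apply pullback.hom_ext
  · rw [Category.assoc, Category.assoc, j_fst, Grpd.GroupoidScheme.diag, pullback.lift_fst, Category.comp_id, ht]
  · rw [Category.assoc, Category.assoc, j_snd, Grpd.GroupoidScheme.diag, pullback.lift_snd, Category.comp_id, hs]

theorem j_ext {T' : Scheme.{u}} (α β : T' ⟶ G.R) (ht : α ≫ G.t = β ≫ G.t) (hs : α ≫ G.s = β ≫ G.s) :
    α ≫ G.j = β ≫ G.j := by
  apply pullback.hom_ext
  · rw [Category.assoc, Category.assoc, j_fst, ht]
  · rw [Category.assoc, Category.assoc, j_snd, hs]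

theorem fib_t : pullback.fst G.j (ρ ≫ G.j) ≫ G.t = (pullback.snd G.j (ρ ≫ G.j) ≫ ρ) ≫ G.t := by
  rw [← j_fst, ← Category.assoc, pullback.condition]; simp only [Category.assoc]

theorem fib_s : pullback.fst G.j (ρ ≫ G.j) ≫ G.s = (pullback.snd G.j (ρ ≫ G.j) ≫ ρ) ≫ G.s := by
  rw [← j_snd, ← Category.assoc, pullback.condition]; simp only [Category.assoc]

theorem stab_st : (pullback.fst (pullback.snd G.j G.diag) (ρ ≫ G.t) ≫ pullback.fst G.j G.diag) ≫ G.s =
    (pullback.snd (pullback.snd G.j G.diag) (ρ ≫ G.t) ≫ ρ) ≫ G.t := by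
  rw [Category.assoc, stab_s, Category.assoc, pullback.condition]

/-- the forward translation -/
noncomputable def fwd : pullback G.j (ρ ≫ G.j) ⟶ pullback (pullback.snd G.j G.diag) (ρ ≫ G.t) :=
  pullback.lift
    (pullback.lift
      (cmp G (pullback.fst _ _) ((pullback.snd _ _ ≫ ρ) ≫ G.i)
        (by rw [Category.assoc _ G.i, G.i_t]; exact fib_s G ρ))
      ((pullback.snd _ _ ≫ ρ) ≫ G.t)
      (stab_cond G _ _ ((cmp_t G _ _ _).trans (fib_t G ρ))
        ((cmp_s G _ _ _).trans (by rw [Category.assoc _ G.i, G.i_s]))))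
    (pullback.snd _ _)
    ((pullback.lift_snd _ _ _).trans (Category.assoc _ _ _))

/-- the backward translation -/
noncomputable def bwd : pullback (pullback.snd G.j G.diag) (ρ ≫ G.t) ⟶ pullback G.j (ρ ≫ G.j) :=
  pullback.lift
    (cmp G (pullback.fst (pullback.snd G.j G.diag) (ρ ≫ G.t) ≫ pullback.fst G.j G.diag)
      (pullback.snd (pullback.snd G.j G.diag) (ρ ≫ G.t) ≫ ρ) (stab_st G ρ))
    (pullback.snd _ _)
    ((j_ext G _ (pullback.snd (pullback.snd G.j G.diag) (ρ ≫ G.t) ≫ ρ)
      ((cmp_t G _ _ _).trans (by rw [Category.assoc, stab_t, Category.assoc, pullback.condition]))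
      (cmp_s G _ _ _)).trans (Category.assoc _ _ _))

theorem fwd_fst_fst : fwd G ρ ≫ pullback.fst _ _ ≫ pullback.fst _ _ =
    cmp G (pullback.fst _ _) ((pullback.snd _ _ ≫ ρ) ≫ G.i)
      (by rw [Category.assoc _ G.i, G.i_t]; exact fib_s G ρ) := by
  rw [fwd, pullback.lift_fst_assoc, pullback.lift_fst]

theorem fwd_snd : fwd G ρ ≫ pullback.snd _ _ = pullback.snd _ _ := by
  rw [fwd, pullback.lift_snd]

theorem bwd_fst : bwd G ρ ≫ pullback.fst _ _ =
    cmp G (pullback.fst (pullback.snd G.j G.diag) (ρ ≫ G.t) ≫ pullback.fst G.j G.diag)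
      (pullback.snd (pullback.snd G.j G.diag) (ρ ≫ G.t) ≫ ρ) (stab_st G ρ) := by
  rw [bwd, pullback.lift_fst]

theorem bwd_snd : bwd G ρ ≫ pullback.snd _ _ = pullback.snd _ _ := by
  rw [bwd, pullback.lift_snd]

/-- the fibre of `(t, s)` through a point is a translate of the stabilizer -/
noncomputable def fibreIso : pullback G.j (ρ ≫ G.j) ≅ pullback (pullback.snd G.j G.diag) (ρ ≫ G.t) where
  hom := fwd G ρ
  inv := bwd G ρ
  hom_inv_id := by
    apply pullback.hom_ext
    · rw [Category.assoc, bwd_fst, comp_cmp, Category.id_comp]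
      refine (cmp_congr G (fwd_fst_fst G ρ)
        ((Category.assoc _ _ _).symm.trans (congrArg (· ≫ ρ) (fwd_snd G ρ))) _ ?_).trans
        (cmp_inv_cancel_right G _ _ (fib_s G ρ))
      simp only [cmp_s, Category.assoc, G.i_s]
    · rw [Category.assoc, bwd_snd, fwd_snd, Category.id_comp]
  inv_hom_id := by
    apply pullback.hom_ext
    · rw [Category.assoc, Category.id_comp]
      apply pullback.hom_ext
      · rw [Category.assoc, Category.assoc, fwd_fst_fst, comp_cmp]
        refine (cmp_congr G (bwd_fst G ρ)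
          (show _ = (pullback.snd (pullback.snd G.j G.diag) (ρ ≫ G.t) ≫ ρ) ≫ G.i from by
            rw [← Category.assoc, ← Category.assoc, bwd_snd]) _ ?_).trans
          (cmp_cancel_right G _ _ (stab_st G ρ))
        simp only [cmp_s, Category.assoc, G.i_t]
      · rw [Category.assoc, Category.assoc, fwd, pullback.lift_fst_assoc, pullback.lift_snd,
          ← Category.assoc, ← Category.assoc, bwd_snd, Category.assoc]
        exact pullback.condition.symm
    · rw [Category.assoc, fwd_snd, bwd_snd, Category.id_comp]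

theorem fibreIso_hom_snd :
    (fibreIso G ρ).hom ≫ pullback.snd _ _ = pullback.snd G.j (ρ ≫ G.j) :=
  fwd_snd G ρ

variable [LocallyOfFiniteType G.s]

include eU in
theorem lft_j : LocallyOfFiniteType G.j := by
  have : LocallyOfFiniteType (G.j ≫ pullback.snd G.pU G.pU) := by rw [j_snd]; infer_instance
  exact locallyOfFiniteType_of_comp G.j (pullback.snd G.pU G.pU)

include eU in
theorem topologicalKrullDim_fibre {L M : Type u} [Field L] [Field M]
    (l : Spec (CommRingCat.of L) ⟶ pullback G.pU G.pU) (b : Spec (CommRingCat.of M) ⟶ Spec (CommRingCat.of L))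
    (ρ : Spec (CommRingCat.of M) ⟶ G.R) (h : b ≫ l = ρ ≫ G.j) :
    topologicalKrullDim ↥(pullback G.j l) = topologicalKrullDim ↥G.stabilizer := by
  have := lft_j G eU
  have : LocallyOfFiniteType (pullback.snd G.j l) := inferInstance
  have h1 : IsPullback (pullback.fst (pullback.snd G.j l) b) (pullback.snd (pullback.snd G.j l) b)
      (pullback.snd G.j l) b := IsPullback.of_hasPullback _ _
  rw [← H56.DimBaseChange.topologicalKrullDim_baseChange _ _ _ _ h1]
  have : LocallyOfFiniteType G.stabilizerToU := inferInstanceAs (LocallyOfFiniteType (pullback.snd G.j G.diag))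
  have hSt : LocallyOfFiniteType (G.stabilizerToU ≫ eU.hom) := inferInstance
  have h2 : IsPullback (pullback.fst G.stabilizerToU (ρ ≫ G.t)) (pullback.snd G.stabilizerToU (ρ ≫ G.t))
      (G.stabilizerToU ≫ eU.hom) ((ρ ≫ G.t) ≫ eU.hom) :=
    IsPullback.of_iso (IsPullback.of_hasPullback _ _) (Iso.refl _) (Iso.refl _) (Iso.refl _) eU
      (by simp) (by simp) (by simp) (by simp)
  rw [← H56.DimBaseChange.topologicalKrullDim_baseChange _ _ _ _ h2]
  let e : pullback (pullback.snd G.j l) b ≅ pullback G.stabilizerToU (ρ ≫ G.t) :=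
    pullbackLeftPullbackSndIso G.j l b ≪≫ pullback.congrHom rfl h ≪≫ fibreIso G ρ
  exact IsHomeomorph.topologicalKrullDim_eq _ e.hom.homeomorph.isHomeomorph

include eU in
theorem pdim_le_stabilizer (r : G.R) :
    (pdim (sK G eU) r : WithBot ℕ∞) ≤ topologicalKrullDim ↥G.stabilizer := by
  let ρ := G.R.fromSpecResidueField r
  let sσ : CommRingCat.of k ⟶ G.R.residueField r := Lib.PointDim.Basic.kToRes (sK G eU) r
  let tτ : CommRingCat.of k ⟶ G.R.residueField r := Spec.preimage (ρ ≫ G.t ≫ eU.hom)
  have hσ : Spec.map sσ = ρ ≫ G.s ≫ eU.hom := Lib.PointDim.Basic.specMap_kToRes _ _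
  have hτ : Spec.map tτ = ρ ≫ G.t ≫ eU.hom := Spec.map_preimage _
  letI alg : Algebra k (G.R.residueField r) := sσ.hom.toAlgebra
  -- the target copy of the field is algebraic over the source copy
  have halg : ∀ x : k, IsAlgebraic k (tτ.hom x : G.R.residueField r) := by
    intro x
    by_cases hx : ∃ n : ℕ, 0 < n ∧ x ^ n = 1
    · obtain ⟨n, hn, hxn⟩ := hx
      refine ⟨(Polynomial.X : Polynomial k) ^ n - Polynomial.C 1, Polynomial.X_pow_sub_C_ne_zero hn 1, ?_⟩
      rw [map_sub, map_pow, Polynomial.aeval_X, ← map_pow, hxn]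
      simp
    obtain ⟨V, hV, hrV, -⟩ := exists_isAffineOpen_mem_and_subset (x := r) (U := ⊤) trivial
    obtain ⟨σA, hσA⟩ := Spec.map_surjective (hV.fromSpec ≫ sK G eU)
    obtain ⟨τA, hτA⟩ := Spec.map_surjective (hV.fromSpec ≫ G.t ≫ eU.hom)
    have hr : Set.range ρ ⊆ Set.range hV.fromSpec := by
      rintro _ ⟨z, rfl⟩
      rw [hV.range_fromSpec, Scheme.fromSpecResidueField_apply]
      exact hrV
    obtain ⟨ev, hev⟩ := Spec.map_surjective (IsOpenImmersion.lift hV.fromSpec ρ hr)
    have hev' : Spec.map ev ≫ hV.fromSpec = ρ := by rw [hev]; exact IsOpenImmersion.lift_fac _ _ _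
    have h1 : σA ≫ ev = sσ := Spec.map_injective (by rw [Spec.map_comp, hσA, hσ, ← Category.assoc, hev'])
    have h2 : τA ≫ ev = tτ := Spec.map_injective (by rw [Spec.map_comp, hτA, hτ, ← Category.assoc, hev'])
    letI : Algebra k Γ(G.R, V) := σA.hom.toAlgebra
    have hft : Algebra.FiniteType k Γ(G.R, V) := by
      have : LocallyOfFiniteType (Spec.map σA) := by rw [hσA]; infer_instance
      exact (HasRingHomProperty.Spec_iff (P := @LocallyOfFiniteType)).mp this
    let evₐ : Γ(G.R, V) →ₐ[k] G.R.residueField r :=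
      { ev.hom with commutes' := fun a => congrArg (fun f => f.hom a) h1 }
    let q := RingHom.ker evₐ
    have : q.IsPrime := RingHom.ker_isPrime _
    let emb : (Γ(G.R, V) ⧸ q) →ₐ[k] G.R.residueField r := Ideal.kerLiftAlg evₐ
    have hemb : Function.Injective emb := Ideal.kerLiftAlg_injective evₐ
    have hT := GrpdTwoFields.isAlgebraic_of_isUnit_pow_sub_one (k := k)
      (Ideal.Quotient.mk q (τA.hom x)) fun n hn _ => by
        rw [← map_pow, ← map_pow, ← map_one (Ideal.Quotient.mk q), ← map_one τA.hom, ← map_sub, ← map_sub]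
        exact ((IsUnit.mk0 _ (sub_ne_zero.2 fun h => hx ⟨n, hn, h⟩)).map τA.hom).map _
    have := hT.algHom emb
    convert this using 1
    exact (congrArg (fun f => f.hom x) h2).symm
  let L0 : IntermediateField k (G.R.residueField r) := IntermediateField.adjoin k (Set.range tτ.hom)
  have hL0 : Algebra.IsAlgebraic k L0 :=
    IntermediateField.isAlgebraic_adjoin fun y hy => by
      obtain ⟨x, rfl⟩ := hy
      exact (halg x).isIntegral
  let σ0 : CommRingCat.of k ⟶ CommRingCat.of L0 := CommRingCat.ofHom (algebraMap k L0)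
  let τ0 : CommRingCat.of k ⟶ CommRingCat.of L0 :=
    CommRingCat.ofHom (tτ.hom.codRestrict L0.toSubfield.toSubring
      (fun x => IntermediateField.subset_adjoin k _ ⟨x, rfl⟩))
  let incl : CommRingCat.of L0 ⟶ G.R.residueField r := CommRingCat.ofHom (R := L0) (S := ↑(G.R.residueField r)) L0.val.toRingHom
  have hσ0 : σ0 ≫ incl = sσ := by ext a; exact L0.val.commutes a
  have hτ0 : τ0 ≫ incl = tτ := by ext a; rfl
  have hσ0' : Spec.map incl ≫ (Spec.map σ0 ≫ eU.inv) = ρ ≫ G.s := by
    rw [← Category.assoc, ← Spec.map_comp, hσ0, hσ]; simp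
  have hτ0' : Spec.map incl ≫ (Spec.map τ0 ≫ eU.inv) = ρ ≫ G.t := by
    rw [← Category.assoc, ← Spec.map_comp, hτ0, hτ]; simp
  have hepi : Epi (Spec.map incl) := by
    have : Surjective (Spec.map incl) :=
      ⟨fun _ => ⟨IsLocalRing.closedPoint _, Subsingleton.elim (α := PrimeSpectrum L0) _ _⟩⟩
    exact SchemeEpi.epi_of_surjective_of_app_injective _
      (SchemeEpi.app_injective_SpecMap incl L0.val.toRingHom.injective)
  have hcond : (Spec.map τ0 ≫ eU.inv) ≫ G.pU = (Spec.map σ0 ≫ eU.inv) ≫ G.pU := by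
    rw [← cancel_epi (Spec.map incl)]
    refine (Category.assoc _ _ _).symm.trans (((congrArg (· ≫ G.pU) hτ0').trans ?_).trans
      ((congrArg (· ≫ G.pU) hσ0').symm.trans (Category.assoc _ _ _)))
    simp only [Category.assoc, G.t_over, G.s_over]
  let l : Spec (CommRingCat.of L0) ⟶ pullback G.pU G.pU := pullback.lift _ _ hcond
  have hl : Spec.map incl ≫ l = ρ ≫ G.j := by
    apply pullback.hom_ext
    · rw [Category.assoc, pullback.lift_fst, hτ0', Category.assoc, j_fst]
    · rw [Category.assoc, pullback.lift_snd, hσ0', Category.assoc, j_snd]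
  rw [← topologicalKrullDim_fibre G eU (L := L0) (M := G.R.residueField r) l (Spec.map incl) ρ hl]
  have := lft_j G eU
  have : LocallyOfFiniteType (pullback.snd G.j l) := inferInstance
  let ρ' : Spec (G.R.residueField r) ⟶ pullback G.j l := pullback.lift ρ (Spec.map incl) hl.symm
  have hρ'1 : ρ' ≫ pullback.fst G.j l = ρ := pullback.lift_fst _ _ _
  have hρ'2 : ρ' ≫ pullback.snd G.j l = Spec.map incl := pullback.lift_snd _ _ _
  let zv := Scheme.SpecToEquivOfField (G.R.residueField r) (pullback G.j l) ρ'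
  let z : ↥(pullback G.j l) := zv.1
  refine le_trans (le_of_eq ?_) (pdim_le_topologicalKrullDim_scheme (pullback.snd G.j l) z)
  rw [pdim_eq_toNat, pdim_eq_toNat]
  congr 2
  -- identify the residue field of `z` with that of `r`
  let v : (pullback G.j l).residueField z ⟶ G.R.residueField r := zv.2
  have hv : Spec.map v ≫ (pullback G.j l).fromSpecResidueField z = ρ' :=
    (Scheme.SpecToEquivOfField (G.R.residueField r) (pullback G.j l)).symm_apply_apply ρ'
  have hz : pullback.fst G.j l z = r := by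
    show (pullback.fst G.j l) (ρ' (IsLocalRing.closedPoint _)) = r
    rw [← Scheme.Hom.comp_apply, hρ'1]
    exact Scheme.fromSpecResidueField_apply r _
  have hvsurj : Function.Surjective v.hom := by
    let w : G.R.residueField (pullback.fst G.j l z) ⟶ (pullback G.j l).residueField z :=
      (pullback.fst G.j l).residueFieldMap z
    have h3 : Spec.map (w ≫ v) ≫ G.R.fromSpecResidueField (pullback.fst G.j l z) = ρ := by
      rw [Spec.map_comp, Category.assoc, Scheme.Hom.SpecMap_residueFieldMap_fromSpecResidueField,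
        ← Category.assoc, hv, hρ'1]
    have h4 : Spec.map ((G.R.residueFieldCongr hz.symm).hom ≫ w ≫ v) ≫ ρ = ρ := by
      rw [Spec.map_comp, Category.assoc]
      have h5 : Spec.map (G.R.residueFieldCongr hz.symm).hom ≫ ρ =
          G.R.fromSpecResidueField (pullback.fst G.j l z) := by
        show Spec.map (G.R.residueFieldCongr hz.symm).hom ≫ G.R.fromSpecResidueField r = _
        exact Scheme.residueFieldCongr_fromSpecResidueField hz.symm
      rw [h5]
      exact h3
    have h6 : (G.R.residueFieldCongr hz.symm).hom ≫ w ≫ v = 𝟙 _ := by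
      apply Spec.map_injective
      rw [Spec.map_id, ← cancel_mono ρ, Category.id_comp]
      exact h4
    intro y
    exact ⟨_, congrArg (fun f => f.hom y) h6⟩
  let kz : CommRingCat.of L0 ⟶ (pullback G.j l).residueField z :=
    Lib.PointDim.Basic.kToRes (pullback.snd G.j l) z
  have hkz : kz ≫ v = incl := by
    apply Spec.map_injective
    rw [Spec.map_comp, Lib.PointDim.Basic.specMap_kToRes, ← Category.assoc, hv, hρ'2]
  letI : Algebra L0 ((pullback G.j l).residueField z) := kz.hom.toAlgebra
  let e : (pullback G.j l).residueField z ≃ₐ[L0] G.R.residueField r :=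
    AlgEquiv.ofBijective { v.hom with commutes' := fun a => congrArg (fun f => f.hom a) hkz }
      ⟨v.hom.injective, hvsurj⟩
  have he := e.trdeg_eq
  have hadd := trdeg_add_eq k L0 (A := G.R.residueField r)
  rw [trdeg_eq_zero (R := k), zero_add] at hadd
  show Algebra.trdeg k (G.R.residueField r) = Algebra.trdeg L0 ((pullback G.j l).residueField z)
  rw [he, ← hadd]

include eU in
theorem topologicalKrullDim_R_eq_stabilizer :
    topologicalKrullDim ↥G.R = topologicalKrullDim ↥G.stabilizer := by
  refine le_antisymm ((topologicalKrullDim_scheme_le_iff (sK G eU) _).2 (pdim_le_stabilizer G eU)) ?_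
  have : IsImmersion (G.diag ≫ pullback.snd G.pU G.pU) := by
    rw [Grpd.GroupoidScheme.diag, pullback.lift_snd]; infer_instance
  have : IsImmersion G.diag := IsImmersion.of_comp G.diag (pullback.snd G.pU G.pU)
  have : IsImmersion (pullback.fst G.j G.diag) := MorphismProperty.pullback_fst (P := @IsImmersion) _ _ ‹_›
  exact (pullback.fst G.j G.diag).isEmbedding.isInducing.topologicalKrullDim_le

end Groth.Agent.H63.GrpdDimStab
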