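import Groth.Agent.H63.GrpdRestrict
import Groth.Agent.H63.GrpIrred
import Mathlib.AlgebraicGeometry.Morphisms.Flat

set_option autoImplicit false
universe u

open AlgebraicGeometry CategoryTheory CategoryTheory.Limits
open Groth.Agent.H63.GrpdBasic Groth.Agent.H63.GrpdRestrict Groth.Agent.H63.PullbackClosure
open Groth.Agent.H63.GrpIrred (exists_generic_over_pair geometricallyIrreducible_of_isSepClosed)

namespace Groth.Agent.H63.GrpdIrred

theorem flat_of_point {X U : Scheme.{u}} [IsIntegral U] [Subsingleton U] (f : X ⟶ U) :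
    Flat f := inferInstance

variable {S : Scheme.{u}} (G : Grpd.GroupoidScheme S) {k : Type u} [Field k]
  (eU : G.U ≅ Spec (CommRingCat.of k))

/-- the identity point -/
noncomputable abbrev ePt : G.R := G.e (eU.inv (IsLocalRing.closedPoint k))

include eU in
/-- two generizations of the identity have a common generization -/
theorem common_gen_e {y₁ y₂ : G.R} (h₁ : y₁ ⤳ ePt G eU) (h₂ : y₂ ⤳ ePt G eU) :
    ∃ z : G.R, z ⤳ y₁ ∧ z ⤳ y₂ := by
  have := isIntegral_of_iso_spec k eU
  have := subsingleton_of_iso_spec k eU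
  let Ω := AlgebraicClosure k
  let g : Spec (CommRingCat.of Ω) ⟶ G.U := Spec.map (CommRingCat.ofHom (algebraMap k Ω)) ≫ eU.inv
  have : Flat (pullback.fst G.s g) := inferInstance
  have : Flat (pullback.snd g G.t) := inferInstance
  let o := eU.inv (IsLocalRing.closedPoint k)
  obtain ⟨d₁, hd₁, -⟩ := Scheme.Pullback.exists_preimage_pullback (f := G.s) (g := g) (ePt G eU)
    (IsLocalRing.closedPoint Ω) (Subsingleton.elim _ _)
  obtain ⟨d₂, -, hd₂⟩ := Scheme.Pullback.exists_preimage_pullback (f := g) (g := G.t)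
    (IsLocalRing.closedPoint Ω) (ePt G eU) (Subsingleton.elim _ _)
  obtain ⟨w₁, hw₁, hw₁'⟩ := Flat.generalizingMap (pullback.fst G.s g)
    (show y₁ ⤳ pullback.fst G.s g d₁ by rw [hd₁]; exact h₁)
  obtain ⟨w₂, hw₂, hw₂'⟩ := Flat.generalizingMap (pullback.snd g G.t)
    (show y₂ ⤳ pullback.snd g G.t d₂ by rw [hd₂]; exact h₂)
  let sA : pullback G.s g ⟶ Spec (CommRingCat.of Ω) := pullback.snd G.s g
  let tB : pullback g G.t ⟶ Spec (CommRingCat.of Ω) := pullback.fst g G.t
  have : GeometricallyIrreducible ((pullback G.s g).fromSpecResidueField w₁ ≫ sA) :=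
    geometricallyIrreducible_of_isSepClosed ((pullback G.s g).residueField w₁) _
  obtain ⟨π, -, -, hπ⟩ := exists_generic_over_pair sA tB w₁ w₂
  let Φ : pullback sA tB ⟶ pullback G.s G.t :=
    pullback.map sA tB G.s G.t (pullback.fst G.s g) (pullback.snd g G.t) g
      pullback.condition.symm pullback.condition
  have hΦ1 : Φ ≫ pullback.fst G.s G.t = pullback.fst sA tB ≫ pullback.fst G.s g := pullback.lift_fst _ _ _
  have hΦ2 : Φ ≫ pullback.snd G.s G.t = pullback.snd sA tB ≫ pullback.snd g G.t := pullback.lift_snd _ _ _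
  have hcfst : ∀ q : ↑(pullback G.s G.t), pullback.snd G.s G.t q = ePt G eU →
      G.c q = pullback.fst G.s G.t q := by
    intro q hq
    let m : pullback G.s (G.e ≫ G.t) ⟶ pullback G.s G.t :=
      pullback.map _ _ _ _ (𝟙 _) G.e (𝟙 _) (by simp) (by simp)
    obtain ⟨v, rfl⟩ : q ∈ Set.range m := by
      show q ∈ Set.range (pullback.map _ _ G.s G.t (𝟙 _) G.e (𝟙 _) _ _)
      rw [Scheme.Pullback.range_map]
      exact ⟨⟨pullback.fst G.s G.t q, rfl⟩, ⟨_, hq.symm⟩⟩
    have hm1 : m ≫ pullback.fst G.s G.t = pullback.fst G.s (G.e ≫ G.t) :=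
      (pullback.lift_fst _ _ _).trans (Category.comp_id _)
    have hm2 : m ≫ pullback.snd G.s G.t = pullback.snd G.s (G.e ≫ G.t) ≫ G.e := pullback.lift_snd _ _ _
    have : m ≫ G.c = m ≫ pullback.fst G.s G.t := by
      conv_lhs => rw [c_eq_cmp, comp_cmp]
      refine cmp_one G _ _ ?_ _
      rw [hm2, Category.assoc, pullback.condition_assoc, ← Category.assoc m, hm2]
      simp only [Category.assoc, reassoc_of% G.e_t]
    rw [← Scheme.Hom.comp_apply, this, Scheme.Hom.comp_apply]
  have hcsnd : ∀ q : ↑(pullback G.s G.t), pullback.fst G.s G.t q = ePt G eU →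
      G.c q = pullback.snd G.s G.t q := by
    intro q hq
    let m : pullback (G.e ≫ G.s) G.t ⟶ pullback G.s G.t :=
      pullback.map _ _ _ _ G.e (𝟙 _) (𝟙 _) (by simp) (by simp)
    obtain ⟨v, rfl⟩ : q ∈ Set.range m := by
      show q ∈ Set.range (pullback.map _ _ G.s G.t G.e (𝟙 _) (𝟙 _) _ _)
      rw [Scheme.Pullback.range_map]
      exact ⟨⟨_, hq.symm⟩, ⟨pullback.snd G.s G.t q, rfl⟩⟩
    have hm1 : m ≫ pullback.fst G.s G.t = pullback.fst (G.e ≫ G.s) G.t ≫ G.e := pullback.lift_fst _ _ _
    have hm2 : m ≫ pullback.snd G.s G.t = pullback.snd (G.e ≫ G.s) G.t :=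
      (pullback.lift_snd _ _ _).trans (Category.comp_id _)
    have : m ≫ G.c = m ≫ pullback.snd G.s G.t := by
      conv_lhs => rw [c_eq_cmp, comp_cmp]
      refine one_cmp G _ _ ?_ _
      rw [hm1, Category.assoc, ← pullback.condition_assoc, ← Category.assoc m, hm1]
      simp only [Category.assoc, reassoc_of% G.e_s]
    rw [← Scheme.Hom.comp_apply, this, Scheme.Hom.comp_apply]
  refine ⟨G.c (Φ π), ?_, ?_⟩
  · obtain ⟨q, hq1, hq2⟩ := Scheme.Pullback.exists_preimage_pullback (f := sA) (g := tB) w₁ d₂
      (Subsingleton.elim (α := PrimeSpectrum Ω) _ _)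
    have he : pullback.snd G.s G.t (Φ q) = ePt G eU := by
      rw [← Scheme.Hom.comp_apply, hΦ2, Scheme.Hom.comp_apply, hq2, hd₂]
    have hy : G.c (Φ q) = y₁ := by
      rw [hcfst _ he, ← Scheme.Hom.comp_apply, hΦ1, Scheme.Hom.comp_apply, hq1, hw₁']
    rw [← hy]
    refine (Specializes.map ?_ Φ.continuous).map G.c.continuous
    rw [specializes_iff_mem_closure]
    refine closure_minimal ?_ isClosed_closure
      (mem_closure_snd sA tB q {w₂} (by rw [hq2]; exact specializes_iff_mem_closure.1 hw₂))
    rintro w ⟨hw1, hw2⟩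
    exact specializes_iff_mem_closure.1 (hπ w ((show _ = _ from hw1).trans hq1) hw2)
  · obtain ⟨q, hq1, hq2⟩ := Scheme.Pullback.exists_preimage_pullback (f := sA) (g := tB) d₁ w₂
      (Subsingleton.elim (α := PrimeSpectrum Ω) _ _)
    have he : pullback.fst G.s G.t (Φ q) = ePt G eU := by
      rw [← Scheme.Hom.comp_apply, hΦ1, Scheme.Hom.comp_apply, hq1, hd₁]
    have hy : G.c (Φ q) = y₂ := by
      rw [hcsnd _ he, ← Scheme.Hom.comp_apply, hΦ2, Scheme.Hom.comp_apply, hq2, hw₂']
    rw [← hy]
    refine (Specializes.map ?_ Φ.continuous).map G.c.continuous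
    rw [specializes_iff_mem_closure]
    refine closure_minimal ?_ isClosed_closure
      (mem_closure_fst sA tB q {w₁} (by rw [hq1]; exact specializes_iff_mem_closure.1 hw₁))
    rintro w ⟨hw1, hw2⟩
    exact specializes_iff_mem_closure.1 (hπ w hw1 ((show _ = _ from hw2).trans hq2))

/-- the base change of `s` -/
noncomputable abbrev SBC {T : Scheme.{u}} (g : T ⟶ G.U) : Scheme.{u} := pullback G.s g

include eU in
/-- common generizations at points over the identity in base changes of `s` -/
theorem common_gen_over_e {L : Type u} [Field L] (g : Spec (CommRingCat.of L) ⟶ G.U)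
    {z y₁ y₂ : SBC G g} (hz : pullback.fst G.s g z = ePt G eU) (h₁ : y₁ ⤳ z) (h₂ : y₂ ⤳ z) :
    ∃ w : SBC G g, w ⤳ y₁ ∧ w ⤳ y₂ := by
  have := isIntegral_of_iso_spec k eU
  have := subsingleton_of_iso_spec k eU
  let G' := restrict G g
  have : Flat (toBaseChange G g) := by
    unfold toBaseChange
    exact MorphismProperty.pullback_map (P := @Flat) (inferInstanceAs (Flat (pullback.snd g G.t)))
      inferInstance rfl (by simp)
  let p₀ : G'.R := ee G g (IsLocalRing.closedPoint L)
  have hp₀ : toBaseChange G g p₀ = z := by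
    let m : pullback (G.e ≫ G.s) g ⟶ pullback G.s g :=
      pullback.map _ _ _ _ G.e (𝟙 _) (𝟙 _) (by simp) (by simp)
    have hr : ∀ q, pullback.fst G.s g q = ePt G eU → q ∈ Set.range m := by
      intro q hq
      show q ∈ Set.range (pullback.map _ _ G.s g G.e (𝟙 _) (𝟙 _) _ _)
      rw [Scheme.Pullback.range_map]
      exact ⟨⟨_, hq.symm⟩, ⟨pullback.snd G.s g q, rfl⟩⟩
    have : IsIso (G.e ≫ G.s) := G.e_s.symm ▸ inferInstanceAs (IsIso (𝟙 _))
    have : IsIso (pullback.snd (G.e ≫ G.s) g) := inferInstance
    have hsub : Subsingleton ↑(pullback (G.e ≫ G.s) g) :=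
      ((pullback.snd (G.e ≫ G.s) g).homeomorph.injective).subsingleton
    have he : pullback.fst G.s g (toBaseChange G g p₀) = ePt G eU := by
      show (ee G g ≫ toBaseChange G g ≫ pullback.fst G.s g) _ = _
      rw [toBaseChange_fst, ee, mk_pr, Scheme.Hom.comp_apply]
      exact congrArg G.e (Subsingleton.elim _ _)
    obtain ⟨v, hv⟩ := hr _ he
    obtain ⟨v', hv'⟩ := hr _ hz
    rw [← hv, ← hv', Subsingleton.elim v v']
  obtain ⟨x₁, hx₁, hx₁'⟩ := Flat.generalizingMap (toBaseChange G g)
    (show y₁ ⤳ toBaseChange G g p₀ by rw [hp₀]; exact h₁)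
  obtain ⟨x₂, hx₂, hx₂'⟩ := Flat.generalizingMap (toBaseChange G g)
    (show y₂ ⤳ toBaseChange G g p₀ by rw [hp₀]; exact h₂)
  obtain ⟨w, hw₁, hw₂⟩ := common_gen_e G' (Iso.refl _ : G'.U ≅ Spec (CommRingCat.of L))
    (y₁ := x₁) (y₂ := x₂) hx₁ hx₂
  refine ⟨toBaseChange G g w, ?_, ?_⟩
  · exact hx₁' ▸ hw₁.map (toBaseChange G g).continuous
  · exact hx₂' ▸ hw₂.map (toBaseChange G g).continuous

/-- the diagonal point over `r` -/
noncomputable def diagAt (r : G.R) : Spec (G.R.residueField r) ⟶ SBC G (G.R.fromSpecResidueField r ≫ G.s) :=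
  pullback.lift (G.R.fromSpecResidueField r) (𝟙 _) (Category.id_comp _).symm

/-- translation of the source fibre at `r` to the one at the target of `r` -/
noncomputable def transl (r : G.R) :
    SBC G (G.R.fromSpecResidueField r ≫ G.s) ≅ SBC G (G.R.fromSpecResidueField r ≫ G.t) where
  hom := pullback.lift
    (cmp G (pullback.fst _ _) (pullback.snd _ _ ≫ G.R.fromSpecResidueField r ≫ G.i)
      (by simp only [Category.assoc, G.i_t]; exact pullback.condition))
    (pullback.snd _ _) (by rw [cmp_s]; simp only [Category.assoc, G.i_s])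
  inv := pullback.lift
    (cmp G (pullback.fst _ _) (pullback.snd _ _ ≫ G.R.fromSpecResidueField r)
      (by simp only [Category.assoc]; exact pullback.condition))
    (pullback.snd _ _) (by rw [cmp_s]; simp only [Category.assoc])
  hom_inv_id := by
    apply pullback.hom_ext
    · rw [Category.assoc, pullback.lift_fst, comp_cmp, Category.id_comp]
      rw [cmp_congr G (pullback.lift_fst _ _ _) (pullback.lift_snd_assoc _ _ _ _) _
        (by simp only [cmp_s, Category.assoc, G.i_s])]
      refine (cmp_congr G (cmp_congr G rfl (Category.assoc _ _ _).symm _ ?_) rfl _ ?_).trans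
        (cmp_inv_cancel_right G _ _ ?_)
      · simp only [Category.assoc, G.i_t]; exact pullback.condition
      · simp only [cmp_s, Category.assoc, G.i_s]
      · simp only [cmp_s, Category.assoc, G.i_s, G.i_t]; exact pullback.condition
    · rw [Category.assoc, pullback.lift_snd, pullback.lift_snd, Category.id_comp]
  inv_hom_id := by
    apply pullback.hom_ext
    · rw [Category.assoc, pullback.lift_fst, comp_cmp, Category.id_comp]
      rw [cmp_congr G (pullback.lift_fst _ _ _) (pullback.lift_snd_assoc _ _ _ _) _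
        (by simp only [cmp_s, Category.assoc, G.i_t])]
      refine (cmp_congr G rfl (Category.assoc _ _ _).symm _ ?_).trans
        (cmp_cancel_right G _ _ ?_)
      · simp only [cmp_s, Category.assoc, G.i_t]
      · simp only [Category.assoc]; exact pullback.condition
    · rw [Category.assoc, pullback.lift_snd, pullback.lift_snd, Category.id_comp]

theorem transl_diagAt (r : G.R) :
    diagAt G r ≫ (transl G r).hom ≫ pullback.fst _ _ = G.R.fromSpecResidueField r ≫ G.t ≫ G.e := by
  show _ ≫ pullback.lift _ _ _ ≫ _ = _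
  rw [pullback.lift_fst, comp_cmp]
  refine (cmp_congr G (pullback.lift_fst _ _ _) ((pullback.lift_snd_assoc _ _ _ _).trans
    (Category.id_comp _)) _ ?_).trans ?_
  · rw [Category.assoc, G.i_t]
  · exact cmp_inv G _

include eU in
theorem transl_diagAt_apply (r : G.R) :
    (pullback.fst G.s (G.R.fromSpecResidueField r ≫ G.t)) ((transl G r).hom (diagAt G r (IsLocalRing.closedPoint (G.R.residueField r)))) =
      ePt G eU := by
  have := subsingleton_of_iso_spec k eU
  rw [← Scheme.Hom.comp_apply, ← Scheme.Hom.comp_apply, transl_diagAt]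
  simp only [Scheme.Hom.comp_apply]
  exact congrArg G.e (Subsingleton.elim _ _)

theorem diagAt_fst (r : G.R) :
    (pullback.fst G.s (G.R.fromSpecResidueField r ≫ G.s)) (diagAt G r (IsLocalRing.closedPoint (G.R.residueField r))) = r := by
  rw [← Scheme.Hom.comp_apply, diagAt, pullback.lift_fst]
  exact Scheme.fromSpecResidueField_apply r _

include eU in
/-- two generizations of any arrow have a common generization -/
theorem common_gen {r y₁ y₂ : G.R} (h₁ : y₁ ⤳ r) (h₂ : y₂ ⤳ r) : ∃ z : G.R, z ⤳ y₁ ∧ z ⤳ y₂ := by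
  have := isIntegral_of_iso_spec k eU
  have := subsingleton_of_iso_spec k eU
  have : Flat (pullback.fst G.s (G.R.fromSpecResidueField r ≫ G.s)) := inferInstance
  let pr' := pullback.fst G.s (G.R.fromSpecResidueField r ≫ G.s)
  let d := diagAt G r (IsLocalRing.closedPoint (G.R.residueField r))
  obtain ⟨x₁, hx₁, hx₁'⟩ := Flat.generalizingMap pr' (show y₁ ⤳ pr' d by rw [diagAt_fst]; exact h₁)
  obtain ⟨x₂, hx₂, hx₂'⟩ := Flat.generalizingMap pr' (show y₂ ⤳ pr' d by rw [diagAt_fst]; exact h₂)
  obtain ⟨w, hw₁, hw₂⟩ := common_gen_over_e G eU (L := G.R.residueField r) _ (transl_diagAt_apply G eU r)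
    (hx₁.map (transl G r).hom.continuous) (hx₂.map (transl G r).hom.continuous)
  have hinv : ∀ x, (transl G r).inv ((transl G r).hom x) = x := fun x => by
    rw [← Scheme.Hom.comp_apply, Iso.hom_inv_id]; rfl
  refine ⟨pr' ((transl G r).inv w), ?_, ?_⟩
  · have := (hw₁.map (transl G r).inv.continuous).map pr'.continuous
    rwa [hinv, hx₁'] at this
  · have := (hw₂.map (transl G r).inv.continuous).map pr'.continuous
    rwa [hinv, hx₂'] at this

/-- the generic point of the irreducible component through an arrow -/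
noncomputable def genR (r : G.R) : G.R :=
  (isIrreducible_irreducibleComponent (x := r)).genericPoint

theorem genR_isGeneric (r : G.R) : IsGenericPoint (genR G r) (irreducibleComponent r) :=
  IsIrreducible.isGenericPoint_genericPoint _ isClosed_irreducibleComponent

theorem genR_specializes (r : G.R) : genR G r ⤳ r :=
  (genR_isGeneric G r).specializes mem_irreducibleComponent

theorem genR_max {r z : G.R} (h : z ⤳ genR G r) : z = genR G r := by
  have h1 : irreducibleComponent r ⊆ closure {z} := by
    rw [← (genR_isGeneric G r).def]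
    exact closure_minimal (Set.singleton_subset_iff.2 h.mem_closure) isClosed_closure
  have h2 := (irreducibleComponent_mem_irreducibleComponents r).2
    (isIrreducible_singleton.closure) h1
  exact ((genR_isGeneric G r).specializes (h2 (subset_closure rfl))).antisymm h |>.eq.symm

include eU in
theorem genR_of_specializes {r y : G.R} (h : y ⤳ r) : genR G r ⤳ y := by
  obtain ⟨z, hz1, hz2⟩ := common_gen G eU (genR_specializes G r) h
  rwa [genR_max G hz1] at hz2

include eU in
theorem genR_eq_of_specializes {r y : G.R} (h : y ⤳ r) : genR G y = genR G r := by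
  have h1 := genR_of_specializes G eU ((genR_specializes G y).trans h)
  exact (genR_max G h1).symm

theorem irreducibleComponent_eq (r : G.R) : irreducibleComponent r = closure {genR G r} :=
  (genR_isGeneric G r).def.symm

include eU in
theorem mem_component_iff {r y : G.R} : y ∈ irreducibleComponent r ↔ genR G y = genR G r := by
  constructor
  · intro h
    exact genR_max G (genR_of_specializes G eU ((genR_isGeneric G r).specializes h))
  · intro h
    rw [irreducibleComponent_eq, ← h]
    exact (genR_specializes G y).mem_closure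

include eU in
theorem eq_irreducibleComponent {Z : Set G.R} (hZ : Z ∈ irreducibleComponents G.R) {r : G.R} (hr : r ∈ Z) :
    Z = irreducibleComponent r := by
  obtain ⟨z, hz⟩ := QuasiSober.sober hZ.1 (isClosed_of_mem_irreducibleComponents Z hZ)
  have h1 : Z ⊆ irreducibleComponent r := by
    rw [← hz.def, irreducibleComponent_eq]
    exact closure_minimal (Set.singleton_subset_iff.2
      (genR_of_specializes G eU (hz.specializes hr)).mem_closure) isClosed_closure
  exact h1.antisymm (hZ.2 isIrreducible_irreducibleComponent h1)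

end Groth.Agent.H63.GrpdIrred
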