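import Groth.Agent.H63.GrpdStab
import Mathlib.AlgebraicGeometry.Sites.Fpqc
import Mathlib.AlgebraicGeometry.Sites.Etale
import Mathlib.CategoryTheory.MorphismProperty.Local

/-!
# Invariance of loci of properties local on the target
-/

set_option autoImplicit false
universe u

open AlgebraicGeometry CategoryTheory CategoryTheory.Limits
open Groth.Agent.H63.GrpdBasic Groth.Agent.H63.GrpdStab

namespace Groth.Agent.H63.GrpdLocal

variable (P : MorphismProperty Scheme.{u})

theorem iff_of_isPullback [P.RespectsIso] {A X Y U : Scheme.{u}} {q : A ⟶ X} {p : A ⟶ Y}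
    {f : X ⟶ U} {g : Y ⟶ U} (h : IsPullback q p f g) : P p ↔ P (pullback.snd f g) :=
  P.arrow_mk_iso_iff (Arrow.isoMk h.isoPullback (Iso.refl _)
    (by simp))

theorem snd_comp_iff [P.RespectsIso] {X Y Y' U : Scheme.{u}} (f : X ⟶ U) (g : Y ⟶ U) (g' : Y' ⟶ Y) :
    P (pullback.snd f (g' ≫ g)) ↔ P (pullback.snd (pullback.snd f g) g') :=
  (iff_of_isPullback P ((IsPullback.of_hasPullback (pullback.snd f g) g').paste_horiz
    (IsPullback.of_hasPullback f g))).symm

theorem restrict_iff [P.RespectsIso] {X U : Scheme.{u}} (f : X ⟶ U) (W : U.Opens) :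
    P (f ∣_ W) ↔ P (pullback.snd f W.ι) := by
  rw [← pullbackRestrictIsoRestrict_hom_morphismRestrict, P.cancel_left_of_respectsIso]

variable (Q : MorphismProperty Scheme.{u})

/-- covers by one morphism with a property stable under base change, composition, open immersions -/
theorem preimage_subset {X U R : Scheme.{u}} [Q.IsStableUnderBaseChange]
    [Q.IsStableUnderComposition] (hopenimm : ∀ {A B : Scheme.{u}} (g : A ⟶ B) [IsOpenImmersion g], Q g)
    (hopen : ∀ {A B : Scheme.{u}} (g : A ⟶ B), Q g → IsOpenMap g)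
    [P.IsLocalAtTarget (Scheme.precoverage Q)]
    (f : X ⟶ U) (a b : R ⟶ U) (ha : Q a) (hb : Q b)
    (hsa : Function.Surjective a.base)
    (e : pullback f a ≅ pullback f b) (he : e.hom ≫ pullback.snd f b = pullback.snd f a)
    (W : U.Opens) (hW : P (f ∣_ W)) (hmax : ∀ W' : U.Opens, P (f ∣_ W') → W' ≤ W) (r : R)
    (hr : a r ∈ W) : b r ∈ W := by
  let T : R.Opens := a ⁻¹ᵁ W
  let O : U.Opens := ⟨b '' (T : Set R), hopen b hb _ T.2⟩
  have hTO : T ≤ b ⁻¹ᵁ O := fun x hx ↦ ⟨x, hx, rfl⟩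
  let h : (T : Scheme.{u}) ⟶ O := R.homOfLE hTO ≫ (b ∣_ O)
  have hh : h ≫ O.ι = T.ι ≫ b := by simp [h]
  have hQ : Q h := Q.comp_mem _ _ (hopenimm _)
    (Q.of_isPullback (isPullback_morphismRestrict b O).flip hb)
  have hcovh : Presieve.singleton h ∈ Scheme.precoverage Q (O : Scheme.{u}) := by
    rw [Scheme.singleton_mem_precoverage_iff]
    refine ⟨?_, hQ⟩
    rintro ⟨y, x, hx, hxy⟩
    refine ⟨⟨x, hx⟩, Subtype.ext ?_⟩
    have := congrArg (fun g : (T : Scheme.{u}) ⟶ U ↦ g ⟨x, hx⟩) hh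
    simp only [Scheme.Hom.comp_apply] at this
    exact this.trans hxy
  -- the base change over `T`
  have : Surjective a := ⟨hsa⟩
  have hcova : Presieve.singleton (a ∣_ W) ∈ Scheme.precoverage Q (W : Scheme.{u}) := by
    rw [Scheme.singleton_mem_precoverage_iff]
    exact ⟨(MorphismProperty.of_isPullback (isPullback_morphismRestrict a W).flip
      ‹Surjective a› : Surjective (a ∣_ W)).surj, Q.of_isPullback (isPullback_morphismRestrict a W).flip ha⟩
  have hT : P (pullback.snd (pullback.snd f W.ι) (a ∣_ W)) :=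
    MorphismProperty.IsLocalAtTarget.pullbackSnd hcova ⟨⟩ ((restrict_iff P f W).1 hW)
  have hT₁ : P (pullback.snd f (T.ι ≫ a)) := by
    have h1 := (snd_comp_iff P f W.ι (a ∣_ W)).2 hT
    have h2 : (a ∣_ W) ≫ W.ι = T.ι ≫ a := morphismRestrict_ι a W
    exact h2 ▸ h1
  have h3 : P (pullback.snd (pullback.snd f b) T.ι) := by
    refine (P.arrow_mk_iso_iff ?_).1 ((snd_comp_iff P f a T.ι).1 hT₁)
    exact Arrow.isoMk
      (asIso (pullback.map (pullback.snd f a) T.ι (pullback.snd f b) T.ι e.hom (𝟙 _) (𝟙 _) (by simp [he]) (by simp)))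
      (Iso.refl _) (by simp only [asIso_hom]; erw [pullback.lift_snd]; simp)
  have hT' : P (pullback.snd (pullback.snd f O.ι) h) := by
    have h4 := (snd_comp_iff P f b T.ι).2 h3
    rw [← hh] at h4
    exact (snd_comp_iff P f O.ι h).1 h4
  have hO : P (f ∣_ O) := by
    refine (restrict_iff P f O).2 ?_
    exact MorphismProperty.IsLocalAtTarget.of_forall_pullbackSnd hcovh (by
      rintro _ _ _ ⟨⟩; exact hT')
  exact hmax O hO ⟨r, hr, rfl⟩

end Groth.Agent.H63.GrpdLocal

namespace Groth.Agent.H63.GrpdLocal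

variable {S : Scheme.{u}} (G : Grpd.GroupoidScheme S)

/-- base changes of `s` along `s` and along `t` agree over `R` -/
theorem exists_iso_s : ∃ e : pullback G.s G.s ≅ pullback G.s G.t,
    e.hom ≫ pullback.snd G.s G.t = pullback.snd G.s G.s :=
  ⟨(isPullback_c_snd G).isoPullback.symm, (isPullback_c_snd G).isoPullback_inv_snd⟩

/-- `x ∘ γ ∘ x⁻¹` -/
noncomputable def conjArr {T : Scheme.{u}} (x γ : T ⟶ G.R) (hs : γ ≫ G.s = x ≫ G.s) (ht : γ ≫ G.t = x ≫ G.s) :
    T ⟶ G.R :=
  cmp G (cmp G x γ ht.symm) (x ≫ G.i) (by rw [cmp_s, Category.assoc, G.i_t, hs])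

theorem conjArr_s {T : Scheme.{u}} (x γ : T ⟶ G.R) (hs : γ ≫ G.s = x ≫ G.s) (ht : γ ≫ G.t = x ≫ G.s) :
    conjArr G x γ hs ht ≫ G.s = x ≫ G.t := by
  rw [conjArr, cmp_s, Category.assoc, G.i_s]

theorem conjArr_t {T : Scheme.{u}} (x γ : T ⟶ G.R) (hs : γ ≫ G.s = x ≫ G.s) (ht : γ ≫ G.t = x ≫ G.s) :
    conjArr G x γ hs ht ≫ G.t = x ≫ G.t := by
  rw [conjArr, cmp_t, cmp_t]

theorem conjArr_inv {T : Scheme.{u}} (x γ : T ⟶ G.R) (hs : γ ≫ G.s = x ≫ G.s) (ht : γ ≫ G.t = x ≫ G.s)
    (y γ' : T ⟶ G.R) (hy : y = x ≫ G.i) (hγ : γ' = conjArr G x γ hs ht) (hs' : γ' ≫ G.s = y ≫ G.s)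
    (ht' : γ' ≫ G.t = y ≫ G.s) : conjArr G y γ' hs' ht' = γ := by
  subst hy hγ
  have e1 : cmp G (x ≫ G.i) (conjArr G x γ hs ht) (by rw [conjArr_t, Category.assoc, G.i_s]) =
      cmp G γ (x ≫ G.i) (by rw [hs, Category.assoc, G.i_t]) := by
    have := cmp_congr G (α := x ≫ G.i) rfl
      (cmp_assoc G x γ (x ≫ G.i) ht.symm (by rw [hs, Category.assoc, G.i_t]))
      (by rw [cmp_t, cmp_t, Category.assoc, G.i_s]) (by rw [cmp_t, Category.assoc, G.i_s])
    exact this.trans (inv_cmp_cancel G x _ (by rw [cmp_t, ht]))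
  have hii : (x ≫ G.i) ≫ G.i = x := by rw [Category.assoc, i_i, Category.comp_id]
  unfold conjArr at e1 ⊢
  rw [cmp_congr G e1 hii _ (by rw [cmp_s, Category.assoc, G.i_s])]
  exact cmp_inv_cancel_right G γ x (by rw [hs])

theorem stab_s {T : Scheme.{u}} (α : T ⟶ pullback G.j G.diag) :
    (α ≫ pullback.fst G.j G.diag) ≫ G.s = α ≫ pullback.snd G.j G.diag := by
  rw [Category.assoc]
  refine congrArg (α ≫ ·) ?_
  have := congrArg (· ≫ pullback.snd G.pU G.pU) (pullback.condition (f := G.j) (g := G.diag))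
  simpa using this

theorem stab_t {T : Scheme.{u}} (α : T ⟶ pullback G.j G.diag) :
    (α ≫ pullback.fst G.j G.diag) ≫ G.t = α ≫ pullback.snd G.j G.diag := by
  rw [Category.assoc]
  refine congrArg (α ≫ ·) ?_
  have := congrArg (· ≫ pullback.fst G.pU G.pU) (pullback.condition (f := G.j) (g := G.diag))
  simpa using this

/-- a point of the stabilizer -/
noncomputable def stabPt {T : Scheme.{u}} (γ : T ⟶ G.R) (q : T ⟶ G.U) (hs : γ ≫ G.s = q)
    (ht : γ ≫ G.t = q) : T ⟶ pullback G.j G.diag :=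
  pullback.lift γ q (by apply pullback.hom_ext <;> simp [hs, ht])

theorem stabPt_fst {T : Scheme.{u}} (γ : T ⟶ G.R) (q : T ⟶ G.U) (hs : γ ≫ G.s = q) (ht : γ ≫ G.t = q) :
    stabPt G γ q hs ht ≫ pullback.fst G.j G.diag = γ := pullback.lift_fst _ _ _

theorem stabPt_snd {T : Scheme.{u}} (γ : T ⟶ G.R) (q : T ⟶ G.U) (hs : γ ≫ G.s = q) (ht : γ ≫ G.t = q) :
    stabPt G γ q hs ht ≫ pullback.snd G.j G.diag = q := pullback.lift_snd _ _ _

variable (x : G.R ⟶ G.R) (a b : G.R ⟶ G.U) (hs : x ≫ G.s = a) (ht : x ≫ G.t = b)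

/-- conjugation of the stabilizer along arrows -/
noncomputable def conj : pullback (pullback.snd G.j G.diag) a ⟶ pullback (pullback.snd G.j G.diag) b :=
  pullback.lift
    (stabPt G (conjArr G (pullback.snd (pullback.snd G.j G.diag) a ≫ x)
        (pullback.fst (pullback.snd G.j G.diag) a ≫ pullback.fst G.j G.diag)
        (by rw [stab_s, pullback.condition, Category.assoc, hs])
        (by rw [stab_t, pullback.condition, Category.assoc, hs]))
      (pullback.snd _ _ ≫ b) (by rw [conjArr_s, Category.assoc, ht]) (by rw [conjArr_t, Category.assoc, ht]))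
    (pullback.snd _ _) (stabPt_snd G _ _ _ _)

theorem conj_snd : conj G x a b hs ht ≫ pullback.snd _ _ = pullback.snd _ _ :=
  pullback.lift_snd _ _ _

theorem conj_fst : conj G x a b hs ht ≫ pullback.fst _ _ ≫ pullback.fst G.j G.diag =
    conjArr G (pullback.snd (pullback.snd G.j G.diag) a ≫ x)
      (pullback.fst (pullback.snd G.j G.diag) a ≫ pullback.fst G.j G.diag)
      (by rw [stab_s, pullback.condition, Category.assoc, hs])
      (by rw [stab_t, pullback.condition, Category.assoc, hs]) := by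
  rw [conj, pullback.lift_fst_assoc, stabPt_fst]

theorem comp_conjArr {T T' : Scheme.{u}} (π : T' ⟶ T) (x γ : T ⟶ G.R) (hs : γ ≫ G.s = x ≫ G.s)
    (ht : γ ≫ G.t = x ≫ G.s) : π ≫ conjArr G x γ hs ht =
      conjArr G (π ≫ x) (π ≫ γ) (by rw [Category.assoc, Category.assoc, hs])
        (by rw [Category.assoc, Category.assoc, ht]) := by
  unfold conjArr
  rw [comp_cmp]
  exact cmp_congr G (comp_cmp G π x γ ht.symm) (Category.assoc π x G.i).symm _ _

theorem conj_conj : conj G x a b hs ht ≫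
    conj G (x ≫ G.i) b a (by rw [Category.assoc, G.i_s, ht]) (by rw [Category.assoc, G.i_t, hs]) = 𝟙 _ := by
  apply pullback.hom_ext
  · apply pullback.hom_ext
    · simp only [Category.assoc, Category.id_comp]
      rw [conj_fst G (x ≫ G.i), comp_conjArr]
      exact conjArr_inv G _ _ _ _ _ _ (by rw [← Category.assoc, conj_snd, ← Category.assoc])
        (conj_fst G x a b hs ht) _ _
    · rw [Category.id_comp, pullback.condition, Category.assoc, Category.assoc,
        pullback.condition]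
      rw [← Category.assoc (conj G (x ≫ G.i) b a _ _), conj_snd, ← Category.assoc, conj_snd]
  · rw [Category.id_comp, Category.assoc, conj_snd, conj_snd]

/-- base changes of the stabilizer along `s` and `t` agree over `R` -/
theorem exists_iso_stab :
    ∃ e : pullback G.stabilizerToU G.s ≅ pullback G.stabilizerToU G.t,
      e.hom ≫ pullback.snd G.stabilizerToU G.t = pullback.snd G.stabilizerToU G.s := by
  refine ⟨⟨conj G (𝟙 _) G.s G.t (Category.id_comp _) (Category.id_comp _),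
    conj G G.i G.t G.s G.i_s G.i_t, ?_, ?_⟩, conj_snd G (𝟙 _) G.s G.t (Category.id_comp _) (Category.id_comp _)⟩
  · have := conj_conj G (𝟙 _) G.s G.t (Category.id_comp _) (Category.id_comp _)
    simp only [Category.id_comp] at this
    exact this
  · have := conj_conj G G.i G.t G.s G.i_s G.i_t
    simp only [i_i] at this
    exact this

theorem invariant_of_iso {X : Scheme.{u}} (Q : MorphismProperty Scheme.{u}) [Q.IsStableUnderBaseChange]
    [Q.IsStableUnderComposition] (hopenimm : ∀ {A B : Scheme.{u}} (g : A ⟶ B) [IsOpenImmersion g], Q g)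
    (hopen : ∀ {A B : Scheme.{u}} (g : A ⟶ B), Q g → IsOpenMap g)
    (P : MorphismProperty Scheme.{u}) [P.IsLocalAtTarget (Scheme.precoverage Q)]
    (hs : Presieve.singleton G.s ∈ Scheme.precoverage Q G.U)
    (ht : Presieve.singleton G.t ∈ Scheme.precoverage Q G.U)
    (f : X ⟶ G.U) (e : pullback f G.s ≅ pullback f G.t)
    (he : e.hom ≫ pullback.snd f G.t = pullback.snd f G.s)
    (W : G.U.Opens) (hW : P (f ∣_ W)) (hmax : ∀ W' : G.U.Opens, P (f ∣_ W') → W' ≤ W) :
    G.s ⁻¹ᵁ W = G.t ⁻¹ᵁ W := by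
  rw [Scheme.singleton_mem_precoverage_iff] at hs ht
  ext r
  exact ⟨fun hr ↦ preimage_subset P Q hopenimm hopen f G.s G.t hs.2 ht.2 hs.1 e he W hW hmax r hr,
    fun hr ↦ preimage_subset P Q hopenimm hopen f G.t G.s ht.2 hs.2 ht.1 e.symm
      (by rw [← he, Iso.symm_hom, e.inv_hom_id_assoc]) W hW hmax r hr⟩

theorem invariant {X : Scheme.{u}} (K : Precoverage Scheme.{u})
    (hK : K = Scheme.zariskiPrecoverage ∨ K = Scheme.etalePrecoverage ∨
      K = Scheme.precoverage @Smooth ∨ K = Scheme.fppfPrecoverage)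
    (P : MorphismProperty Scheme.{u}) [P.IsLocalAtTarget K]
    (hs : Presieve.singleton G.s ∈ K G.U) (ht : Presieve.singleton G.t ∈ K G.U)
    (f : X ⟶ G.U) (e : pullback f G.s ≅ pullback f G.t)
    (he : e.hom ≫ pullback.snd f G.t = pullback.snd f G.s)
    (W : G.U.Opens) (hW : P (f ∣_ W)) (hmax : ∀ W' : G.U.Opens, P (f ∣_ W') → W' ≤ W) :
    G.s ⁻¹ᵁ W = G.t ⁻¹ᵁ W := by
  rcases hK with rfl | rfl | rfl | rfl
  · exact invariant_of_iso G @IsOpenImmersion (fun g _ ↦ inferInstance)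
      (fun g h ↦ by have := h; exact g.isOpenEmbedding.isOpenMap) P hs ht f e he W hW hmax
  · have : P.IsLocalAtTarget (Scheme.precoverage @Etale) := ‹P.IsLocalAtTarget Scheme.etalePrecoverage›
    exact invariant_of_iso G @Etale (fun g _ ↦ inferInstance)
      (fun g h ↦ by have := h; exact g.isOpenMap) P hs ht f e he W hW hmax
  · exact invariant_of_iso G @Smooth (fun g _ ↦ inferInstance)
      (fun g h ↦ by have := h; exact g.isOpenMap) P hs ht f e he W hW hmax
  · have : P.IsLocalAtTarget (Scheme.precoverage (@Flat ⊓ @LocallyOfFinitePresentation)) :=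
      ‹P.IsLocalAtTarget Scheme.fppfPrecoverage›
    exact invariant_of_iso G (@Flat ⊓ @LocallyOfFinitePresentation) (fun g _ ↦ ⟨inferInstance, inferInstance⟩)
      (fun g h ↦ by have := h.1; have := h.2; exact g.isOpenMap) P hs ht f e he W hW hmax

end Groth.Agent.H63.GrpdLocal
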