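import Groth.Agent.H63.GrpdBasic

set_option autoImplicit false
universe u

open AlgebraicGeometry CategoryTheory CategoryTheory.Limits
open Groth.Agent.H63.GrpdBasic

namespace Groth.Agent.H63.GrpdRestrict

variable {S : Scheme.{u}} (G : Grpd.GroupoidScheme S) {V : Scheme.{u}} (f : V ⟶ G.U)

/-- arrows of the restricted groupoid -/
noncomputable abbrev RR : Scheme.{u} := pullback (pullback.snd f G.t ≫ G.s) f

/-- target -/
noncomputable def tt : RR G f ⟶ V :=
  pullback.fst (pullback.snd f G.t ≫ G.s) f ≫ pullback.fst f G.t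

/-- source -/
noncomputable def ss : RR G f ⟶ V := pullback.snd (pullback.snd f G.t ≫ G.s) f

/-- underlying arrow -/
noncomputable def pr : RR G f ⟶ G.R :=
  pullback.fst (pullback.snd f G.t ≫ G.s) f ≫ pullback.snd f G.t

theorem pr_t : pr G f ≫ G.t = tt G f ≫ f := by
  simp only [pr, tt, Category.assoc]
  rw [pullback.condition]

theorem pr_s : pr G f ≫ G.s = ss G f ≫ f := by
  simp only [pr, ss, Category.assoc]
  rw [← pullback.condition]

variable {T : Scheme.{u}}

/-- constructor of points -/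
noncomputable def mk (a : T ⟶ V) (β : T ⟶ G.R) (b : T ⟶ V) (ha : a ≫ f = β ≫ G.t)
    (hb : β ≫ G.s = b ≫ f) : T ⟶ RR G f :=
  pullback.lift (pullback.lift a β ha) b (by rw [← Category.assoc, pullback.lift_snd, hb])

theorem mk_tt (a : T ⟶ V) (β : T ⟶ G.R) (b : T ⟶ V) (ha) (hb) : mk G f a β b ha hb ≫ tt G f = a := by
  rw [mk, tt, pullback.lift_fst_assoc, pullback.lift_fst]

theorem mk_pr (a : T ⟶ V) (β : T ⟶ G.R) (b : T ⟶ V) (ha) (hb) : mk G f a β b ha hb ≫ pr G f = β := by
  rw [mk, pr, pullback.lift_fst_assoc, pullback.lift_snd]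

theorem mk_ss (a : T ⟶ V) (β : T ⟶ G.R) (b : T ⟶ V) (ha) (hb) : mk G f a β b ha hb ≫ ss G f = b := by
  rw [mk, ss, pullback.lift_snd]

theorem ext {m m' : T ⟶ RR G f} (h1 : m ≫ tt G f = m' ≫ tt G f) (h2 : m ≫ pr G f = m' ≫ pr G f)
    (h3 : m ≫ ss G f = m' ≫ ss G f) : m = m' := by
  apply pullback.hom_ext
  · apply pullback.hom_ext
    · simpa [tt] using h1
    · simpa [pr] using h2
  · exact h3

theorem pr_comp_cond (α β : T ⟶ RR G f) (h : α ≫ ss G f = β ≫ tt G f) :
    (α ≫ pr G f) ≫ G.s = (β ≫ pr G f) ≫ G.t := by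
  rw [Category.assoc, Category.assoc, pr_s, pr_t, reassoc_of% h]

/-- composition -/
noncomputable def cc : pullback (ss G f) (tt G f) ⟶ RR G f :=
  mk G f (pullback.fst _ _ ≫ tt G f)
    (cmp G (pullback.fst _ _ ≫ pr G f) (pullback.snd _ _ ≫ pr G f)
      (pr_comp_cond G f _ _ pullback.condition))
    (pullback.snd _ _ ≫ ss G f)
    (by rw [cmp_t, Category.assoc, Category.assoc, pr_t])
    (by rw [cmp_s, Category.assoc, Category.assoc, pr_s])

variable (α β : T ⟶ RR G f) (h : α ≫ ss G f = β ≫ tt G f)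

theorem lift_cc_tt : (pullback.lift α β h ≫ cc G f) ≫ tt G f = α ≫ tt G f := by
  rw [Category.assoc, cc, mk_tt, pullback.lift_fst_assoc]

theorem lift_cc_ss : (pullback.lift α β h ≫ cc G f) ≫ ss G f = β ≫ ss G f := by
  rw [Category.assoc, cc, mk_ss, pullback.lift_snd_assoc]

theorem lift_cc_pr : (pullback.lift α β h ≫ cc G f) ≫ pr G f =
    cmp G (α ≫ pr G f) (β ≫ pr G f) (pr_comp_cond G f α β h) := by
  rw [Category.assoc, cc, mk_pr, comp_cmp]
  exact cmp_congr G (pullback.lift_fst_assoc _ _ _ _) (pullback.lift_snd_assoc _ _ _ _) _ _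

/-- the identity -/
noncomputable def ee : V ⟶ RR G f :=
  mk G f (𝟙 V) (f ≫ G.e) (𝟙 V) (by rw [Category.id_comp, Category.assoc, G.e_t, Category.comp_id])
    (by rw [Category.id_comp, Category.assoc, G.e_s, Category.comp_id])

/-- the inverse -/
noncomputable def ii : RR G f ⟶ RR G f :=
  mk G f (ss G f) (pr G f ≫ G.i) (tt G f) (by rw [Category.assoc, G.i_t, pr_s])
    (by rw [Category.assoc, G.i_s, pr_t])

/-- the restriction of a groupoid scheme along `f` -/
noncomputable def restrict : Grpd.GroupoidScheme S where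
  U := V
  R := RR G f
  pU := f ≫ G.pU
  pR := ss G f ≫ f ≫ G.pU
  s := ss G f
  t := tt G f
  e := ee G f
  i := ii G f
  c := cc G f
  s_over := rfl
  t_over := by
    rw [← Category.assoc, ← pr_t, ← Category.assoc, ← pr_s, Category.assoc, Category.assoc, G.t_over,
      G.s_over]
  comp_s := lift_cc_ss G f
  comp_t := lift_cc_tt G f
  assoc α β γ h₁ h₂ := by
    refine ext G f ?_ ?_ ?_
    · rw [lift_cc_tt, lift_cc_tt, lift_cc_tt]
    · rw [lift_cc_pr, cmp_congr G (lift_cc_pr G f α β h₁) rfl _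
        (by rw [cmp_s]; exact pr_comp_cond G f β γ h₂),
        lift_cc_pr, cmp_congr G rfl (lift_cc_pr G f β γ h₂) _
        (by rw [cmp_t]; exact pr_comp_cond G f α β h₁)]
      exact cmp_assoc G _ _ _ _ _
    · rw [lift_cc_ss, lift_cc_ss, lift_cc_ss]
  e_s := mk_ss _ _ _ _ _ _ _
  e_t := mk_tt _ _ _ _ _ _ _
  comp_e α := by
    refine ext G f (lift_cc_tt G f _ _ _) ?_ ?_
    · rw [lift_cc_pr]
      exact cmp_one G _ _ (by simp only [Category.assoc, ee, mk_pr, reassoc_of% pr_s]) _
    · rw [lift_cc_ss]; simp only [Category.assoc, ee, mk_ss, Category.comp_id]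
  e_comp α := by
    refine ext G f ?_ ?_ (lift_cc_ss G f _ _ _)
    · rw [lift_cc_tt]; simp only [Category.assoc, ee, mk_tt, Category.comp_id]
    · rw [lift_cc_pr]
      exact one_cmp G _ _ (by simp only [Category.assoc, ee, mk_pr, reassoc_of% pr_t]) _
  i_s := mk_ss _ _ _ _ _ _ _
  i_t := mk_tt _ _ _ _ _ _ _
  comp_i α := by
    refine ext G f ?_ ?_ ?_
    · rw [lift_cc_tt]; simp only [Category.assoc, ee, mk_tt, Category.comp_id]
    · rw [lift_cc_pr]
      refine (cmp_congr G rfl ?_ _ ?_).trans ((cmp_inv G (α ≫ pr G f)).trans ?_)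
      · simp only [Category.assoc, ii, mk_pr]
      · simp only [Category.assoc, G.i_t]
      · simp only [Category.assoc, ee, mk_pr, reassoc_of% pr_t]
    · rw [lift_cc_ss]; simp only [Category.assoc, ee, ii, mk_ss, Category.comp_id]
  i_comp α := by
    refine ext G f ?_ ?_ ?_
    · rw [lift_cc_tt]; simp only [Category.assoc, ee, ii, mk_tt, Category.comp_id]
    · rw [lift_cc_pr]
      refine (cmp_congr G ?_ rfl _ ?_).trans ((inv_cmp G (α ≫ pr G f)).trans ?_)
      · simp only [Category.assoc, ii, mk_pr]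
      · simp only [Category.assoc, G.i_s]
      · simp only [Category.assoc, ee, mk_pr, reassoc_of% pr_s]
    · rw [lift_cc_ss]; simp only [Category.assoc, ee, mk_ss, Category.comp_id]

/-- forgetting the new target -/
noncomputable def toBaseChange : RR G f ⟶ pullback G.s f :=
  pullback.map _ _ _ _ (pullback.snd f G.t) (𝟙 V) (𝟙 G.U) (by simp) (by simp)

theorem toBaseChange_fst : toBaseChange G f ≫ pullback.fst G.s f = pr G f := pullback.lift_fst _ _ _

theorem toBaseChange_snd : toBaseChange G f ≫ pullback.snd G.s f = ss G f :=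
  (pullback.lift_snd _ _ _).trans (Category.comp_id _)

end Groth.Agent.H63.GrpdRestrict
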