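import Groth.Agent.H63.InvDeriv
import Groth.Agent.H63.GrpdIrred
import Groth.Agent.H63.GrpdDim
import Groth.Agent.S5000
import Groth.Agent.S2757
import Mathlib.AlgebraicGeometry.Morphisms.SmoothFiber

set_option autoImplicit false
universe u

/-!
Smoothness of source and target of a groupoid scheme over a field (Cartier).
-/

open AlgebraicGeometry CategoryTheory CategoryTheory.Limits
open Groth.Agent.H63.GrpdBasic Groth.Agent.H63.GrpdIrred Groth.Agent.H63.GrpdDim
open scoped DualNumber

namespace Groth.Agent.H63.GrpdSmooth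

variable {S : Scheme.{u}} (G : Grpd.GroupoidScheme S) {k : Type u} [Field k]
  (eU : G.U ≅ Spec (CommRingCat.of k))

section Point

variable (A : Type u) [CommRing A] [Algebra k A] (j : Spec (CommRingCat.of A) ⟶ G.R)
  (hj : j ≫ sK G eU = Spec.map (CommRingCat.ofHom (algebraMap k A))) (τA : k →+* A)
  (hτ : j ≫ G.t ≫ eU.hom = Spec.map (CommRingCat.ofHom τA))

/-- a point of the chart -/
noncomputable def pt {T : Type u} [CommRing T] [Algebra k T] (φ : A →ₐ[k] T) :
    Spec (CommRingCat.of T) ⟶ G.R :=
  Spec.map (CommRingCat.ofHom φ.toRingHom) ≫ j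

include hj in
theorem pt_s {T : Type u} [CommRing T] [Algebra k T] (φ : A →ₐ[k] T) :
    pt G A j φ ≫ G.s = Spec.map (CommRingCat.ofHom (algebraMap k T)) ≫ eU.inv := by
  have h1 : (pt G A j φ ≫ G.s) ≫ eU.hom = Spec.map (CommRingCat.ofHom (algebraMap k T)) := by
    rw [Category.assoc, pt, Category.assoc, hj, ← Spec.map_comp]
    congr 1
    ext x
    exact φ.commutes x
  rw [← h1, Category.assoc, eU.hom_inv_id, Category.comp_id]

include hτ in
theorem pt_t {T : Type u} [CommRing T] [Algebra k T] (φ : A →ₐ[k] T) :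
    pt G A j φ ≫ G.t = Spec.map (CommRingCat.ofHom (φ.toRingHom.comp τA)) ≫ eU.inv := by
  have h1 : (pt G A j φ ≫ G.t) ≫ eU.hom = Spec.map (CommRingCat.ofHom (φ.toRingHom.comp τA)) := by
    rw [Category.assoc, pt, Category.assoc, hτ, ← Spec.map_comp]
    rfl
  rw [← h1, Category.assoc, eU.hom_inv_id, Category.comp_id]

theorem spec_pt {T T' : Type u} [CommRing T] [Algebra k T] [CommRing T'] [Algebra k T']
    (ψ : T →ₐ[k] T') (φ : A →ₐ[k] T) :
    Spec.map (CommRingCat.ofHom ψ.toRingHom) ≫ pt G A j φ = pt G A j (ψ.comp φ) := by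
  rw [pt, pt, ← Category.assoc, ← Spec.map_comp]
  rfl

theorem pt_injective [IsOpenImmersion j] {T : Type u} [CommRing T] [Algebra k T] {φ φ' : A →ₐ[k] T}
    (h : pt G A j φ = pt G A j φ') : φ = φ' := by
  rw [pt, pt, cancel_mono] at h
  exact AlgHom.coe_ringHom_injective (congrArg CommRingCat.Hom.hom (Spec.map_injective h))

variable [IsOpenImmersion j] [Algebra A k] [IsScalarTower k A k]
  (he : eU.inv ≫ G.e = Spec.map (CommRingCat.ofHom (algebraMap A k)) ≫ j)

include he in
theorem pt_unit {T : Type u} [CommRing T] [Algebra k T] (α : A →+* T) (h : α = (algebraMap k T).comp (algebraMap A k)) :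
    Spec.map (CommRingCat.ofHom α) ≫ j = Spec.map (CommRingCat.ofHom (algebraMap k T)) ≫ eU.inv ≫ G.e := by
  subst h
  rw [he, CommRingCat.ofHom_comp, Spec.map_comp, Category.assoc]

variable (q : Ideal A) [q.IsPrime]

local notation "O" => Localization.AtPrime q

include hj hτ he in
/-- every functional on the differentials at the identity is the value of a derivation -/
theorem exists_lift_functional (hq : q = RingHom.ker (algebraMap A k)) [Algebra O k]
    [IsScalarTower A O k] [IsScalarTower k O k]
    (f : Ω[O⁄k] →ₗ[O] k) : ∃ g : Ω[O⁄k] →ₗ[O] O, ∀ m, algebraMap O k (g m) = f m := by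
  let toO : A →ₐ[k] O := IsScalarTower.toAlgHom k A O
  let res : O →ₐ[k] k := IsScalarTower.toAlgHom k O k
  have hres : ∀ a : A, res (toO a) = algebraMap A k a := fun a =>
    (IsScalarTower.algebraMap_apply A O k a).symm
  let v : O →ₗ[k] k := (f.restrictScalars k).comp (KaehlerDifferential.D k O).toLinearMap
  have hv : ∀ x y : O, v (x * y) = res x * v y + res y * v x := by
    intro x y
    show f (KaehlerDifferential.D k O (x * y)) = _
    simp [v, res, Algebra.smul_def]
  have hv1 : v 1 = 0 := by simp [v]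
  let w : O →ₐ[k] k[ε] :=
    { toFun := fun x => TrivSqZeroExt.inl (res x) + TrivSqZeroExt.inr (v x)
      map_one' := by simp [hv1]
      map_mul' := fun x y => by
        apply TrivSqZeroExt.ext
        · simp
        · simp [hv, DualNumber.snd_mul]; ring
      map_zero' := by simp
      map_add' := fun x y => by
        apply TrivSqZeroExt.ext <;> simp
      commutes' := fun c => by
        have h1 : v (algebraMap k O c) = 0 := by simp [v]
        simp [h1, res, TrivSqZeroExt.algebraMap_eq_inl'] }
  let r : O[ε] →ₐ[k] O := TrivSqZeroExt.fstHom k O O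
  let r0 : k[ε] →ₐ[k] k := TrivSqZeroExt.fstHom k k k
  let i : O →ₐ[k] O[ε] := TrivSqZeroExt.inlAlgHom k O O
  let τO : k →+* O := toO.toRingHom.comp τA
  let i0 : k[ε] →+* O[ε] :=
    { toFun := fun x => TrivSqZeroExt.inl (τO x.fst) + TrivSqZeroExt.inr (τO x.snd)
      map_one' := by simp
      map_mul' := fun x y => by
        apply TrivSqZeroExt.ext
        · simp
        · simp only [DualNumber.snd_mul, TrivSqZeroExt.fst_mul, map_mul, map_add, TrivSqZeroExt.snd_add,
            TrivSqZeroExt.snd_inl, TrivSqZeroExt.snd_inr, TrivSqZeroExt.fst_add, TrivSqZeroExt.fst_inl,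
            TrivSqZeroExt.fst_inr, zero_add, add_zero]
      map_zero' := by simp
      map_add' := fun x y => by
        apply TrivSqZeroExt.ext <;> simp }
  let c : O[ε] →ₐ[k] k[ε] :=
    { toFun := fun x => TrivSqZeroExt.inl (res x.fst) + TrivSqZeroExt.inr (res x.snd)
      map_one' := by simp
      map_mul' := fun x y => by
        apply TrivSqZeroExt.ext
        · simp
        · simp [DualNumber.snd_mul]
      map_zero' := by simp
      map_add' := fun x y => by
        apply TrivSqZeroExt.ext <;> simp
      commutes' := fun a => by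
        simp [TrivSqZeroExt.algebraMap_eq_inl', res] }
  have hετ : ∀ x : k, algebraMap A k (τA x) = x := by
    have h1 : Spec.map (CommRingCat.ofHom τA ≫ CommRingCat.ofHom (algebraMap A k)) =
        Spec.map (𝟙 (CommRingCat.of k)) := by
      rw [Spec.map_comp, ← hτ, ← Category.assoc, ← he, Category.assoc, reassoc_of% G.e_t, Iso.inv_hom_id,
        Spec.map_id]
    exact fun x => congrArg (fun g => g.hom x) (Spec.map_injective h1)
  let A1 := pt G A j (i.comp toO)
  let B1 := Spec.map (CommRingCat.ofHom i0) ≫ pt G A j (w.comp toO)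
  have hcond : B1 ≫ G.s = A1 ≫ G.t := by
    rw [Category.assoc, pt_s G eU A j hj, pt_t G eU A j τA hτ, ← Category.assoc, ← Spec.map_comp]
    congr 2
    refine CommRingCat.hom_ext (RingHom.ext fun x => ?_)
    apply TrivSqZeroExt.ext <;> simp [i0, i, τO, TrivSqZeroExt.algebraMap_eq_inl']
  let p : Spec (CommRingCat.of O[ε]) ⟶ G.R := cmp G B1 A1 hcond
  have hps : p ≫ G.s = Spec.map (CommRingCat.ofHom (algebraMap k O[ε])) ≫ eU.inv :=
    (cmp_s G _ _ _).trans (pt_s G eU A j hj _)
  have hrp : Spec.map (CommRingCat.ofHom r.toRingHom) ≫ p = pt G A j toO := by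
    have e1 : r.comp (i.comp toO) = toO := by ext a; simp [r, i]
    rw [comp_cmp]
    refine (cmp_congr G rfl ((spec_pt G A j r (i.comp toO)).trans (congrArg (pt G A j) e1)) _ ?_).trans
      (one_cmp G _ _ ?_ _)
    · rw [Category.assoc, hcond, ← Category.assoc, spec_pt, e1]
    · rw [← Category.assoc (pt G A j toO), pt_t G eU A j τA hτ, Category.assoc _ eU.inv, he, ← Category.assoc]
      show Spec.map _ ≫ Spec.map (CommRingCat.ofHom i0) ≫ Spec.map _ ≫ j = _
      simp only [← Category.assoc, ← Spec.map_comp]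
      congr 2
      refine CommRingCat.hom_ext (RingHom.ext fun a => ?_)
      show r (i0 (w (toO a))) = toO (τA (algebraMap A k a))
      simp [r, i0, w, τO, hres]
  have hcp : Spec.map (CommRingCat.ofHom c.toRingHom) ≫ p = pt G A j (w.comp toO) := by
    have e2 : c.toRingHom.comp i0 = RingHom.id k[ε] := by
      refine RingHom.ext fun x => ?_
      apply TrivSqZeroExt.ext <;> simp [c, i0, τO, hres, hετ]
    have hb : Spec.map (CommRingCat.ofHom c.toRingHom) ≫ B1 = pt G A j (w.comp toO) := by
      rw [← Category.assoc, ← Spec.map_comp, ← CommRingCat.ofHom_comp, e2, CommRingCat.ofHom_id,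
        Spec.map_id, Category.id_comp]
    rw [comp_cmp]
    refine (cmp_congr G hb rfl _ ?_).trans (cmp_one G _ _ ?_ _)
    · rw [← hb, Category.assoc, hcond, Category.assoc]
    · rw [← Category.assoc _ G.s, pt_s G eU A j hj, Category.assoc]
      rw [spec_pt, pt]
      refine pt_unit G eU A j he _ ?_
      refine RingHom.ext fun a => ?_
      apply TrivSqZeroExt.ext <;> simp [c, i, hres, TrivSqZeroExt.algebraMap_eq_inl']
  have hrange : Set.range p ⊆ Set.range j := by
    rintro _ ⟨z, rfl⟩
    have h0 : p (IsLocalRing.closedPoint O[ε]) ∈ Set.range j := by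
      have hc : Spec.map (CommRingCat.ofHom r.toRingHom) (IsLocalRing.closedPoint O) =
          IsLocalRing.closedPoint O[ε] := by
        apply PrimeSpectrum.ext
        show (IsLocalRing.maximalIdeal O).comap r.toRingHom = IsLocalRing.maximalIdeal O[ε]
        ext x
        show r x ∈ IsLocalRing.maximalIdeal O ↔ x ∈ IsLocalRing.maximalIdeal O[ε]
        simp [r, TrivSqZeroExt.isUnit_iff_isUnit_fst]
      rw [← hc, ← Scheme.Hom.comp_apply]
      rw [hrp]
      exact ⟨_, (Scheme.Hom.comp_apply _ _ _).symm⟩
    exact ((IsLocalRing.specializes_closedPoint z).map p.continuous).mem_open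
      j.isOpenEmbedding.isOpen_range h0
  obtain ⟨φr, hφr⟩ := Spec.map_surjective (IsOpenImmersion.lift j p hrange)
  have hp : Spec.map φr ≫ j = p := hφr ▸ IsOpenImmersion.lift_fac _ _ _
  have hcomm : ∀ x : k, φr.hom (algebraMap k A x) = algebraMap k O[ε] x := by
    have h1 : Spec.map (CommRingCat.ofHom (algebraMap k A) ≫ φr) =
        Spec.map (CommRingCat.ofHom (algebraMap k O[ε])) := by
      rw [Spec.map_comp, ← hj, ← Category.assoc, hp, ← Category.assoc, hps, Category.assoc,
        eU.inv_hom_id, Category.comp_id]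
    intro x
    exact congrArg (fun g => g.hom x) (Spec.map_injective h1)
  let φ : A →ₐ[k] O[ε] := { φr.hom with commutes' := hcomm }
  have hpφ : pt G A j φ = p := hp
  have hfst : r.comp φ = toO := pt_injective G A j (by rw [← spec_pt, hpφ, hrp])
  have hcφ : c.comp φ = w.comp toO := pt_injective G A j (by rw [← spec_pt, hpφ, hcp])
  have hunit : ∀ y : q.primeCompl, IsUnit (φ y) := fun y => by
    rw [TrivSqZeroExt.isUnit_iff_isUnit_fst, show (φ y).fst = toO y from AlgHom.congr_fun hfst y]
    exact IsLocalization.map_units _ y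
  let Φ : O →ₐ[k] O[ε] := IsLocalization.liftAlgHom (S := O) (f := φ) hunit
  have hΦ : Φ.toRingHom.comp (algebraMap A O) = φ.toRingHom := by
    ext a <;> simp [Φ]
  have hΦfst : ∀ x, (Φ x).fst = x := by
    have : (r.comp Φ).toRingHom = RingHom.id O := by
      refine IsLocalization.ringHom_ext q.primeCompl ?_
      ext a
      exact (congrArg r (RingHom.congr_fun hΦ a)).trans (AlgHom.congr_fun hfst a)
    exact fun x => RingHom.congr_fun this x
  have hΦc : c.comp Φ = w := by
    have : (c.comp Φ).toRingHom = w.toRingHom := by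
      refine IsLocalization.ringHom_ext q.primeCompl ?_
      refine RingHom.ext fun a => ?_
      exact (congrArg c (RingHom.congr_fun hΦ a)).trans (AlgHom.congr_fun hcφ a)
    exact AlgHom.coe_ringHom_injective this
  let D : Derivation k O O := Derivation.mk'
    { toFun := fun x => (Φ x).snd
      map_add' := fun x y => by simp
      map_smul' := fun a x => by simp }
    (fun x y => by
      show (Φ (x * y)).snd = _
      rw [map_mul, DualNumber.snd_mul, hΦfst, hΦfst]
      simp only [LinearMap.coe_mk, AddHom.coe_mk, smul_eq_mul]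
      ring)
  refine ⟨D.liftKaehlerDifferential, LinearMap.congr_fun (f :=
    (Algebra.linearMap O k).comp D.liftKaehlerDifferential) (g := f) ?_⟩
  refine LinearMap.ext_on_range (v := KaehlerDifferential.D k O)
    (KaehlerDifferential.span_range_derivation k O) fun x => ?_
  show algebraMap O k (D.liftKaehlerDifferential (KaehlerDifferential.D k O x)) = f _
  rw [Derivation.liftKaehlerDifferential_comp_D]
  have := congrArg TrivSqZeroExt.snd (AlgHom.congr_fun hΦc x)
  simpa [c, w, D, v, res, Algebra.algebraMap_eq_smul_one] using this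

include hj hτ he in
/-- the differentials of the local ring at the identity are free -/
theorem free_kaehler [Algebra.FiniteType k A] (hq : q = RingHom.ker (algebraMap A k)) :
    Module.Free O Ω[O⁄k] := by
  have hu : ∀ y : q.primeCompl, IsUnit (algebraMap A k y) := fun y =>
    isUnit_iff_ne_zero.2 fun h => y.2 (hq.symm ▸ (RingHom.mem_ker.2 h : (y : A) ∈ RingHom.ker (algebraMap A k)))
  let res : O →+* k := IsLocalization.lift hu
  let : Algebra O k := res.toAlgebra
  have : IsScalarTower A O k := .of_algebraMap_eq fun a => (IsLocalization.lift_eq (S := O) hu a).symm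
  have : IsScalarTower k O k := .of_algebraMap_eq fun a => by
    rw [IsScalarTower.algebraMap_apply k A O, ← IsScalarTower.algebraMap_apply A O k,
      ← IsScalarTower.algebraMap_apply k A k]
  have hk : Function.Surjective (algebraMap O k) := fun a =>
    ⟨algebraMap k O a, (IsScalarTower.algebraMap_apply k O k a).symm⟩
  have : Algebra.EssFiniteType A O := Algebra.EssFiniteType.of_isLocalization O q.primeCompl
  have : Algebra.EssFiniteType k O := Algebra.EssFiniteType.comp k A O
  exact InvDeriv.free_of_lift hk _ (exists_lift_functional G eU A j hj τA hτ he q hq)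

end Point

variable [LocallyOfFiniteType G.s]

include eU in
theorem mem_smoothLocus_iff {L : Type u} [Field L] (g : Spec (CommRingCat.of L) ⟶ G.U) (z : SBC G g) :
    z ∈ (pullback.snd G.s g).smoothLocus ↔ pullback.fst G.s g z ∈ (sK G eU).smoothLocus := by
  have := isIntegral_of_iso_spec k eU
  have := subsingleton_of_iso_spec k eU
  constructor
  · intro hz
    let U' := (pullback.snd G.s g).smoothLocus
    have hU' : Smooth (U'.ι ≫ pullback.snd G.s g) := by
      rw [← Scheme.Hom.smoothLocus_eq_top_iff, ← Scheme.Hom.preimage_smoothLocus_eq]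
      exact top_unique fun x _ => x.2
    have hg : (g.stalkMap (pullback.snd G.s g z)).hom.Flat := Flat.stalkMap g _
    obtain ⟨U, hU, hUs⟩ := Groth.Agent.S2757.result G.s g z hg ⟨U', hz, hU'⟩
    have : Smooth (U.ι ≫ sK G eU) := by
      rw [show U.ι ≫ sK G eU = (U.ι ≫ G.s) ≫ eU.hom from (Category.assoc _ _ _).symm]
      infer_instance
    have h3 : (⟨_, hU⟩ : U) ∈ (U.ι ≫ sK G eU).smoothLocus := by rw [Scheme.Hom.smoothLocus_eq_top]; trivial
    rw [← Scheme.Hom.preimage_smoothLocus_eq] at h3
    exact h3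
  · intro hz
    let U := (sK G eU).smoothLocus
    have hU : Smooth (U.ι ≫ sK G eU) := by
      rw [← Scheme.Hom.smoothLocus_eq_top_iff, ← Scheme.Hom.preimage_smoothLocus_eq]
      exact top_unique fun x _ => x.2
    let W := pullback.fst G.s g ⁻¹ᵁ U
    have hW : Smooth (W.ι ≫ pullback.snd G.s g) := by
      have h1 : IsPullback W.ι (pullback.fst G.s g ∣_ U) (pullback.fst G.s g) U.ι :=
        (isPullback_morphismRestrict (pullback.fst G.s g) U).flip
      have h2 := h1.paste_horiz (isPullback_sK G eU g).flip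
      exact MorphismProperty.of_isPullback (P := @Smooth) h2.flip hU
    have h3 : (⟨z, hz⟩ : W) ∈ (W.ι ≫ pullback.snd G.s g).smoothLocus := by
      rw [Scheme.Hom.smoothLocus_eq_top]; trivial
    rw [← Scheme.Hom.preimage_smoothLocus_eq] at h3
    exact h3

include eU in
/-- smoothness at an arrow is smoothness at the identity -/
theorem mem_smoothLocus_iff_e (r : G.R) :
    r ∈ (sK G eU).smoothLocus ↔ ePt G eU ∈ (sK G eU).smoothLocus := by
  let d := diagAt G r (IsLocalRing.closedPoint (G.R.residueField r))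
  let ρ := G.R.fromSpecResidueField r
  have h2 := mem_smoothLocus_iff G eU (L := G.R.residueField r) (ρ ≫ G.t) ((transl G r).hom d)
  rw [transl_diagAt_apply G eU r] at h2
  have h1 := mem_smoothLocus_iff G eU (L := G.R.residueField r) (ρ ≫ G.s) d
  rw [diagAt_fst] at h1
  rw [← h1, ← h2]
  have h3 : (transl G r).hom ≫ pullback.snd G.s (ρ ≫ G.t) = pullback.snd G.s (ρ ≫ G.s) :=
    pullback.lift_snd _ _ _
  have h4 := Scheme.Hom.preimage_smoothLocus_eq (transl G r).hom (pullback.snd G.s (ρ ≫ G.t))
  simp only [h3] at h4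
  rw [← h4]
  rfl

include eU in
theorem smooth_s_t (h : ((sK G eU).smoothLocus : Set G.R).Nonempty) : Smooth G.s ∧ Smooth G.t := by
  obtain ⟨y, hy⟩ := h
  have hs : Smooth (sK G eU) := by
    rw [← Scheme.Hom.smoothLocus_eq_top_iff]
    exact top_unique fun x _ => (mem_smoothLocus_iff_e G eU x).2 ((mem_smoothLocus_iff_e G eU y).1 hy)
  have : Smooth G.s := by
    have : Smooth (sK G eU ≫ eU.inv) := inferInstance
    simpa [sK] using this
  refine ⟨this, ?_⟩
  rw [t_eq]
  infer_instance

include eU in
/-- Cartier: smooth at the identity in characteristic zero -/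
theorem ePt_mem_smoothLocus [CharZero k] : ePt G eU ∈ (sK G eU).smoothLocus := by
  obtain ⟨U, hU, he, -⟩ := exists_isAffineOpen_mem_and_subset (x := ePt G eU) (U := ⊤) trivial
  let j : Spec (CommRingCat.of Γ(G.R, U)) ⟶ G.R := hU.fromSpec
  obtain ⟨ψ, hψ⟩ := Spec.map_surjective (j ≫ sK G eU)
  obtain ⟨τ, hτ⟩ := Spec.map_surjective (j ≫ G.t ≫ eU.hom)
  let algKA : Algebra k Γ(G.R, U) := ψ.hom.toAlgebra
  have hj : j ≫ sK G eU = Spec.map (CommRingCat.ofHom (algebraMap k Γ(G.R, U))) := hψ.symm
  have hft : Algebra.FiniteType k Γ(G.R, U) := by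
    have : LocallyOfFiniteType (Spec.map ψ) := by rw [hψ]; infer_instance
    exact (HasRingHomProperty.Spec_iff (P := @LocallyOfFiniteType)).mp this
  have hr : Set.range (eU.inv ≫ G.e) ⊆ Set.range j := by
    rintro _ ⟨t, rfl⟩
    rw [hU.range_fromSpec, show (eU.inv ≫ G.e) t = ePt G eU from
      congrArg (eU.inv ≫ G.e) (Subsingleton.elim (α := PrimeSpectrum k) t (IsLocalRing.closedPoint k))]
    exact he
  obtain ⟨χ, hχ⟩ := Spec.map_surjective (R := CommRingCat.of Γ(G.R, U)) (S := CommRingCat.of k)
    (IsOpenImmersion.lift j (eU.inv ≫ G.e) hr)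
  have hη : eU.inv ≫ G.e = Spec.map χ ≫ j := by
    rw [hχ]; exact (IsOpenImmersion.lift_fac j _ hr).symm
  let algAK : Algebra Γ(G.R, U) k := χ.hom.toAlgebra
  have tower : IsScalarTower k Γ(G.R, U) k := .of_algebraMap_eq fun a => by
    have h1 : Spec.map (ψ ≫ χ) = Spec.map (𝟙 (CommRingCat.of k)) := by
      rw [Spec.map_comp, hψ, ← Category.assoc, ← hη, Spec.map_id, Category.assoc, reassoc_of% G.e_s,
        Iso.inv_hom_id]
    exact (congrArg (fun g => g.hom a) (Spec.map_injective h1)).symm
  let q : Ideal Γ(G.R, U) := RingHom.ker (algebraMap Γ(G.R, U) k)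
  have qP : q.IsPrime := RingHom.ker_isPrime _
  have hsm : Algebra.IsSmoothAt k q :=
    (Groth.Agent.S5000.result k Γ(G.R, U) q).2
      (free_kaehler G eU Γ(G.R, U) j hj τ.hom hτ.symm hη q rfl)
  have : Algebra.FinitePresentation k Γ(G.R, U) :=
    (Algebra.FinitePresentation.of_finiteType).1 inferInstance
  obtain ⟨g, hg, hgs⟩ := Algebra.IsSmoothAt.exists_notMem_smooth k q
  let l : Spec (CommRingCat.of (Localization.Away g)) ⟶ G.R :=
    Spec.map (CommRingCat.ofHom (algebraMap Γ(G.R, U) (Localization.Away g))) ≫ j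
  have : IsOpenImmersion (Spec.map (CommRingCat.ofHom
      (algebraMap Γ(G.R, U) (Localization.Away g)))) := IsOpenImmersion.of_isLocalization g
  have : IsOpenImmersion l := inferInstanceAs (IsOpenImmersion (_ ≫ j))
  have hlsm : Smooth (l ≫ sK G eU) := by
    rw [Category.assoc, hj, ← Spec.map_comp, HasRingHomProperty.Spec_iff (P := @Smooth),
      ← CommRingCat.ofHom_comp, ← IsScalarTower.algebraMap_eq]
    exact RingHom.smooth_algebraMap.2 hgs
  obtain ⟨z, hz⟩ : ePt G eU ∈ Set.range l := by
    let q' : PrimeSpectrum Γ(G.R, U) := ⟨q, inferInstance⟩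
    obtain ⟨z, hz⟩ : q' ∈ Set.range (PrimeSpectrum.comap (algebraMap Γ(G.R, U) (Localization.Away g))) := by
      rw [PrimeSpectrum.localization_away_comap_range _ g]; exact hg
    refine ⟨z, ?_⟩
    show j ((Spec.map (CommRingCat.ofHom (algebraMap Γ(G.R, U) (Localization.Away g)))) z) =
      (eU.inv ≫ G.e) (IsLocalRing.closedPoint k)
    rw [hη, Scheme.Hom.comp_apply]
    refine congrArg j (hz.trans (PrimeSpectrum.ext ?_))
    show q = (IsLocalRing.maximalIdeal k).comap χ.hom
    rw [IsLocalRing.maximalIdeal_eq_bot]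
    rfl
  have h3 : z ∈ (l ≫ sK G eU).smoothLocus := by rw [Scheme.Hom.smoothLocus_eq_top]; trivial
  rw [← Scheme.Hom.preimage_smoothLocus_eq] at h3
  rw [← hz]
  exact h3

end Groth.Agent.H63.GrpdSmooth
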