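import Groth.Agent.H63.GrpdBasic
import Mathlib.AlgebraicGeometry.Morphisms.Separated
import Mathlib.AlgebraicGeometry.Morphisms.ClosedImmersion
import Mathlib.AlgebraicGeometry.Morphisms.QuasiSeparated

set_option autoImplicit false
universe u

open AlgebraicGeometry CategoryTheory CategoryTheory.Limits
open Groth.Agent.H63.GrpdBasic

namespace Groth.Agent.H63.GrpdStab

variable {S : Scheme.{u}} (G : Grpd.GroupoidScheme S)

@[reassoc (attr := simp)]
theorem j_fst : G.j ≫ pullback.fst G.pU G.pU = G.t := by
  rw [Grpd.GroupoidScheme.j, pullback.lift_fst]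

@[reassoc (attr := simp)]
theorem j_snd : G.j ≫ pullback.snd G.pU G.pU = G.s := by
  rw [Grpd.GroupoidScheme.j, pullback.lift_snd]

@[reassoc (attr := simp)]
theorem diag_fst : G.diag ≫ pullback.fst G.pU G.pU = 𝟙 G.U := by
  rw [Grpd.GroupoidScheme.diag, pullback.lift_fst]

@[reassoc (attr := simp)]
theorem diag_snd : G.diag ≫ pullback.snd G.pU G.pU = 𝟙 G.U := by
  rw [Grpd.GroupoidScheme.diag, pullback.lift_snd]

@[reassoc]
theorem eStab_toU : G.eStab ≫ G.stabilizerToU = 𝟙 G.U :=
  pullback.lift_snd _ _ _

@[reassoc]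
theorem fstjj_t : pullback.fst G.j G.j ≫ G.t = pullback.snd G.j G.j ≫ G.t := by
  rw [← j_fst, pullback.condition_assoc]

@[reassoc]
theorem fstjj_s : pullback.fst G.j G.j ≫ G.s = pullback.snd G.j G.j ≫ G.s := by
  rw [← j_snd, pullback.condition_assoc]

/-- `(α, β) ↦ α⁻¹ ∘ β` on pairs with the same source and target, into the stabilizer -/
noncomputable def kappa : pullback G.j G.j ⟶ pullback G.j G.diag :=
  pullback.lift
    (cmp G (pullback.fst G.j G.j ≫ G.i) (pullback.snd G.j G.j)
      (by rw [Category.assoc, G.i_s, fstjj_t]))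
    (pullback.fst G.j G.j ≫ G.s) (by
      apply pullback.hom_ext
      · simp [G.i_t]
      · simp [fstjj_s])

@[reassoc]
theorem kappa_fst : kappa G ≫ pullback.fst G.j G.diag =
    cmp G (pullback.fst G.j G.j ≫ G.i) (pullback.snd G.j G.j)
      (by rw [Category.assoc, G.i_s, fstjj_t]) :=
  pullback.lift_fst _ _ _

@[reassoc]
theorem kappa_snd : kappa G ≫ pullback.snd G.j G.diag = pullback.fst G.j G.j ≫ G.s :=
  pullback.lift_snd _ _ _

/-- the identity section, with explicit target -/
noncomputable abbrev eS : G.U ⟶ pullback G.j G.diag := G.eStab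

@[reassoc]
theorem eStab_fst : eS G ≫ pullback.fst G.j G.diag = G.e :=
  pullback.lift_fst _ _ _

@[reassoc]
theorem eStab_snd : eS G ≫ pullback.snd G.j G.diag = 𝟙 G.U :=
  pullback.lift_snd _ _ _

theorem isPullback_diagonal_j :
    IsPullback (pullback.diagonal G.j) G.s (kappa G) (eS G) := by
  have hd1 : pullback.diagonal G.j ≫ pullback.fst G.j G.j = 𝟙 G.R := pullback.lift_fst _ _ _
  have hd2 : pullback.diagonal G.j ≫ pullback.snd G.j G.j = 𝟙 G.R := pullback.lift_snd _ _ _
  have hw : pullback.diagonal G.j ≫ kappa G = G.s ≫ eS G := by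
    apply pullback.hom_ext
    · simp only [Category.assoc, kappa_fst, eStab_fst]
      refine (comp_cmp G _ _ _ _).trans ?_
      have := inv_cmp G (𝟙 G.R)
      simp only [Category.id_comp] at this
      rw [← this]
      exact cmp_congr G (by rw [← Category.assoc, hd1, Category.id_comp]) hd2 _ _
    · rw [Category.assoc, kappa_snd, Category.assoc, eStab_snd]
      rw [← Category.assoc, hd1, Category.id_comp, Category.comp_id]
  refine ⟨⟨hw⟩, ⟨PullbackCone.IsLimit.mk _ (fun c => c.fst ≫ pullback.fst G.j G.j) ?_ ?_ ?_⟩⟩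
  all_goals intro c
  · have h2 : c.fst ≫ pullback.fst G.j G.j ≫ G.s = c.snd := by
      have := congrArg (· ≫ pullback.snd G.j G.diag) c.condition
      rw [Category.assoc, kappa_snd, Category.assoc, eStab_snd, Category.comp_id] at this
      exact this
    have h1 : cmp G ((c.fst ≫ pullback.fst G.j G.j) ≫ G.i) (c.fst ≫ pullback.snd G.j G.j)
        (by simp [G.i_s, fstjj_t]) = c.snd ≫ G.e := by
      have := congrArg (· ≫ pullback.fst G.j G.diag) c.condition
      simp only [Category.assoc, kappa_fst, eStab_fst] at this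
      refine Eq.trans ?_ ((comp_cmp G _ _ _ _).symm.trans this)
      exact cmp_congr G (Category.assoc _ _ _) rfl _ _
    apply pullback.hom_ext
    · rw [Category.assoc, hd1, Category.comp_id]
    · rw [Category.assoc, hd2, Category.comp_id]
      have hc : (c.fst ≫ pullback.fst G.j G.j) ≫ G.t = (c.fst ≫ pullback.snd G.j G.j) ≫ G.t := by
        rw [Category.assoc, fstjj_t, Category.assoc]
      refine Eq.trans ?_ (cmp_inv_cancel_left G _ _ hc)
      exact (cmp_one G _ _ (by rw [h1, ← h2]; simp only [Category.assoc]) _).symm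
  · have := congrArg (· ≫ pullback.snd G.j G.diag) c.condition
    rw [Category.assoc, kappa_snd, Category.assoc, eStab_snd, Category.comp_id] at this
    exact (Category.assoc _ _ _).trans this
  · intro m h1 _
    rw [← h1, Category.assoc, hd1, Category.comp_id]

theorem isSeparated_j_iff : IsSeparated G.j ↔ IsSeparated G.stabilizerToU := by
  refine ⟨fun h => MorphismProperty.of_isPullback (P := @IsSeparated) (IsPullback.of_hasPullback G.j G.diag) h, fun h => ?_⟩
  refine ⟨?_⟩
  have : IsClosedImmersion (G.eStab ≫ G.stabilizerToU) := by rw [eStab_toU]; infer_instance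
  exact MorphismProperty.of_isPullback (P := @IsClosedImmersion) (isPullback_diagonal_j G).flip
    (IsClosedImmersion.of_comp G.eStab G.stabilizerToU)

theorem isSeparated_R_of_field (k : Type u) [Field k] (eU : G.U ≅ Spec (CommRingCat.of k)) :
    G.R.IsSeparated := by
  have : IsAffine G.U := IsAffine.of_isIso eU.hom
  have := isIntegral_of_iso_spec k eU
  have := subsingleton_of_iso_spec k eU
  have he : IsClosedImmersion G.eStab :=
    isClosedImmersion_of_comp_eq_id G.stabilizerToU G.eStab (eStab_toU G)
  have hj : IsSeparated G.j :=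
    ⟨MorphismProperty.of_isPullback (P := @IsClosedImmersion) (isPullback_diagonal_j G).flip he⟩
  have hU : IsSeparated (terminal.from G.U) := inferInstance
  have hpU : IsSeparated G.pU := by
    have : IsSeparated (G.pU ≫ terminal.from S) := by
      rwa [terminal.hom_ext (G.pU ≫ terminal.from S) (terminal.from G.U)]
    exact IsSeparated.of_comp G.pU (terminal.from S)
  refine ⟨?_⟩
  rw [terminal.hom_ext (terminal.from G.R)
    (G.j ≫ pullback.fst G.pU G.pU ≫ terminal.from G.U)]
  infer_instance

end Groth.Agent.H63.GrpdStab
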