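import Mathlib.LinearAlgebra.Semisimple
import Mathlib.LinearAlgebra.Charpoly.ToMatrix
import Mathlib.LinearAlgebra.Charpoly.Basic
import Mathlib.RingTheory.UniqueFactorizationDomain.NormalizedFactors
import Mathlib.LinearAlgebra.Projection

/-!
# Intertwiners of semisimple endomorphisms

* `finrank_ker_aeval`, `finrank_intertwiners`
-/

set_option autoImplicit false

universe u v w

open Polynomial UniqueFactorizationMonoid

namespace Groth.Agent.H63.Intertwine

variable {K : Type u} [Field K] {V : Type v} [AddCommGroup V] [Module K V] {W : Type w} [AddCommGroup W] [Module K W]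

theorem aeval_restrict (π : Module.End K V) (p : Submodule K V) (hp : p ∈ π.invtSubmodule) (P : K[X]) (x : p) :
    ((aeval (π.restrict hp) P) x : V) = aeval π P x := by
  induction P using Polynomial.induction_on' generalizing x with
  | add a b ha hb => simp only [map_add, LinearMap.add_apply, Submodule.coe_add, ha, hb]
  | monomial n a =>
    induction n generalizing x with
    | zero => simp
    | succ n ih =>
      rw [← monomial_mul_X, map_mul, map_mul, aeval_X, aeval_X, Module.End.mul_apply, Module.End.mul_apply, ih]
      rfl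

theorem mem_invt_ker (π : Module.End K V) (P : K[X]) : LinearMap.ker (aeval π P) ∈ π.invtSubmodule := by
  intro x hx
  rw [Submodule.mem_comap, LinearMap.mem_ker, ← Module.End.mul_apply]
  have e : aeval π P * π = π * aeval π P := by
    calc aeval π P * π = aeval π (P * X) := by rw [map_mul, aeval_X]
      _ = aeval π (X * P) := by rw [mul_comm]
      _ = π * aeval π P := by rw [map_mul, aeval_X]
  rw [e, Module.End.mul_apply, LinearMap.mem_ker.1 hx, map_zero]

section Split

variable [FiniteDimensional K V] (π : Module.End K V) {p q : Submodule K V} (hp : p ∈ π.invtSubmodule)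
  (hq : q ∈ π.invtSubmodule) (h : IsCompl p q)

include h in
theorem charpoly_split : π.charpoly = (π.restrict hp).charpoly * (π.restrict hq).charpoly := by
  have e : (Submodule.prodEquivOfIsCompl p q h).conj ((π.restrict hp).prodMap (π.restrict hq)) = π := by
    refine LinearMap.ext fun x => ?_
    obtain ⟨⟨a, b⟩, rfl⟩ := (Submodule.prodEquivOfIsCompl p q h).surjective x
    rw [LinearEquiv.conj_apply_apply, LinearEquiv.symm_apply_apply, Submodule.coe_prodEquivOfIsCompl',
      Submodule.coe_prodEquivOfIsCompl', map_add]
    rfl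
  conv_lhs => rw [← e, LinearEquiv.charpoly_conj, LinearMap.charpoly_prodMap]

include hp hq h in
theorem finrank_ker_split (P : K[X]) : Module.finrank K (LinearMap.ker (aeval π P)) =
    Module.finrank K (LinearMap.ker (aeval (π.restrict hp) P)) +
      Module.finrank K (LinearMap.ker (aeval (π.restrict hq) P)) := by
  rw [← Module.finrank_prod]
  refine (LinearEquiv.finrank_eq ?_).symm
  let Φ : (LinearMap.ker (aeval (π.restrict hp) P) × LinearMap.ker (aeval (π.restrict hq) P)) →ₗ[K] V :=
    (p.subtype ∘ₗ Submodule.subtype _).coprod (q.subtype ∘ₗ Submodule.subtype _)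
  refine LinearEquiv.ofBijective (Φ.codRestrict _ fun x => ?_) ⟨?_, ?_⟩
  · have h1 : aeval π P (x.1.1 : V) = 0 := by rw [← aeval_restrict π p hp, x.1.2]; rfl
    have h2 : aeval π P (x.2.1 : V) = 0 := by rw [← aeval_restrict π q hq, x.2.2]; rfl
    show aeval π P ((x.1.1 : V) + (x.2.1 : V)) = 0
    rw [map_add, h1, h2, add_zero]
  · rintro ⟨a, b⟩ ⟨a', b'⟩ e
    have e' : Submodule.prodEquivOfIsCompl p q h (a.1, b.1) = Submodule.prodEquivOfIsCompl p q h (a'.1, b'.1) := by
      rw [Submodule.coe_prodEquivOfIsCompl', Submodule.coe_prodEquivOfIsCompl']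
      exact congrArg Subtype.val e
    have e'' := (Submodule.prodEquivOfIsCompl p q h).injective e'
    exact Prod.ext (Subtype.ext (Prod.ext_iff.1 e'').1) (Subtype.ext (Prod.ext_iff.1 e'').2)
  · rintro ⟨x, hx⟩
    obtain ⟨⟨a, b⟩, rfl⟩ := (Submodule.prodEquivOfIsCompl p q h).surjective x
    rw [LinearMap.mem_ker] at hx
    have hx'' : (aeval (π.restrict hp) P a, aeval (π.restrict hq) P b) = ((0 : p), (0 : q)) := by
      apply (Submodule.prodEquivOfIsCompl p q h).injective
      rw [Submodule.coe_prodEquivOfIsCompl', Submodule.coe_prodEquivOfIsCompl', aeval_restrict, aeval_restrict,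
        ← map_add]
      simpa [Submodule.coe_prodEquivOfIsCompl'] using hx
    exact ⟨(⟨a, (Prod.ext_iff.1 hx'').1⟩, ⟨b, (Prod.ext_iff.1 hx'').2⟩), Subtype.ext rfl⟩

end Split

/-- The space of intertwiners. -/
abbrev C (π₁ : Module.End K V) (π₂ : Module.End K W) : Submodule K (V →ₗ[K] W) :=
  LinearMap.ker (LinearMap.lcomp K W π₁ - LinearMap.llcomp K V W W π₂)

theorem mem_C {π₁ : Module.End K V} {π₂ : Module.End K W} {h : V →ₗ[K] W} :
    h ∈ C π₁ π₂ ↔ ∀ v, h (π₁ v) = π₂ (h v) := by
  rw [LinearMap.mem_ker, LinearMap.ext_iff]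
  simp only [LinearMap.sub_apply, LinearMap.lcomp_apply, LinearMap.llcomp_apply, LinearMap.zero_apply, sub_eq_zero]

section Simple

variable [FiniteDimensional K V] [Nontrivial V] (π : Module.End K V)
  (hs : ∀ p : Submodule K V, p ∈ π.invtSubmodule → p = ⊥ ∨ p = ⊤)

include hs in
theorem surjective_aeval {v : V} (hv : v ≠ 0) : Function.Surjective fun P : K[X] => aeval π P v := by
  let Φ : K[X] →ₗ[K] V := LinearMap.applyₗ v ∘ₗ (aeval π).toLinearMap
  have hinv : LinearMap.range Φ ∈ π.invtSubmodule := by
    rintro _ ⟨P, rfl⟩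
    exact ⟨X * P, by simp [Φ]⟩
  refine LinearMap.range_eq_top.1 ((hs _ hinv).resolve_left fun h => hv ?_)
  have : v ∈ LinearMap.range Φ := ⟨1, by simp [Φ]⟩
  rwa [h, Submodule.mem_bot] at this

include hs in
theorem simple_charpoly : Irreducible π.charpoly ∧ π.charpoly = minpoly K π := by
  have hint : IsIntegral K π := IsIntegral.of_finite K π
  have hirr : Irreducible (minpoly K π) := by
    refine ⟨minpoly.not_isUnit K π, fun a b hab => ?_⟩
    have hne : minpoly K π ≠ 0 := minpoly.ne_zero hint
    have key : ∀ c : K[X], aeval π c = 0 → minpoly K π ∣ c := fun c hc => minpoly.dvd K π hc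
    rcases hs _ (mem_invt_ker π a) with h | h
    · refine Or.inl ?_
      have hb : aeval π b = 0 := by
        refine LinearMap.ext fun v => ?_
        have hv : aeval π b v ∈ LinearMap.ker (aeval π a) := by
          rw [LinearMap.mem_ker, ← Module.End.mul_apply, ← map_mul, ← hab, minpoly.aeval, LinearMap.zero_apply]
        rwa [h, Submodule.mem_bot] at hv
      obtain ⟨c, hc⟩ := key b hb
      have hbne : b ≠ 0 := fun h0 => hne (by rw [hab, h0, mul_zero])
      refine IsUnit.of_mul_eq_one c (mul_left_cancel₀ hbne ?_)
      rw [mul_one, ← mul_assoc, mul_comm b a, ← hab, ← hc]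
    · refine Or.inr ?_
      obtain ⟨c, hc⟩ := key a (LinearMap.ker_eq_top.1 h)
      have hane : a ≠ 0 := fun h0 => hne (by rw [hab, h0, zero_mul])
      refine IsUnit.of_mul_eq_one c (mul_left_cancel₀ hane ?_)
      rw [mul_one, ← mul_assoc, ← hab, ← hc]
  obtain ⟨v, hv⟩ := exists_ne (0 : V)
  have hdim : Module.finrank K V ≤ (minpoly K π).natDegree := by
    let Ψ : Polynomial.degreeLT K (minpoly K π).natDegree →ₗ[K] V :=
      (LinearMap.applyₗ v ∘ₗ (aeval π).toLinearMap) ∘ₗ Submodule.subtype _
    haveI : Module.Finite K (Polynomial.degreeLT K (minpoly K π).natDegree) :=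
      Module.Finite.equiv (Polynomial.degreeLTEquiv K _).symm
    refine le_of_le_of_eq (LinearMap.finrank_le_finrank_of_surjective (f := Ψ) fun x => ?_)
      ((Polynomial.degreeLTEquiv K _).finrank_eq.trans (Module.finrank_fin_fun K))
    obtain ⟨P, rfl⟩ := surjective_aeval π hs hv x
    refine ⟨⟨P %ₘ minpoly K π, mem_degreeLT.2 ?_⟩, ?_⟩
    · exact (degree_modByMonic_lt _ (minpoly.monic hint)).trans_le degree_le_natDegree
    · show aeval π (P %ₘ minpoly K π) v = aeval π P v
      rw [aeval_modByMonic_eq_self_of_root (minpoly.aeval K π)]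
  have heq : π.charpoly = minpoly K π := (eq_of_monic_of_dvd_of_natDegree_le (minpoly.monic hint)
    π.charpoly_monic π.minpoly_dvd_charpoly (by rw [LinearMap.charpoly_natDegree]; exact hdim))
  exact ⟨heq ▸ hirr, heq⟩

end Simple

open scoped Classical in
/-- The kernel of an irreducible polynomial in a semisimple endomorphism. -/
theorem finrank_ker_aeval (P : K[X]) (hP : Irreducible P) (hm : P.Monic) :
    ∀ (n : ℕ) (V : Type v) [AddCommGroup V] [Module K V] [FiniteDimensional K V] (π : Module.End K V),
      π.IsSemisimple → Module.finrank K V = n →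
      Module.finrank K (LinearMap.ker (aeval π P)) = (normalizedFactors π.charpoly).count P * P.natDegree := by
  intro n
  induction n using Nat.strong_induction_on with
  | _ n ih =>
    intro V _ _ _ π hπ hn
    by_cases hs : ∀ p : Submodule K V, p ∈ π.invtSubmodule → p = ⊥ ∨ p = ⊤
    · rcases subsingleton_or_nontrivial V with hV | hV
      · have h0 : Module.finrank K V = 0 := Module.finrank_zero_of_subsingleton
        have h1 : π.charpoly = 1 :=
          eq_one_of_monic_natDegree_zero π.charpoly_monic (by rw [LinearMap.charpoly_natDegree, h0])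
        rw [Module.finrank_zero_of_subsingleton, h1, normalizedFactors_one, Multiset.count_zero, zero_mul]
      · obtain ⟨hirr, hc⟩ := simple_charpoly π hs
        rw [normalizedFactors_irreducible hirr, π.charpoly_monic.normalize_eq_self, Multiset.count_singleton]
        by_cases hPQ : P = π.charpoly
        · rw [if_pos hPQ, one_mul, show aeval π P = 0 by rw [hPQ, hc, minpoly.aeval],
            LinearMap.ker_zero, finrank_top, hPQ, LinearMap.charpoly_natDegree]
        · rw [if_neg hPQ, zero_mul]
          rcases hs _ (mem_invt_ker π P) with h | h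
          · rw [h, finrank_bot]
          · exact absurd (eq_of_monic_of_associated hm π.charpoly_monic
              ((hirr.associated_of_dvd hP (hc ▸ minpoly.dvd K π (LinearMap.ker_eq_top.1 h))).symm)) hPQ
    · push Not at hs
      obtain ⟨p, hp, hpb, hpt⟩ := hs
      obtain ⟨q, hq, hpq⟩ := Module.End.isSemisimple_iff.1 hπ p hp
      have h1 : Module.finrank K p < n := hn ▸ Submodule.finrank_lt hpt
      have h2 : Module.finrank K q < n := hn ▸ Submodule.finrank_lt fun hqt => hpb (by
        have := hpq.disjoint; rwa [hqt, disjoint_top] at this)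
      rw [finrank_ker_split π hp hq hpq P, charpoly_split π hp hq hpq,
        normalizedFactors_mul (LinearMap.charpoly_monic _).ne_zero (LinearMap.charpoly_monic _).ne_zero,
        Multiset.count_add, add_mul, ih _ h1 p _ (hπ.restrict hp) rfl, ih _ h2 q _ (hπ.restrict hq) rfl]

open scoped Classical in
/-- The dimension of the intertwiners. -/
theorem finrank_intertwiners [FiniteDimensional K W] (π₂ : Module.End K W) (h₂ : π₂.IsSemisimple) :
    ∀ (n : ℕ) (V : Type v) [AddCommGroup V] [Module K V] [FiniteDimensional K V] (π₁ : Module.End K V),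
      π₁.IsSemisimple → Module.finrank K V = n → Module.finrank K (C π₁ π₂) =
        ((normalizedFactors π₁.charpoly).map fun P => (normalizedFactors π₂.charpoly).count P * P.natDegree).sum := by
  intro n
  induction n using Nat.strong_induction_on with
  | _ n ih =>
    intro V _ _ _ π hπ hn
    by_cases hs : ∀ p : Submodule K V, p ∈ π.invtSubmodule → p = ⊥ ∨ p = ⊤
    · rcases subsingleton_or_nontrivial V with hV | hV
      · have h0 : Module.finrank K V = 0 := Module.finrank_zero_of_subsingleton
        have h1 : π.charpoly = 1 :=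
          eq_one_of_monic_natDegree_zero π.charpoly_monic (by rw [LinearMap.charpoly_natDegree, h0])
        haveI : Subsingleton (V →ₗ[K] W) := ⟨fun a b => LinearMap.ext fun x => by rw [Subsingleton.elim x 0, map_zero, map_zero]⟩
        rw [Module.finrank_zero_of_subsingleton, h1, normalizedFactors_one, Multiset.map_zero, Multiset.sum_zero]
      · obtain ⟨hirr, hc⟩ := simple_charpoly π hs
        rw [normalizedFactors_irreducible hirr, π.charpoly_monic.normalize_eq_self, Multiset.map_singleton,
          Multiset.sum_singleton, ← finrank_ker_aeval π.charpoly hirr π.charpoly_monic _ W π₂ h₂ rfl]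
        obtain ⟨v, hv⟩ := exists_ne (0 : V)
        let Φ : K[X] →ₗ[K] V := LinearMap.applyₗ v ∘ₗ (aeval π).toLinearMap
        have hΦ : Function.Surjective Φ := surjective_aeval π hs hv
        have hcomm : ∀ {h : V →ₗ[K] W}, h ∈ C π π₂ → ∀ P : K[X], h (aeval π P v) = aeval π₂ P (h v) := by
          intro h hh P
          induction P using Polynomial.induction_on' with
          | add a b ha hb => simp only [map_add, LinearMap.add_apply, ha, hb]
          | monomial m a =>
            induction m with
            | zero => simp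
            | succ m ihm =>
              rw [← monomial_mul_X, mul_comm, map_mul, map_mul, aeval_X, aeval_X, Module.End.mul_apply,
                Module.End.mul_apply, mem_C.1 hh, ihm]
        refine LinearEquiv.finrank_eq (LinearEquiv.ofBijective
          ((LinearMap.applyₗ v ∘ₗ (C π π₂).subtype).codRestrict (LinearMap.ker (aeval π₂ π.charpoly)) fun h => ?_) ⟨?_, ?_⟩)
        · show aeval π₂ π.charpoly (h.1 v) = 0
          rw [← hcomm h.2, LinearMap.aeval_self_charpoly, LinearMap.zero_apply, map_zero]
        · intro a b e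
          refine Subtype.ext (LinearMap.ext fun x => ?_)
          obtain ⟨P, rfl⟩ := hΦ x
          show a.1 (aeval π P v) = b.1 (aeval π P v)
          rw [hcomm a.2, hcomm b.2, show a.1 v = b.1 v from congrArg Subtype.val e]
        · rintro ⟨w, hw⟩
          let Ψ : K[X] →ₗ[K] W := LinearMap.applyₗ w ∘ₗ (aeval π₂).toLinearMap
          have hker : LinearMap.ker Φ ≤ LinearMap.ker Ψ := fun P hP => by
            have h0 : aeval π P = 0 := by
              refine LinearMap.ext fun x => ?_
              obtain ⟨Q, rfl⟩ := hΦ x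
              show aeval π P (aeval π Q v) = 0
              rw [← Module.End.mul_apply, ← map_mul, mul_comm, map_mul, Module.End.mul_apply,
                show aeval π P v = 0 from hP, map_zero]
            obtain ⟨Q, rfl⟩ := minpoly.dvd K π h0
            show aeval π₂ (minpoly K π * Q) w = 0
            rw [← hc, mul_comm, map_mul, Module.End.mul_apply, LinearMap.mem_ker.1 hw, map_zero]
          let e := LinearMap.quotKerEquivOfSurjective Φ hΦ
          let h : V →ₗ[K] W := (LinearMap.ker Φ).liftQ Ψ hker ∘ₗ e.symm.toLinearMap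
          have hh : ∀ P : K[X], h (Φ P) = Ψ P := fun P => by
            show (LinearMap.ker Φ).liftQ Ψ hker (e.symm (Φ P)) = _
            rw [show e.symm (Φ P) = Submodule.Quotient.mk P from
              (e.symm_apply_eq).2 rfl, Submodule.liftQ_apply]
          refine ⟨⟨h, mem_C.2 fun x => ?_⟩, Subtype.ext ?_⟩
          · obtain ⟨P, rfl⟩ := hΦ x
            rw [hh P, show π (Φ P) = Φ (X * P) by simp [Φ], hh]
            simp [Ψ]
          · show h v = w
            rw [show v = Φ 1 by simp [Φ], hh]
            simp [Ψ]
    · push Not at hs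
      obtain ⟨p, hp, hpb, hpt⟩ := hs
      obtain ⟨q, hq, hpq⟩ := Module.End.isSemisimple_iff.1 hπ p hp
      have h1 : Module.finrank K p < n := hn ▸ Submodule.finrank_lt hpt
      have h2 : Module.finrank K q < n := hn ▸ Submodule.finrank_lt fun hqt => hpb (by
        have := hpq.disjoint; rwa [hqt, disjoint_top] at this)
      rw [charpoly_split π hp hq hpq,
        normalizedFactors_mul (LinearMap.charpoly_monic _).ne_zero (LinearMap.charpoly_monic _).ne_zero,
        Multiset.map_add, Multiset.sum_add, ← ih _ h1 p _ (hπ.restrict hp) rfl, ← ih _ h2 q _ (hπ.restrict hq) rfl,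
        ← Module.finrank_prod]
      let pr := (Submodule.prodEquivOfIsCompl p q hpq)
      let Φ : C π π₂ →ₗ[K] C (π.restrict hp) π₂ × C (π.restrict hq) π₂ :=
        ((LinearMap.lcomp K W p.subtype ∘ₗ (C π π₂).subtype).codRestrict _ fun h => mem_C.2 fun x => mem_C.1 h.2 x.1).prod
          ((LinearMap.lcomp K W q.subtype ∘ₗ (C π π₂).subtype).codRestrict _ fun h => mem_C.2 fun x => mem_C.1 h.2 x.1)
      refine LinearEquiv.finrank_eq (LinearEquiv.ofBijective Φ ⟨fun a b e => ?_, fun ⟨a, b⟩ => ?_⟩)
      · refine Subtype.ext (LinearMap.ext fun x => ?_)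
        obtain ⟨⟨y, z⟩, rfl⟩ := pr.surjective x
        have e1 := LinearMap.congr_fun (congrArg Subtype.val (congrArg Prod.fst e)) y
        have e2 := LinearMap.congr_fun (congrArg Subtype.val (congrArg Prod.snd e)) z
        show a.1 ((y : V) + z) = b.1 ((y : V) + z)
        rw [map_add, map_add]
        exact congrArg₂ (· + ·) e1 e2
      · let h : V →ₗ[K] W := a.1.coprod b.1 ∘ₗ pr.symm.toLinearMap
        have hh : ∀ y z, h (pr (y, z)) = a.1 y + b.1 z := fun y z => by
          show a.1.coprod b.1 (pr.symm (pr (y, z))) = _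
          rw [pr.symm_apply_apply, LinearMap.coprod_apply]
        refine ⟨⟨h, mem_C.2 fun x => ?_⟩, Prod.ext (Subtype.ext (LinearMap.ext fun y => ?_)) (Subtype.ext (LinearMap.ext fun z => ?_))⟩
        · obtain ⟨⟨y, z⟩, rfl⟩ := pr.surjective x
          have e : π (pr (y, z)) = pr (π.restrict hp y, π.restrict hq z) := by
            show π ((y : V) + z) = (π.restrict hp y : V) + (π.restrict hq z : V)
            rw [map_add]; rfl
          rw [e, hh, hh, map_add, mem_C.1 a.2, mem_C.1 b.2]
        · show h (y : V) = a.1 y
          rw [show (y : V) = pr (y, 0) by simp [pr], hh, map_zero, add_zero]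
        · show h (z : V) = b.1 z
          rw [show (z : V) = pr (0, z) by simp [pr], hh, map_zero, zero_add]

open scoped Classical in
theorem finrank_eq_sum [FiniteDimensional K V] [FiniteDimensional K W] (π₁ : Module.End K V) (π₂ : Module.End K W)
    (h₁ : π₁.IsSemisimple) (h₂ : π₂.IsSemisimple) :
    Module.finrank K (C π₁ π₂) = ∑ P ∈ (normalizedFactors π₁.charpoly).toFinset,
      (normalizedFactors π₁.charpoly).count P * (normalizedFactors π₂.charpoly).count P * P.natDegree := by
  rw [finrank_intertwiners π₂ h₂ _ V π₁ h₁ rfl, Finset.sum_multiset_map_count]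
  simp only [smul_eq_mul, mul_assoc]

end Groth.Agent.H63.Intertwine
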