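import Groth.Agent.H63.GrpIrred
import Mathlib.RingTheory.DualNumber
import Mathlib.RingTheory.Kaehler.Basic
import Mathlib.RingTheory.LocalRing.Module

set_option autoImplicit false
universe u

/-!
Invariant derivations at the unit of a group scheme over a field: the module of differentials of the
local ring at the unit is free.
-/

open AlgebraicGeometry CategoryTheory MonoidalCategory
open CartesianMonoidalCategory MonObj GrpObj
open scoped DualNumber TensorProduct

namespace Groth.Agent.H63.InvDeriv

/-- A finite module over a local ring all of whose functionals to the residue field lift is free. -/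
theorem free_of_lift {R k : Type u} [CommRing R] [IsLocalRing R] [Field k] [Algebra R k]
    (hk : Function.Surjective (algebraMap R k)) (M : Type u) [AddCommGroup M] [Module R M]
    [Module.Finite R M]
    (h : ∀ f : M →ₗ[R] k, ∃ g : M →ₗ[R] R, ∀ m, algebraMap R k (g m) = f m) : Module.Free R M := by
  let b := Module.Free.chooseBasis k (k ⊗[R] M)
  have hsurj : Function.Surjective (TensorProduct.mk R k M 1) :=
    TensorProduct.mk_surjective R M k hk
  choose m hm using fun i => hsurj (b i)
  let ι' := Module.Free.ChooseBasisIndex k (k ⊗[R] M)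
  let f : ι' → (M →ₗ[R] k) := fun i =>
    ((b.coord i).restrictScalars R).comp (TensorProduct.mk R k M 1)
  choose g hg using fun i => h (f i)
  have : Fintype ι' := inferInstance
  let s : (ι' → R) →ₗ[R] M := Fintype.linearCombination R m
  have hs : Function.Surjective s := by
    rw [← LinearMap.range_eq_top, Fintype.range_linearCombination, eq_top_iff]
    refine Submodule.le_of_le_smul_of_le_jacobson_bot (I := IsLocalRing.maximalIdeal R)
      Module.Finite.fg_top (IsLocalRing.maximalIdeal_le_jacobson _) ?_
    intro x _
    classical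
    obtain ⟨c, hc⟩ : ∃ c : ι' → R, ∀ i, algebraMap R k (c i) = b.repr (1 ⊗ₜ x) i :=
      ⟨fun i => (hk _).choose, fun i => (hk _).choose_spec⟩
    have h1 : (1 : k) ⊗ₜ[R] (x - ∑ i, c i • m i) = 0 := by
      rw [TensorProduct.tmul_sub, TensorProduct.tmul_sum, sub_eq_zero]
      conv_lhs => rw [← b.sum_repr (1 ⊗ₜ x)]
      refine Finset.sum_congr rfl fun i _ => ?_
      rw [← hc i, ← hm i, TensorProduct.tmul_smul, algebraMap_smul]
      rfl
    have hker : RingHom.ker (algebraMap R k) = IsLocalRing.maximalIdeal R :=
      IsLocalRing.eq_maximalIdeal (RingHom.ker_isMaximal_of_surjective _ hk)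
    have h2 : x - ∑ i, c i • m i ∈ IsLocalRing.maximalIdeal R • (⊤ : Submodule R M) := by
      rw [← hker]
      let e : k ⊗[R] M ≃ₗ[R] M ⧸ (RingHom.ker (algebraMap R k) • ⊤ : Submodule R M) :=
        (TensorProduct.congr
          (Ideal.quotientKerAlgEquivOfSurjective (f := Algebra.ofId R k) hk).symm.toLinearEquiv
          (LinearEquiv.refl R M)).trans (TensorProduct.quotTensorEquivQuotSMul M _)
      have h3 := congrArg e h1
      rw [map_zero] at h3
      have h5 : (Ideal.quotientKerAlgEquivOfSurjective (f := Algebra.ofId R k) hk).symm 1 =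
          Ideal.Quotient.mk _ 1 := by rw [map_one, map_one]
      simp only [e, LinearEquiv.trans_apply, TensorProduct.congr_tmul, AlgEquiv.toLinearEquiv_apply,
        LinearEquiv.refl_apply, h5] at h3
      erw [TensorProduct.quotTensorEquivQuotSMul_mk_tmul, one_smul, Submodule.Quotient.mk_eq_zero] at h3
      exact h3
    exact Submodule.mem_sup.2 ⟨∑ i, c i • m i,
      Submodule.sum_mem _ fun i _ => Submodule.smul_mem _ _ (Submodule.subset_span ⟨i, rfl⟩),
      _, h2, by abel⟩
  let Φ : M →ₗ[R] (ι' → R) := LinearMap.pi g
  have hid : Function.Bijective (Φ ∘ₗ s) := by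
    classical
    let P := LinearMap.toMatrix' (Φ ∘ₗ s)
    have hP : (algebraMap R k).mapMatrix P = 1 := by
      ext i j
      have : (Φ ∘ₗ s) (Pi.single j 1) i = g i (m j) := by
        simp [Φ, s, Fintype.linearCombination_apply_single]
      simp only [RingHom.mapMatrix_apply, Matrix.map_apply, P, LinearMap.toMatrix'_apply]
      rw [this, hg]
      show b.coord i ((1 : k) ⊗ₜ m j) = _
      rw [show (1 : k) ⊗ₜ[R] m j = b j from hm j]
      simp [Matrix.one_apply, Finsupp.single_apply, eq_comm]
    have hdet : IsUnit P.det := by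
      have h1 : algebraMap R k P.det = 1 := by rw [RingHom.map_det, hP, Matrix.det_one]
      by_contra hn
      have : P.det ∈ RingHom.ker (algebraMap R k) := by
        rw [IsLocalRing.eq_maximalIdeal (RingHom.ker_isMaximal_of_surjective _ hk)]; exact hn
      rw [RingHom.mem_ker, h1] at this
      exact one_ne_zero this
    have hu : IsUnit (Φ ∘ₗ s) := by
      have h2 : IsUnit P := (Matrix.isUnit_iff_isUnit_det P).2 hdet
      have h3 := h2.map (Matrix.toLinAlgEquiv' (R := R) (n := ι'))
      have h4 : Matrix.toLinAlgEquiv' (R := R) P = Φ ∘ₗ s := Matrix.toLin'_toMatrix' _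
      rwa [h4] at h3
    exact (Module.End.isUnit_iff _).1 hu
  exact Module.Free.of_equiv (LinearEquiv.ofBijective s
    ⟨Function.Injective.of_comp (f := Φ) hid.1, hs⟩)

section Point

variable {k : Type u} [Field k] (G : Over (Spec (CommRingCat.of k)))
variable (A : Type u) [CommRing A] [Algebra k A] (j : Spec (CommRingCat.of A) ⟶ G.left)
  (hj : j ≫ G.hom = Spec.map (CommRingCat.ofHom (algebraMap k A)))

/-- the spectrum of an algebra over the base field -/
noncomputable abbrev specOver (T : Type u) [CommRing T] [Algebra k T] : Over (Spec (CommRingCat.of k)) :=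
  Over.mk (Spec.map (CommRingCat.ofHom (algebraMap k T)))

/-- a point of the chart -/
noncomputable def pt {T : Type u} [CommRing T] [Algebra k T] (φ : A →ₐ[k] T) : specOver T ⟶ G :=
  Over.homMk (Spec.map (CommRingCat.ofHom φ.toRingHom) ≫ j) (by
    show (_ ≫ j) ≫ G.hom = Spec.map _
    rw [Category.assoc, hj, ← Spec.map_comp]
    congr 1
    ext x
    exact φ.commutes x)

/-- the map of spectra of algebras -/
noncomputable def specHom {T T' : Type u} [CommRing T] [Algebra k T] [CommRing T'] [Algebra k T']
    (ψ : T →ₐ[k] T') : specOver (k := k) T' ⟶ specOver T :=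
  Over.homMk (Spec.map (CommRingCat.ofHom ψ.toRingHom)) (by
    show _ ≫ Spec.map _ = Spec.map _
    rw [← Spec.map_comp]
    congr 1
    ext x
    exact ψ.commutes x)

theorem specHom_pt {T T' : Type u} [CommRing T] [Algebra k T] [CommRing T'] [Algebra k T']
    (ψ : T →ₐ[k] T') (φ : A →ₐ[k] T) : specHom ψ ≫ pt G A j hj φ = pt G A j hj (ψ.comp φ) := by
  ext : 1
  show Spec.map _ ≫ Spec.map _ ≫ j = Spec.map _ ≫ j
  rw [← Category.assoc, ← Spec.map_comp]
  rfl

theorem pt_injective [IsOpenImmersion j] {T : Type u} [CommRing T] [Algebra k T] {φ φ' : A →ₐ[k] T}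
    (h : pt G A j hj φ = pt G A j hj φ') : φ = φ' := by
  have h1 : Spec.map (CommRingCat.ofHom φ.toRingHom) ≫ j = Spec.map (CommRingCat.ofHom φ'.toRingHom) ≫ j :=
    congrArg (fun a => a.left) h
  rw [cancel_mono] at h1
  exact AlgHom.coe_ringHom_injective (congrArg CommRingCat.Hom.hom (Spec.map_injective h1))

instance isLocalRing_dualNumber {O : Type u} [CommRing O] [IsLocalRing O] : IsLocalRing O[ε] :=
  .of_isUnit_or_isUnit_one_sub_self fun x => by
    rw [TrivSqZeroExt.isUnit_iff_isUnit_fst, TrivSqZeroExt.isUnit_iff_isUnit_fst]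
    simpa using IsLocalRing.isUnit_or_isUnit_one_sub_self x.fst

variable [GrpObj G] [IsOpenImmersion j] [Algebra A k] [IsScalarTower k A k]
  (hη : η[G].left = Spec.map (CommRingCat.ofHom (algebraMap A k)) ≫ j)

include hη in
theorem pt_unit {T : Type u} [CommRing T] [Algebra k T] :
    pt G A j hj ((Algebra.ofId k T).comp (IsScalarTower.toAlgHom k A k)) = 1 := by
  rw [Hom.one_def]
  ext : 1
  show Spec.map (CommRingCat.ofHom ((algebraMap k T).comp (algebraMap A k))) ≫ j = _
  rw [CommRingCat.ofHom_comp, Spec.map_comp, Category.assoc, ← hη]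
  rfl

variable (q : Ideal A) [q.IsPrime]

local notation "O" => Localization.AtPrime q

include hj hη in
/-- every functional on the differentials at the unit is the value of a derivation -/
theorem exists_lift_functional (hq : q = RingHom.ker (algebraMap A k)) [Algebra O k]
    [IsScalarTower A O k] [IsScalarTower k O k]
    (f : Ω[O⁄k] →ₗ[O] k) : ∃ g : Ω[O⁄k] →ₗ[O] O, ∀ m, algebraMap O k (g m) = f m := by
  let toO : A →ₐ[k] O := IsScalarTower.toAlgHom k A O
  let res : O →ₐ[k] k := IsScalarTower.toAlgHom k O k
  have hres : ∀ a : A, res (toO a) = algebraMap A k a := fun a =>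
    (IsScalarTower.algebraMap_apply A O k a).symm
  let v : O →ₗ[k] k := (f.restrictScalars k).comp (KaehlerDifferential.D k O).toLinearMap
  have hv : ∀ x y : O, v (x * y) = res x * v y + res y * v x := by
    intro x y
    show f (KaehlerDifferential.D k O (x * y)) = _
    simp [v, res, Algebra.smul_def]
  have hv1 : v 1 = 0 := by simp [v]
  let w : O →ₐ[k] k[ε] :=
    { toFun := fun x => TrivSqZeroExt.inl (res x) + TrivSqZeroExt.inr (v x)
      map_one' := by simp [hv1]
      map_mul' := fun x y => by
        apply TrivSqZeroExt.ext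
        · simp
        · simp [hv, DualNumber.snd_mul]; ring
      map_zero' := by simp
      map_add' := fun x y => by
        apply TrivSqZeroExt.ext <;> simp
      commutes' := fun c => by
        have h1 : v (algebraMap k O c) = 0 := by simp [v]
        simp [h1, res, TrivSqZeroExt.algebraMap_eq_inl'] }
  let r : O[ε] →ₐ[k] O := TrivSqZeroExt.fstHom k O O
  let r0 : k[ε] →ₐ[k] k := TrivSqZeroExt.fstHom k k k
  let i : O →ₐ[k] O[ε] := TrivSqZeroExt.inlAlgHom k O O
  let i0 : k[ε] →ₐ[k] O[ε] :=
    { toFun := fun x => TrivSqZeroExt.inl (algebraMap k O x.fst) + TrivSqZeroExt.inr (algebraMap k O x.snd)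
      map_one' := by simp
      map_mul' := fun x y => by
        apply TrivSqZeroExt.ext
        · simp
        · simp; simp only [Algebra.smul_def]; ring
      map_zero' := by simp
      map_add' := fun x y => by
        apply TrivSqZeroExt.ext <;> simp [Algebra.smul_def]
      commutes' := fun c => by
        simp [TrivSqZeroExt.algebraMap_eq_inl'] }
  let c : O[ε] →ₐ[k] k[ε] :=
    { toFun := fun x => TrivSqZeroExt.inl (res x.fst) + TrivSqZeroExt.inr (res x.snd)
      map_one' := by simp
      map_mul' := fun x y => by
        apply TrivSqZeroExt.ext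
        · simp
        · simp [DualNumber.snd_mul]
      map_zero' := by simp
      map_add' := fun x y => by
        apply TrivSqZeroExt.ext <;> simp
      commutes' := fun a => by
        simp [TrivSqZeroExt.algebraMap_eq_inl', res] }
  let p : specOver (k := k) (O[ε]) ⟶ G :=
    pt G A j hj (i.comp toO) * pt G A j hj ((i0.comp w).comp toO)
  have hrp : specHom r ≫ p = pt G A j hj toO := by
    have e1 : (r.comp (i.comp toO)) = toO := by ext a; simp [r, i]
    have e2 : r.comp ((i0.comp w).comp toO) = (Algebra.ofId k O).comp (IsScalarTower.toAlgHom k A k) := by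
      ext a
      show (TrivSqZeroExt.inl (algebraMap k O (w (toO a)).fst) +
        TrivSqZeroExt.inr (algebraMap k O (w (toO a)).snd) : O[ε]).fst = algebraMap k O (algebraMap A k a)
      simp [w, hres]
    simp only [p, MonObj.comp_mul, specHom_pt, e1, e2, pt_unit G A j hj hη, _root_.mul_one]
  have hcp : specHom c ≫ p = pt G A j hj (w.comp toO) := by
    have e1 : c.comp (i.comp toO) = (Algebra.ofId k k[ε]).comp (IsScalarTower.toAlgHom k A k) := by
      ext a
      all_goals simp [c, i, hres, TrivSqZeroExt.algebraMap_eq_inl', Algebra.ofId_apply]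
    have e2 : c.comp ((i0.comp w).comp toO) = w.comp toO := by
      ext a
      all_goals simp [c, i0, res, ← IsScalarTower.algebraMap_apply k O k]
    simp only [p, MonObj.comp_mul, specHom_pt, e1, e2, pt_unit G A j hj hη, _root_.one_mul]
  have hrange : Set.range p.left ⊆ Set.range j := by
    rintro _ ⟨z, rfl⟩
    have h0 : p.left (IsLocalRing.closedPoint O[ε]) ∈ Set.range j := by
      have hc : Spec.map (CommRingCat.ofHom r.toRingHom) (IsLocalRing.closedPoint O) =
          IsLocalRing.closedPoint O[ε] := by
        apply PrimeSpectrum.ext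
        show (IsLocalRing.maximalIdeal O).comap r.toRingHom = IsLocalRing.maximalIdeal O[ε]
        ext x
        show r x ∈ IsLocalRing.maximalIdeal O ↔ x ∈ IsLocalRing.maximalIdeal O[ε]
        simp [r, TrivSqZeroExt.isUnit_iff_isUnit_fst]
      rw [← hc, ← Scheme.Hom.comp_apply]
      have := congrArg (fun a => a.left) hrp
      rw [show Spec.map (CommRingCat.ofHom r.toRingHom) ≫ p.left = (pt G A j hj toO).left from this]
      exact ⟨_, (Scheme.Hom.comp_apply _ _ _).symm⟩
    exact ((IsLocalRing.specializes_closedPoint z).map p.left.continuous).mem_open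
      j.isOpenEmbedding.isOpen_range h0
  obtain ⟨φr, hφr⟩ := Spec.map_surjective (IsOpenImmersion.lift j p.left hrange)
  have hp : Spec.map φr ≫ j = p.left := hφr ▸ IsOpenImmersion.lift_fac _ _ _
  have hcomm : ∀ x : k, φr.hom (algebraMap k A x) = algebraMap k O[ε] x := by
    have h1 : Spec.map (CommRingCat.ofHom (algebraMap k A) ≫ φr) =
        Spec.map (CommRingCat.ofHom (algebraMap k O[ε])) := by
      rw [Spec.map_comp, ← hj, ← Category.assoc, hp]
      exact Over.w p
    intro x
    exact congrArg (fun g => g.hom x) (Spec.map_injective h1)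
  let φ : A →ₐ[k] O[ε] := { φr.hom with commutes' := hcomm }
  have hpφ : pt G A j hj φ = p := by ext : 1; exact hp
  have hfst : r.comp φ = toO := pt_injective G A j hj (by rw [← specHom_pt, hpφ, hrp])
  have hcφ : c.comp φ = w.comp toO := pt_injective G A j hj (by rw [← specHom_pt, hpφ, hcp])
  have hunit : ∀ y : q.primeCompl, IsUnit (φ y) := fun y => by
    rw [TrivSqZeroExt.isUnit_iff_isUnit_fst, show (φ y).fst = toO y from AlgHom.congr_fun hfst y]
    exact IsLocalization.map_units _ y
  let Φ : O →ₐ[k] O[ε] := IsLocalization.liftAlgHom (S := O) (f := φ) hunit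
  have hΦ : Φ.toRingHom.comp (algebraMap A O) = φ.toRingHom := by
    ext a <;> simp [Φ]
  have hΦfst : ∀ x, (Φ x).fst = x := by
    have : (r.comp Φ).toRingHom = RingHom.id O := by
      refine IsLocalization.ringHom_ext q.primeCompl ?_
      ext a
      exact (congrArg r (RingHom.congr_fun hΦ a)).trans (AlgHom.congr_fun hfst a)
    exact fun x => RingHom.congr_fun this x
  have hΦc : c.comp Φ = w := by
    have : (c.comp Φ).toRingHom = w.toRingHom := by
      refine IsLocalization.ringHom_ext q.primeCompl ?_
      refine RingHom.ext fun a => ?_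
      exact (congrArg c (RingHom.congr_fun hΦ a)).trans (AlgHom.congr_fun hcφ a)
    exact AlgHom.coe_ringHom_injective this
  let D : Derivation k O O := Derivation.mk'
    { toFun := fun x => (Φ x).snd
      map_add' := fun x y => by simp
      map_smul' := fun a x => by simp }
    (fun x y => by
      show (Φ (x * y)).snd = _
      rw [map_mul, DualNumber.snd_mul, hΦfst, hΦfst]
      simp only [LinearMap.coe_mk, AddHom.coe_mk, smul_eq_mul]
      ring)
  refine ⟨D.liftKaehlerDifferential, LinearMap.congr_fun (f :=
    (Algebra.linearMap O k).comp D.liftKaehlerDifferential) (g := f) ?_⟩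
  refine LinearMap.ext_on_range (v := KaehlerDifferential.D k O)
    (KaehlerDifferential.span_range_derivation k O) fun x => ?_
  show algebraMap O k (D.liftKaehlerDifferential (KaehlerDifferential.D k O x)) = f _
  rw [Derivation.liftKaehlerDifferential_comp_D]
  have := congrArg TrivSqZeroExt.snd (AlgHom.congr_fun hΦc x)
  simpa [c, w, D, v, res, Algebra.algebraMap_eq_smul_one] using this

include hj hη in
/-- the differentials of the local ring at the unit are free -/
theorem free_kaehler [Algebra.FiniteType k A] (hq : q = RingHom.ker (algebraMap A k)) :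
    Module.Free O Ω[O⁄k] := by
  have hu : ∀ y : q.primeCompl, IsUnit (algebraMap A k y) := fun y =>
    isUnit_iff_ne_zero.2 fun h => y.2 (hq.symm ▸ (RingHom.mem_ker.2 h : (y : A) ∈ RingHom.ker (algebraMap A k)))
  let res : O →+* k := IsLocalization.lift hu
  let : Algebra O k := res.toAlgebra
  have : IsScalarTower A O k := .of_algebraMap_eq fun a => (IsLocalization.lift_eq (S := O) hu a).symm
  have : IsScalarTower k O k := .of_algebraMap_eq fun a => by
    rw [IsScalarTower.algebraMap_apply k A O, ← IsScalarTower.algebraMap_apply A O k,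
      ← IsScalarTower.algebraMap_apply k A k]
  have hk : Function.Surjective (algebraMap O k) := fun a =>
    ⟨algebraMap k O a, (IsScalarTower.algebraMap_apply k O k a).symm⟩
  have : Algebra.EssFiniteType A O := Algebra.EssFiniteType.of_isLocalization O q.primeCompl
  have : Algebra.EssFiniteType k O := Algebra.EssFiniteType.comp k A O
  exact free_of_lift hk _ (exists_lift_functional G A j hj hη q hq)

end Point

end Groth.Agent.H63.InvDeriv
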