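import Groth.Agent.H63.AVIsogeny
import Groth.Agent.H63.DegreeHom
import Groth.Agent.H54.GeomLift
import Mathlib.FieldTheory.PurelyInseparable.Basic

/-!
# Degree and kernel of an isogeny

* `exists_natCard_kerPts`: `deg φ = #(ker φ)(k) · q ^ e`, `q` the exponential characteristic
-/

set_option autoImplicit false

universe u

open CategoryTheory MonoidalCategory CartesianMonoidalCategory AlgebraicGeometry
open scoped MonObj GrpObj
open Groth.Agent.H54.GeomLift

namespace Groth.Agent.H63.IsogenyDeg

variable {k : Type u} [Field k]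

local notation "T₀" => Over.mk (𝟙 (Spec (CommRingCat.of k)))

/-- The degree of a finite flat map of integral schemes is the number of geometric generic lifts
times a power of the exponential characteristic. -/
theorem exists_natCard_lift {X Y : Scheme.{u}} [IsIntegral X] [IsIntegral Y] (q : X ⟶ Y)
    [IsFinite q] [Flat q] [LocallyOfFinitePresentation q] [Surjective q]
    (str : Y ⟶ Spec (CommRingCat.of k)) {L : Type u} [Field L] [IsAlgClosed L]
    (ξ : Spec (CommRingCat.of L) ⟶ Y) (hξ : pt ξ = genericPoint Y) :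
    ∃ e : ℕ, q.finrank (genericPoint Y) = Nat.card (Lift q ξ) * ringExpChar k ^ e ∧
      0 < Nat.card (Lift q ξ) := by
  have hg := FunctionFieldDegree.genericPoint_map q
  set gx := genericPoint X with hgx
  obtain ⟨-, hpos, hcard⟩ := card_pt_eq q ξ gx (hg.trans hξ.symm)
  have huniq : ∀ s : Lift q ξ, pt s.1 = gx := fun s => by
    have h1 : q (pt s.1) = genericPoint Y := (apply_pt s).trans hξ
    have h2 : _root_.IsDiscrete (q ⁻¹' {genericPoint Y}) := q.isDiscrete_preimage_singleton _
    haveI := h2.to_subtype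
    have h3 : (⟨gx, hg⟩ : q ⁻¹' {genericPoint Y}) ⤳ ⟨pt s.1, h1⟩ :=
      (subtype_specializes_iff _ _).2 ((genericPoint_spec X).specializes trivial)
    exact (congrArg Subtype.val h3.eq).symm
  have hsub : Nat.card {s : Lift q ξ // pt s.1 = gx} = Nat.card (Lift q ξ) :=
    Nat.card_congr (Equiv.subtypeUnivEquiv huniq)
  rw [hsub] at hcard hpos
  have hfin := residueFieldMap_finite q gx
  have hbij : ∀ {y : Y} (h : y = genericPoint Y),
      Function.Bijective (Y.presheaf.stalkSpecializes (specializes_of_eq h) ≫ Y.residue y).hom := by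
    rintro y rfl
    refine ⟨((Y.presheaf.stalkSpecializes _ ≫ Y.residue (genericPoint Y)).hom : Y.functionField →+* _).injective, ?_⟩
    rw [CommRingCat.hom_comp]
    refine (Y.residue_surjective _).comp ?_
    rw [show specializes_of_eq (rfl : genericPoint Y = genericPoint Y) = specializes_rfl from rfl,
      TopCat.Presheaf.stalkSpecializes_refl]
    exact Function.surjective_id
  letI : Algebra Y.functionField X.functionField := (FunctionFieldDegree.ff q hg).hom.toAlgebra
  letI : Algebra (Y.residueField (q gx)) (X.residueField gx) := (q.residueFieldMap gx).hom.toAlgebra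
  haveI : Module.Finite (Y.residueField (q gx)) (X.residueField gx) := hfin
  let b : X.functionField →+* X.residueField gx := (X.residue gx).hom
  have hb : Function.Bijective b := ⟨b.injective, X.residue_surjective gx⟩
  have hrank : Module.finrank Y.functionField X.functionField =
      Module.finrank (Y.residueField (q gx)) (X.residueField gx) := by
    refine Algebra.finrank_eq_of_equiv_equiv (RingEquiv.ofBijective _ (hbij hg)) (RingEquiv.ofBijective b hb) ?_
    ext x
    show (Y.presheaf.stalkSpecializes (specializes_of_eq hg) ≫ Y.residue (q gx) ≫ q.residueFieldMap gx) x = _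
    rw [Scheme.residue_residueFieldMap, ← Category.assoc]
    rfl
  have hdeg := FunctionFieldDegree.finrank_ff q hg
  haveI : ExpChar (Y.residueField (q gx)) (ringExpChar k) :=
    expChar_of_injective_ringHom (Spec.preimage (Y.fromSpecResidueField (q gx) ≫ str)).hom.injective _
  obtain ⟨e, he⟩ := finInsepDegree_eq_pow (Y.residueField (q gx)) (X.residueField gx) (ringExpChar k)
  refine ⟨e, ?_, hpos⟩
  rw [← hdeg, hrank, ← Field.finSepDegree_mul_finInsepDegree, he, hcard]
  rfl

variable [IsAlgClosed k] {A B : Over (Spec (CommRingCat.of k))} [GrpObj A] [GrpObj B]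
  [LocallyOfFiniteType A.hom] [IsSeparated A.hom] [LocallyOfFiniteType B.hom] [IsSeparated B.hom]

theorem ext_pts {a b : T₀ ⟶ A} (h : a.left (IsLocalRing.closedPoint k) = b.left (IsLocalRing.closedPoint k)) :
    a = b :=
  (AVIsogeny.ptsEquiv A).injective (Subtype.ext h)

/-- Kernel points do not grow under extension of the base field. -/
theorem natCard_kerPts_eq (φ : A ⟶ B) [IsMonHom φ] [IsFinite φ.left] {L : Type u} [Field L]
    (σ : Spec (CommRingCat.of L) ⟶ Spec (CommRingCat.of k)) :
    Nat.card {a : T₀ ⟶ A // a ≫ φ = 1} = Nat.card {x : Over.mk σ ⟶ A // x ≫ φ = 1} := by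
  haveI : JacobsonSpace A.left := LocallyOfFiniteType.jacobsonSpace A.hom
  let p : Over.mk σ ⟶ T₀ := Over.homMk σ (Category.comp_id σ)
  have hp : ∀ g : Over.mk σ ⟶ T₀, g = p := fun g =>
    Over.OverMorphism.ext ((Category.comp_id g.left).symm.trans (Over.w g))
  have hpt : ∀ {Z : Over (Spec (CommRingCat.of k))} (c : T₀ ⟶ Z) (t : Spec (CommRingCat.of L)),
      (p ≫ c).left t = c.left (IsLocalRing.closedPoint k) := fun c t => by
    rw [Over.comp_left, Scheme.Hom.comp_apply]
    exact congrArg c.left (Subsingleton.elim (α := PrimeSpectrum k) _ _)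
  have h1 : (1 : Over.mk σ ⟶ B) = p ≫ (1 : T₀ ⟶ B) := (MonObj.comp_one p).symm
  refine Nat.card_congr (Equiv.ofBijective (fun a => ⟨p ≫ a.1, by rw [Category.assoc, a.2, h1]⟩)
    ⟨fun a a' h => Subtype.ext (ext_pts ?_), fun ⟨x, hx⟩ => ?_⟩)
  · rw [← hpt a.1 (IsLocalRing.closedPoint L), ← hpt a'.1 (IsLocalRing.closedPoint L)]
    exact congrArg (fun z : {x : Over.mk σ ⟶ A // x ≫ φ = 1} => z.1.left (IsLocalRing.closedPoint L)) h
  · let u := x.left (IsLocalRing.closedPoint L)
    let o := (1 : T₀ ⟶ B).left (IsLocalRing.closedPoint k)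
    have hu : φ.left u = o := by
      show (x.left ≫ φ.left) _ = _
      rw [← Over.comp_left, hx, h1]
      exact hpt _ _
    have hcl : IsClosed ({o} : Set B.left) := ((AVIsogeny.ptsEquiv B) (1 : T₀ ⟶ B)).2
    have hF : IsClosed (φ.left ⁻¹' {o}) := hcl.preimage φ.left.continuous
    have hfinF : (φ.left ⁻¹' {o}).Finite := φ.left.finite_preimage_singleton o
    have hC : IsClosed (φ.left ⁻¹' {o} ∩ closedPoints A.left) := by
      rw [← Set.biUnion_of_singleton (φ.left ⁻¹' {o} ∩ closedPoints A.left)]
      exact (hfinF.subset Set.inter_subset_left).isClosed_biUnion fun z hz => hz.2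
    have huc : u ∈ closedPoints A.left := by
      have h2 := JacobsonSpace.closure_inter_closedPoints_eq_closure hF.isLocallyClosed
      have h3 : u ∈ closure (φ.left ⁻¹' {o} ∩ closedPoints A.left) := by
        rw [h2]
        exact subset_closure hu
      rw [hC.closure_eq] at h3
      exact h3.2
    let a : T₀ ⟶ A := (AVIsogeny.ptsEquiv A).symm ⟨u, huc⟩
    have ha : a.left (IsLocalRing.closedPoint k) = u :=
      congrArg Subtype.val ((AVIsogeny.ptsEquiv A).apply_symm_apply ⟨u, huc⟩)
    haveI : IsClosedImmersion (a.left ≫ A.hom) := by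
      rw [Over.w a]; exact (inferInstance : IsClosedImmersion (𝟙 (Spec (CommRingCat.of k))))
    haveI : IsClosedImmersion a.left := IsClosedImmersion.of_comp a.left A.hom
    haveI : IsReduced (Over.mk σ).left := inferInstanceAs (IsReduced (Spec (CommRingCat.of L)))
    obtain ⟨g, hg⟩ := H4.HomImage.exists_factor a x (by
      rintro _ ⟨t, rfl⟩
      exact ⟨IsLocalRing.closedPoint k, ha.trans (congrArg x.left (Subsingleton.elim (α := PrimeSpectrum L) _ _))⟩)
    refine ⟨⟨a, ext_pts ?_⟩, Subtype.ext ?_⟩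
    · rw [Over.comp_left, Scheme.Hom.comp_apply, ha]
      exact hu
    · show p ≫ a = x
      rw [← hg, hp g]

/-- The degree of an isogeny and the number of its kernel points. -/
theorem exists_natCard_kerPts {A B : Over (Spec (CommRingCat.of k))} [GrpObj A] [GrpObj B] [IsProper A.hom]
    [GeometricallyIntegral A.hom] [IsProper B.hom] [GeometricallyIntegral B.hom] [IsIntegral A.left]
    [IsIntegral B.left] {r : ℕ} (hA : topologicalKrullDim A.left = r) (hB : topologicalKrullDim B.left = r)
    (φ : A ⟶ B) [IsMonHom φ] (hf : IsFinite φ.left) :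
    ∃ e : ℕ, DegreeHom.deg φ = Nat.card {a : T₀ ⟶ A // a ≫ φ = 1} * ringExpChar k ^ e ∧
      0 < Nat.card {a : T₀ ⟶ A // a ≫ φ = 1} := by
  haveI := hf
  haveI := (DegreePoly.surjective_iff_isFinite A B hA hB φ).1 hf
  haveI := (H4.IsogenyDim.isFinite_and_flat φ (hB ▸ hA.le)).2
  haveI : IsLocallyNoetherian B.left := LocallyOfFiniteType.isLocallyNoetherian B.hom
  obtain ⟨L, _, _, ξ, hξ⟩ := exists_pt_eq (genericPoint B.left)
  obtain ⟨e, he, hpos⟩ := exists_natCard_lift φ.left B.hom ξ hξ
  let σ := ξ ≫ B.hom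
  let y : Over.mk σ ⟶ B := Over.homMk ξ rfl
  let E : Lift φ.left ξ ≃ {x : Over.mk σ ⟶ A // x ≫ φ = y} :=
    { toFun := fun s => ⟨Over.homMk s.1 (by
          show s.1 ≫ A.hom = ξ ≫ B.hom
          rw [← Over.w φ, reassoc_of% s.2]), Over.OverMorphism.ext s.2⟩
      invFun := fun x => ⟨x.1.left, congrArg Over.Hom.left x.2⟩
      left_inv := fun _ => rfl
      right_inv := fun _ => rfl }
  obtain ⟨s⟩ := (Nat.card_pos_iff.1 hpos).1
  let x₀ := E s
  let E' : {x : Over.mk σ ⟶ A // x ≫ φ = y} ≃ {x : Over.mk σ ⟶ A // x ≫ φ = 1} :=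
    Equiv.subtypeEquiv (Equiv.mulRight x₀.1⁻¹) fun x => by
      show _ ↔ (x * x₀.1⁻¹) ≫ φ = 1
      rw [MonObj.mul_comp, GrpObj.inv_comp, x₀.2, mul_inv_eq_one]
  refine ⟨e, ?_, ?_⟩
  · rw [DegreeHom.deg_of_isFinite hf, he, natCard_kerPts_eq φ σ, Nat.card_congr (E.trans E')]
  · rw [natCard_kerPts_eq φ σ, ← Nat.card_congr (E.trans E')]
    exact hpos

end Groth.Agent.H63.IsogenyDeg
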