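import Groth.Agent.H2.FlatHom.Abelian
import Groth.Agent.H4.KernelSquare
import Groth.Agent.H63.GrpFib

/-!
# Quasi-finite flat homomorphisms of algebraic groups over a field
-/

set_option autoImplicit false
universe u

open CategoryTheory CategoryTheory.Limits MonoidalCategory CartesianMonoidalCategory MonObj
open GrpObj AlgebraicGeometry
open Groth.Agent.Lib

namespace Groth.Agent.H63.IsogenyField

variable {K : Type u} [Field K] {G H : Over (Spec (CommRingCat.of K))} [GrpObj G] [GrpObj H]
  (g : G ⟶ H) [IsMonHom g]

/-- a homomorphism with open image onto a connected (irreducible) group is surjective -/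
theorem surjective_of_isOpen_range [LocallyOfFiniteType H.hom] [IrreducibleSpace H.left]
    (hopen : IsOpen (Set.range g.left)) : Surjective g.left := by
  refine ⟨fun y ↦ ?_⟩
  have hd : Dense (Set.range g.left) :=
    hopen.dense ⟨_, Set.mem_range_self (η[G].left (IsLocalRing.closedPoint K))⟩
  obtain ⟨q, ⟨a, ha⟩, ⟨b, hb⟩, rfl⟩ := GrpFib.exists_mul_dense H y hopen hopen hd hd
  let m : pullback G.hom G.hom ⟶ pullback H.hom H.hom :=
    pullback.map _ _ _ _ g.left g.left (𝟙 _) (by simp) (by simp)
  have hq : q ∈ Set.range m := by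
    show q ∈ Set.range (pullback.map _ _ _ _ g.left g.left (𝟙 _) _ _)
    rw [Scheme.Pullback.range_map]
    exact ⟨⟨a, ha⟩, ⟨b, hb⟩⟩
  obtain ⟨p, rfl⟩ := hq
  refine ⟨μ[G].left p, ?_⟩
  have h1 : μ[G].left ≫ g.left = (g ⊗ₘ g).left ≫ μ[H].left := by
    rw [← Over.comp_left, ← Over.comp_left, IsMonHom.mul_hom]
  rw [← Scheme.Hom.comp_apply, h1, Scheme.Hom.comp_apply]
  congr 1

/-- surjective, flat, quasi-finite homomorphisms of algebraic groups are finite -/
theorem isFinite_of_flat [QuasiCompact g.left] [Surjective g.left] [Flat g.left]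
    [LocallyQuasiFinite g.left] [IsSeparated g.left] : IsFinite g.left := by
  let N : Over (Spec (CommRingCat.of K)) := pullback g η[H]
  have hN : AlgGrp.IsKernel (pullback.fst g η[H]) g := by
    have h := IsPullback.of_hasPullback g η[H]
    have : pullback.snd g η[H] = toUnit N := toUnit_unique _ _
    rw [this] at h
    exact h
  have : LocallyQuasiFinite N.hom := H4.KernelSquare.hom_of g _ hN (P := @LocallyQuasiFinite) ‹_›
  have : QuasiCompact N.hom := H4.KernelSquare.hom_of g _ hN (P := @QuasiCompact) ‹_›
  have : IsSeparated N.hom := H4.KernelSquare.hom_of g _ hN (P := @IsSeparated) ‹_›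
  have : IsFinite N.hom := IsFinite.of_locallyQuasiFinite N.hom
  exact H4.KernelSquare.left_of_hom g _ hN (P := @IsFinite) this

theorem finite_surjective [LocallyOfFiniteType G.hom] [QuasiCompact G.hom] [IsSeparated G.hom]
    [Smooth H.hom] [GeometricallyConnected H.hom] [IsSeparated H.hom] [Flat g.left]
    [LocallyQuasiFinite g.left] [LocallyOfFinitePresentation g.left] :
    IsFinite g.left ∧ Surjective g.left := by
  have := H4.GeomInt.geometricallyIntegral H
  have : IsIntegral H.left := GeometricallyIntegral.isIntegral_of_subsingleton H.hom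
  have hs := surjective_of_isOpen_range g g.left.isOpenMap.isOpen_range
  have : QuasiCompact (g.left ≫ H.hom) := by rw [Over.w]; infer_instance
  have : IsSeparated (g.left ≫ H.hom) := by rw [Over.w]; infer_instance
  have : QuasiCompact g.left := QuasiCompact.of_comp g.left H.hom
  have : IsSeparated g.left := IsSeparated.of_comp g.left H.hom
  exact ⟨isFinite_of_flat g, hs⟩

end Groth.Agent.H63.IsogenyField
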