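import Groth.Agent.H63.GrpIdentity
import Groth.Agent.H63.GrpDim
import Groth.Agent.H63.GrpConnected
import Groth.Agent.H4.ConnSubAV
import Groth.Agent.H4.IsogenyFactor
import Groth.Agent.H4.KernelSquare
import Groth.Agent.Lib.GrpdGen.Stabilizer
import Groth.Agent.S3023
import Groth.Agent.H75.RedSub

/-!
# The abelian subvariety in the kernel of a homomorphism, over any field

* `exists_kerSubAV`: a homomorphism out of an abelian variety is finite or kills a nontrivial abelian
  subvariety
-/

set_option autoImplicit false

universe u

open CategoryTheory CategoryTheory.Limits MonoidalCategory CartesianMonoidalCategory AlgebraicGeometry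
open scoped MonObj GrpObj
open Groth.Agent.H63.GrpIrred Groth.Agent.H63.GrpComponent Groth.Agent.H63.GrpConnected
open Groth.Agent.Lib

namespace Groth.Agent.H63.KernelSubAV

variable {k : Type u} [Field k]

/-- A group whose identity component is a point is finite. -/
theorem finite_of_comp0_eq (N : Over (Spec (CommRingCat.of k))) [GrpObj N] [IsProper N.hom]
    (h : comp0 N = {unitPt N}) : Finite N.left := by
  haveI : CompactSpace N.left := QuasiCompact.compactSpace_of_compactSpace N.hom
  haveI : IsLocallyNoetherian N.left := LocallyOfFiniteType.isLocallyNoetherian N.hom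
  haveI : IsNoetherian N.left := ⟨⟩
  have h0 : VarDim.Basic.pdim N.hom (genPt N (unitPt N)) = 0 := by
    rw [VarDim.Basic.pdim_eq_zero_iff]
    have e : genPt N (unitPt N) = unitPt N := by
      have := (genPt_isGeneric N (unitPt N)).mem
      rw [show irreducibleComponent (unitPt N) = comp0 N from rfl, h] at this
      exact this
    rw [e, ← h]
    exact isClosed_irreducibleComponent
  have hsing : ∀ y : N.left, irreducibleComponent y = {genPt N y} := fun y => by
    rw [irreducibleComponent_eq]
    refine ((VarDim.Basic.pdim_eq_zero_iff N.hom _).1 ?_).closure_eq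
    rw [GrpDim.pdim_genPt, h0]
  have hfin : (irreducibleComponents N.left).Finite :=
    TopologicalSpace.NoetherianSpace.finite_irreducibleComponents
  refine Set.finite_univ_iff.1 ((hfin.biUnion (t := fun Z => Z) fun Z hZ => ?_).subset fun y _ => ?_)
  · rw [eq_irreducibleComponent N hZ (hZ.1.nonempty.some_mem), hsing]
    exact Set.finite_singleton _
  · exact Set.mem_biUnion (irreducibleComponent_mem_irreducibleComponents y) mem_irreducibleComponent

/-- A homomorphism out of an abelian variety is finite or kills a nontrivial abelian subvariety. -/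
theorem exists_kerSubAV {X Y : Over (Spec (CommRingCat.of k))} [GrpObj X] [IsProper X.hom]
    [GeometricallyIntegral X.hom] [GrpObj Y] [IsSeparated Y.hom] (f : X ⟶ Y) [IsMonHom f] :
    IsFinite f.left ∨ ∃ (M : Over (Spec (CommRingCat.of k))) (_ : GrpObj M) (i : M ⟶ X),
      IsMonHom i ∧ IsClosedImmersion i.left ∧ IsProper M.hom ∧ GeometricallyIntegral M.hom ∧
      i ≫ f = 1 ∧ Nontrivial M.left := by
  haveI := isCommMonObj_of_isProper_of_geometricallyIntegral X
  obtain ⟨N, gN, j, hj, hN, -⟩ := H4.IsogenyFactor.exists_kernel f
  haveI := hj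
  haveI : IsClosedImmersion (η[Y].left ≫ Y.hom) := by
    rw [Over.w η[Y]]; exact (inferInstance : IsClosedImmersion (𝟙 (Spec (CommRingCat.of k))))
  haveI : IsClosedImmersion η[Y].left := IsClosedImmersion.of_comp η[Y].left Y.hom
  haveI : IsClosedImmersion j.left :=
    MorphismProperty.of_isPullback (P := @IsClosedImmersion) (hN.map (Over.forget _)).flip ‹IsClosedImmersion η[Y].left›
  haveI : IsProper N.hom := by rw [← Over.w j]; infer_instance
  have hjf : j ≫ f = 1 := H4.KernelSquare.comp_eq_one f j hN
  by_cases h : comp0 N = {unitPt N}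
  · left
    haveI := finite_of_comp0_eq N h
    haveI : JacobsonSpace N.left := LocallyOfFiniteType.jacobsonSpace N.hom
    haveI : DiscreteTopology N.left := inferInstance
    haveI : LocallyQuasiFinite N.hom := by
      rw [locallyQuasiFinite_iff_isDiscrete_preimage_singleton]
      exact fun y => ⟨inferInstance⟩
    haveI : LocallyQuasiFinite (fst X N).left :=
      GrpSch.fst_left_of (P := @LocallyQuasiFinite) X (show LocallyQuasiFinite N.hom from inferInstance)
    haveI : IsProper (f.left ≫ Y.hom) := by rw [Over.w]; infer_instance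
    haveI : IsProper f.left := IsProper.of_comp f.left Y.hom
    haveI := GrpdGen.locallyQuasiFinite_of_kernelPair (H4.KernelSquare.isPullback_left f j hN).flip
    exact IsFinite.of_isProper_of_locallyQuasiFinite _
  · right
    obtain ⟨G0, gG, i0, hi0, hi0c, -, hr⟩ := S3023.result k N
    haveI := hi0; haveI := hi0c
    have hr' : Set.range i0.left.base = comp0 N := by
      rw [hr (IsLocalRing.closedPoint k), ← connectedComponent_unit]
    haveI : ConnectedSpace G0.left := by
      have hc : _root_.IsConnected (Set.range i0.left.base) := by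
        rw [hr']; exact isIrreducible_irreducibleComponent.isConnected
      haveI := Subtype.connectedSpace hc
      let e := i0.left.isClosedEmbedding.isEmbedding.toHomeomorph
      exact e.symm.surjective.connectedSpace e.symm.continuous
    haveI : IsClosedImmersion (i0 ≫ j).left := by rw [Over.comp_left]; infer_instance
    let J := Scheme.IdealSheafData.vanishingIdeal (⟨Set.univ, isClosed_univ⟩ : TopologicalSpace.Closeds G0.left)
    let r : J.subscheme ⟶ G0.left := J.subschemeι
    haveI : IsReduced J.subscheme := H75.RedSub.isReduced_vanishingIdeal _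
    haveI : Surjective r := ⟨Set.range_eq_univ.1 (by
      rw [Scheme.IdealSheafData.range_subschemeι, Scheme.IdealSheafData.coe_support_vanishingIdeal]; rfl)⟩
    obtain ⟨hg, gM, hM⟩ := H4.ConnSubAV.result X G0 (i0 ≫ j) J.subscheme r
    haveI := hg; haveI := hM
    let M : Over (Spec (CommRingCat.of k)) := Over.mk (r ≫ G0.hom)
    let rM : M ⟶ G0 := Over.homMk r rfl
    haveI : IsClosedImmersion rM.left := inferInstanceAs (IsClosedImmersion r)
    haveI : GeometricallyIntegral M.hom := ‹GeometricallyIntegral (r ≫ G0.hom)›
    haveI : IsClosedImmersion (rM ≫ i0 ≫ j).left := by rw [Over.comp_left]; infer_instance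
    refine ⟨M, gM, rM ≫ i0 ≫ j, inferInstance, inferInstance,
      by rw [← Over.w (rM ≫ i0 ≫ j)]; infer_instance, inferInstance, ?_, ?_⟩
    · rw [Category.assoc, Category.assoc, hjf, MonObj.comp_one, MonObj.comp_one]
    · obtain ⟨y, hy, hne⟩ : ∃ y ∈ comp0 N, y ≠ unitPt N := by
        by_contra hc
        push Not at hc
        exact h (Set.eq_singleton_iff_unique_mem.2 ⟨GrpComponent.unitPt_mem N, hc⟩)
      rw [← hr'] at hy
      obtain ⟨a, ha⟩ := hy
      have hu : unitPt N ∈ Set.range i0.left.base := hr'.symm ▸ GrpComponent.unitPt_mem N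
      obtain ⟨b, hb⟩ := hu
      obtain ⟨a', rfl⟩ := r.surjective a
      obtain ⟨b', rfl⟩ := r.surjective b
      exact ⟨a', b', fun e => hne (by rw [← ha, ← hb, e])⟩

end Groth.Agent.H63.KernelSubAV
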