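import Mathlib.Algebra.Lie.Basic
import Mathlib.LinearAlgebra.Determinant
import Mathlib.LinearAlgebra.Matrix.Determinant.Basic
import Mathlib.Tactic.LinearCombination

set_option autoImplicit false
universe u v w

namespace Groth.Agent.H63.Lie3

variable {A : Type u} [CommRing A] {L : Type v} [LieRing L] [LieAlgebra A L]

theorem expand (bs : Module.Basis (Fin 3) A L) (u : L) :
    u = bs.repr u 0 • bs 0 + bs.repr u 1 • bs 1 + bs.repr u 2 • bs 2 := by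
  conv_lhs => rw [← bs.sum_repr u]
  rw [Fin.sum_univ_three]

variable (bs : Module.Basis (Fin 3) A L) {p q r w' : A}
  (hxy : ⁅bs 0, bs 1⁆ = p • bs 1 + q • bs 2) (hxz : ⁅bs 0, bs 2⁆ = r • bs 1 + w' • bs 2)
  (hyz : ⁅bs 1, bs 2⁆ = 0)

include hxy hxz hyz

theorem bracket_eq (u v : L) : ⁅u, v⁆ =
    ((bs.repr u 0 * bs.repr v 1 - bs.repr u 1 * bs.repr v 0) * p +
      (bs.repr u 0 * bs.repr v 2 - bs.repr u 2 * bs.repr v 0) * r) • bs 1 +
    ((bs.repr u 0 * bs.repr v 1 - bs.repr u 1 * bs.repr v 0) * q +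
      (bs.repr u 0 * bs.repr v 2 - bs.repr u 2 * bs.repr v 0) * w') • bs 2 := by
  have h10 : ⁅bs 1, bs 0⁆ = -(p • bs 1 + q • bs 2) := by rw [← lie_skew, hxy]
  have h20 : ⁅bs 2, bs 0⁆ = -(r • bs 1 + w' • bs 2) := by rw [← lie_skew, hxz]
  have h21 : ⁅bs 2, bs 1⁆ = 0 := by rw [← lie_skew, hyz, neg_zero]
  conv_lhs => rw [expand bs u, expand bs v]
  simp only [add_lie, lie_add, smul_lie, lie_smul, lie_self, hxy, hxz, hyz, h10, h20, h21, smul_zero,
    add_zero, zero_add, smul_add, smul_neg, neg_add_rev, smul_smul]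
  simp only [add_smul, sub_smul, sub_mul, mul_smul]
  simp only [smul_comm (bs.repr v 0), smul_comm (bs.repr v 1), smul_comm (bs.repr v 2)]
  abel

theorem bracket_repr_zero (u v : L) : bs.repr ⁅u, v⁆ 0 = 0 := by
  rw [bracket_eq bs hxy hxz hyz u v]; simp

theorem bracket_repr_one (u v : L) : bs.repr ⁅u, v⁆ 1 =
    (bs.repr u 0 * bs.repr v 1 - bs.repr u 1 * bs.repr v 0) * p +
      (bs.repr u 0 * bs.repr v 2 - bs.repr u 2 * bs.repr v 0) * r := by
  rw [bracket_eq bs hxy hxz hyz u v]; simp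

theorem bracket_repr_two (u v : L) : bs.repr ⁅u, v⁆ 2 =
    (bs.repr u 0 * bs.repr v 1 - bs.repr u 1 * bs.repr v 0) * q +
      (bs.repr u 0 * bs.repr v 2 - bs.repr u 2 * bs.repr v 0) * w' := by
  rw [bracket_eq bs hxy hxz hyz u v]; simp

omit hxy hxz hyz

variable {M : Type w} [AddCommGroup M] [Module A M]

theorem isUnit_det (bM : Module.Basis (Fin 3) A M) (bL : Module.Basis (Fin 3) A L) (φ : M ≃ₗ[A] L) :
    IsUnit (bL.repr (φ (bM 0)) 0 * bL.repr (φ (bM 1)) 1 * bL.repr (φ (bM 2)) 2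
      - bL.repr (φ (bM 0)) 0 * bL.repr (φ (bM 2)) 1 * bL.repr (φ (bM 1)) 2
      - bL.repr (φ (bM 1)) 0 * bL.repr (φ (bM 0)) 1 * bL.repr (φ (bM 2)) 2
      + bL.repr (φ (bM 1)) 0 * bL.repr (φ (bM 2)) 1 * bL.repr (φ (bM 0)) 2
      + bL.repr (φ (bM 2)) 0 * bL.repr (φ (bM 0)) 1 * bL.repr (φ (bM 1)) 2
      - bL.repr (φ (bM 2)) 0 * bL.repr (φ (bM 1)) 1 * bL.repr (φ (bM 0)) 2) := by
  have h := LinearEquiv.isUnit_det φ bM bL
  rw [Matrix.det_fin_three] at h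
  simpa [LinearMap.toMatrix_apply] using h

end Groth.Agent.H63.Lie3
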