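import Groth.Agent.H63.DetMult
import Groth.Agent.H63.DegreeHom
import Groth.Agent.H4.Chow.Hom
import Groth.Agent.Lib.Flat55.DimSums

/-!
# Integral matrices acting on powers of an abelian variety

* `exists_power`, `deg_matrix`
-/

set_option autoImplicit false

universe u

open CategoryTheory CategoryTheory.Limits MonoidalCategory CartesianMonoidalCategory AlgebraicGeometry
open scoped MonObj GrpObj
open Groth.Agent.Lib

namespace Groth.Agent.H63.MatrixEnd

variable {k : Type u} [Field k] (X : Over (Spec (CommRingCat.of k))) [GrpObj X] [IsCommMonObj X]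
  [IsProper X.hom] [GeometricallyIntegral X.hom] {g : ℕ} (hg : topologicalKrullDim X.left = g)

theorem unit_props : IsProper (𝟙_ (Over (Spec (CommRingCat.of k)))).hom ∧
    GeometricallyIntegral (𝟙_ (Over (Spec (CommRingCat.of k)))).hom ∧
    topologicalKrullDim (𝟙_ (Over (Spec (CommRingCat.of k)))).left = (0 : ℕ) := by
  refine ⟨inferInstanceAs (IsProper (𝟙 (Spec (CommRingCat.of k)))), ?_, ?_⟩
  · show GeometricallyIntegral (𝟙 (Spec (CommRingCat.of k)))
    refine ⟨fun L _ y P f g h => ?_⟩
    haveI : IsIso g :=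
      MorphismProperty.of_isPullback (P := MorphismProperty.isomorphisms Scheme.{u}) h
        (inferInstanceAs (IsIso (𝟙 (Spec (CommRingCat.of k)))))
    haveI : Nonempty P := g.homeomorph.surjective.nonempty
    exact isIntegral_of_isOpenImmersion g
  · show topologicalKrullDim (PrimeSpectrum k) = _
    rw [PrimeSpectrum.topologicalKrullDim_eq_ringKrullDim, ringKrullDim_eq_zero_of_field, Nat.cast_zero]

include hg in
theorem exists_power : ∀ r : ℕ, ∃ (P : Over (Spec (CommRingCat.of k))) (_ : GrpObj P) (_ : IsCommMonObj P),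
    IsProper P.hom ∧ GeometricallyIntegral P.hom ∧ topologicalKrullDim P.left = (r * g : ℕ) ∧
    ∃ π : Fin r → (P ⟶ X), (∀ i, IsMonHom (π i)) ∧
      ∀ (T : Over (Spec (CommRingCat.of k))), Function.Bijective fun (f : T ⟶ P) (i : Fin r) => f ≫ π i := by
  intro r
  induction r with
  | zero =>
    obtain ⟨h1, h2, h3⟩ := unit_props (k := k)
    exact ⟨𝟙_ _, inferInstance, inferInstance, h1, h2, by rw [Nat.zero_mul]; exact h3, fun i => i.elim0,
      fun i => i.elim0, fun T => ⟨fun a b _ => toUnit_unique a b, fun c => ⟨toUnit T, funext fun i => i.elim0⟩⟩⟩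
  | succ r ih =>
    obtain ⟨P, _, _, hP1, hP2, hP3, π, hπ, hbij⟩ := ih
    haveI := hP1
    haveI := hP2
    haveI : ∀ i, IsMonHom (π i) := hπ
    haveI := H4.Chow.isProper_prod X P
    haveI := H4.Chow.geometricallyIntegral_prod X P
    refine ⟨X ⊗ P, inferInstance, inferInstance, inferInstance, inferInstance, ?_,
      Fin.cons (fst X P) fun i => snd X P ≫ π i, Fin.cases (inferInstanceAs (IsMonHom (fst X P)))
        (fun i => inferInstanceAs (IsMonHom (snd X P ≫ π i))), fun T => ⟨fun a b h => ?_, fun c => ?_⟩⟩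
    · haveI : IsIntegral X.left := GeometricallyIntegral.isIntegral_of_subsingleton X.hom
      haveI : IsIntegral P.left := GeometricallyIntegral.isIntegral_of_subsingleton P.hom
      haveI : IsIntegral (X ⊗ P).left := GeometricallyIntegral.isIntegral_of_subsingleton (X ⊗ P).hom
      have h2 : topologicalKrullDim (X ⊗ P).left = topologicalKrullDim X.left + topologicalKrullDim P.left :=
        Flat55.DimSums.dim_pullback X.hom P.hom
      rw [h2, hg, hP3]
      norm_cast
      ring
    · apply hom_ext
      · exact congrFun h 0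
      · exact (hbij T).1 (funext fun i => (Category.assoc _ _ _).trans ((congrFun h i.succ).trans
          (Category.assoc _ _ _).symm))
    · obtain ⟨f, hf⟩ := (hbij T).2 fun i => c i.succ
      refine ⟨lift (c 0) f, funext fun i => ?_⟩
      refine Fin.cases ?_ (fun i => ?_) i
      · exact lift_fst _ _
      · show lift (c 0) f ≫ snd X P ≫ π i = _
        rw [lift_snd_assoc]
        exact congrFun hf i

variable {X}

section Power

variable {r : ℕ} (P : Over (Spec (CommRingCat.of k))) [GrpObj P] [IsCommMonObj P] [IsProper P.hom]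
  [GeometricallyIntegral P.hom] (hdim : topologicalKrullDim P.left = (r * g : ℕ)) (π : Fin r → (P ⟶ X))
  [∀ i, IsMonHom (π i)]
  (hbij : ∀ (T : Over (Spec (CommRingCat.of k))), Function.Bijective fun (f : T ⟶ P) (i : Fin r) => f ≫ π i)

include hdim hbij in
theorem deg_matrix [IsIntegral P.left] (A : Matrix (Fin r) (Fin r) ℤ) (hA : A.det ≠ 0) (φ : P ⟶ P)
    (hφ : ∀ i, φ ≫ π i = ∏ j, π j ^ A i j) : IsMonHom φ ∧ IsFinite φ.left ∧ Flat φ.left ∧
      ∀ y : P.left, φ.left.finrank y = A.det.natAbs ^ (2 * g) := by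
  classical
  choose F hF using fun A : Matrix (Fin r) (Fin r) ℤ => (hbij P).2 fun i => ∏ j, π j ^ A i j
  have hF' : ∀ A i, F A ≫ π i = ∏ j, π j ^ A i j := fun A i => congrFun (hF A) i
  have huniq : ∀ {T : Over (Spec (CommRingCat.of k))} {a b : T ⟶ P}, (∀ i, a ≫ π i = b ≫ π i) → a = b :=
    fun h => (hbij _).1 (funext h)
  have hmon : ∀ A, IsMonHom (F A) := fun A => by
    have hc : ∀ i, IsMonHom (F A ≫ π i) := fun i => by
      rw [hF']
      refine Finset.prod_induction _ (fun f : P ⟶ X => IsMonHom f) (fun a b ha hb => by haveI := ha; haveI := hb; rw [Hom.mul_def]; infer_instance)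
        inferInstance fun j _ => ?_
      rw [← H4.AbSchMul.comp_zpow_id]
      haveI := H4.AbSchMul.isMonHom_zpow_id X (A i j)
      infer_instance
    refine ⟨huniq fun i => ?_, huniq fun i => ?_⟩
    · rw [Category.assoc, IsMonHom.one_hom (f := F A ≫ π i), IsMonHom.one_hom (f := π i)]
    · haveI := hc i
      rw [Category.assoc, IsMonHom.mul_hom (f := F A ≫ π i), Category.assoc, IsMonHom.mul_hom (f := π i),
        ← MonoidalCategory.tensorHom_comp_tensorHom_assoc]
  have hmul : ∀ A B, F (A * B) = F B ≫ F A := fun A B => by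
    refine huniq fun i => ?_
    let cp : (P ⟶ X) →* (P ⟶ X) :=
      { toFun := fun h => F B ≫ h, map_one' := MonObj.comp_one _, map_mul' := fun a b => MonObj.comp_mul _ a b }
    rw [hF', Category.assoc, hF', show F B ≫ ∏ j, π j ^ A i j = cp (∏ j, π j ^ A i j) from rfl, map_prod]
    show _ = ∏ j, F B ≫ π j ^ A i j
    simp only [GrpObj.comp_zpow, hF']
    simp only [← Finset.prod_zpow, ← zpow_mul]
    rw [Finset.prod_comm]
    refine Finset.prod_congr rfl fun j _ => ?_
    have hz : ∀ c : Fin r → ℤ, π j ^ (∑ l, c l) = ∏ l, π j ^ c l := fun c => by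
      rw [show π j ^ (∑ l, c l) = zpowersHom (P ⟶ X) (π j) (Multiplicative.ofAdd (∑ l, c l)) from rfl, ofAdd_sum, map_prod]
      rfl
    rw [Matrix.mul_apply, hz]
    exact Finset.prod_congr rfl fun l _ => by rw [mul_comm]
  have hscal : ∀ d : ℤ, F (Matrix.diagonal fun _ => d) = 𝟙 P ^ d := fun d => by
    refine huniq fun i => ?_
    rw [hF', GrpObj.zpow_comp, Category.id_comp, Finset.prod_eq_single i]
    · rw [Matrix.diagonal_apply_eq]
    · intro j _ hj
      rw [Matrix.diagonal_apply_ne _ (Ne.symm hj), zpow_zero]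
    · intro h; exact absurd (Finset.mem_univ i) h
  haveI : ∀ A, IsMonHom (F A) := hmon
  let f : Matrix (Fin r) (Fin r) ℤ →* ℕ :=
    { toFun := fun A => DegreeHom.deg (F A)
      map_one' := by
        show DegreeHom.deg (F 1) = 1
        rw [← Matrix.diagonal_one, hscal, zpow_one, DegreeHom.deg_one hdim]
      map_mul' := fun A B => by
        show DegreeHom.deg (F (A * B)) = _
        rw [hmul, DegreeHom.deg_comp hdim hdim hdim, mul_comm] }
  have hs : ∀ d : ℤ, d ≠ 0 → f (Matrix.diagonal fun _ => d) = d.natAbs ^ (2 * g * r) := fun d hd => by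
    show DegreeHom.deg (F _) = _
    rw [hscal, DegreeHom.deg_of_isFinite (H4.MulIso.int P hd).1, AVDegree.finrank_zpow P hdim hd]
    congr 1
    ring
  have key : DegreeHom.deg (F A) = A.det.natAbs ^ (2 * g) := DetMult.eq_det_pow f (2 * g) hs A hA
  have e : φ = F A := huniq fun i => by rw [hφ, hF']
  subst e
  have hfin : IsFinite (F A).left := by
    by_contra h
    rw [DegreeHom.deg_of_not h] at key
    exact pow_ne_zero _ (Int.natAbs_ne_zero.2 hA) key.symm
  haveI := hfin
  haveI := (DegreePoly.surjective_iff_isFinite P P hdim hdim (F A)).1 hfin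
  refine ⟨inferInstance, hfin, (H4.IsogenyDim.isFinite_and_flat (F A) le_rfl).2, fun y => ?_⟩
  rw [(DegreeHom.deg_prop hdim hdim (F A)).1 hfin y, key]

end Power

end Groth.Agent.H63.MatrixEnd
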