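import Mathlib.FieldTheory.Minpoly.IsIntegrallyClosed
import Mathlib.NumberTheory.Padics.PadicIntegers
import Mathlib.RingTheory.Polynomial.Resultant.Basic
import Mathlib.RingTheory.Polynomial.RationalRoot
import Mathlib.RingTheory.Int.Basic
import Mathlib.Algebra.EuclideanDomain.Int

/-!
# The minimal polynomial of the image under an independence-preserving representation
-/

set_option autoImplicit false

open Polynomial

namespace Groth.Agent.H63.MinpolyDescend

theorem exists_int {E R T : Type*} [Ring E] [Module.Finite ℤ E] [NoZeroSMulDivisors ℤ E] [CommRing R]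
    [IsDomain R] [IsIntegrallyClosed R] [Ring T] [Algebra R T] [Module.IsTorsionFree R T] [CharZero R] (ρ : E →+* T)
    (hρ : ∀ (n : ℕ) (a : Fin n → E), LinearIndependent ℤ a → LinearIndependent R fun i => ρ (a i)) (α : E) :
    ∃ P : ℤ[X], P.Monic ∧ minpoly R (ρ α) = P.map (Int.castRingHom R) := by
  have hint : IsIntegral ℤ α := Algebra.IsIntegral.isIntegral α
  have key : ∀ F : ℤ[X], aeval (ρ α) (F.map (Int.castRingHom R)) = ρ (aeval α F) := fun F => by
    rw [aeval_def, eval₂_map, aeval_def, hom_eval₂]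
    exact congrArg (fun φ => eval₂ φ (ρ α) F) (RingHom.ext_int _ _)
  set μ := minpoly ℤ α
  have hμ : μ.Monic := minpoly.monic hint
  -- the powers below the degree are independent
  have hli : LinearIndependent ℤ fun i : Fin μ.natDegree => α ^ (i : ℕ) := by
    rw [Fintype.linearIndependent_iff]
    intro c hc
    by_contra hne
    push Not at hne
    obtain ⟨i, hi⟩ := hne
    let G : ℤ[X] := ∑ j, C (c j) * X ^ (j : ℕ)
    have hG0 : G ≠ 0 := fun h => hi (by
      have h2 := congrArg (fun p => coeff p (i : ℕ)) h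
      simpa [G, finset_sum_coeff, coeff_C_mul, coeff_X_pow, Fin.val_inj] using h2)
    have hGα : aeval α G = 0 := by
      rw [← hc]; simp [G, zsmul_eq_mul]
    have hGd : G.natDegree < μ.natDegree := by
      refine lt_of_le_of_lt (b := μ.natDegree - 1)
        (natDegree_sum_le_of_forall_le _ _ fun j _ => ?_) (Nat.sub_lt (i.pos) one_pos)
      exact (natDegree_C_mul_X_pow_le _ _).trans (by omega)
    -- the gcd over the rationals is integral
    let φ := Int.castRingHom ℚ
    let I : Ideal ℚ[X] := Ideal.span {μ.map φ, G.map φ}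
    obtain ⟨g, hg⟩ := (IsPrincipalIdealRing.principal I).principal
    rw [Ideal.submodule_span_eq] at hg
    have hgμ : g ∣ μ.map φ := Ideal.mem_span_singleton.1 (hg ▸ Ideal.subset_span (by simp))
    have hgG : g ∣ G.map φ := Ideal.mem_span_singleton.1 (hg ▸ Ideal.subset_span (by simp))
    have hg0 : g ≠ 0 := fun h => (hμ.map φ).ne_zero (zero_dvd_iff.1 (h ▸ hgμ))
    obtain ⟨g', hg'⟩ := IsIntegrallyClosed.eq_map_mul_C_of_dvd ℚ hμ (g := g) (by rwa [algebraMap_int_eq])
    rw [algebraMap_int_eq] at hg'
    have hu : IsUnit (C g.leadingCoeff : ℚ[X]) := isUnit_C.2 (isUnit_iff_ne_zero.2 (leadingCoeff_ne_zero.2 hg0))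
    have hmonic : g'.Monic := by
      have h3 := congrArg leadingCoeff hg'
      rw [leadingCoeff_mul, leadingCoeff_C, mul_left_eq_self₀] at h3
      rcases h3 with h3 | h3
      · rw [Monic, ← (Int.cast_injective (α := ℚ)).eq_iff, Int.cast_one, ← h3,
          leadingCoeff_map_of_injective Int.cast_injective]
        rfl
      · exact absurd h3 (leadingCoeff_ne_zero.2 hg0)
    have hmem : g'.map φ ∈ I := by
      rw [hg, Ideal.mem_span_singleton]
      refine ⟨C g.leadingCoeff⁻¹, ?_⟩
      calc g'.map φ = g'.map φ * C g.leadingCoeff * C g.leadingCoeff⁻¹ := by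
            rw [mul_assoc, ← C_mul, mul_inv_cancel₀ (leadingCoeff_ne_zero.2 hg0), C_1, mul_one]
        _ = g * C g.leadingCoeff⁻¹ := congrArg (· * C g.leadingCoeff⁻¹) hg'
    obtain ⟨a, b, hab⟩ := Ideal.mem_span_pair.1 hmem
    obtain ⟨Na, a', hNa, ha'⟩ : ∃ (N : ℤ) (a' : ℤ[X]), N ≠ 0 ∧ a'.map φ = C (N : ℚ) * a := by
      obtain ⟨⟨N, hN⟩, h⟩ := IsLocalization.integerNormalization_map_to_map (nonZeroDivisors ℤ) a
      refine ⟨N, IsLocalization.integerNormalization (nonZeroDivisors ℤ) a, nonZeroDivisors.ne_zero hN, ?_⟩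
      rw [show φ = algebraMap ℤ ℚ from (algebraMap_int_eq ℚ).symm]
      refine h.trans ?_
      rw [zsmul_eq_mul, map_intCast]
    obtain ⟨Nb, b', hNb, hb'⟩ : ∃ (N : ℤ) (b' : ℤ[X]), N ≠ 0 ∧ b'.map φ = C (N : ℚ) * b := by
      obtain ⟨⟨N, hN⟩, h⟩ := IsLocalization.integerNormalization_map_to_map (nonZeroDivisors ℤ) b
      refine ⟨N, IsLocalization.integerNormalization (nonZeroDivisors ℤ) b, nonZeroDivisors.ne_zero hN, ?_⟩
      rw [show φ = algebraMap ℤ ℚ from (algebraMap_int_eq ℚ).symm]
      refine h.trans ?_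
      rw [zsmul_eq_mul, map_intCast]
    have e : C Na * C Nb * g' = C Nb * a' * μ + C Na * b' * G := by
      apply Polynomial.map_injective φ Int.cast_injective
      simp only [Polynomial.map_mul, Polynomial.map_add, Polynomial.map_C, ha', hb', ← hab]
      simp only [φ, eq_intCast]
      ring
    have hg'α : aeval α g' = 0 := by
      have h4 := congrArg (aeval α) e
      have hμα : aeval α μ = 0 := minpoly.aeval ℤ α
      simp only [map_mul, map_add, hμα, hGα, mul_zero, add_zero, aeval_C, algebraMap_int_eq, eq_intCast] at h4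
      rw [map_intCast, map_intCast, ← Int.cast_mul, ← zsmul_eq_mul, smul_eq_zero] at h4
      exact h4.resolve_left (mul_ne_zero hNa hNb)
    have h5 := natDegree_le_natDegree (minpoly.min ℤ α hmonic hg'α)
    change μ.natDegree ≤ g'.natDegree at h5
    have h6 : g'.natDegree ≤ G.natDegree := by
      have h7 := natDegree_le_of_dvd hgG ((Polynomial.map_ne_zero_iff Int.cast_injective).2 hG0)
      rw [← hg', natDegree_mul_C (leadingCoeff_ne_zero.2 hg0), natDegree_map_eq_of_injective Int.cast_injective,
        natDegree_map_eq_of_injective Int.cast_injective] at h7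
      exact h7
    omega
  have hli' := hρ _ _ hli
  refine ⟨μ, hμ, ?_⟩
  have hint' : IsIntegral R (ρ α) := ⟨μ.map (Int.castRingHom R), hμ.map _, by
    rw [← aeval_def, key, minpoly.aeval, map_zero]⟩
  have hz : aeval (ρ α) (μ.map (Int.castRingHom R)) = 0 := by rw [key, minpoly.aeval, map_zero]
  have hle := natDegree_le_natDegree (minpoly.min R (ρ α) (hμ.map _) hz)
  have hge : μ.natDegree ≤ (minpoly R (ρ α)).natDegree := by
    by_contra hlt
    rw [not_le] at hlt
    have h8 := minpoly.aeval R (ρ α)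
    rw [aeval_eq_sum_range' hlt, ← Fin.sum_univ_eq_sum_range (fun i => (minpoly R (ρ α)).coeff i • ρ α ^ i)] at h8
    simp only [map_pow] at hli'
    have h9 := Fintype.linearIndependent_iff.1 hli' _ h8 ⟨(minpoly R (ρ α)).natDegree, hlt⟩
    exact one_ne_zero ((minpoly.monic hint').coeff_natDegree.symm.trans h9)
  by_contra hne
  -- two monic annihilators of minimal degree agree
  have hd : (minpoly R (ρ α) - μ.map (Int.castRingHom R)).degree < (minpoly R (ρ α)).degree := by
    refine degree_sub_lt ?_ (minpoly.ne_zero hint') (by rw [(minpoly.monic hint').leadingCoeff, (hμ.map _).leadingCoeff])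
    rw [degree_eq_natDegree (minpoly.ne_zero hint'), degree_eq_natDegree (hμ.map _).ne_zero]
    rw [hμ.natDegree_map] at hle ⊢
    exact_mod_cast le_antisymm hle hge
  set r := minpoly R (ρ α) - μ.map (Int.castRingHom R) with hr
  have hr0 : r ≠ 0 := sub_ne_zero.2 hne
  have hrd : r.natDegree < μ.natDegree := by
    have := natDegree_lt_natDegree hr0 hd
    rw [hμ.natDegree_map] at hle
    omega
  have h10 : aeval (ρ α) r = 0 := by rw [hr, map_sub, minpoly.aeval, hz, sub_zero]
  rw [aeval_eq_sum_range' hrd, ← Fin.sum_univ_eq_sum_range (fun i => r.coeff i • ρ α ^ i)] at h10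
  simp only [map_pow] at hli'
  have h11 := Fintype.linearIndependent_iff.1 hli' _ h10 ⟨r.natDegree, hrd⟩
  exact hr0 (leadingCoeff_eq_zero.1 h11)

end Groth.Agent.H63.MinpolyDescend
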