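import Groth.Agent.H21.KBasis
import Groth.Agent.Lib.PBasis.Field
import Groth.Agent.Lib.PBasis.Deriv
import Groth.Agent.Lib.PBasis.Perfect
import Mathlib.FieldTheory.Fixed
import Mathlib.FieldTheory.IntermediateField.Adjoin.Algebra
import Mathlib.LinearAlgebra.FiniteDimensional.Basic

/-!
# Endomorphisms of a function field fixing a subfield killed by the differential

* `finrank_pow_ge`: `[K : K^p] ≥ p^d` for a finitely generated field of transcendence degree `d`
* `natCard_algHom_le`: at most `p^d` endomorphisms over `F` if `[K:F] = p^(2d)` and `dF = 0`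
-/

set_option autoImplicit false

universe u

open Groth.Agent.Lib

namespace Groth.Agent.H63.PDegree

variable {k K : Type u} [Field k] [IsAlgClosed k] [Field K] [Algebra k K] [Algebra.EssFiniteType k K]
  (p : ℕ) [Fact p.Prime] [CharP k p]

theorem exists_isPBasis_card {d : ℕ} (hd : Algebra.trdeg k K = d) :
    ∃ B : Set K, EGA41.IsPBasis p k (Subtype.val : B → K) ∧ Cardinal.mk B = d := by
  have : CharP K p := charP_of_injective_algebraMap (algebraMap k K).injective p
  obtain ⟨s, hs⟩ := exists_isTranscendenceBasis k K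
  have hs' : Cardinal.mk s = d := by rw [hs.cardinalMk_eq_trdeg, hd]
  have hrank : Module.rank K (Ω[K⁄k]) = d := by
    have h := Groth.Agent.H21.KBasis.lift_rank_eq hs
    rw [Cardinal.lift_id, Cardinal.lift_id, hs'] at h
    exact h
  have hind : EGA41.IsPIndependent p k (Subtype.val : (∅ : Set K) → K) := by
    rw [PBasis.Field.isPIndependent_set_iff]
    simp
  obtain ⟨B, -, -, hB⟩ := PBasis.Field.exists_pBasis (p := p) (k := k) (Set.univ : Set K) ∅
    (Set.empty_subset _) PBasis.Field.isPGenerating_univ hind
  obtain ⟨b, -⟩ := PBasis.Deriv.exists_basis_kaehler hB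
  exact ⟨B, hB, by rw [← hrank, b.mk_eq_rank'']⟩

variable [CharP K p]

theorem finrank_pow_ge {d : ℕ} (hd : Algebra.trdeg k K = d) (L : Subfield K)
    (hL : ∀ y ∈ L, ∃ z, z ^ p = y) [FiniteDimensional L K] : p ^ d ≤ Module.finrank L K := by
  classical
  obtain ⟨B, hB, hBc⟩ := exists_isPBasis_card (K := K) p hd
  have : Finite B := Cardinal.mk_lt_aleph0_iff.1 (hBc ▸ Cardinal.natCast_lt_aleph0)
  have : Fintype B := Fintype.ofFinite B
  have hcard : Fintype.card B = d := by
    rw [Cardinal.mk_fintype] at hBc
    exact_mod_cast hBc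
  let v : (B → Fin p) → K := fun e =>
    EGA41.pMonomial (Subtype.val : B → K) (Finsupp.equivFunOnFinite.symm fun i => (e i : ℕ))
  have hv : LinearIndependent L v := by
    rw [Fintype.linearIndependent_iff]
    intro c hc
    have hmem : ∀ e, (c e : K) ∈ EGA41.pPowerSubalgebra p k K := fun e => by
      obtain ⟨z, hz⟩ := hL (c e) (c e).2
      rw [← hz]
      exact Algebra.subset_adjoin ⟨z, rfl⟩
    let ι : (B → Fin p) → {e : B →₀ ℕ // ∀ i, e i < p} := fun e =>
      ⟨Finsupp.equivFunOnFinite.symm fun i => (e i : ℕ), fun i => (e i).2⟩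
    have hι : Function.Injective ι := fun e e' h => funext fun i =>
      Fin.ext (DFunLike.congr_fun (congrArg Subtype.val h) i)
    have := Fintype.linearIndependent_iff.1 (hB.1.comp ι hι) (fun e => ⟨c e, hmem e⟩) (by
      simpa only [Function.comp_apply, Subalgebra.smul_def, Subfield.smul_def, smul_eq_mul] using hc)
    exact fun e => Subtype.ext (Subtype.mk.injEq .. ▸ (this e) : (c e : K) = 0)
  simpa [hcard] using hv.fintype_card_le_finrank

theorem natCard_algHom_le {F : Type u} [Field F] [Algebra F K] {d : ℕ} (hd : Algebra.trdeg k K = d)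
    (hF : Module.finrank F K = p ^ (2 * d))
    (hD : ∀ a : F, KaehlerDifferential.D k K (algebraMap F K a) = 0) :
    Nat.card (K →ₐ[F] K) ≤ p ^ d := by
  have hp : 0 < p := (Fact.out : p.Prime).pos
  have : FiniteDimensional F K := FiniteDimensional.of_finrank_pos (hF ▸ pow_pos hp _)
  have hroot : ∀ a : F, ∃ z : K, z ^ p = algebraMap F K a := fun a => by
    by_contra hne
    push Not at hne
    have hind : EGA41.IsPIndependent p k (Subtype.val : ({algebraMap F K a} : Set K) → K) := by
      rw [PBasis.Field.isPIndependent_set_iff]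
      intro b hb hmem
      rw [Set.mem_singleton_iff] at hb
      subst hb
      rw [Set.sdiff_self, ← SetLike.mem_coe, PBasis.Field.coe_FF, Algebra.adjoin_empty, SetLike.mem_coe,
        Algebra.mem_bot] at hmem
      obtain ⟨y, hy⟩ := hmem
      obtain ⟨c, hc⟩ := PBasis.Perfect.exists_root y
      exact hne c (hc.trans hy)
    obtain ⟨B, haB, -, hB⟩ := PBasis.Field.exists_pBasis (p := p) (k := k) (Set.univ : Set K) _
      (Set.subset_univ _) PBasis.Field.isPGenerating_univ hind
    obtain ⟨b, hb⟩ := PBasis.Deriv.exists_basis_kaehler hB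
    exact b.ne_zero ⟨_, haB rfl⟩ ((hb _).trans (hD a))
  let L : IntermediateField F K := (frobenius K p).fieldRange.toIntermediateField fun a => by
    obtain ⟨z, hz⟩ := hroot a
    exact ⟨z, hz⟩
  have hLK : p ^ d ≤ Module.finrank L K := by
    have : FiniteDimensional L.toSubfield K := inferInstanceAs (FiniteDimensional L K)
    exact finrank_pow_ge p hd L.toSubfield fun y hy => by
      obtain ⟨z, hz⟩ := hy
      exact ⟨z, hz⟩
  have hFL : Module.finrank F L ≤ p ^ d := by
    have h := Module.finrank_mul_finrank F L K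
    rw [hF, two_mul, pow_add] at h
    nlinarith [pow_pos hp d]
  refine le_trans ?_ ((card_algHom_le_finrank F L K).trans hFL)
  refine Nat.card_le_card_of_injective (fun σ => σ.comp L.val) fun σ τ h => AlgHom.ext fun y => ?_
  have h1 := DFunLike.congr_fun h ⟨y ^ p, y, rfl⟩
  exact frobenius_inj K p (by simpa [frobenius_def, map_pow] using h1)

end Groth.Agent.H63.PDegree
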