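import Mathlib.NumberTheory.Padics.RingHoms
import Mathlib.LinearAlgebra.Determinant
import Mathlib.LinearAlgebra.FreeModule.Finite.Quotient

/-!
# The cokernel of an injective map of free `ℤ_[p]`-modules of the same rank
-/

set_option autoImplicit false

open Module Submodule

namespace Groth.Agent.H63.PadicCoker

variable {p : ℕ} [Fact p.Prime]

theorem valuation_eq_of_associated {x y : ℤ_[p]} (hx : x ≠ 0) (h : Associated x y) : x.valuation = y.valuation := by
  obtain ⟨u, rfl⟩ := h
  have h1 := PadicInt.valuation_mul (x := (u : ℤ_[p])) (y := (↑u⁻¹ : ℤ_[p])) u.ne_zero u⁻¹.ne_zero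
  rw [← Units.val_mul, mul_inv_cancel, Units.val_one, PadicInt.valuation_one] at h1
  rw [PadicInt.valuation_mul hx u.ne_zero]
  omega

theorem natCard_quotient_span {a : ℤ_[p]} (ha : a ≠ 0) :
    Nat.card (ℤ_[p] ⧸ Ideal.span ({a} : Set ℤ_[p])) = p ^ a.valuation := by
  have hs : Ideal.span ({a} : Set ℤ_[p]) = RingHom.ker (PadicInt.toZModPow (p := p) a.valuation) := by
    rw [PadicInt.ker_toZModPow]
    exact Ideal.span_singleton_eq_span_singleton.2
      (Associated.symm ⟨PadicInt.unitCoeff ha, by rw [mul_comm]; exact (PadicInt.unitCoeff_spec ha).symm⟩)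
  rw [hs, Nat.card_congr (RingHom.quotientKerEquivOfSurjective
    (ZMod.ringHom_surjective (PadicInt.toZModPow (p := p) a.valuation))).toEquiv, Nat.card_zmod]

theorem valuation_prod {ι : Type*} (s : Finset ι) (a : ι → ℤ_[p]) (ha : ∀ i, a i ≠ 0) :
    (∏ i ∈ s, a i).valuation = ∑ i ∈ s, (a i).valuation := by
  classical
  induction s using Finset.induction_on with
  | empty => simp
  | insert i s hi ih =>
    rw [Finset.prod_insert hi, Finset.sum_insert hi,
      PadicInt.valuation_mul (ha i) (Finset.prod_ne_zero_iff.2 fun j _ => ha j), ih]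

/-- `#coker f = p ^ v(det f)` and `det f ≠ 0`. -/
theorem natCard_coker {V W : Type*} [AddCommGroup V] [Module ℤ_[p] V] [AddCommGroup W] [Module ℤ_[p] W]
    {ι : Type*} [Fintype ι] [DecidableEq ι] (bV : Basis ι ℤ_[p] V) (bW : Basis ι ℤ_[p] W)
    (f : V →ₗ[ℤ_[p]] W) (hf : Function.Injective f) :
    Nat.card (W ⧸ LinearMap.range f) = p ^ (LinearMap.toMatrix bV bW f).det.valuation ∧
      (LinearMap.toMatrix bV bW f).det ≠ 0 := by
  let N := LinearMap.range f
  let e₀ : V ≃ₗ[ℤ_[p]] N := LinearEquiv.ofInjective f hf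
  let e : W ≃ₗ[ℤ_[p]] N := (bW.equiv bV (Equiv.refl _)).trans e₀
  have hdet : (LinearMap.toMatrix bV bW f).det = LinearMap.det (N.subtype ∘ₗ (e : W →ₗ[ℤ_[p]] N)) := by
    rw [← LinearMap.det_toMatrix bW]
    congr 1
    ext i j
    simp [LinearMap.toMatrix_apply, e, e₀, N]
  have h : Module.finrank ℤ_[p] N = Module.finrank ℤ_[p] W := e.symm.finrank_eq
  let a := smithNormalFormCoeffs bW h
  let b' := smithNormalFormTopBasis bW h
  let ab := smithNormalFormBotBasis bW h
  have ab_eq := smithNormalFormBotBasis_def bW h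
  let e' : W ≃ₗ[ℤ_[p]] N := b'.equiv ab (Equiv.refl _)
  have ha : ∀ i, N.subtype (e' (b' i)) = a i • b' i := fun i => by
    rw [b'.equiv_apply, Equiv.refl_apply]
    exact ab_eq i
  have hd' : LinearMap.det (N.subtype ∘ₗ (e' : W →ₗ[ℤ_[p]] N)) = ∏ i, a i := by
    rw [← LinearMap.det_toMatrix b', ← Matrix.det_diagonal]
    congr 1
    ext i j
    rw [LinearMap.toMatrix_apply, LinearMap.comp_apply, LinearEquiv.coe_coe, ha, map_smul, Basis.repr_self,
      Finsupp.smul_single, smul_eq_mul, mul_one]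
    by_cases h : i = j
    · rw [h, Matrix.diagonal_apply_eq, Finsupp.single_eq_same]
    · rw [Matrix.diagonal_apply_ne _ h, Finsupp.single_eq_of_ne h]
  have hne : ∀ i, a i ≠ 0 := smithNormalFormCoeffs_ne_zero bW h
  have hassoc : Associated (∏ i, a i) (LinearMap.toMatrix bV bW f).det := by
    rw [hdet, ← hd']
    exact LinearMap.associated_det_comp_equiv _ _ _
  have hp0 : (∏ i, a i) ≠ 0 := Finset.prod_ne_zero_iff.2 fun i _ => hne i
  refine ⟨?_, (hassoc.ne_zero_iff).1 hp0⟩
  rw [← valuation_eq_of_associated hp0 hassoc, valuation_prod _ _ hne, ← Finset.prod_pow_eq_pow_sum,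
    Nat.card_congr (quotientEquivPiSpan N bW h).toEquiv, Nat.card_pi]
  exact Finset.prod_congr rfl fun i _ => natCard_quotient_span (hne i)

end Groth.Agent.H63.PadicCoker
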