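import Groth.Agent.H63.Retraction
import Groth.Agent.H4.MulIso
import Groth.Agent.H4.HomImage
import Groth.Agent.H52.FBase.GeomRedSch

/-!
# Poincaré reducibility

* `exists_complement`: an abelian subvariety has a complement
-/

set_option autoImplicit false

universe u

open CategoryTheory CategoryTheory.Limits MonoidalCategory CartesianMonoidalCategory AlgebraicGeometry
open scoped MonObj GrpObj
open Groth.Agent.Lib

namespace Groth.Agent.H63.Poincare

variable {k : Type u} [Field k]

theorem pow_id_comp {X Y : Over (Spec (CommRingCat.of k))} [GrpObj X] [GrpObj Y] (f : X ⟶ Y) [IsMonHom f] (d : ℕ) :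
    ((𝟙 X) ^ d) ≫ f = f ^ d := by rw [MonObj.pow_comp, Category.id_comp]

theorem comp_pow_id {X Y : Over (Spec (CommRingCat.of k))} [GrpObj Y] (f : X ⟶ Y) (d : ℕ) :
    f ≫ ((𝟙 Y) ^ d) = f ^ d := by rw [MonObj.comp_pow, Category.comp_id]

variable {A B : Over (Spec (CommRingCat.of k))} [GrpObj A] [GrpObj B] [IsProper A.hom] [IsProper B.hom]
  [GeometricallyIntegral A.hom] [GeometricallyIntegral B.hom] (i : B ⟶ A) [IsMonHom i] [IsClosedImmersion i.left]

/-- Poincaré's complete reducibility theorem. -/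
theorem exists_complement :
    ∃ (C : Over (Spec (CommRingCat.of k))) (_ : GrpObj C) (j : C ⟶ A), IsProper C.hom ∧ GeometricallyIntegral C.hom ∧
      IsMonHom j ∧ IsClosedImmersion j.left ∧
      ∃ (p : A ⟶ B) (q : A ⟶ C) (d : ℕ), IsMonHom p ∧ IsMonHom q ∧ 0 < d ∧ i ≫ p = (𝟙 B) ^ d ∧ j ≫ p = 1 ∧
        i ≫ q = 1 ∧ j ≫ q = (𝟙 C) ^ d ∧ (p ≫ i) * (q ≫ j) = (𝟙 A) ^ d ∧
        Surjective ((fst B C ≫ i) * (snd B C ≫ j)).left ∧ IsFinite ((fst B C ≫ i) * (snd B C ≫ j)).left := by
  haveI : IsCommMonObj A := isCommMonObj_of_isProper_of_geometricallyIntegral A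
  haveI : IsCommMonObj B := isCommMonObj_of_isProper_of_geometricallyIntegral B
  haveI : IsIntegral A.left := GeometricallyIntegral.isIntegral_of_subsingleton A.hom
  obtain ⟨p, d, hp, hd, hip⟩ := Retraction.exists_retraction i
  haveI := hp
  let ψ : A ⟶ A := (𝟙 A) ^ d * (p ≫ i)⁻¹
  haveI : IsMonHom ψ := H4.AVHom.isMonHom_of_pointed ψ (by
    rw [MonObj.comp_mul, GrpObj.comp_inv, MonObj.comp_pow, Category.comp_id, IsMonHom.one_hom,
      show η[A] = (1 : 𝟙_ (Over (Spec (CommRingCat.of k))) ⟶ A) by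
        rw [Hom.one_def, toUnit_unique (toUnit _) (𝟙 _), Category.id_comp], one_pow, inv_one, _root_.mul_one])
  haveI : GeometricallyReduced A.hom := inferInstance
  obtain ⟨C, hgC, j, hj, hjc, hCp, hCg, hr⟩ := H4.HomImage.exists_image A A ψ
  haveI := hj; haveI := hjc; haveI := hCp; haveI := hCg
  haveI : IsCommMonObj C := isCommMonObj_of_isProper_of_geometricallyIntegral C
  haveI : IsIntegral C.left := GeometricallyIntegral.isIntegral_of_subsingleton C.hom
  haveI : Mono j := Over.mono_of_mono_left _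
  haveI : Mono i := Over.mono_of_mono_left _
  obtain ⟨q, hq⟩ := H4.HomImage.exists_factor j ψ hr.ge
  haveI : IsMonHom q := by
    refine H4.AVHom.isMonHom_of_pointed q ?_
    rw [← cancel_mono j, Category.assoc, hq, IsMonHom.one_hom, IsMonHom.one_hom]
  haveI : IsDominant q.left := by
    haveI : Surjective q.left := ⟨fun c => by
      obtain ⟨a, ha⟩ := hr.le ⟨c, rfl⟩
      refine ⟨a, j.left.isClosedEmbedding.injective ?_⟩
      rw [← ha, ← hq, Over.comp_left, Scheme.Hom.comp_apply]⟩
    infer_instance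
  have hψp : ψ ≫ p = 1 := by
    rw [MonObj.mul_comp, pow_id_comp, GrpObj.inv_comp, Category.assoc, hip, comp_pow_id, mul_inv_cancel]
  have hψi : i ≫ ψ = 1 := by
    rw [MonObj.comp_mul, comp_pow_id, GrpObj.comp_inv, ← Category.assoc, hip, pow_id_comp, mul_inv_cancel]
  have hjp : j ≫ p = 1 := by
    refine Over.OverMorphism.ext (ext_of_isDominant_of_isSeparated B.hom ?_ q.left ?_)
    · exact (Over.w (j ≫ p)).trans (Over.w (1 : C ⟶ B)).symm
    · rw [← Over.comp_left, ← Over.comp_left, ← Category.assoc, hq, hψp, MonObj.comp_one]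
  have hiq : i ≫ q = 1 := by rw [← cancel_mono j, Category.assoc, hq, hψi, MonObj.one_comp]
  have hjq : j ≫ q = (𝟙 C) ^ d := by
    rw [← cancel_mono j, Category.assoc, hq, pow_id_comp, MonObj.comp_mul, comp_pow_id, GrpObj.comp_inv,
      ← Category.assoc, hjp, MonObj.one_comp, inv_one, _root_.mul_one]
  have hsum : (p ≫ i) * (q ≫ j) = (𝟙 A) ^ d := by
    show (p ≫ i) * (q ≫ j) = _
    rw [hq]
    show (p ≫ i) * ((𝟙 A) ^ d * (p ≫ i)⁻¹) = _
    rw [mul_comm, _root_.inv_mul_cancel_right]
  refine ⟨C, hgC, j, hCp, hCg, hj, hjc, p, q, d, hp, inferInstance, hd, hip, hjp, hiq, hjq, hsum, ?_⟩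
  let m : B ⊗ C ⟶ A := (fst B C ≫ i) * (snd B C ≫ j)
  let u : A ⟶ B ⊗ C := lift p q
  have hum : u ≫ m = (𝟙 A) ^ d := by
    rw [MonObj.comp_mul, lift_fst_assoc, lift_snd_assoc, hsum]
  obtain ⟨-, -, hAs⟩ := H4.MulIso.nat A hd
  haveI : IsCommMonObj (B ⊗ C) := inferInstance
  haveI : IsMonHom m := by
    show IsMonHom (lift (fst B C ≫ i) (snd B C ≫ j) ≫ μ[A])
    infer_instance
  haveI : IsMonHom u := inferInstance
  haveI : IsProper (B ⊗ C).hom := inferInstanceAs (IsProper (pullback.fst B.hom C.hom ≫ B.hom))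
  haveI : GeometricallyIntegral (B ⊗ C).hom := by
    haveI : GeometricallyReduced (B ⊗ C).hom := H52.FBase.GeomRedSch.geometricallyReduced_prod B.hom C.hom
    haveI : IsIntegral B.left := GeometricallyIntegral.isIntegral_of_subsingleton B.hom
    haveI : Smooth B.hom := H4.HomImage.smooth_of_geometricallyReduced B
    haveI : IsLocallyNoetherian C.left := LocallyOfFiniteType.isLocallyNoetherian C.hom
    haveI : IsLocallyNoetherian B.left := LocallyOfFiniteType.isLocallyNoetherian B.hom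
    haveI : IsIntegral (B ⊗ C).left := inferInstanceAs (IsIntegral (pullback B.hom C.hom))
    exact H4.HomImage.geometricallyIntegral_of_connected (B ⊗ C)
  obtain ⟨hBCf, -, -⟩ := H4.MulIso.nat (B ⊗ C) hd
  have hmu : m ≫ u = (𝟙 (B ⊗ C)) ^ d := by
    apply CartesianMonoidalCategory.hom_ext
    · rw [Category.assoc, lift_fst, pow_id_comp, MonObj.mul_comp, Category.assoc, Category.assoc, hip, hjp,
        MonObj.comp_one, _root_.mul_one, comp_pow_id]
    · rw [Category.assoc, lift_snd, pow_id_comp, MonObj.mul_comp, Category.assoc, Category.assoc, hiq, hjq,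
        MonObj.comp_one, _root_.one_mul, comp_pow_id]
  refine ⟨?_, ?_⟩
  · haveI : Surjective (u.left ≫ m.left) := by rw [← Over.comp_left, hum]; exact hAs
    exact Surjective.of_comp u.left m.left
  · haveI : IsProper (u.left ≫ (B ⊗ C).hom) := by rw [Over.w]; infer_instance
    haveI : IsProper u.left := IsProper.of_comp u.left (B ⊗ C).hom
    haveI : IsFinite (m.left ≫ u.left) := by rw [← Over.comp_left, hmu]; exact hBCf
    exact IsFinite.of_comp m.left u.left

end Groth.Agent.H63.Poincare
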