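import Groth.Agent.H63.KernelSubAV
import Groth.Agent.H63.Poincare
import Groth.Agent.H63.AVIsogeny
import Groth.Agent.H4.IsogenyDim
import Groth.Agent.H4.GeomInt
import Groth.Agent.H2.FlatHom.Field
import Groth.Agent.S7790

/-!
# Quasi-sections of surjective homomorphisms of abelian varieties

* `exists_quasiInverse`: an isogeny has an inverse up to an integer
* `exists_quasiSection`: a surjective homomorphism has a section up to an integer
-/

set_option autoImplicit false

universe u

open CategoryTheory CategoryTheory.Limits MonoidalCategory CartesianMonoidalCategory AlgebraicGeometry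
open scoped MonObj GrpObj
open Groth.Agent.Lib

namespace Groth.Agent.H63.QuasiSection

variable {k : Type u} [Field k]

theorem exists_quasiInverse {X Y : Over (Spec (CommRingCat.of k))} [GrpObj X] [GrpObj Y] [IsProper X.hom]
    [IsProper Y.hom] [GeometricallyIntegral X.hom] [GeometricallyIntegral Y.hom]
    (f : X ⟶ Y) [IsMonHom f] [IsFinite f.left] [Surjective f.left] :
    ∃ (g : Y ⟶ X) (n : ℕ), IsMonHom g ∧ 0 < n ∧ f ≫ g = (𝟙 X) ^ n ∧ g ≫ f = (𝟙 Y) ^ n := by
  haveI : IsLocallyNoetherian Y.left := LocallyOfFiniteType.isLocallyNoetherian Y.hom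
  haveI : IsLocallyNoetherian X.left := LocallyOfFiniteType.isLocallyNoetherian X.hom
  haveI : Flat f.left := H2.FlatHom.Field.flat_of_geometricallyReduced f
  haveI : GeometricallyConnected X.hom :=
    haveI : ConnectedSpace X.left := by
      haveI : IsIntegral X.left := GeometricallyIntegral.isIntegral_of_subsingleton X.hom
      infer_instance
    Lib.GrpSch.geometricallyConnected_of_rationalPoint X.hom η[X].left (Over.w η[X])
  haveI : GeometricallyConnected Y.hom :=
    haveI : ConnectedSpace Y.left := by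
      haveI : IsIntegral Y.left := GeometricallyIntegral.isIntegral_of_subsingleton Y.hom
      infer_instance
    Lib.GrpSch.geometricallyConnected_of_rationalPoint Y.hom η[Y].left (Over.w η[Y])
  let s0 : Spec (CommRingCat.of k) := IsLocalRing.closedPoint k
  have hn : 1 ≤ Scheme.Hom.finrank f.left (η[Y].left s0) :=
    (Scheme.Hom.one_le_finrank_iff_surjective f.left).2 inferInstance _
  obtain ⟨⟨g, ⟨hg, hfg⟩, -⟩, h2⟩ := S7790.result X Y f _ hn
    (fun s => by rw [show s = s0 from Subsingleton.elim (α := PrimeSpectrum k) _ _])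
  exact ⟨g, _, hg, hn, hfg, (h2 g hg hfg).1⟩

theorem exists_quasiSection_aux (g : ℕ) : ∀ {X Y : Over (Spec (CommRingCat.of k))} [GrpObj X] [GrpObj Y]
    [IsProper X.hom] [IsProper Y.hom] [GeometricallyIntegral X.hom] [GeometricallyIntegral Y.hom]
    (f : X ⟶ Y) [IsMonHom f] [Surjective f.left], topologicalKrullDim X.left = g →
    ∃ (s : Y ⟶ X) (n : ℕ), IsMonHom s ∧ 0 < n ∧ s ≫ f = (𝟙 Y) ^ n := by
  induction g using Nat.strong_induction_on with
  | _ g ih =>
  intro X Y _ _ _ _ _ _ f _ _ hg
  haveI := isCommMonObj_of_isProper_of_geometricallyIntegral X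
  haveI := isCommMonObj_of_isProper_of_geometricallyIntegral Y
  haveI : IsIntegral X.left := GeometricallyIntegral.isIntegral_of_subsingleton X.hom
  haveI : IsIntegral Y.left := GeometricallyIntegral.isIntegral_of_subsingleton Y.hom
  rcases KernelSubAV.exists_kerSubAV f with hfin | ⟨M, gM, i, hi, hic, hMp, hMg, hif, hMn⟩
  · haveI := hfin
    obtain ⟨h, n, hh, hn, -, hhf⟩ := exists_quasiInverse f
    exact ⟨h, n, hh, hn, hhf⟩
  haveI := hi; haveI := hic; haveI := hMp; haveI := hMg
  obtain ⟨C, gC, j, hCp, hCg, hj, hjc, p, q, d, hp, hq, hd, hip, hjp, hiq, hjq, hsum, hms, -⟩ :=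
    Poincare.exists_complement i
  haveI := hj; haveI := hjc; haveI := hCp; haveI := hCg; haveI := hp; haveI := hq
  haveI := isCommMonObj_of_isProper_of_geometricallyIntegral M
  haveI : IsIntegral C.left := GeometricallyIntegral.isIntegral_of_subsingleton C.hom
  haveI : IsIntegral M.left := GeometricallyIntegral.isIntegral_of_subsingleton M.hom
  -- the complement still surjects
  haveI : Surjective (j ≫ f).left := by
    have e : ((fst M C ≫ i) * (snd M C ≫ j)) ≫ f = snd M C ≫ j ≫ f := by
      rw [MonObj.mul_comp, Category.assoc, Category.assoc, hif, MonObj.comp_one, _root_.one_mul]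
    haveI := hms
    haveI : Surjective ((snd M C).left ≫ (j ≫ f).left) := by
      rw [← Over.comp_left, ← e, Over.comp_left]; infer_instance
    exact Surjective.of_comp (snd M C).left (j ≫ f).left
  -- and is smaller
  have hns : ¬ Surjective j.left := by
    intro hs
    haveI : IsDominant j.left := inferInstance
    have hq1 : (𝟙 X : X ⟶ X) ^ d = q ≫ j := by
      have h : p = (1 : X ⟶ M) := Over.OverMorphism.ext (ext_of_isDominant_of_isSeparated M.hom
        ((Over.w p).trans (Over.w (1 : X ⟶ M)).symm) j.left (by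
          rw [← Over.comp_left, ← Over.comp_left, hjp, MonObj.comp_one]))
      rw [← hsum, h, MonObj.one_comp, _root_.one_mul]
    have h1 : (𝟙 M : M ⟶ M) ^ d = 1 := by
      haveI : Mono i := Over.mono_of_mono_left _
      rw [← cancel_mono i, Poincare.pow_id_comp, MonObj.one_comp,
        show i ^ d = i ≫ ((𝟙 X) ^ d) from (Poincare.comp_pow_id i d).symm, hq1, ← Category.assoc, hiq,
        MonObj.one_comp]
    obtain ⟨-, -, hMs⟩ := H4.MulIso.nat M hd
    rw [h1] at hMs
    haveI := hMs
    obtain ⟨a, b, hab⟩ := hMn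
    obtain ⟨a', rfl⟩ := (1 : M ⟶ M).left.surjective a
    obtain ⟨b', rfl⟩ := (1 : M ⟶ M).left.surjective b
    refine hab ?_
    rw [Hom.one_def, Over.comp_left, Scheme.Hom.comp_apply, Scheme.Hom.comp_apply]
    exact congrArg η[M].left (Subsingleton.elim (α := PrimeSpectrum k) _ _)
  obtain ⟨c, hc⟩ := AVIsogeny.exists_dim (A := C)
  have hlt : c < g := by
    by_contra hle
    push Not at hle
    exact hns (H4.IsogenyDim.surjective_of_finite j (by rw [hg, hc]; exact_mod_cast hle))
  obtain ⟨s, n, hs, hn, hsf⟩ := ih c hlt (j ≫ f) hc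
  haveI := hs
  exact ⟨s ≫ j, n, inferInstance, hn, by rw [Category.assoc, hsf]⟩

/-- A surjective homomorphism of abelian varieties has a section up to an integer. -/
theorem exists_quasiSection {X Y : Over (Spec (CommRingCat.of k))} [GrpObj X] [GrpObj Y]
    [IsProper X.hom] [IsProper Y.hom] [GeometricallyIntegral X.hom] [GeometricallyIntegral Y.hom]
    (f : X ⟶ Y) [IsMonHom f] [Surjective f.left] :
    ∃ (s : Y ⟶ X) (n : ℕ), IsMonHom s ∧ 0 < n ∧ s ≫ f = (𝟙 Y) ^ n := by
  haveI : IsIntegral X.left := GeometricallyIntegral.isIntegral_of_subsingleton X.hom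
  obtain ⟨g, hg⟩ := AVIsogeny.exists_dim (A := X)
  exact exists_quasiSection_aux g f hg

end Groth.Agent.H63.QuasiSection
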