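import Groth.Agent.Lib.Kaehler.Split
import Groth.Agent.Lib.Kaehler.Conormal
import Groth.Agent.Lib.Kaehler.ConormalExact
import Groth.Agent.Lib.Kaehler.DOmega
import Groth.Agent.Lib.Kaehler.BaseChange
import Groth.Agent.Lib.Kaehler.Finite
import Groth.Agent.H63.GrpdBasic

/-!
# Differentials along a section; differentials of a groupoid
-/

set_option autoImplicit false
universe u

open CategoryTheory CategoryTheory.Limits AlgebraicGeometry TopologicalSpace Opposite
open OmegaSh Groth.Agent.Lib.Kaehler Groth.Agent.Lib.Kaehler.Basic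

namespace Groth.Agent.H63.SectionOmega

variable {Z X S : Scheme.{u}}

theorem exists_conormalDiff (i : Z ⟶ X) {f : X ⟶ S} {Ω : X.Modules} (d : Der f Ω) :
    ∃ φ : Omega.conormal i ⟶ (Scheme.Modules.pullback i).obj Ω, IsConormalDiff i d φ := by
  let η' : ∀ U : X.Opens, Γ(ClSub.idealMod i.ker, U) →+
      Γ((Scheme.Modules.pullback i).obj Ω, i ⁻¹ᵁ U) := fun U ↦
    (pullSect i Ω U).hom.comp ((d.app U).comp
      (AddMonoidHom.mk' (idealSect i.ker U) (fun a b ↦ map_add _ a b)))
  let ψ : ClSub.idealMod i.ker ⟶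
      (Scheme.Modules.pushforward i).obj ((Scheme.Modules.pullback i).obj Ω) :=
    Conormal.mkHom (fun U ↦ η' U) (fun U r k ↦ by
      change (pullSect i Ω U) (d.app U (idealSect i.ker U (r • k))) =
        i.app U r • (pullSect i Ω U) (d.app U (idealSect i.ker U k))
      have hs : ∀ (a : Γ(X, U)) (x : Γ(Ω, U)), pullSect i Ω U (a • x) = i.app U a • pullSect i Ω U x :=
        fun a x ↦ Scheme.Modules.Hom.app_smul
          ((Scheme.Modules.pullbackPushforwardAdjunction i).unit.app Ω) a x
      rw [Conormal.idealSect_smul, der_app_mul, map_add, hs, hs, Descend.app_idealSect, zero_smul,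
        add_zero])
      (fun U W e k ↦ by
        change (pullSect i Ω W) (d.app W (idealSect i.ker W _)) = _
        rw [Conormal.idealSect_map, der_app_map]
        exact congr($((Scheme.Modules.Hom.mapPresheaf
          ((Scheme.Modules.pullbackPushforwardAdjunction i).unit.app Ω)).naturality (homOfLE e).op) _))
  let adj := Scheme.Modules.pullbackPushforwardAdjunction i
  refine ⟨(adj.homEquiv _ _).symm ψ, fun U k ↦ ?_⟩
  have h := (homEquiv_app (h := i) ((adj.homEquiv (ClSub.idealMod i.ker) _).symm ψ) U k).symm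
  rw [Equiv.apply_symm_apply] at h
  exact h

/-- the conormal sheaf of a section is the pullback of the differentials -/
theorem nonempty_conormal_iso_of_section (f : X ⟶ S) (i : S ⟶ X) [IsImmersion i] [QuasiCompact i]
    (hi : i ≫ f = 𝟙 S) {Ω : X.Modules} {d : Der f Ω} (hd : IsUniversal d) :
    Nonempty ((Scheme.Modules.pullback i).obj Ω ≅ Omega.conormal i) := by
  obtain ⟨φ, hφ⟩ := exists_conormalDiff i d
  have hgS : f ≫ i ≫ f = f := by rw [hi, Category.comp_id]
  obtain ⟨r, hr⟩ := Split.exists_retraction i f hi hgS hd hφ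
  obtain ⟨ΩZ, dZ, hZ⟩ := Exists.exists_isUniversal (i ≫ f)
  obtain ⟨c, hc, -⟩ := existsUnique_diffCompat (h := i) (Category.comp_id (i ≫ f)) hd dZ
  have : FormallyUnramified (i ≫ f) := hi ▸ inferInstance
  have h0 : IsZero ΩZ := (Finite.formallyUnramified_iff_isZero hZ).mp this
  have : Epi φ := (Descend.epi_and_exact hd hZ hφ hc).2.epi_f (h0.eq_of_tgt _ _)
  have : IsSplitMono φ := ⟨⟨r, hr⟩⟩
  have : IsIso φ := isIso_of_epi_of_isSplitMono φ
  exact ⟨(asIso φ).symm⟩

/-- base change of differentials, as an isomorphism of the two universal objects -/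
theorem nonempty_pullback_sheaf_iso {P Y : Scheme.{u}} {q : P ⟶ X} {p : P ⟶ Y} {f : X ⟶ S}
    {g : Y ⟶ S} [QuasiSeparated f] (H : IsPullback q p f g) {Ω : P.Modules} {d : Der p Ω}
    (hd : IsUniversal d) :
    Nonempty ((Scheme.Modules.pullback q).obj (Omega.sheaf f) ≅ Ω) := by
  obtain ⟨c, hc, -⟩ := existsUnique_diffCompat (f := f) (h := q) H.w.symm
    (DOmega.isUniversal_dOmega f) d
  have := BaseChange.isIso_of_isPullback H (DOmega.isUniversal_dOmega f) hd c hc
  exact ⟨asIso c⟩

variable (G : Grpd.GroupoidScheme S)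

open Groth.Agent.H63.GrpdBasic

/-- the differentials of `R` over `U` by `t` are pulled back from the identity by `s` -/
theorem nonempty_iso [QuasiSeparated G.t] :
    Nonempty ((Scheme.Modules.pullback G.s).obj (Omega.conormal G.e) ≅ Omega.sheaf G.t) := by
  have : IsImmersion (G.e ≫ G.t) := by rw [G.e_t]; infer_instance
  have : IsImmersion G.e := IsImmersion.of_comp G.e G.t
  have : QuasiCompact (G.e ≫ G.t) := by rw [G.e_t]; infer_instance
  have : QuasiCompact G.e := QuasiCompact.of_comp G.e G.t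
  let Φ : pullback G.t G.t ⟶ G.R := ttToST G ≫ pullback.snd G.s G.t
  have hΦ : IsPullback Φ (pullback.fst G.t G.t) G.t G.s :=
    IsPullback.of_iso (IsPullback.of_hasPullback G.s G.t).flip (stIsoTT G) (Iso.refl _) (Iso.refl _)
      (Iso.refl _) (by simp only [Iso.refl_hom, Category.comp_id]; exact (((reassoc_of% stToTT_ttToST G) _)).symm) (by simp [stIsoTT])
      (by simp) (by simp)
  obtain ⟨ΩP, dP, hP⟩ := Exists.exists_isUniversal (pullback.fst G.t G.t)
  obtain ⟨e₁⟩ := nonempty_pullback_sheaf_iso hΦ hP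
  obtain ⟨e₂⟩ := nonempty_pullback_sheaf_iso (IsPullback.of_hasPullback G.t G.t).flip hP
  obtain ⟨e₃⟩ := nonempty_conormal_iso_of_section G.t G.e G.e_t (DOmega.isUniversal_dOmega G.t)
  let Δ := pullback.diagonal G.t
  have hΔ : Δ ≫ Φ = G.s ≫ G.e := by
    simp only [Φ, ttToST_snd, comp_cmp]
    rw [cmp_congr G (α' := 𝟙 _ ≫ G.i) (β' := 𝟙 _) (pullback.diagonal_fst_assoc G.t G.i |>.trans (Category.id_comp _).symm)
      (pullback.diagonal_snd G.t) _ (by simp [G.i_s]), inv_cmp, Category.id_comp]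
  exact ⟨((Scheme.Modules.pullback G.s).mapIso e₃).symm ≪≫
    (Scheme.Modules.pullbackComp G.s G.e).app _ ≪≫
    (Scheme.Modules.pullbackCongr hΔ.symm).app _ ≪≫
    ((Scheme.Modules.pullbackComp Δ Φ).app _).symm ≪≫
    (Scheme.Modules.pullback Δ).mapIso (e₁ ≪≫ e₂.symm) ≪≫
    (Scheme.Modules.pullbackComp Δ (pullback.snd G.t G.t)).app _ ≪≫
    (Scheme.Modules.pullbackCongr (pullback.diagonal_snd G.t)).app _ ≪≫
    (Scheme.Modules.pullbackId _).app _⟩

end Groth.Agent.H63.SectionOmega
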