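import Mathlib.Analysis.Complex.Basic
import Mathlib.LinearAlgebra.Matrix.PosDef
import Mathlib.Analysis.Matrix.PosDef
import Mathlib.LinearAlgebra.Matrix.Charpoly.Basic
import Mathlib.LinearAlgebra.Matrix.ToLinearEquiv
import Mathlib.LinearAlgebra.Matrix.SesquilinearForm
import Mathlib.LinearAlgebra.Charpoly.ToMatrix
import Mathlib.Topology.Instances.Matrix

/-!
# Eigenvalues of similitudes of positive forms

* `norm_sq_eq`: a similitude of multiplier `q` of a positive definite integral form has eigenvalues of square norm `q`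
* `norm_sq_eq_of_form`: the same for an endomorphism of a finite free `ℤ`-module
-/

set_option autoImplicit false

namespace Groth.Agent.H63.Similitude

open Matrix

variable {n : Type*} [Fintype n] [DecidableEq n]

theorem posDef_real (G : Matrix n n ℤ) (hG : G.IsSymm) (hpos : ∀ v : n → ℤ, v ≠ 0 → 0 < v ⬝ᵥ G *ᵥ v) :
    (G.map ((↑) : ℤ → ℝ)).PosDef := by
  have hnn : ∀ v : n → ℤ, 0 ≤ v ⬝ᵥ G *ᵥ v := fun v => by
    by_cases h : v = 0
    · simp [h]
    · exact (hpos v h).le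
  have hherm : (G.map ((↑) : ℤ → ℝ)).IsHermitian := by
    ext i j
    simp [hG.apply i j]
  have hps : (G.map ((↑) : ℤ → ℝ)).PosSemidef := by
    refine Matrix.PosSemidef.of_dotProduct_mulVec_nonneg hherm fun x => ?_
    simp only [star_trivial]
    have hcl : IsClosed {y : n → ℝ | 0 ≤ y ⬝ᵥ G.map ((↑) : ℤ → ℝ) *ᵥ y} :=
      isClosed_le continuous_const (continuous_id.dotProduct (continuous_const.matrix_mulVec continuous_id))
    have hd : DenseRange (fun (y : n → ℚ) (i : n) => (y i : ℝ)) := DenseRange.piMap fun _ => Rat.denseRange_cast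
    refine hd.induction_on (p := fun y => 0 ≤ y ⬝ᵥ G.map ((↑) : ℤ → ℝ) *ᵥ y) x hcl fun y => ?_
    obtain ⟨⟨N, hN⟩, hw⟩ := IsLocalization.exist_integer_multiples (nonZeroDivisors ℤ) Finset.univ y
    choose w hw using fun i => hw i (Finset.mem_univ i)
    have hN0 : (N : ℝ) ≠ 0 := Int.cast_ne_zero.2 (nonZeroDivisors.ne_zero hN)
    have e : (fun i => (y i : ℝ)) = (N : ℝ)⁻¹ • fun i => ((w i : ℤ) : ℝ) := funext fun i => by
      have h := hw i
      change ((w i : ℤ) : ℚ) = N • y i at h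
      rw [zsmul_eq_mul] at h
      rw [Pi.smul_apply, smul_eq_mul, eq_inv_mul_iff_mul_eq₀ hN0]
      exact_mod_cast h.symm
    show 0 ≤ (fun i => (y i : ℝ)) ⬝ᵥ G.map ((↑) : ℤ → ℝ) *ᵥ (fun i => (y i : ℝ))
    rw [e, Matrix.mulVec_smul, smul_dotProduct, dotProduct_smul, smul_smul, smul_eq_mul]
    refine mul_nonneg (mul_self_nonneg _) ?_
    have h : (fun i => ((w i : ℤ) : ℝ)) ⬝ᵥ G.map ((↑) : ℤ → ℝ) *ᵥ (fun i => ((w i : ℤ) : ℝ)) =
        ((w ⬝ᵥ G *ᵥ w : ℤ) : ℝ) := by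
      simp [dotProduct, Matrix.mulVec]
    rw [h]
    exact_mod_cast hnn w
  have hdet : G.det ≠ 0 := fun h => by
    obtain ⟨v, hv, hv0⟩ := Matrix.exists_mulVec_eq_zero_iff.2 h
    exact (hpos v hv).ne' (by rw [hv0, dotProduct_zero])
  refine hherm.posDef_iff_eigenvalues_pos.2 fun i => (hps.eigenvalues_nonneg i).lt_of_ne fun h0 => ?_
  have h2 : (G.map ((↑) : ℤ → ℝ)).det = 0 := by
    rw [hherm.det_eq_prod_eigenvalues]
    exact Finset.prod_eq_zero (Finset.mem_univ i) (by rw [← h0]; rfl)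
  rw [show G.map ((↑) : ℤ → ℝ) = (Int.castRingHom ℝ).mapMatrix G from rfl, ← RingHom.map_det] at h2
  exact (map_ne_zero_iff _ Int.cast_injective).2 hdet h2

theorem norm_sq_eq (G M : Matrix n n ℤ) (q : ℕ) (hG : G.IsSymm)
    (hpos : ∀ v : n → ℤ, v ≠ 0 → 0 < v ⬝ᵥ G *ᵥ v) (hM : Mᵀ * G * M = (q : ℤ) • G) (z : ℂ)
    (hz : (M.charpoly.map (Int.castRingHom ℂ)).IsRoot z) : ‖z‖ ^ 2 = q := by
  set Gc := G.map ((↑) : ℤ → ℂ) with hGc
  set Mc := M.map ((↑) : ℤ → ℂ) with hMc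
  obtain ⟨v, hv, hv0⟩ : ∃ v, v ≠ 0 ∧ (Matrix.scalar n z - Mc) *ᵥ v = 0 := by
    refine Matrix.exists_mulVec_eq_zero_iff.2 ?_
    rw [← Matrix.eval_charpoly, hMc,
      show M.map ((↑) : ℤ → ℂ) = M.map (Int.castRingHom ℂ) from rfl, Matrix.charpoly_map]
    exact hz
  have hev : Mc *ᵥ v = z • v := by
    rw [Matrix.sub_mulVec, sub_eq_zero] at hv0
    rw [← hv0]
    ext i
    simp [Matrix.mulVec_diagonal]
  have hMh : Mcᴴ = Mcᵀ := by ext i j; simp [Mc]
  have hMG : Mcᵀ * Gc * Mc = (q : ℂ) • Gc := by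
    have h := congrArg (fun A : Matrix n n ℤ => A.map (Int.castRingHom ℂ)) hM
    simp only [Matrix.map_mul, ← Matrix.transpose_map] at h
    refine h.trans ?_
    ext i j
    rw [Matrix.map_apply, Matrix.smul_apply, smul_eq_mul, map_mul]
    simp [Gc]
  have h1 : star (Mc *ᵥ v) ⬝ᵥ Gc *ᵥ (Mc *ᵥ v) = (q : ℂ) * (star v ⬝ᵥ Gc *ᵥ v) := by
    rw [Matrix.star_mulVec, hMh, ← Matrix.dotProduct_mulVec, Matrix.mulVec_mulVec, Matrix.mulVec_mulVec,
      hMG, Matrix.smul_mulVec, dotProduct_smul, smul_eq_mul]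
  rw [hev, star_smul, Matrix.mulVec_smul, smul_dotProduct, dotProduct_smul, smul_eq_mul, smul_eq_mul,
    ← mul_assoc] at h1
  have hne : star v ⬝ᵥ Gc *ᵥ v ≠ 0 := by
    have hR := posDef_real G hG hpos
    intro h
    set u : n → ℝ := fun i => (v i).re
    set w : n → ℝ := fun i => (v i).im
    have hre : (star v ⬝ᵥ Gc *ᵥ v).re =
        u ⬝ᵥ G.map ((↑) : ℤ → ℝ) *ᵥ u + w ⬝ᵥ G.map ((↑) : ℤ → ℝ) *ᵥ w := by
      simp [dotProduct, Matrix.mulVec, Gc, u, w, Complex.re_sum, Complex.im_sum, Finset.sum_add_distrib]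
    rw [h, Complex.zero_re] at hre
    have hu := hR.posSemidef.dotProduct_mulVec_nonneg u
    have hw := hR.posSemidef.dotProduct_mulVec_nonneg w
    simp only [star_trivial] at hu hw
    have key : ∀ y : n → ℝ, y ⬝ᵥ G.map ((↑) : ℤ → ℝ) *ᵥ y = 0 → y = 0 := fun y hy => by
      by_contra hy0
      have := hR.dotProduct_mulVec_pos hy0
      simp only [star_trivial, hy, lt_self_iff_false] at this
    refine hv (funext fun i => Complex.ext ?_ ?_)
    · exact congrFun (key u (by linarith)) i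
    · exact congrFun (key w (by linarith)) i
  have h2 : (starRingEnd ℂ) z * z = (q : ℂ) := mul_right_cancel₀ hne h1
  rw [Complex.conj_mul'] at h2
  exact_mod_cast h2

theorem norm_sq_eq_of_form {E : Type*} [AddCommGroup E] [Module.Free ℤ E] [Module.Finite ℤ E]
    (b : E →+ E →+ ℤ) (hsym : ∀ x y, b x y = b y x) (hpos : ∀ x, x ≠ 0 → 0 < b x x) (T : E →ₗ[ℤ] E) (q : ℕ)
    (hT : ∀ x y, b (T x) (T y) = q * b x y) (z : ℂ)
    (hz : (T.charpoly.map (Int.castRingHom ℂ)).IsRoot z) : ‖z‖ ^ 2 = q := by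
  let e := Module.Free.chooseBasis ℤ E
  let B : E →ₗ[ℤ] E →ₗ[ℤ] ℤ :=
    LinearMap.mk₂ ℤ (fun x y => b x y) (fun x y w => by simp) (fun c x y => by simp) (fun x y w => by simp)
      fun c x y => by simp
  let G := LinearMap.toMatrix₂ e e B
  have hG : ∀ i j, G i j = b (e i) (e j) := fun i j => LinearMap.toMatrix₂_apply _ _ _ i j
  refine norm_sq_eq G (LinearMap.toMatrix e e T) q (Matrix.IsSymm.ext fun i j => by rw [hG, hG, hsym])
    (fun v hv => ?_) ?_ z ?_
  · have h := hpos (e.equivFun.symm v) fun h => hv (e.equivFun.symm.map_eq_zero_iff.1 h)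
    convert h using 1
    rw [Module.Basis.equivFun_symm_apply]
    simp [dotProduct, Matrix.mulVec, hG, Finset.mul_sum, map_sum, AddMonoidHom.finsetSum_apply]
    rw [Finset.sum_comm]
    exact Finset.sum_congr rfl fun i _ => Finset.sum_congr rfl fun j _ => by rw [hsym]; ring
  · rw [← LinearMap.toMatrix₂_compl₁₂ e e e e B T T, ← map_smul]
    congr 1
    exact LinearMap.ext₂ fun x y => by simpa [B] using hT x y
  · rwa [← LinearMap.charpoly_toMatrix T e] at hz

end Groth.Agent.H63.Similitude
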