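import Groth.Agent.H63.GrpIdentity
import Groth.Agent.H63.AmpleCompl
import Groth.Agent.H52.FBase.GeomRedSch
import Groth.Agent.H4.HomImage
import Groth.Agent.H4.KernelSquare
import Groth.Agent.H4.IsogenyFactor

/-!
# The abelian subvariety underlying a kernel

* `exists_kernelAV`: over an algebraically closed field the reduced identity component of a kernel is
  an abelian subvariety containing a fixed power of every point of the kernel
-/

set_option autoImplicit false

universe u

open CategoryTheory CategoryTheory.Limits MonoidalCategory CartesianMonoidalCategory AlgebraicGeometry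
open scoped MonObj GrpObj
open Groth.Agent.H63.GrpIrred Groth.Agent.H63.GrpComponent Groth.Agent.H63.GrpConnected

namespace Groth.Agent.H63.SubAV

variable {k : Type u} [Field k]

section Comp

variable [PerfectField k] (G : Over (Spec (CommRingCat.of k))) [GrpObj G]

theorem exists_lift {T : Over (Spec (CommRingCat.of k))} [IsReduced T.left] (h : T ⟶ G)
    (hr : ∀ t, h.left t ∈ comp0 G) : ∃ h' : T ⟶ compObj G, h' ≫ compHom G = h :=
  haveI : IsClosedImmersion (compHom G).left := isClosedImmersion_compIncl G
  H4.HomImage.exists_factor (compHom G) h (by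
    rintro _ ⟨t, rfl⟩
    exact (range_compIncl G).symm ▸ hr t)

theorem compHom_mem {T : Over (Spec (CommRingCat.of k))} (a : T ⟶ compObj G) (t : T.left) :
    (a ≫ compHom G).left t ∈ comp0 G := by
  rw [← range_compIncl]
  exact ⟨a.left t, (Scheme.Hom.comp_apply _ _ _).symm⟩

theorem isReduced_comp : IsReduced (compObj G).left := by
  show IsReduced (compScheme G)
  unfold compScheme
  infer_instance

/-- The reduced identity component is a closed subgroup. -/
theorem exists_grpObj_comp : ∃ _ : GrpObj (compObj G), IsMonHom (compHom G) := by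
  haveI := isReduced_comp G
  haveI : GeometricallyReduced (compObj G).hom :=
    H52.FBase.GeomRedSch.geometricallyReduced_of_perfectField _
  haveI : IsClosedImmersion (compHom G).left := isClosedImmersion_compIncl G
  haveI : Mono (compHom G) := Over.mono_of_mono_left _
  haveI : IsReduced (compObj G ⊗ compObj G).left := by
    haveI := H52.FBase.GeomRedSch.geometricallyReduced_prod (compObj G).hom (compObj G).hom
    let f := pullback.fst (compObj G).hom (compObj G).hom ≫ (compObj G).hom
    haveI : IsReduced (pullback f (𝟙 _)) :=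
      GeometricallyReduced.geometrically_isReduced _ _ _ (.of_hasPullback _ _)
    show IsReduced (pullback (compObj G).hom (compObj G).hom)
    exact isReduced_of_isOpenImmersion (inv (pullback.fst f (𝟙 _)))
  haveI : IsReduced (𝟙_ (Over (Spec (CommRingCat.of k)))).left :=
    inferInstanceAs (IsReduced (Spec (CommRingCat.of k)))
  refine H4.HomImage.exists_grpObj (compHom G) ?_ ?_ ?_
  · exact exists_lift G η[G] fun t => by
      rw [show η[G].left t = unitPt G from congrArg η[G].left (Subsingleton.elim (α := PrimeSpectrum k) _ _)]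
      exact GrpComponent.unitPt_mem G
  · obtain ⟨m, hm⟩ := exists_lift G ((compHom G ⊗ₘ compHom G) ≫ μ[G]) fun t => by
      rw [Over.comp_left, Scheme.Hom.comp_apply]
      refine mul_mem G ?_ ?_
      · show ((compHom G ⊗ₘ compHom G).left ≫ (fst G G).left) t ∈ _
        rw [← Over.comp_left, tensorHom_fst]
        exact compHom_mem G _ t
      · show ((compHom G ⊗ₘ compHom G).left ≫ (snd G G).left) t ∈ _
        rw [← Over.comp_left, tensorHom_snd]
        exact compHom_mem G _ t
    exact ⟨m, by rw [hm, Hom.mul_def, lift_fst_comp_snd_comp]⟩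
  · exact exists_lift G (compHom G)⁻¹ fun t => by
      rw [Hom.inv_def, Over.comp_left, Scheme.Hom.comp_apply]
      exact inv_mem G (by
        have := compHom_mem G (𝟙 _) t
        rwa [Category.id_comp] at this)

end Comp

section Index

variable (N : Over (Spec (CommRingCat.of k))) [GrpObj N] [IsCommMonObj N] [LocallyOfFiniteType N.hom]
  [QuasiCompact N.hom]

theorem exists_pow_mem :
    ∃ c : ℕ, 0 < c ∧ ∀ a : 𝟙_ (Over (Spec (CommRingCat.of k))) ⟶ N,
      (a ^ c).left (IsLocalRing.closedPoint k) ∈ comp0 N := by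
  haveI : CompactSpace N.left := QuasiCompact.compactSpace_of_compactSpace N.hom
  haveI : IsLocallyNoetherian N.left := LocallyOfFiniteType.isLocallyNoetherian N.hom
  haveI : IsNoetherian N.left := ⟨⟩
  have hfin : (irreducibleComponents N.left).Finite :=
    TopologicalSpace.NoetherianSpace.finite_irreducibleComponents
  let n := hfin.toFinset.card
  refine ⟨(n + 1).factorial, Nat.factorial_pos _, fun a => ?_⟩
  let pt : (𝟙_ (Over (Spec (CommRingCat.of k))) ⟶ N) → N.left := fun b => b.left (IsLocalRing.closedPoint k)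
  let gp : ℕ → irreducibleComponents N.left := fun i =>
    ⟨irreducibleComponent (pt (a ^ i)), irreducibleComponent_mem_irreducibleComponents _⟩
  obtain ⟨i, hi, j, hj, hne, hij⟩ : ∃ i ∈ Finset.range (n + 1), ∃ j ∈ Finset.range (n + 1), i ≠ j ∧ gp i = gp j := by
    haveI : Fintype (irreducibleComponents N.left) := hfin.fintype
    refine Finset.exists_ne_map_eq_of_card_lt_of_maps_to (t := Finset.univ) ?_ (fun _ _ => Finset.mem_univ _)
    rw [Finset.card_range, Finset.card_univ]
    exact Nat.lt_succ_of_le (le_of_eq (Set.Finite.card_toFinset hfin).symm)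
  have step : ∀ i j : ℕ, i < j → gp i = gp j → pt (a ^ (j - i)) ∈ comp0 N := by
    intro i j hlt h
    have hh : IsIso (AmpleCompl.tr (a ^ i)⁻¹).left := AmpleCompl.isIso_tr _
    let t := (AmpleCompl.tr (a ^ i)⁻¹).left
    have hpt : ∀ b, t (pt b) = pt (b * (a ^ i)⁻¹) := fun b => by
      show (b.left ≫ t) _ = _
      rw [← Over.comp_left, AmpleCompl.comp_tr, toUnit_unique (toUnit (𝟙_ (Over (Spec (CommRingCat.of k))))) (𝟙 _),
        Category.id_comp]
    have h1 : pt (a ^ i * (a ^ i)⁻¹) = unitPt N := by
      rw [mul_inv_cancel, Hom.one_def, toUnit_unique (toUnit (𝟙_ (Over (Spec (CommRingCat.of k))))) (𝟙 _),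
        Category.id_comp]
    have hmem : t '' irreducibleComponent (pt (a ^ i)) ⊆ comp0 N := by
      rw [← GrpConnected.connectedComponent_unit]
      exact (isIrreducible_irreducibleComponent.isConnected.isPreconnected.image t
        t.continuous.continuousOn).subset_connectedComponent ⟨pt (a ^ i), mem_irreducibleComponent, (hpt _).trans h1⟩
    have hj : pt (a ^ j) ∈ irreducibleComponent (pt (a ^ i)) := by
      rw [show irreducibleComponent (pt (a ^ i)) = irreducibleComponent (pt (a ^ j)) from congrArg Subtype.val h]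
      exact mem_irreducibleComponent
    have := hmem ⟨_, hj, hpt _⟩
    rwa [← pow_sub _ hlt.le] at this
  have hmul : ∀ m d : ℕ, pt (a ^ d) ∈ comp0 N → pt (a ^ (d * m)) ∈ comp0 N := by
    intro m d hd
    induction m with
    | zero =>
      rw [Nat.mul_zero, pow_zero, Hom.one_def, toUnit_unique (toUnit (𝟙_ (Over (Spec (CommRingCat.of k))))) (𝟙 _),
        Category.id_comp]
      rw [show pt η[N] = unitPt N from congrArg η[N].left (Subsingleton.elim (α := PrimeSpectrum k) _ _)]
      exact GrpComponent.unitPt_mem N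
    | succ m ih =>
      rw [Nat.mul_succ, pow_add, Hom.mul_def]
      show ((lift (a ^ (d * m)) (a ^ d)).left ≫ μ[N].left) _ ∈ _
      rw [Scheme.Hom.comp_apply]
      refine mul_mem N ?_ ?_
      · show ((lift (a ^ (d * m)) (a ^ d)).left ≫ (fst N N).left) _ ∈ _
        rw [← Over.comp_left, lift_fst]; exact ih
      · show ((lift (a ^ (d * m)) (a ^ d)).left ≫ (snd N N).left) _ ∈ _
        rw [← Over.comp_left, lift_snd]; exact hd
  rw [Finset.mem_range] at hi hj
  obtain ⟨d, hd0, hdn, hd⟩ : ∃ d, 0 < d ∧ d ≤ n + 1 ∧ pt (a ^ d) ∈ comp0 N := by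
    rcases lt_or_gt_of_ne hne with h | h
    · exact ⟨j - i, by omega, by omega, step i j h hij⟩
    · exact ⟨i - j, by omega, by omega, step j i h hij.symm⟩
  obtain ⟨m, hm⟩ := Nat.dvd_factorial hd0 hdn
  rw [hm]
  exact hmul m d hd

end Index

/-- The abelian subvariety underlying a kernel. -/
theorem exists_kernelAV [IsAlgClosed k] {A B : Over (Spec (CommRingCat.of k))} [GrpObj A] [IsCommMonObj A]
    [IsProper A.hom] [GrpObj B] [IsSeparated B.hom] (φ : A ⟶ B) [IsMonHom φ] :
    ∃ (M : Over (Spec (CommRingCat.of k))) (_ : GrpObj M) (i : M ⟶ A) (_ : IsMonHom i) (c : ℕ),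
      IsClosedImmersion i.left ∧ IsProper M.hom ∧ GeometricallyIntegral M.hom ∧ i ≫ φ = 1 ∧ 0 < c ∧
      ∀ a : 𝟙_ (Over (Spec (CommRingCat.of k))) ⟶ A, a ≫ φ = 1 → ∃ m, m ≫ i = a ^ c := by
  obtain ⟨N, _, j, hj, hN, hNc⟩ := H4.IsogenyFactor.exists_kernel φ
  haveI := hNc
  haveI : IsClosedImmersion j.left := by
    haveI : IsClosedImmersion (η[B].left ≫ B.hom) := by
      rw [Over.w η[B]]; exact (inferInstance : IsClosedImmersion (𝟙 (Spec (CommRingCat.of k))))
    haveI : IsClosedImmersion η[B].left := IsClosedImmersion.of_comp η[B].left B.hom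
    exact MorphismProperty.of_isPullback (P := @IsClosedImmersion) (hN.map (Over.forget _)).flip ‹IsClosedImmersion η[B].left›
  haveI : IsProper N.hom := by rw [← Over.w j]; infer_instance
  haveI := isReduced_comp N
  obtain ⟨_, hi⟩ := exists_grpObj_comp N
  haveI : IsClosedImmersion (compHom N).left := isClosedImmersion_compIncl N
  haveI : GeometricallyReduced (compObj N).hom :=
    H52.FBase.GeomRedSch.geometricallyReduced_of_perfectField _
  haveI : IsProper (compObj N).hom := by rw [← Over.w (compHom N)]; infer_instance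
  haveI : IrreducibleSpace (compObj N).left := by
    have h : IsIrreducible (comp0 N) := isIrreducible_irreducibleComponent
    have e := (compIncl N).isClosedEmbedding.isInducing
    have hr := range_compIncl N
    haveI : Nonempty (compObj N).left := by
      obtain ⟨x, hx⟩ := h.1
      rw [← hr] at hx
      exact ⟨hx.choose⟩
    haveI : PreirreducibleSpace (compObj N).left := ⟨fun u v hu hv ⟨x, _, hx⟩ ⟨y, _, hy⟩ => by
      obtain ⟨U, hU, rfl⟩ := e.isOpen_iff.1 hu
      obtain ⟨V, hV, rfl⟩ := e.isOpen_iff.1 hv
      obtain ⟨z, hz, hzU, hzV⟩ := h.2 U V hU hV ⟨_, hr ▸ Set.mem_range_self x, hx⟩ ⟨_, hr ▸ Set.mem_range_self y, hy⟩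
      rw [← hr] at hz
      obtain ⟨w, rfl⟩ := hz
      exact ⟨w, trivial, hzU, hzV⟩⟩
    exact { toNonempty := inferInstance }
  obtain ⟨c, hc, hpow⟩ := exists_pow_mem N
  refine ⟨compObj N, _, compHom N ≫ j, inferInstance, c, ?_, inferInstance,
    H4.HomImage.geometricallyIntegral_of_connected (compObj N), ?_, hc, fun a ha => ?_⟩
  · rw [Over.comp_left]; infer_instance
  · have e : j ≫ φ = 1 := hN.w.trans (Hom.one_def).symm
    rw [Category.assoc, e, MonObj.comp_one]
  · let b : 𝟙_ (Over (Spec (CommRingCat.of k))) ⟶ N :=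
      hN.lift a (𝟙 _) (by rw [ha, Hom.one_def, toUnit_unique (toUnit (𝟙_ _)) (𝟙 _)])
    haveI : IsReduced (𝟙_ (Over (Spec (CommRingCat.of k)))).left :=
      inferInstanceAs (IsReduced (Spec (CommRingCat.of k)))
    obtain ⟨m, hm⟩ := exists_lift N (b ^ c) fun t => by
      rw [show (b ^ c).left t = (b ^ c).left (IsLocalRing.closedPoint k) from
        congrArg (b ^ c).left (Subsingleton.elim (α := PrimeSpectrum k) _ _)]
      exact hpow b
    refine ⟨m, ?_⟩
    rw [← Category.assoc, hm, MonObj.pow_comp, hN.lift_fst]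

end Groth.Agent.H63.SubAV
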