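import Groth.Agent.Lib.Zeta.ExpSeries
import Mathlib.Algebra.Polynomial.Lifts
import Mathlib.FieldTheory.Galois.Basic
import Mathlib.FieldTheory.IsAlgClosed.AlgebraicClosure
import Mathlib.FieldTheory.SplittingField.Construction
import Mathlib.RingTheory.IntegralClosure.IntegrallyClosed
import Mathlib.RingTheory.Polynomial.RationalRoot
import Mathlib.RingTheory.Int.Basic
import Mathlib.FieldTheory.Normal.Basic
import Mathlib.Data.Multiset.Powerset
import Mathlib.Analysis.Complex.Polynomial.Basic

/-!
# Polynomials with roots the products of roots over subsets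

* `exists_int_poly`: `∏_{|I| = j} (1 - α_I X)` is integral for the roots of a monic integral polynomial
* `prod_one_sub_pow`, `expS_mul_prod`: the zeta identities of these polynomials
-/

set_option autoImplicit false

namespace Groth.Agent.H63.SubsetProducts

open Groth.Agent.Lib.Zeta.ExpSeries

/-- `∏_{|I| = j} (1 - α_I X)`. -/
noncomputable def subsetPoly {R : Type*} [CommRing R] (s : Multiset R) (j : ℕ) : Polynomial R :=
  ((s.powersetCard j).map fun I => (1 : Polynomial R) - Polynomial.C I.prod * Polynomial.X).prod

theorem map_subsetPoly {R S : Type*} [CommRing R] [CommRing S] (f : R →+* S) (s : Multiset R) (j : ℕ) :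
    (subsetPoly s j).map f = subsetPoly (s.map f) j := by
  rw [subsetPoly, subsetPoly, ← Polynomial.coe_mapRingHom, map_multiset_prod, Multiset.map_map,
    Multiset.powersetCard_map, Multiset.map_map]
  refine congrArg _ (Multiset.map_congr rfl fun I _ => ?_)
  rw [Function.comp_apply, Function.comp_apply, Polynomial.coe_mapRingHom, Polynomial.map_sub, Polynomial.map_one,
    Polynomial.map_mul, Polynomial.map_C, Polynomial.map_X, map_multiset_prod]

theorem exists_int_poly (P : Polynomial ℤ) (hP : P.Monic) (j : ℕ) :
    ∃ Q : Polynomial ℤ, Q.map (Int.castRingHom ℂ) = subsetPoly (P.map (Int.castRingHom ℂ)).roots j := by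
  let L := (P.map (algebraMap ℤ ℚ)).SplittingField
  haveI : Polynomial.IsSplittingField ℚ L (P.map (algebraMap ℤ ℚ)) := by
    convert Polynomial.IsSplittingField.splittingField (P.map (algebraMap ℤ ℚ)) using 1
    exact Subsingleton.elim _ _
  haveI : Normal ℚ L := Normal.of_isSplittingField (P.map (algebraMap ℤ ℚ))
  haveI : IsGalois ℚ L := ⟨⟩
  let e : L →ₐ[ℚ] ℂ := IsAlgClosed.lift
  have hsp : (P.map (algebraMap ℤ L)).Splits := by
    have h := Polynomial.SplittingField.splits (P.map (algebraMap ℤ ℚ))
    rw [Polynomial.map_map] at h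
    convert h using 2
    exact RingHom.ext_int _ _
  set s := (P.map (algebraMap ℤ L)).roots with hs
  have hmap : (P.map (Int.castRingHom ℂ)).roots = s.map e.toRingHom := by
    rw [hs, ← hsp.roots_map e.toRingHom, Polynomial.map_map]
    rw [RingHom.ext_int (e.toRingHom.comp (algebraMap ℤ L)) (Int.castRingHom ℂ)]
  have hfix : ∀ σ : L ≃ₐ[ℚ] L, (subsetPoly s j).map (σ : L →+* L) = subsetPoly s j := fun σ => by
    rw [map_subsetPoly]
    congr 1
    rw [hs, ← hsp.roots_map (σ : L →+* L), Polynomial.map_map]
    rw [RingHom.ext_int ((σ : L →+* L).comp (algebraMap ℤ L)) (algebraMap ℤ L)]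
  have hint : ∀ n, IsIntegral ℤ ((subsetPoly s j).coeff n) := by
    have h : subsetPoly s j ∈ Polynomial.lifts (algebraMap (integralClosure ℤ L) L) := by
      refine Subsemiring.multiset_prod_mem _ _ fun q hq => ?_
      obtain ⟨I, hI, rfl⟩ := Multiset.mem_map.1 hq
      have hIs : IsIntegral ℤ I.prod := IsIntegral.multiset_prod fun x hx =>
        ⟨P, hP, by
          have := (Polynomial.mem_roots'.1 (Multiset.mem_of_le (Multiset.mem_powersetCard.1 hI).1 hx)).2
          rwa [Polynomial.IsRoot, Polynomial.eval_map] at this⟩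
      exact ⟨1 - Polynomial.C (⟨I.prod, hIs⟩ : integralClosure ℤ L) * Polynomial.X, by simp⟩
    intro n
    obtain ⟨Q, hQ⟩ := h
    rw [← hQ, Polynomial.coe_mapRingHom, Polynomial.coeff_map]
    exact (Q.coeff n).2
  have hcoeff : ∀ n, ∃ z : ℤ, ((subsetPoly s j).coeff n) = (z : L) := fun n => by
    obtain ⟨q, hq⟩ := (IsGalois.mem_range_algebraMap_iff_fixed (F := ℚ) ((subsetPoly s j).coeff n)).2 fun σ => by
      conv_rhs => rw [← hfix σ, Polynomial.coeff_map]
      rfl
    have h := hint n
    rw [← hq, isIntegral_algebraMap_iff (algebraMap ℚ L).injective] at h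
    obtain ⟨z, hz⟩ := IsIntegrallyClosed.isIntegral_iff.1 h
    exact ⟨z, by rw [← hq, ← hz]; simp⟩
  choose z hz using hcoeff
  obtain ⟨Q, hQ⟩ := (Polynomial.mem_lifts (f := Int.castRingHom L) (subsetPoly s j)).1
    ((Polynomial.lifts_iff_coeff_lifts (subsetPoly s j)).2 fun n => ⟨z n, (hz n).symm⟩)
  refine ⟨Q, ?_⟩
  rw [hmap, ← map_subsetPoly, ← hQ, Polynomial.map_map,
    RingHom.ext_int (e.toRingHom.comp (Int.castRingHom L)) (Int.castRingHom ℂ)]

variable {R : Type*} [CommRing R]

theorem prod_one_sub_pow (s : Multiset R) (m : ℕ) :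
    (s.map fun a => 1 - a ^ m).prod = (s.powerset.map fun I => (-1) ^ Multiset.card I * I.prod ^ m).sum := by
  induction s using Multiset.induction_on with
  | empty => simp
  | cons a s ih =>
    rw [Multiset.map_cons, Multiset.prod_cons, ih, Multiset.powerset_cons, Multiset.map_add, Multiset.sum_add,
      Multiset.map_map, sub_mul, one_mul, ← Multiset.sum_map_mul_left, sub_eq_add_neg, ← Multiset.sum_map_neg']
    congr 1
    refine congrArg _ ?_
    simp only [Multiset.map_map]
    refine Multiset.map_congr rfl fun I _ => ?_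
    simp only [Function.comp_apply, Multiset.card_cons, Multiset.prod_cons, mul_pow, pow_succ]
    ring

theorem powerset_eq_sum (s : Multiset R) {M : Type*} [AddCommMonoid M] (g : Multiset R → M) :
    (s.powerset.map g).sum = ∑ j ∈ Finset.range (Multiset.card s + 1), ((s.powersetCard j).map g).sum := by
  rw [← Multiset.bind_powerset_len, Multiset.map_bind, Multiset.sum_bind]
  rfl

variable [Algebra ℚ R]

theorem expS_mul_prod (s : Multiset (Multiset R)) :
    expS ((s.map fun I => geomLog I.prod 1).sum) *
      (((s.map fun I => (1 : Polynomial R) - Polynomial.C I.prod * Polynomial.X).prod : Polynomial R) : PowerSeries R) =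
      1 := by
  induction s using Multiset.induction_on with
  | empty => simp [expS_zero]
  | cons a s ih =>
    rw [Multiset.map_cons, Multiset.sum_cons, Multiset.map_cons, Multiset.prod_cons,
      expS_add (constantCoeff_geomLog _ _) (by
        rw [map_multiset_sum]
        exact Multiset.sum_eq_zero fun x hx => by
          simp only [Multiset.map_map, Multiset.mem_map, Function.comp_apply] at hx
          obtain ⟨I, -, rfl⟩ := hx
          exact constantCoeff_geomLog _ _)]
    have h := expS_geomLog_mul a.prod (r := 1) one_ne_zero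
    rw [pow_one] at h
    simp only [Polynomial.coe_mul, Polynomial.coe_sub, Polynomial.coe_one, Polynomial.coe_C, Polynomial.coe_X]
    rw [mul_mul_mul_comm, ih, h, mul_one]

end Groth.Agent.H63.SubsetProducts
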