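import Groth.Agent.H63.FibreCount
import Groth.Agent.Lib.GrpSch.SmoothReduced
import Groth.Agent.H75.RedKer
import Mathlib.AlgebraicGeometry.Morphisms.Separated
import Mathlib.AlgebraicGeometry.Sites.Fpqc
import Mathlib.AlgebraicGeometry.EffectiveEpi
import Mathlib.CategoryTheory.Monoidal.Cartesian.Over
import Mathlib.CategoryTheory.Monoidal.Cartesian.Grp
import Mathlib.FieldTheory.IsAlgClosed.AlgebraicClosure

/-!
# The sum over the fibres of a finite étale morphism

* `eq_of_geometric`: morphisms out of a reduced scheme are determined by geometric points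
* `exists_split`: a finite étale morphism of constant degree `d` acquires `d` disjoint sections
* `exists_sum`: a morphism to a commutative group can be summed over the fibres
-/

set_option autoImplicit false

universe u

open CategoryTheory CategoryTheory.Limits MonoidalCategory CartesianMonoidalCategory AlgebraicGeometry
open scoped MonObj GrpObj

namespace Groth.Agent.H63.SumPoints

variable {k : Type u} [Field k]

/-- Morphisms out of a reduced scheme into a separated one are determined by geometric points. -/
theorem eq_of_geometric {X Y : Over (Spec (CommRingCat.of k))} [IsReduced X.left] [IsSeparated Y.hom] (f g : X ⟶ Y)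
    (h : ∀ (Ω : Type u) [Field Ω] [IsAlgClosed Ω] (b : Spec (CommRingCat.of Ω) ⟶ (Spec (CommRingCat.of k))) (x : Over.mk b ⟶ X),
      x ≫ f = x ≫ g) : f = g := by
  refine Over.OverMorphism.ext (ext_of_fromSpecResidueField_eq f.left g.left Y.hom Set.univ dense_univ
    (fun p _ => ?_) ((Over.w f).trans (Over.w g).symm))
  let Ω := AlgebraicClosure (X.left.residueField p)
  let j : Spec (CommRingCat.of Ω) ⟶ Spec (X.left.residueField p) :=
    Spec.map (CommRingCat.ofHom (algebraMap (X.left.residueField p) Ω))
  haveI : Flat j := (HasRingHomProperty.Spec_iff (P := @Flat)).2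
    (RingHom.flat_algebraMap_iff.2 inferInstance)
  haveI : Surjective j := ⟨fun _ => ⟨IsLocalRing.closedPoint Ω,
    Subsingleton.elim (α := PrimeSpectrum (X.left.residueField p)) _ _⟩⟩
  haveI : Epi j := Flat.epi_of_flat_of_surjective _
  rw [← cancel_epi j]
  have := congrArg Over.Hom.left (h Ω (j ≫ X.left.fromSpecResidueField p ≫ X.hom)
    (Over.homMk (j ≫ X.left.fromSpecResidueField p) (Category.assoc _ _ _)))
  simp only [Over.comp_left, Over.homMk_left, Category.assoc] at this
  exact this

variable {V W : Over (Spec (CommRingCat.of k))} (f : W ⟶ V) [Smooth V.hom] [IsFinite f.left] [Etale f.left]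

/-- A finite étale morphism of degree `d` acquires `d` disjoint sections étale locally. -/
theorem exists_split (d : ℕ) (hd : ∀ v : V.left, f.left.finrank v = d) :
    ∀ n ≤ d, ∃ (E : Over (Spec (CommRingCat.of k))) (π : E ⟶ V) (s : Fin n → (E ⟶ W)), Etale π.left ∧ Surjective π.left ∧
      QuasiCompact π.left ∧ IsSeparated π.left ∧ (∀ i, s i ≫ f = π) ∧
      ∀ (Ω : Type u) [Field Ω] [IsAlgClosed Ω] (b : Spec (CommRingCat.of Ω) ⟶ (Spec (CommRingCat.of k))) (e : Over.mk b ⟶ E),
        Function.Injective fun i => e ≫ s i := by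
  classical
  haveI : IsLocallyNoetherian V.left := LocallyOfFiniteType.isLocallyNoetherian V.hom
  intro n
  induction n with
  | zero =>
    intro _
    exact ⟨V, 𝟙 V, Fin.elim0, inferInstanceAs (Etale (𝟙 V.left)), inferInstanceAs (Surjective (𝟙 V.left)),
      inferInstanceAs (QuasiCompact (𝟙 V.left)), inferInstanceAs (IsSeparated (𝟙 V.left)),
      fun i => i.elim0, fun _ _ _ _ _ i => i.elim0⟩
  | succ n ih =>
    intro hn
    obtain ⟨E, π, s, hπe, hπs, hπq, hπsep, hs, hinj⟩ := ih (Nat.le_of_succ_le hn)
    haveI := hπe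
    haveI := hπs
    haveI := hπq
    haveI := hπsep
    let q := pullback.fst π.left f.left
    let P : Over (Spec (CommRingCat.of k)) := Over.mk (q ≫ E.hom)
    let pE : P ⟶ E := Over.homMk q rfl
    let pW : P ⟶ W := Over.homMk (pullback.snd π.left f.left)
      (show pullback.snd π.left f.left ≫ W.hom = pullback.fst π.left f.left ≫ E.hom by
        rw [← Over.w f, ← pullback.condition_assoc, Over.w π])
    have hsq : pW ≫ f = pE ≫ π := Over.OverMorphism.ext pullback.condition.symm
    let t : Fin n → (E ⟶ P) := fun i =>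
      Over.homMk (pullback.lift (f := π.left) (g := f.left) (𝟙 _) (s i).left
        (by rw [Category.id_comp, ← Over.comp_left, hs]))
        (show pullback.lift (f := π.left) (g := f.left) (𝟙 _) (s i).left _ ≫ q ≫ E.hom = E.hom by
          rw [pullback.lift_fst_assoc, Category.id_comp])
    have ht1 : ∀ i, t i ≫ pE = 𝟙 E := fun i => Over.OverMorphism.ext (pullback.lift_fst _ _ _)
    have ht2 : ∀ i, t i ≫ pW = s i := fun i => Over.OverMorphism.ext (pullback.lift_snd _ _ _)
    haveI htc : ∀ i, IsClosedImmersion (t i).left := fun i => by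
      haveI : IsClosedImmersion ((t i).left ≫ q) := by
        rw [show (t i).left ≫ q = 𝟙 E.left from congrArg Over.Hom.left (ht1 i)]; infer_instance
      exact IsClosedImmersion.of_comp (t i).left q
    let U : P.left.Opens := ⟨(⋃ i, Set.range (t i).left)ᶜ,
      (isClosed_iUnion_of_finite fun i => (t i).left.isClosedEmbedding.isClosed_range).isOpen_compl⟩
    let E' : Over (Spec (CommRingCat.of k)) := Over.mk (U.ι ≫ P.hom)
    let u : E' ⟶ P := Over.homMk U.ι rfl
    haveI : IsLocallyNoetherian E.left := LocallyOfFiniteType.isLocallyNoetherian π.left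
    haveI : LocallyOfFiniteType q := inferInstance
    haveI : IsLocallyNoetherian P.left := LocallyOfFiniteType.isLocallyNoetherian q
    haveI : QuasiCompact U.ι := inferInstance
    have hout : ∀ {Ω : Type u} [Field Ω] {b : Spec (CommRingCat.of Ω) ⟶ (Spec (CommRingCat.of k))} (x : Over.mk b ⟶ P),
        x.left (IsLocalRing.closedPoint Ω) ∉ U → ∃ (i : Fin n) (g : Over.mk b ⟶ E), g ≫ t i = x := by
      intro Ω _ b x hx
      obtain ⟨i, hi⟩ := Set.mem_iUnion.1 (not_not.1 hx)
      haveI : IsReduced (Over.mk b).left := inferInstanceAs (IsReduced (Spec (CommRingCat.of Ω)))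
      obtain ⟨g, hg⟩ := Groth.Agent.H75.RedKer.exists_lift x.left (t i).left (by
        rintro _ ⟨y, rfl⟩
        rw [Subsingleton.elim (α := PrimeSpectrum Ω) y (IsLocalRing.closedPoint Ω)]
        exact hi)
      exact ⟨i, Over.homMk g (by rw [← Over.w (t i), reassoc_of% hg, Over.w x]), Over.OverMorphism.ext hg⟩
    refine ⟨E', u ≫ pE ≫ π, Fin.snoc (fun i => u ≫ pE ≫ s i) (u ≫ pW), ?_, ?_, ?_, ?_, ?_, ?_⟩
    · exact inferInstanceAs (Etale (U.ι ≫ q ≫ π.left))
    · have hsu : Surjective (U.ι ≫ q) := by
        refine ⟨fun p => ?_⟩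
        let Ω := AlgebraicClosure (E.left.residueField p)
        let e₀ : Spec (CommRingCat.of Ω) ⟶ E.left :=
          Spec.map (CommRingCat.ofHom (algebraMap (E.left.residueField p) Ω)) ≫ E.left.fromSpecResidueField p
        let b : Spec (CommRingCat.of Ω) ⟶ (Spec (CommRingCat.of k)) := e₀ ≫ E.hom
        let e : Over.mk b ⟶ E := Over.homMk e₀ rfl
        have hcard := FibreCount.natCard_lifts f (e ≫ π)
        rw [hd] at hcard
        obtain ⟨x, hx⟩ : ∃ x : {x : Over.mk b ⟶ W // x ≫ f = e ≫ π}, ∀ i, e ≫ s i ≠ x.1 := by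
          by_contra hc
          push Not at hc
          haveI : Finite {x : Over.mk b ⟶ W // x ≫ f = e ≫ π} :=
            Nat.finite_of_card_ne_zero (by rw [hcard]; omega)
          have := Nat.card_le_card_of_surjective
            (fun i : Fin n => (⟨e ≫ s i, by rw [Category.assoc, hs]⟩ : {x : Over.mk b ⟶ W // x ≫ f = e ≫ π}))
            (fun x => (hc x).imp fun i hi => Subtype.ext hi)
          rw [hcard, Nat.card_fin] at this
          omega
        let z₀ : Spec (CommRingCat.of Ω) ⟶ pullback π.left f.left :=
          pullback.lift e.left x.1.left (by rw [← Over.comp_left, ← Over.comp_left, x.2])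
        let z : Over.mk b ⟶ P := Over.homMk z₀ (by
          show z₀ ≫ q ≫ E.hom = b
          rw [pullback.lift_fst_assoc]; rfl)
        have hz1 : z ≫ pE = e := Over.OverMorphism.ext (pullback.lift_fst _ _ _)
        have hz2 : z ≫ pW = x.1 := Over.OverMorphism.ext (pullback.lift_snd _ _ _)
        have hzU : z.left (IsLocalRing.closedPoint Ω) ∈ U := by
          by_contra hc
          obtain ⟨i, g, hg⟩ := hout z hc
          have hge : g = e := by
            rw [← hz1, ← hg, Category.assoc, ht1, Category.comp_id]
          have h' : g ≫ s i = x.1 := by rw [← ht2, ← Category.assoc, hg, hz2]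
          exact hx i ((congrArg (· ≫ s i) hge).symm.trans h')
        refine ⟨⟨_, hzU⟩, ?_⟩
        rw [Scheme.Hom.comp_apply]
        show q (z.left _) = p
        rw [show q (z.left (IsLocalRing.closedPoint Ω)) = e₀ (IsLocalRing.closedPoint Ω) from
          (Scheme.Hom.comp_apply _ _ _).symm.trans (congrArg (fun m => m (IsLocalRing.closedPoint Ω))
            (congrArg Over.Hom.left hz1)), Scheme.Hom.comp_apply]
        exact E.left.fromSpecResidueField_apply p _
      haveI := hsu
      show Surjective (U.ι ≫ q ≫ π.left)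
      rw [← Category.assoc]
      infer_instance
    · exact inferInstanceAs (QuasiCompact (U.ι ≫ q ≫ π.left))
    · exact inferInstanceAs (IsSeparated (U.ι ≫ q ≫ π.left))
    · intro i
      induction i using Fin.lastCases with
      | last => rw [Fin.snoc_last, Category.assoc, hsq]
      | cast i => rw [Fin.snoc_castSucc, Category.assoc, Category.assoc, hs]
    · intro Ω _ _ b e
      have hne : ∀ i, e ≫ u ≫ pE ≫ s i ≠ e ≫ u ≫ pW := by
        intro i h
        have hmem : (e ≫ u).left (IsLocalRing.closedPoint Ω) ∈ U := by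
          rw [Over.comp_left, Scheme.Hom.comp_apply]
          exact (e.left (IsLocalRing.closedPoint Ω)).2
        refine hmem (Set.mem_iUnion.2 ⟨i, (e ≫ u ≫ pE).left (IsLocalRing.closedPoint Ω), ?_⟩)
        have heq : (e ≫ u ≫ pE) ≫ t i = e ≫ u := by
          refine Over.OverMorphism.ext (pullback.hom_ext ?_ ?_)
          · have := congrArg Over.Hom.left (show ((e ≫ u ≫ pE) ≫ t i) ≫ pE = (e ≫ u) ≫ pE by
              rw [Category.assoc, ht1, Category.comp_id, Category.assoc])
            exact this
          · have := congrArg Over.Hom.left (show ((e ≫ u ≫ pE) ≫ t i) ≫ pW = (e ≫ u) ≫ pW by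
              rw [Category.assoc, ht2, Category.assoc, Category.assoc, Category.assoc, h])
            exact this
        rw [← Scheme.Hom.comp_apply, ← Over.comp_left, heq]
      intro i j h
      induction i using Fin.lastCases with
      | last =>
        induction j using Fin.lastCases with
        | last => rfl
        | cast j => simp only [Fin.snoc_last, Fin.snoc_castSucc] at h; exact absurd h.symm (hne j)
      | cast i =>
        induction j using Fin.lastCases with
        | last => simp only [Fin.snoc_last, Fin.snoc_castSucc] at h; exact absurd h (hne i)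
        | cast j =>
          simp only [Fin.snoc_castSucc] at h
          exact congrArg Fin.castSucc (hinj Ω b (e ≫ u ≫ pE) (by simpa using h))

/-- The sum of a morphism over the fibres of a finite étale morphism. -/
theorem exists_sum (d : ℕ) (hd : ∀ v : V.left, f.left.finrank v = d) {B : Over (Spec (CommRingCat.of k))} [GrpObj B] [IsCommMonObj B]
    [IsSeparated B.hom] (h : W ⟶ B) :
    ∃ σ : V ⟶ B, ∀ (Ω : Type u) [Field Ω] [IsAlgClosed Ω] (b : Spec (CommRingCat.of Ω) ⟶ (Spec (CommRingCat.of k)))
      (v : Over.mk b ⟶ V) (g : Fin d → (Over.mk b ⟶ W)), Function.Injective g → (∀ i, g i ≫ f = v) →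
      v ≫ σ = ∏ i, g i ≫ h := by
  classical
  obtain ⟨E, π, s, hπe, hπs, hπq, -, hs, hinj⟩ := exists_split f d hd d le_rfl
  haveI := hπe
  haveI := hπs
  haveI := hπq
  have key : ∀ (Ω : Type u) [Field Ω] [IsAlgClosed Ω] (b : Spec (CommRingCat.of Ω) ⟶ (Spec (CommRingCat.of k)))
      (e : Over.mk b ⟶ E) (g : Fin d → (Over.mk b ⟶ W)), Function.Injective g → (∀ i, g i ≫ f = e ≫ π) →
      e ≫ (∏ i, s i ≫ h) = ∏ i, g i ≫ h := by
    intro Ω _ _ b e g hg hgf
    rw [show e ≫ (∏ i, s i ≫ h) = ∏ i, (e ≫ s i) ≫ h from
      (map_prod ({ toFun := fun x => e ≫ x, map_one' := MonObj.comp_one e,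
                   map_mul' := fun x y => MonObj.comp_mul e x y } : (E ⟶ B) →* (Over.mk b ⟶ B)) _ _).trans
        (Finset.prod_congr rfl fun i _ => (Category.assoc e (s i) h).symm)]
    let L := {x : Over.mk b ⟶ W // x ≫ f = e ≫ π}
    haveI : Finite L := by
      rcases Nat.eq_zero_or_pos d with h0 | h0
      · haveI : IsEmpty L := ⟨fun x => by
          haveI : Surjective π.left := hπs
          have hpos := Scheme.Hom.one_le_finrank_map f.left (x.1.left (IsLocalRing.closedPoint Ω))
          rw [hd, h0] at hpos
          omega⟩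
        infer_instance
      · exact Nat.finite_of_card_ne_zero (by rw [FibreCount.natCard_lifts f (e ≫ π), hd]; omega)
    have hcard : Nat.card L = d := by rw [FibreCount.natCard_lifts f (e ≫ π), hd]
    let a : Fin d → L := fun i => ⟨e ≫ s i, by rw [Category.assoc, hs]⟩
    let c : Fin d → L := fun i => ⟨g i, hgf i⟩
    have ha : Function.Bijective a := (Nat.bijective_iff_injective_and_card a).2
      ⟨fun i j hij => hinj Ω b e (congrArg Subtype.val hij), by rw [Nat.card_fin, hcard]⟩
    have hc : Function.Bijective c := (Nat.bijective_iff_injective_and_card c).2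
      ⟨fun i j hij => hg (congrArg Subtype.val hij), by rw [Nat.card_fin, hcard]⟩
    let σ := (Equiv.ofBijective a ha).trans (Equiv.ofBijective c hc).symm
    refine Fintype.prod_equiv σ _ _ fun i => ?_
    have : c (σ i) = a i := (Equiv.ofBijective c hc).apply_symm_apply _
    rw [show e ≫ s i = g (σ i) from (congrArg Subtype.val this).symm]
  have hR : IsReduced (pullback π.left π.left) := by
    haveI : Smooth π.left := inferInstance
    exact Lib.GrpSch.isReduced_of_smooth_field (pullback.fst π.left π.left ≫ π.left ≫ V.hom)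
  let R : Over (Spec (CommRingCat.of k)) := Over.mk (pullback.fst π.left π.left ≫ E.hom)
  haveI : IsReduced R.left := hR
  let r₁ : R ⟶ E := Over.homMk (pullback.fst π.left π.left) rfl
  let r₂ : R ⟶ E := Over.homMk (pullback.snd π.left π.left)
    (show pullback.snd π.left π.left ≫ E.hom = pullback.fst π.left π.left ≫ E.hom by
      rw [← Over.w π, pullback.condition_assoc])
  have hr : r₁ ≫ π = r₂ ≫ π := Over.OverMorphism.ext pullback.condition
  have hdesc : r₁ ≫ (∏ i, s i ≫ h) = r₂ ≫ (∏ i, s i ≫ h) := eq_of_geometric _ _ fun Ω _ _ b x => by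
    rw [← Category.assoc, ← Category.assoc, key Ω b (x ≫ r₂) (fun i => (x ≫ r₂) ≫ s i) (hinj Ω b _)
      (fun i => by rw [Category.assoc, hs]), key Ω b (x ≫ r₁) (fun i => (x ≫ r₂) ≫ s i) (hinj Ω b _)
      (fun i => by rw [Category.assoc, hs, Category.assoc, Category.assoc, hr])]
  haveI : IsRegularEpi π.left := inferInstance
  obtain ⟨σ₀, hσ₀⟩ : ∃ σ₀ : V.left ⟶ B.left, π.left ≫ σ₀ = (∏ i, s i ≫ h).left :=
    IsRegularEpi.exists_of_isKernelPair π.left (IsPullback.of_hasPullback π.left π.left) _
      (congrArg Over.Hom.left hdesc)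
  have hσw : σ₀ ≫ B.hom = V.hom := by
    haveI : Epi π.left := inferInstance
    rw [← cancel_epi π.left, reassoc_of% hσ₀, Over.w π, Over.w]
  refine ⟨Over.homMk σ₀ hσw, fun Ω _ _ b v g hg hgv => ?_⟩
  obtain ⟨p, hp⟩ := π.left.surjective (v.left (IsLocalRing.closedPoint Ω))
  let h₀ : pullback π.left v.left ⟶ Spec (CommRingCat.of Ω) := pullback.snd π.left v.left
  haveI : JacobsonSpace (pullback π.left v.left : Scheme.{u}) := LocallyOfFiniteType.jacobsonSpace h₀
  haveI : Surjective h₀ := inferInstanceAs (Surjective (pullback.snd π.left v.left))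
  haveI : Nonempty (pullback π.left v.left : Scheme.{u}) := ⟨(h₀.surjective (IsLocalRing.closedPoint Ω)).choose⟩
  obtain ⟨x, hx, -⟩ := nonempty_inter_closedPoints (Z := (Set.univ : Set (pullback π.left v.left : Scheme.{u}))) Set.univ_nonempty isOpen_univ.isLocallyClosed |>.imp fun x hx => (⟨hx.2, trivial⟩ : x ∈ closedPoints _ ∧ True)
  obtain ⟨⟨z, hz⟩, -⟩ := (pointEquivClosedPoint h₀).surjective ⟨x, hx⟩
  let e : Over.mk b ⟶ E := Over.homMk (z ≫ pullback.fst π.left v.left) (by
    show (z ≫ pullback.fst π.left v.left) ≫ E.hom = b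
    rw [Category.assoc, ← Over.w π, pullback.condition_assoc, Over.w v]
    exact ((Category.assoc _ _ _).symm.trans (congrArg (· ≫ b) hz)).trans (Category.id_comp _))
  have he : e ≫ π = v := by
    refine Over.OverMorphism.ext ?_
    show (z ≫ pullback.fst π.left v.left) ≫ π.left = v.left
    rw [Category.assoc, pullback.condition, ← Category.assoc]
    exact (congrArg (· ≫ v.left) hz).trans (Category.id_comp _)
  rw [← key Ω b e g hg (fun i => (hgv i).trans he.symm)]
  rw [← he, Category.assoc]
  exact congrArg (e ≫ ·) (Over.OverMorphism.ext hσ₀)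

end Groth.Agent.H63.SumPoints
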