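import Groth.Agent.S12398
import Groth.Agent.H63.HomLattice
import Groth.Agent.H63.CharPolyAV
import Mathlib.LinearAlgebra.Charpoly.ToMatrix
import Mathlib.LinearAlgebra.Charpoly.BaseChange

/-!
# Characteristic polynomials on Tate modules over any field

* `exists_charpoly`: an integer polynomial giving degrees is the characteristic polynomial on `T_l`
* `det_eq_deg`
-/

set_option autoImplicit false

universe u

open CategoryTheory MonoidalCategory CartesianMonoidalCategory AlgebraicGeometry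
open scoped MonObj GrpObj

namespace Groth.Agent.H63.TateEnd

variable {k : Type u} [Field k] (Ω : Type u) [Field Ω] [Algebra k Ω] [IsAlgClosed Ω]
  {A : Over (Spec (CommRingCat.of k))} [GrpObj A] [IsCommMonObj A] [IsProper A.hom]
  [GeometricallyIntegral A.hom] [IsIntegral A.left]

include Ω

theorem exists_charpoly {g : ℕ} (hg : topologicalKrullDim A.left = g) (f : EndAV.End A) :
    ∃ P : Polynomial ℤ, P.Monic ∧ P.natDegree = 2 * g ∧
      (∀ n : ℤ, (DegreeHom.deg (EndAV.End.toHom (f - (n : EndAV.End A))) : ℤ) = P.eval n) ∧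
      ∀ (l : ℕ) [Fact l.Prime], (l : k) ≠ 0 →
        ∀ [Module.Free ℤ_[l] (AbDual.TateMod A l (SGA7.pt (K := k) Ω))]
          [Module.Finite ℤ_[l] (AbDual.TateMod A l (SGA7.pt (K := k) Ω))],
          (AbDual.tateMapₗ (l := l) (T := SGA7.pt (K := k) Ω) f.toHom).charpoly =
            P.map (Int.castRingHom ℤ_[l]) := by
  obtain ⟨P, hm, hd, hP⟩ := CharPolyAV.exists_int hg f
  refine ⟨P, hm, hd, hP, fun l _ hl _ _ => ?_⟩
  haveI := AVBaseChange.isProper_bc Ω A
  haveI := AVBaseChange.geometricallyIntegral_bc Ω A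
  haveI := AVBaseChange.isCommMonObj_bc Ω A
  haveI : IsIntegral (AVBaseChange.bc Ω A).left :=
    GeometricallyIntegral.isIntegral_of_subsingleton (AVBaseChange.bc Ω A).hom
  let e := AVBaseChange.tateEquiv Ω A l
  haveI : Module.Free ℤ_[l] (AbDual.TateMod (AVBaseChange.bc Ω A) l (Over.mk (𝟙 (Spec (CommRingCat.of Ω))))) :=
    Module.Free.of_equiv e
  haveI : Module.Finite ℤ_[l] (AbDual.TateMod (AVBaseChange.bc Ω A) l (Over.mk (𝟙 (Spec (CommRingCat.of Ω))))) :=
    Module.Finite.equiv e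
  have hgΩ := AVBaseChange.topologicalKrullDim_bc Ω A hg
  let F := AVBaseChange.bcEnd Ω A
  have key : ∀ n : ℤ, (DegreeHom.deg (EndAV.End.toHom (F f - (n : EndAV.End (AVBaseChange.bc Ω A)))) : ℤ) =
      P.eval n := fun n => by
    have e1 : F f - (n : EndAV.End (AVBaseChange.bc Ω A)) = F (f - (n : EndAV.End A)) := by
      rw [map_sub, map_intCast]
    rw [e1, ← hP n]
    exact congrArg Nat.cast (AVBaseChange.deg_bc Ω hg hg (EndAV.End.toHom (f - (n : EndAV.End A))))
  have main := S12398.result Ω l (HomLattice.cast_ne_zero Ω hl) (AVBaseChange.bc Ω A)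
    ((AVBaseChange.F Ω).map f.toHom) P fun n => by
      have e2 : EndAV.End.toHom (F f - (n : EndAV.End (AVBaseChange.bc Ω A))) =
          (AVBaseChange.F Ω).map f.toHom * 𝟙 (AVBaseChange.bc Ω A) ^ (-n) := by
        rw [EndAV.End.toHom_sub, EndAV.End.toHom_intCast, div_eq_mul_inv, ← zpow_neg]
        rfl
      obtain ⟨d1, d2⟩ := DegreeHom.deg_prop hgΩ hgΩ
        (EndAV.End.toHom (F f - (n : EndAV.End (AVBaseChange.bc Ω A))))
      have h := key n
      rw [e2] at d1 d2 h
      exact ⟨fun hf a => by rw [d1 hf a, h], fun hf => by rw [← h, d2 hf, Nat.cast_zero]⟩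
  rw [← main]
  refine Eq.trans ?_ (LinearEquiv.charpoly_conj e.symm _)
  congr 1
  refine (AVBaseChange.tateMap_conj Ω l f.toHom).trans ?_
  exact LinearMap.ext fun x => rfl

theorem det_eq_deg {g : ℕ} (hg : topologicalKrullDim A.left = g) (f : EndAV.End A) (l : ℕ) [Fact l.Prime]
    (hl : (l : k) ≠ 0) [Module.Free ℤ_[l] (AbDual.TateMod A l (SGA7.pt (K := k) Ω))]
    [Module.Finite ℤ_[l] (AbDual.TateMod A l (SGA7.pt (K := k) Ω))] :
    LinearMap.det (AbDual.tateMapₗ (l := l) (T := SGA7.pt (K := k) Ω) f.toHom) =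
      (DegreeHom.deg f.toHom : ℤ_[l]) := by
  obtain ⟨P, hm, hd, hP, hc⟩ := exists_charpoly Ω hg f
  have h0 := hP 0
  rw [Int.cast_zero, sub_zero, ← Polynomial.coeff_zero_eq_eval_zero] at h0
  obtain ⟨-, -, hr⟩ := HomLattice.tate_free_finite Ω A l hl hg
  rw [LinearMap.det_eq_sign_charpoly_coeff, hc l hl, hr, pow_mul, neg_one_sq, one_pow, _root_.one_mul,
    Polynomial.coeff_map, ← h0, map_natCast]

end Groth.Agent.H63.TateEnd
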