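import Groth.Agent.H63.IsogenyDeg
import Groth.Agent.H63.PadicCoker
import Groth.Agent.H4.TateCoker

/-!
# The degree of an isogeny and the determinant on the Tate module

* `padicValNat_deg_eq`: `v_l(deg α) = v_l(det T_l α)`
-/

set_option autoImplicit false

universe u

open CategoryTheory MonoidalCategory CartesianMonoidalCategory AlgebraicGeometry
open scoped MonObj GrpObj

namespace Groth.Agent.H63.TateDet

theorem natCard_primaryComponent (G : Type*) [CommGroup G] [Finite G] (p : ℕ) [Fact p.Prime] :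
    Nat.card (CommGroup.primaryComponent G p) = p ^ padicValNat p (Nat.card G) := by
  have hG : IsPGroup p (CommGroup.primaryComponent G p) := CommGroup.primaryComponent.isPGroup
  obtain ⟨P, hP⟩ := hG.exists_le_sylow
  have hle : (P : Subgroup G) ≤ CommGroup.primaryComponent G p := fun g hg => by
    obtain ⟨j, hj⟩ := P.isPGroup' ⟨g, hg⟩
    exact CommGroup.mem_primaryComponent.2 ⟨j, congrArg Subtype.val hj⟩
  rw [le_antisymm hP hle, P.card_eq_multiplicity, Nat.factorization_def _ (Fact.out : p.Prime)]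

variable {k : Type u} [Field k]

local notation "T₀" => Over.mk (𝟙 (Spec (CommRingCat.of k)))

theorem not_dvd_ringExpChar {l : ℕ} (hlp : l.Prime) (hl : (l : k) ≠ 0) : ¬ l ∣ ringExpChar k := by
  have key : ∀ q : ℕ, ExpChar k q → ¬ l ∣ q := by
    intro q hq h
    cases hq with
    | zero => exact hlp.not_dvd_one h
    | prime hp =>
      rw [(Nat.prime_dvd_prime_iff_eq hlp hp).1 h, CharP.cast_eq_zero] at hl
      exact hl rfl
  exact key _ inferInstance

variable [IsAlgClosed k] {A B : Over (Spec (CommRingCat.of k))} [GrpObj A] [IsCommMonObj A] [IsProper A.hom]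
  [GeometricallyIntegral A.hom] [GrpObj B] [IsCommMonObj B] [IsProper B.hom] [GeometricallyIntegral B.hom]
  [IsIntegral A.left] [IsIntegral B.left] {l : ℕ} [hlp : Fact l.Prime]

/-- `v_l(deg α) = v_l(det T_l α)` for an isogeny `α`. -/
theorem padicValNat_deg_eq (hl : (l : k) ≠ 0) {r : ℕ} (hA : topologicalKrullDim A.left = r)
    (hB : topologicalKrullDim B.left = r) (α : A ⟶ B) [IsMonHom α] (hf : IsFinite α.left)
    {J : Type*} [Fintype J] [DecidableEq J] (bA : Module.Basis J ℤ_[l] (AbDual.TateMod A l T₀))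
    (bB : Module.Basis J ℤ_[l] (AbDual.TateMod B l T₀)) :
    padicValNat l (DegreeHom.deg α) =
        (LinearMap.toMatrix bA bB (AbDual.tateMapₗ (l := l) (T := T₀) α)).det.valuation ∧
      (LinearMap.toMatrix bA bB (AbDual.tateMapₗ (l := l) (T := T₀) α)).det ≠ 0 ∧
      0 < DegreeHom.deg α := by
  obtain ⟨e, he, hpos⟩ := IsogenyDeg.exists_natCard_kerPts hA hB α hf
  obtain ⟨N, _, j, hj, hN, hNc⟩ := H4.IsogenyFactor.exists_kernel α
  haveI := hNc
  haveI : IsClosedImmersion (η[B].left ≫ B.hom) := by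
    rw [Over.w η[B]]; exact (inferInstance : IsClosedImmersion (𝟙 (Spec (CommRingCat.of k))))
  haveI : IsClosedImmersion η[B].left := IsClosedImmersion.of_comp η[B].left B.hom
  haveI : IsClosedImmersion j.left :=
    MorphismProperty.of_isPullback (P := @IsClosedImmersion) (hN.map (Over.forget _)).flip ‹IsClosedImmersion η[B].left›
  haveI : Mono j := Over.mono_of_mono_left _
  have hif : ∀ x : T₀ ⟶ A, x ≫ α = 1 ↔ ∃ w, w ≫ j = x := fun x => by
    refine ⟨fun hx => ⟨hN.lift x (𝟙 _) (by rw [hx, Hom.one_def, toUnit_unique (toUnit T₀) (𝟙 _)]), hN.lift_fst _ _ _⟩, ?_⟩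
    rintro ⟨w, rfl⟩
    rw [Category.assoc, H4.KernelSquare.comp_eq_one α j hN, MonObj.comp_one]
  let E : (T₀ ⟶ N) ≃ {a : T₀ ⟶ A // a ≫ α = 1} := Equiv.ofBijective
    (fun w => ⟨w ≫ j, (hif _).2 ⟨w, rfl⟩⟩)
    ⟨fun w w' h => (cancel_mono j).1 (congrArg Subtype.val h),
      fun a => ⟨((hif a.1).1 a.2).choose, Subtype.ext ((hif a.1).1 a.2).choose_spec⟩⟩
  haveI : Finite (T₀ ⟶ N) := by
    haveI : Finite {a : T₀ ⟶ A // a ≫ α = 1} := Nat.finite_of_card_ne_zero hpos.ne'
    exact Finite.of_equiv _ E.symm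
  haveI := hf
  haveI := (DegreePoly.surjective_iff_isFinite A B hA hB α).1 hf
  obtain ⟨hinj, ⟨ec⟩⟩ := H4.TateCoker.exists_coker T₀ l α j hif
    (fun y => H4.AVPoints.exists_lift _ α y) (fun y => AVTorsPoints.exists_root A hlp.out.pos y)
  obtain ⟨hcard, hne⟩ := PadicCoker.natCard_coker bA bB _ hinj
  rw [Nat.card_congr (ec.toEquiv.trans Additive.toMul), natCard_primaryComponent, Nat.card_congr E] at hcard
  have hq : ringExpChar k ^ e ≠ 0 := pow_ne_zero _ (expChar_ne_zero k (ringExpChar k))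
  refine ⟨?_, hne, ?_⟩
  · rw [he, padicValNat.mul hpos.ne' hq, padicValNat.eq_zero_of_not_dvd
      (fun h => not_dvd_ringExpChar hlp.out hl (hlp.out.dvd_of_dvd_pow h)), Nat.add_zero]
    exact Nat.pow_right_injective hlp.out.two_le hcard
  · rw [he]
    exact Nat.mul_pos hpos (Nat.pos_of_ne_zero hq)

end Groth.Agent.H63.TateDet
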