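import Groth.Agent.H63.TwConstFppf
import Mathlib.AlgebraicGeometry.Morphisms.LocalFlatDescent
import Mathlib.AlgebraicGeometry.Morphisms.Separated

/-!
# Basic properties of quasi-isotrivial twisted constant schemes
-/

set_option autoImplicit false

universe u

open CategoryTheory CategoryTheory.Limits AlgebraicGeometry
open Groth.Agent.H52.FDesc.TwConstFinite

namespace Groth.Agent.H63.TwConstBasic

theorem constLike_of_iso {S S' : Scheme.{u}} {X : Over S} {f : S' ⟶ S} {I : Type u}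
    (e : Red.bc f X ≅ TwC.const S' I) : ∃ j, IsConstLike (pullback.snd X.hom f) I j :=
  ⟨_, (isConstLike_const S' I).of_iso ((Over.forget S').mapIso e.symm) (Over.w e.inv)⟩

theorem constLike_comp {S S' T : Scheme.{u}} {X : Over S} {f : S' ⟶ S} {I : Type u}
    {j : I → (S' ⟶ pullback X.hom f)} (h : IsConstLike (pullback.snd X.hom f) I j) (g : T ⟶ S') :
    ∃ j, IsConstLike (pullback.snd X.hom (g ≫ f)) I j :=
  ⟨_, (h.baseChange g).of_iso (pullbackLeftPullbackSndIso X.hom f g)
    (pullbackLeftPullbackSndIso_hom_snd X.hom f g)⟩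

/-- twisted constant schemes restrict along arbitrary morphisms -/
theorem isTwConst_baseChange {S T : Scheme.{u}} (X : Over S)
    (hX : TwC.IsTwConst TwC.Topology.etale X) (a : T ⟶ S) :
    TwC.IsTwConst TwC.Topology.etale (Red.bc a X) := by
  intro t
  obtain ⟨S', f, hf, ⟨s', hs'⟩, I, ⟨e⟩⟩ := hX (a t)
  obtain ⟨j, hj⟩ := constLike_of_iso e
  obtain ⟨w, -, hw⟩ := Scheme.Pullback.exists_preimage_pullback (f := f) (g := a) s' t hs'
  refine ⟨pullback f a, pullback.snd f a, inferInstance, ⟨w, hw⟩, I, ?_⟩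
  obtain ⟨j₁, hj₁⟩ := constLike_comp hj (pullback.fst f a)
  obtain ⟨j₂, hj₂⟩ := TwConstFppf.exists_congr pullback.condition ⟨j₁, hj₁⟩
  have h3 := hj₂.of_iso (pullbackLeftPullbackSndIso X.hom a (pullback.snd f a)).symm
    (p' := pullback.snd (Red.bc a X).hom (pullback.snd f a))
    (by
      rw [Iso.symm_hom, Iso.inv_comp_eq]
      exact (pullbackLeftPullbackSndIso_hom_snd X.hom a (pullback.snd f a)).symm)
  exact TwConstFppf.nonempty_iso_const h3

/-- quasi-compact etale charts over affine opens -/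
theorem exists_chart {S : Scheme.{u}} (X : Over S) (hX : TwC.IsTwConst TwC.Topology.etale X) (s : S) :
    ∃ (V : S.Opens) (_ : IsAffineOpen V) (Q : Scheme.{u}) (g : Q ⟶ (V : Scheme.{u})) (I : Type u)
      (j : I → (Q ⟶ pullback X.hom (g ≫ V.ι))),
      s ∈ V ∧ Etale g ∧ Surjective g ∧ QuasiCompact g ∧
        IsConstLike (pullback.snd X.hom (g ≫ V.ι)) I j := by
  obtain ⟨S', f, hf, hs, I, ⟨e⟩⟩ := hX s
  obtain ⟨_, ⟨V₁, hV, rfl⟩, hsV, hVf⟩ :=
    S.isBasis_affineOpens.exists_subset_of_mem_open hs f.isOpenMap.isOpen_range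
  let V : S.Opens := V₁
  change IsAffineOpen V at hV
  change (V : Set S) ⊆ _ at hVf
  change s ∈ (V : Set S) at hsV
  choose W hW hxW hWV using fun v : V => exists_isAffineOpen_mem_and_subset (x := (hVf v.2).choose)
    (U := f ⁻¹ᵁ V) (show f (hVf v.2).choose ∈ V by rw [(hVf v.2).choose_spec]; exact v.2)
  obtain ⟨F, hF⟩ := hV.isCompact.elim_finite_subcover (fun v : V => f '' (W v : Set S'))
    (fun v => f.isOpenMap _ (W v).2) fun x hx =>
      Set.mem_iUnion.mpr ⟨⟨x, hx⟩, _, hxW ⟨x, hx⟩, (hVf hx).choose_spec⟩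
  let Q : S'.Opens := ⟨⋃ v ∈ F, (W v : Set S'), isOpen_biUnion fun v _ => (W v).2⟩
  have hQ : Set.range (Q.ι ≫ f) ⊆ Set.range V.ι := by
    rw [Scheme.Opens.range_ι]
    rintro _ ⟨q, rfl⟩
    obtain ⟨v, -, hq⟩ := Set.mem_iUnion₂.1 q.2
    exact hWV v hq
  let g := IsOpenImmersion.lift V.ι (Q.ι ≫ f) hQ
  have hg : g ≫ V.ι = Q.ι ≫ f := IsOpenImmersion.lift_fac _ _ _
  have : Etale g := by
    have : Etale (g ≫ V.ι) := by rw [hg]; infer_instance
    exact Etale.of_comp g V.ι
  have : Surjective g := ⟨fun v => by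
    obtain ⟨w, hw, q, hq, hqv⟩ := Set.mem_iUnion₂.1 (hF (show (v.1 : S) ∈ (V : Set S) from v.2))
    refine ⟨⟨q, Set.mem_biUnion hw hq⟩, V.ι.isOpenEmbedding.injective ?_⟩
    rw [← Scheme.Hom.comp_apply, hg]
    exact hqv⟩
  have : QuasiCompact g := by
    have : IsAffine (V : Scheme.{u}) := hV
    rw [quasiCompact_iff_compactSpace]
    exact isCompact_iff_compactSpace.mp (F.finite_toSet.isCompact_biUnion fun v _ => (hW v).isCompact)
  obtain ⟨j, hj⟩ := constLike_of_iso e
  obtain ⟨j', hj'⟩ := TwConstFppf.exists_congr hg.symm (constLike_comp hj Q.ι)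
  exact ⟨V, hV, Q, g, I, j', hsV, inferInstance, inferInstance, inferInstance, hj'⟩

/-- a disjoint union of sections is etale -/
theorem etale_constLike {C T : Scheme.{u}} {p : C ⟶ T} {M : Type u} {j : M → (T ⟶ C)}
    (h : IsConstLike p M j) : Etale p := by
  have := h.isOpen
  let 𝒰 : C.OpenCover := Scheme.openCoverOfIsOpenCover C (fun m => (j m).opensRange) (by
    rw [TopologicalSpace.IsOpenCover, eq_top_iff]
    intro c _
    obtain ⟨m, t, ht⟩ := h.cover c
    exact TopologicalSpace.Opens.mem_iSup.2 ⟨m, t, ht⟩)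
  rw [IsZariskiLocalAtSource.iff_of_openCover (P := @Etale) 𝒰]
  intro m
  show Etale ((j m).opensRange.ι ≫ p)
  rw [← MorphismProperty.cancel_left_of_respectsIso @Etale (j m).isoOpensRange.hom,
    Scheme.Hom.isoOpensRange_hom_ι_assoc, h.sect]
  infer_instance

theorem isSeparated_constLike {C T : Scheme.{u}} {p : C ⟶ T} {M : Type u} {j : M → (T ⟶ C)}
    (h : IsConstLike p M j) : IsSeparated p := by
  have := h.isOpen
  -- the diagonal has closed range: its complement is the union of the products of distinct sheets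
  refine ⟨IsClosedImmersion.of_isPreimmersion _ ?_⟩
  rw [← isOpen_compl_iff, isOpen_iff_forall_mem_open]
  intro z hz
  obtain ⟨m, a, ha⟩ := h.cover (pullback.fst p p z)
  obtain ⟨n, b, hb⟩ := h.cover (pullback.snd p p z)
  refine ⟨pullback.fst p p ⁻¹' Set.range (j m) ∩ pullback.snd p p ⁻¹' Set.range (j n), ?_,
    ((j m).isOpenEmbedding.isOpen_range.preimage (pullback.fst p p).continuous).inter
      ((j n).isOpenEmbedding.isOpen_range.preimage (pullback.snd p p).continuous),
    ⟨⟨a, ha⟩, ⟨b, hb⟩⟩⟩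
  by_cases hmn : m = n
  · subst hmn
    exfalso
    -- over one sheet the product is the diagonal
    let O := pullback.fst p p ⁻¹ᵁ (j m).opensRange ⊓ pullback.snd p p ⁻¹ᵁ (j m).opensRange
    let l₁ := IsOpenImmersion.lift (j m) (O.ι ≫ pullback.fst p p) (by
      rintro _ ⟨y, rfl⟩; exact y.2.1)
    let l₂ := IsOpenImmersion.lift (j m) (O.ι ≫ pullback.snd p p) (by
      rintro _ ⟨y, rfl⟩; exact y.2.2)
    have hl₁ : l₁ ≫ j m = O.ι ≫ pullback.fst p p := IsOpenImmersion.lift_fac _ _ _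
    have hl₂ : l₂ ≫ j m = O.ι ≫ pullback.snd p p := IsOpenImmersion.lift_fac _ _ _
    have hl : l₁ = l₂ := by
      have h1 : (l₁ ≫ j m) ≫ p = (l₂ ≫ j m) ≫ p := by
        rw [hl₁, hl₂, Category.assoc, Category.assoc, pullback.condition]
      simpa [h.sect] using h1
    have hd : (O.ι ≫ pullback.fst p p) ≫ pullback.diagonal p = O.ι := by
      apply pullback.hom_ext
      · rw [Category.assoc, pullback.diagonal_fst, Category.comp_id]
      · rw [Category.assoc, pullback.diagonal_snd, Category.comp_id, ← hl₁, hl, hl₂]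
    refine hz ⟨(O.ι ≫ pullback.fst p p) ⟨z, ⟨a, ha⟩, ⟨b, hb⟩⟩, ?_⟩
    rw [← Scheme.Hom.comp_apply, hd]
    rfl
  · rintro y ⟨⟨a', ha'⟩, ⟨b', hb'⟩⟩ ⟨c, rfl⟩
    rw [← Scheme.Hom.comp_apply, pullback.diagonal_fst] at ha'
    rw [← Scheme.Hom.comp_apply, pullback.diagonal_snd] at hb'
    exact hmn (h.disj m n a' b' (ha'.trans hb'.symm))

theorem etale_and_isSeparated {S : Scheme.{u}} (X : Over S) (hX : TwC.IsTwConst TwC.Topology.etale X) :
    Etale X.hom ∧ IsSeparated X.hom := by
  choose V hV Q g I j hsV hge hgs hgq hj using exists_chart X hX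
  have hc : TopologicalSpace.IsOpenCover V := by
    rw [TopologicalSpace.IsOpenCover, eq_top_iff]
    intro s _
    exact TopologicalSpace.Opens.mem_iSup.2 ⟨s, hsV s⟩
  have key : ∀ (P : MorphismProperty Scheme.{u}) [IsZariskiLocalAtTarget P]
      [P.DescendsAlong (@Surjective ⊓ @Flat ⊓ @QuasiCompact)],
      (∀ s, P (pullback.snd X.hom (g s ≫ (V s).ι))) → P X.hom := by
    intro P _ _ hP
    rw [IsZariskiLocalAtTarget.iff_of_iSup_eq_top (P := P) V hc]
    intro s
    have := hge s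
    have := hgs s
    have := hgq s
    have hbig : IsPullback (pullback.fst _ _ ≫ (X.hom ⁻¹ᵁ V s).ι) (pullback.snd (X.hom ∣_ V s) (g s))
        X.hom (g s ≫ (V s).ι) :=
      (IsPullback.of_hasPullback _ _).paste_horiz (isPullback_morphismRestrict X.hom (V s)).flip
    refine MorphismProperty.of_pullback_snd_of_descendsAlong
      (Q := @Surjective ⊓ @Flat ⊓ @QuasiCompact) (g := g s) ⟨⟨‹_›, inferInstance⟩, ‹_›⟩ ?_
    rw [← hbig.isoPullback_hom_snd]
    exact (P.cancel_left_of_respectsIso hbig.isoPullback.hom _).mpr (hP s)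
  exact ⟨key @Etale fun s => etale_constLike (hj s),
    key @IsSeparated fun s => isSeparated_constLike (hj s)⟩

end Groth.Agent.H63.TwConstBasic
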