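import Groth.Agent.H52.FDesc.TwConstFinite
import Groth.Agent.H54.EtaleSep
import Groth.Agent.Lib.FinCond.Components
import Groth.Agent.S1375
import Mathlib.AlgebraicGeometry.Sites.Fpqc
import Mathlib.AlgebraicGeometry.Morphisms.FlatDescent
import Mathlib.AlgebraicGeometry.Morphisms.UniversallyOpen

/-!
# fppf-locally constant schemes over locally noetherian bases are etale-locally constant
-/

set_option autoImplicit false

universe u

open CategoryTheory CategoryTheory.Limits AlgebraicGeometry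
open Groth.Agent.H52.FDesc.TwConstFinite Groth.Agent.H54.GeomLift

namespace Groth.Agent.H63.TwConstFppf

/-- a disjoint union of sections is a constant scheme -/
theorem nonempty_iso_const {S T : Scheme.{u}} {X : Over S} {a : T ⟶ S} {M : Type u}
    {j : M → (T ⟶ pullback X.hom a)} (h : IsConstLike (pullback.snd X.hom a) M j) :
    Nonempty (Red.bc a X ≅ TwC.const T M) := by
  have := h.isOpen
  have : IsOpenImmersion (Sigma.desc j) := isOpenImmersion_sigmaDesc _ j fun m m' hmm => by
    rw [Function.onFun, Set.disjoint_left]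
    rintro _ ⟨t, rfl⟩ ⟨t', ht'⟩
    exact hmm (h.disj m m' t t' ht'.symm)
  have : IsIso (Sigma.desc j) := by
    apply isIso_of_isOpenImmersion_of_opensRange_eq_top
    rw [eq_top_iff]
    intro c _
    obtain ⟨m, t, ht⟩ := h.cover c
    refine ⟨Sigma.ι (fun _ : M => T) m t, ?_⟩
    rw [← Scheme.Hom.comp_apply, Sigma.ι_desc]
    exact ht
  refine ⟨(Over.isoMk (asIso (Sigma.desc j)) ?_).symm⟩
  show Sigma.desc j ≫ pullback.snd X.hom a = Sigma.desc fun _ : M => 𝟙 T
  exact Sigma.hom_ext _ _ fun m => by rw [Sigma.ι_desc_assoc, Sigma.ι_desc, h.sect]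

/-- two sections over a connected base agreeing at one point coincide -/
theorem sect_eq_of_point {C T : Scheme.{u}} {p : C ⟶ T} {M : Type u} {j : M → (T ⟶ C)}
    (h : IsConstLike p M j) [PreconnectedSpace T] (a b : T ⟶ C) (ha : a ≫ p = 𝟙 T) (hb : b ≫ p = 𝟙 T)
    (t : T) (ht : a t = b t) : a = b := by
  have := h.isOpen
  obtain ⟨m, t', hm⟩ := h.cover (a t)
  have key : ∀ c : T ⟶ C, c ≫ p = 𝟙 T → c t = j m t' → c = j m := by
    intro c hc hct
    have hclosed : IsClosed (Set.range (j m)) := by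
      have : (Set.range (j m))ᶜ = ⋃ n : {n : M // n ≠ m}, Set.range (j n.1) := by
        ext x
        simp only [Set.mem_compl_iff, Set.mem_iUnion]
        constructor
        · intro hx
          obtain ⟨n, y, hy⟩ := h.cover x
          exact ⟨⟨n, fun hn => hx ⟨y, hn ▸ hy⟩⟩, y, hy⟩
        · rintro ⟨⟨n, hn⟩, y, hy⟩ ⟨z, hz⟩
          exact hn (h.disj n m y z (hy.trans hz.symm))
      rw [← isOpen_compl_iff, this]
      exact isOpen_iUnion fun n => (j n.1).isOpenEmbedding.isOpen_range
    have huniv : c ⁻¹' Set.range (j m) = Set.univ :=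
      IsClopen.eq_univ ⟨hclosed.preimage c.continuous,
        (j m).isOpenEmbedding.isOpen_range.preimage c.continuous⟩ ⟨t, t', hct.symm⟩
    have hle : Set.range c ⊆ Set.range (j m) := by
      rintro _ ⟨y, rfl⟩
      exact (Set.eq_univ_iff_forall.1 huniv) y
    have hr := IsOpenImmersion.lift_fac (j m) c hle
    have h1 : IsOpenImmersion.lift (j m) c hle = 𝟙 T := by
      have := congrArg (· ≫ p) hr
      rw [Category.assoc, h.sect, Category.comp_id, hc] at this
      exact this
    rw [← hr, h1, Category.id_comp]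
  rw [key a ha hm.symm, key b hb (ht.symm.trans hm.symm)]

theorem hom_eq_of_point {S V C : Scheme.{u}} {X : Over S} {g : V ⟶ S} {M : Type u}
    {j : M → (V ⟶ pullback X.hom g)} (h : IsConstLike (pullback.snd X.hom g) M j)
    [PreconnectedSpace C] (k : C ⟶ V) (u v : C ⟶ X.left) (hu : u ≫ X.hom = k ≫ g)
    (hv : v ≫ X.hom = k ≫ g) {K : Type u} [Field K] (d : Spec (CommRingCat.of K) ⟶ C)
    (hd : d ≫ u = d ≫ v) : u = v := by
  let U : C ⟶ pullback X.hom g := pullback.lift u k hu
  let W : C ⟶ pullback X.hom g := pullback.lift v k hv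
  let A : C ⟶ pullback (pullback.snd X.hom g) k :=
    pullback.lift U (𝟙 C) (by rw [pullback.lift_snd, Category.id_comp])
  let B : C ⟶ pullback (pullback.snd X.hom g) k :=
    pullback.lift W (𝟙 C) (by rw [pullback.lift_snd, Category.id_comp])
  have hAB : A = B := by
    refine sect_eq_of_point (h.baseChange k) A B (pullback.lift_snd _ _ _) (pullback.lift_snd _ _ _)
      (pt d) ?_
    have hUW : d ≫ U = d ≫ W := by
      apply pullback.hom_ext
      · rw [Category.assoc, Category.assoc, pullback.lift_fst, pullback.lift_fst, hd]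
      · rw [Category.assoc, Category.assoc, pullback.lift_snd, pullback.lift_snd]
    have : d ≫ A = d ≫ B := by
      apply pullback.hom_ext
      · rw [Category.assoc, Category.assoc, pullback.lift_fst, pullback.lift_fst, hUW]
      · rw [Category.assoc, Category.assoc, pullback.lift_snd, pullback.lift_snd]
    exact congrArg pt this
  have h1 := congrArg (· ≫ pullback.fst _ _ ≫ pullback.fst X.hom g) hAB
  simp only [A, B] at h1
  rw [pullback.lift_fst_assoc, pullback.lift_fst_assoc] at h1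
  simp only [U, W] at h1
  rwa [pullback.lift_fst, pullback.lift_fst] at h1

theorem exists_congr {S T : Scheme.{u}} {X : Over S} {M : Type u} {a b : T ⟶ S} (hab : a = b)
    (h : ∃ j, IsConstLike (pullback.snd X.hom a) M j) :
    ∃ j, IsConstLike (pullback.snd X.hom b) M j := by
  subst hab
  exact h

theorem isTwConst_etale {S : Scheme.{u}} [IsLocallyNoetherian S] (X : Over S)
    (hX : TwC.IsTwConst TwC.Topology.fppf X) : TwC.IsTwConst TwC.Topology.etale X := by
  intro s
  obtain ⟨S', f, hf, hf', ⟨s', hs'⟩, I, ⟨e⟩⟩ := hX s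
  have h0 : IsConstLike (pullback.snd X.hom f) I fun m => Sigma.ι (fun _ : I => S') m ≫ e.inv.left :=
    (isConstLike_const S' I).of_iso ((Over.forget S').mapIso e.symm) (Over.w e.inv)
  -- a locally quasi-finite refinement
  let U₀ : S.Opens := ⟨Set.range f, f.isOpenMap.isOpen_range⟩
  let f₀ : S' ⟶ U₀ := IsOpenImmersion.lift U₀.ι f (by rw [Scheme.Opens.range_ι]; exact subset_rfl)
  have hf₀ : f₀ ≫ U₀.ι = f := IsOpenImmersion.lift_fac _ _ _
  have : Flat f₀ := by
    have : Flat (f₀ ≫ U₀.ι) := by rw [hf₀]; exact hf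
    exact MorphismProperty.of_postcomp (W := @Flat) (W' := @IsOpenImmersion) _ U₀.ι inferInstance this
  have : LocallyOfFinitePresentation f₀ := by
    have : LocallyOfFinitePresentation (f₀ ≫ U₀.ι) := by rw [hf₀]; exact hf'
    exact MorphismProperty.of_postcomp (W := @LocallyOfFinitePresentation) (W' := @IsOpenImmersion)
      _ U₀.ι inferInstance this
  have : Surjective f₀ := ⟨fun x => by
    obtain ⟨y, hy⟩ := x.2
    refine ⟨y, U₀.ι.isOpenEmbedding.injective ?_⟩
    rw [← Scheme.Hom.comp_apply, hf₀]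
    exact hy⟩
  obtain ⟨T, h, hh1, hh2, hh3, hh4, hloc⟩ := S1375.result f₀
  obtain ⟨t, ht⟩ := h.surjective ⟨s, s', hs'⟩
  obtain ⟨V₀, r, htV, hr⟩ := hloc t
  let g : (V₀ : Scheme.{u}) ⟶ S := V₀.ι ≫ h ≫ U₀.ι
  have hrf : r ≫ f = g := by rw [← hf₀, reassoc_of% hr]
  have : Flat g := inferInstance
  have : LocallyOfFinitePresentation g := inferInstance
  have : LocallyQuasiFinite g := inferInstance
  have hgt : g ⟨t, htV⟩ = s := by
    show (U₀.ι (h (V₀.ι ⟨t, htV⟩)) : S) = s
    rw [show V₀.ι ⟨t, htV⟩ = t from rfl, ht]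
    rfl
  have hV := (h0.baseChange r).of_iso (pullbackLeftPullbackSndIso X.hom f r)
    (pullbackLeftPullbackSndIso_hom_snd X.hom f r)
  obtain ⟨jV, hjV⟩ := exists_congr hrf ⟨_, hV⟩
  obtain ⟨K, _, _, xb, hxb⟩ := exists_pt_eq (V := (V₀ : Scheme.{u})) ⟨t, htV⟩
  obtain ⟨V', a, _, η, P, jP, _, p, hfin, hηa, -, huniq⟩ := H54.EtaleSep.exists_datum g xb
  let π : P ⟶ V' := jP ≫ pullback.snd g a
  let k₀ : P ⟶ V₀ := jP ≫ pullback.fst g a
  have hka : k₀ ≫ g = π ≫ a := by rw [Category.assoc, pullback.condition, Category.assoc]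
  have : Flat π := inferInstance
  have : LocallyOfFinitePresentation π := inferInstance
  have hav : a (pt η) = s := by
    rw [← pt_comp, hηa, pt_comp, hxb, hgt]
  -- the sections over P
  have hP := (hjV.baseChange k₀).of_iso (pullbackLeftPullbackSndIso X.hom g k₀)
    (pullbackLeftPullbackSndIso_hom_snd X.hom g k₀)
  obtain ⟨jP', hjP'⟩ := exists_congr hka ⟨_, hP⟩
  let sx : I → (P ⟶ X.left) := fun i => jP' i ≫ pullback.fst _ _
  have hsx : ∀ i, sx i ≫ X.hom = π ≫ a := fun i => by
    rw [Category.assoc, pullback.condition, ← Category.assoc, hjP'.sect, Category.id_comp]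
  -- the bad locus in the double product
  let D := pullback π π
  let q : D ⟶ V' := pullback.fst π π ≫ π
  have : IsFinite q := inferInstance
  have : LocallyOfFiniteType (q ≫ a) := inferInstance
  have : IsLocallyNoetherian D := LocallyOfFiniteType.isLocallyNoetherian (q ≫ a)
  have : LocallyConnectedSpace D := Lib.FinCond.locallyConnectedSpace_of_locally_noetherian fun x => by
    obtain ⟨_, ⟨U, hU, rfl⟩, hxU, -⟩ :=
      D.isBasis_affineOpens.exists_subset_of_mem_open (Set.mem_univ x) isOpen_univ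
    have : IsNoetherianRing Γ(D, U) := IsLocallyNoetherian.component_noetherian ⟨U, hU⟩
    exact ⟨U, U.2.mem_nhds hxU, noetherianSpace_of_isAffineOpen U hU⟩
  let W : Set D := ⋃ d ∈ q ⁻¹' {pt η}, connectedComponent d
  have hW : IsOpen W := isOpen_biUnion fun _ _ => isOpen_connectedComponent
  let N : Set V' := Set.range π ∩ (q '' Wᶜ)ᶜ
  have hN : IsOpen N := π.isOpenMap.isOpen_range.inter
    (q.isClosedMap _ hW.isClosed_compl).isOpen_compl
  have hηN : pt η ∈ N := by
    refine ⟨⟨pt p.1, apply_pt p⟩, ?_⟩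
    rintro ⟨d, hd, hdq⟩
    exact hd (Set.mem_biUnion (show d ∈ q ⁻¹' {pt η} from hdq) mem_connectedComponent)
  let Vn : V'.Opens := ⟨N, hN⟩
  let π' : pullback π Vn.ι ⟶ (Vn : Scheme.{u}) := pullback.snd π Vn.ι
  have : Surjective π' := ⟨fun v => by
    obtain ⟨y, hy⟩ := v.2.1
    obtain ⟨w, -, hw⟩ := Scheme.Pullback.exists_preimage_pullback (f := π) (g := Vn.ι) y v hy
    exact ⟨w, hw⟩⟩
  let k : pullback π Vn.ι ⟶ P := pullback.fst π Vn.ι
  have hdesc : ∀ (i : I) {Z : Scheme.{u}} (g₁ g₂ : Z ⟶ pullback π Vn.ι),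
      g₁ ≫ π' = g₂ ≫ π' → g₁ ≫ k ≫ sx i = g₂ ≫ k ≫ sx i := by
    intro i Z g₁ g₂ hg
    have hπ : (g₁ ≫ k) ≫ π = (g₂ ≫ k) ≫ π := by
      rw [Category.assoc, Category.assoc, pullback.condition, ← Category.assoc, ← Category.assoc]
      exact congrArg (· ≫ Vn.ι) hg
    let d : Z ⟶ D := pullback.lift (g₁ ≫ k) (g₂ ≫ k) hπ
    rw [← Category.assoc g₁ k, ← Category.assoc g₂ k,
      ← show d ≫ pullback.fst π π = g₁ ≫ k from pullback.lift_fst _ _ _,
      ← show d ≫ pullback.snd π π = g₂ ≫ k from pullback.lift_snd _ _ _]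
    let Wo : D.Opens := ⟨W, hW⟩
    have hrange : Set.range d ⊆ Set.range Wo.ι := by
      rw [Scheme.Opens.range_ι]
      rintro _ ⟨z, rfl⟩
      by_contra hz
      have hq : q (d z) = (Vn.ι (π' (g₁ z)) : V') := by
        rw [← Scheme.Hom.comp_apply, ← Scheme.Hom.comp_apply, ← Scheme.Hom.comp_apply]
        congr 1
        rw [← Category.assoc d, pullback.lift_fst, Category.assoc, pullback.condition]
      exact (π' (g₁ z)).2.2 ⟨d z, hz, hq⟩
    rw [← IsOpenImmersion.lift_fac Wo.ι d hrange]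
    simp only [Category.assoc]
    congr 1
    -- equality on each good component
    refine Scheme.Cover.hom_ext
      ((Wo : Scheme.{u}).openCoverOfIsOpenCover (fun w : Wo => ⟨connectedComponent w, ?_⟩) ?_) _ _
      fun w => ?_
    · have : LocallyConnectedSpace (Wo : Scheme.{u}) := Wo.ι.isOpenEmbedding.locallyConnectedSpace
      exact isOpen_connectedComponent
    · rw [TopologicalSpace.IsOpenCover, eq_top_iff]
      intro x _
      exact TopologicalSpace.Opens.mem_iSup.2 ⟨x, mem_connectedComponent⟩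
    obtain ⟨d₀, hd₀, hwd⟩ := Set.mem_iUnion₂.1 w.2
    have hcc : (connectedComponent d₀ : Set D) ⊆ W := fun x hx => Set.mem_biUnion hd₀ hx
    have : LocallyConnectedSpace (Wo : Scheme.{u}) := Wo.ι.isOpenEmbedding.locallyConnectedSpace
    let O : (Wo : Scheme.{u}).Opens := ⟨connectedComponent w, isOpen_connectedComponent⟩
    show O.ι ≫ Wo.ι ≫ pullback.fst π π ≫ sx i = O.ι ≫ Wo.ι ≫ pullback.snd π π ≫ sx i
    have : PreconnectedSpace (O : Scheme.{u}) :=
      Subtype.preconnectedSpace isPreconnected_connectedComponent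
    obtain ⟨o, ho⟩ : ∃ o : (O : Scheme.{u}), Wo.ι (O.ι o) = d₀ := by
      have hw' : connectedComponent d₀ = connectedComponent (w.1 : D) :=
        connectedComponent_eq hwd
      have hpre : _root_.IsPreconnected (Wo.ι ⁻¹' connectedComponent d₀) := by
        refine Wo.ι.isOpenEmbedding.isInducing.isPreconnected_image.1 ?_
        rw [Set.image_preimage_eq_of_subset (by rw [Scheme.Opens.range_ι]; exact hcc)]
        exact isPreconnected_connectedComponent
      exact ⟨⟨⟨d₀, hcc mem_connectedComponent⟩,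
        hpre.subset_connectedComponent (show w ∈ Wo.ι ⁻¹' connectedComponent d₀ from hwd)
          mem_connectedComponent⟩, rfl⟩
    let ι₂ : (O : Scheme.{u}) ⟶ D := O.ι ≫ Wo.ι
    have hd₀' : pt η = q (ι₂ o) := by
      rw [show ι₂ o = d₀ from ho]; exact hd₀.symm
    obtain ⟨⟨l, hl⟩, -⟩ := exists_lift (ι₂ ≫ q) η o hd₀'.symm
    have hl1 : (l ≫ ι₂ ≫ pullback.fst π π) ≫ π = η := by
      rw [Category.assoc, Category.assoc]; exact hl
    have hl2 : (l ≫ ι₂ ≫ pullback.snd π π) ≫ π = η := by
      rw [Category.assoc, Category.assoc, ← pullback.condition]; exact hl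
    have hfst : l ≫ ι₂ ≫ pullback.fst π π = p.1 := congrArg Subtype.val (huniq ⟨_, hl1⟩)
    have hsnd : l ≫ ι₂ ≫ pullback.snd π π = p.1 := congrArg Subtype.val (huniq ⟨_, hl2⟩)
    have e1 := hom_eq_of_point hjP' (ι₂ ≫ pullback.fst π π) (ι₂ ≫ pullback.fst π π ≫ sx i)
      (ι₂ ≫ pullback.snd π π ≫ sx i) (by simp only [Category.assoc, hsx])
      (by simp only [Category.assoc, hsx]; rw [pullback.condition_assoc]) l
      (by rw [reassoc_of% hfst, reassoc_of% hsnd])
    simpa only [ι₂, Category.assoc] using e1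
  let σ : I → ((Vn : Scheme.{u}) ⟶ X.left) := fun i => EffectiveEpi.desc π' (k ≫ sx i) (hdesc i)
  have hσ : ∀ i, π' ≫ σ i = k ≫ sx i := fun i => EffectiveEpi.fac π' _ (hdesc i)
  let b : (Vn : Scheme.{u}) ⟶ S := Vn.ι ≫ a
  have hσX : ∀ i, σ i ≫ X.hom = b := fun i => by
    rw [← cancel_epi π', reassoc_of% hσ i, hsx, ← Category.assoc, pullback.condition, Category.assoc]
  let τ : I → ((Vn : Scheme.{u}) ⟶ pullback X.hom b) := fun i =>
    pullback.lift (σ i) (𝟙 _) (by rw [hσX, Category.id_comp])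
  have hτ : ∀ i, τ i ≫ pullback.snd X.hom b = 𝟙 _ := fun i => pullback.lift_snd _ _ _
  have hcmp : k ≫ π ≫ a = π' ≫ b := by rw [pullback.condition_assoc]
  have hk := (hjP'.baseChange k).of_iso (pullbackLeftPullbackSndIso X.hom (π ≫ a) k)
    (pullbackLeftPullbackSndIso_hom_snd X.hom (π ≫ a) k)
  let Φ : pullback X.hom (k ≫ π ≫ a) ⟶ pullback X.hom b :=
    pullback.map _ _ _ _ (𝟙 _) π' (𝟙 _) (by simp) (by rw [Category.comp_id, hcmp])
  have hΦ : ∀ i, (pullback.lift (k ≫ jP' i) (𝟙 _) (by
      rw [Category.assoc, hjP'.sect, Category.comp_id, Category.id_comp]) ≫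
        (pullbackLeftPullbackSndIso X.hom (π ≫ a) k).hom) ≫ Φ = π' ≫ τ i := by
    intro i
    apply pullback.hom_ext
    · simp only [Φ, τ, Category.assoc, pullback.lift_fst, Category.comp_id,
        pullbackLeftPullbackSndIso_hom_fst, pullback.lift_fst_assoc, hσ]
      rfl
    · simp only [Φ, τ, Category.assoc, pullback.lift_snd, Category.comp_id,
        pullbackLeftPullbackSndIso_hom_snd_assoc, pullback.lift_snd_assoc, Category.id_comp]
  have hΦsq : IsPullback Φ (pullback.snd X.hom (k ≫ π ≫ a)) (pullback.snd X.hom b) π' := by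
    refine IsPullback.of_right ?_ (pullback.lift_snd _ _ _) (IsPullback.of_hasPullback X.hom b)
    rw [pullback.lift_fst, Category.comp_id, ← hcmp]
    exact IsPullback.of_hasPullback X.hom (k ≫ π ≫ a)
  have : Surjective Φ := MorphismProperty.of_isPullback hΦsq.flip ‹Surjective π'›
  have : QuasiCompact Φ := MorphismProperty.of_isPullback hΦsq.flip (inferInstance : QuasiCompact π')
  have : Flat Φ := MorphismProperty.of_isPullback hΦsq.flip (inferInstance : Flat π')
  have hpb : ∀ i, IsPullback π' (pullback.lift (k ≫ jP' i) (𝟙 _) (by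
      rw [Category.assoc, hjP'.sect, Category.comp_id, Category.id_comp]) ≫
        (pullbackLeftPullbackSndIso X.hom (π ≫ a) k).hom) (τ i) Φ := fun i => by
    refine IsPullback.of_bot ?_ (hΦ i).symm hΦsq
    rw [hτ, hk.sect]
    exact IsPullback.of_vert_isIso ⟨by rw [Category.id_comp, Category.comp_id]⟩
  have hτa : ∀ i v, pullback.snd X.hom b (τ i v) = v := fun i v => by
    rw [← Scheme.Hom.comp_apply, hτ]; rfl
  have key : IsConstLike (pullback.snd X.hom b) I τ := by
    refine ⟨fun i => ?_, hτ, fun c => ?_, fun m m' v v' e => ?_⟩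
    · exact MorphismProperty.of_isPullback_of_descendsAlong
        (P := @IsOpenImmersion) (Q := @Surjective ⊓ @Flat ⊓ @QuasiCompact) (hpb i).flip
        ⟨⟨‹_›, ‹_›⟩, ‹_›⟩ (hk.isOpen i)
    · obtain ⟨c', rfl⟩ := Φ.surjective c
      obtain ⟨m, y, rfl⟩ := hk.cover c'
      refine ⟨m, π' y, ?_⟩
      rw [← Scheme.Hom.comp_apply, ← Scheme.Hom.comp_apply, ← hΦ m]
    · obtain ⟨y, rfl⟩ := π'.surjective v
      have h' := congrArg (pullback.snd X.hom b) e
      rw [hτa, hτa] at h'
      have : v' = π' y := h'.symm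
      subst this
      obtain ⟨z, hz1, hz2⟩ := H52.FDesc.EmbDescent.exists_lift hΦsq
        (x := y) (y' := τ m (π' y)) (hτa m _)
      obtain ⟨n, y', rfl⟩ := hk.cover z
      have hy' : y' = y := by
        rw [← Scheme.Hom.comp_apply, hk.sect] at hz2
        exact hz2
      subst hy'
      rw [← Scheme.Hom.comp_apply, hΦ n, Scheme.Hom.comp_apply] at hz1
      have inj : ∀ l, τ l (π' y') = τ n (π' y') → l = n := fun l hl => by
        obtain ⟨z', hz'1, hz'2⟩ := H52.FDesc.EmbDescent.exists_lift (hpb l).flip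
          (x := π' y') (y' := (pullback.lift (k ≫ jP' n) (𝟙 _) (by
            rw [Category.assoc, hjP'.sect, Category.comp_id, Category.id_comp]) ≫
              (pullbackLeftPullbackSndIso X.hom (π ≫ a) k).hom) y') (by
            rw [hl, ← Scheme.Hom.comp_apply, hΦ]; rfl)
        exact hk.disj l n z' y' hz'1
      exact (inj m hz1.symm).trans (inj m' (e.symm.trans hz1.symm)).symm
  refine ⟨Vn, b, inferInstance, ⟨⟨pt η, hηN⟩, ?_⟩, I, nonempty_iso_const key⟩
  rw [Scheme.Hom.comp_apply]
  exact hav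

end Groth.Agent.H63.TwConstFppf
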