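import Groth.Agent.H63.TwConstBasic
import Groth.Agent.Lib.Henselian.FinitePart
import Groth.Agent.Lib.Henselian.Finite
import Groth.Agent.Lib.SourceDescent.Scheme

/-!
# Étale separated schemes and twisted constant schemes over henselian local rings

* `exists_clopen_local`: finite scheme: clopen affine of generisations of a closed-fibre point
* `exists_nhd`, `fromSpecStalk_props`, `exists_closed_point`
-/

universe u

open CategoryTheory Limits AlgebraicGeometry IsLocalRing TopologicalSpace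
open Groth.Agent.Lib.Henselian

namespace Groth.Agent.H63.TwConstHenselian

variable {R : Type u} [CommRing R] [HenselianLocalRing R]

theorem exists_clopen_local {Y : Scheme.{u}} (f : Y ⟶ Spec (CommRingCat.of R)) [IsFinite f] (x : Y)
    (hx : f x = closedPoint R) :
    ∃ V : Y.Opens, x ∈ V ∧ IsClosed (V : Set Y) ∧ IsAffineOpen V ∧ ∀ y ∈ V, y ⤳ x := by
  have : IsAffine Y := isAffine_of_isAffineHom f
  let B := Γ(Y, ⊤)
  let φ : R →+* B := f.appTop.hom.comp (Scheme.ΓSpecIso (CommRingCat.of R)).inv.hom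
  let : Algebra R B := φ.toAlgebra
  have hf : φ.Finite := by
    refine RingHom.Finite.comp (f.finite_app ⊤ (isAffineOpen_top _)) (RingHom.Finite.of_surjective _ ?_)
    exact (ConcreteCategory.bijective_of_isIso (Scheme.ΓSpecIso (CommRingCat.of R)).inv).2
  have : Module.Finite R B := hf
  have hclx : IsClosed ({x} : Set Y) := by
    have h1 : IsClosed (f ⁻¹' {closedPoint R}) :=
      ((PrimeSpectrum.isClosed_singleton_iff_isMaximal _).mpr (maximalIdeal.isMaximal R)).preimage f.continuous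
    have h2 : _root_.IsDiscrete (f ⁻¹' {closedPoint R}) := f.isDiscrete_preimage_singleton _
    refine isClosed_of_closure_subset fun y hy => ?_
    exact (h2.eq_of_specializes (specializes_iff_mem_closure.mpr hy) hx
      (closure_minimal (t := f ⁻¹' {closedPoint R}) (Set.singleton_subset_iff.mpr hx) h1 hy)).symm
  let e := Y.isoSpec
  have hp : (e.hom x).asIdeal.IsMaximal := by
    rw [← PrimeSpectrum.isClosed_singleton_iff_isMaximal, ← Set.image_singleton]
    exact e.hom.homeomorph.isClosedMap _ hclx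
  let n : MaximalSpectrum B := ⟨_, hp⟩
  obtain ⟨ε, hε, hεn, hεn'⟩ :=
    Finite.exists_idempotent_maximal (Pair.idempotents_bijOn (maximalIdeal R) B).surjOn n
  refine ⟨e.hom ⁻¹ᵁ PrimeSpectrum.basicOpen ε, hεn, ?_, ?_, fun y hy => ?_⟩
  · exact ((PrimeSpectrum.isClopen_iff.mpr ⟨ε, hε, rfl⟩).preimage e.hom.continuous).1
  · exact (IsAffineOpen.Spec_basicOpen ε).preimage_of_isIso e.hom
  · rw [← e.hom.isOpenEmbedding.isInducing.specializes_iff]
    refine (PrimeSpectrum.le_iff_specializes _ _).1 ?_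
    obtain ⟨m, hm, hle⟩ := (e.hom y).asIdeal.exists_le_maximal (e.hom y).isPrime.ne_top
    by_cases hmn : (⟨m, hm⟩ : MaximalSpectrum B) = n
    · exact hle.trans_eq (congrArg MaximalSpectrum.asIdeal hmn)
    · have h1 : 1 - ε ∈ (e.hom y).asIdeal :=
        ((e.hom y).isPrime.mem_or_mem (by
          rw [mul_sub, mul_one, hε.eq, sub_self]; exact zero_mem _ : ε * (1 - ε) ∈ _)).resolve_left hy
      exact (hm.ne_top ((Ideal.eq_top_iff_one _).mpr
        (by simpa using m.add_mem (hεn' _ hmn) (hle h1)))).elim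

theorem exists_nhd {X : Scheme.{u}} (f : X ⟶ Spec (CommRingCat.of R)) [Etale f] [IsSeparated f] (x : X)
    (hx : f x = closedPoint R) :
    ∃ V : X.Opens, x ∈ V ∧ IsClosed (V : Set X) ∧ IsAffineOpen V ∧ (∀ y ∈ V, y ⤳ x) ∧
      IsFinite (V.ι ≫ f) := by
  obtain ⟨U, hU, hxU, -⟩ := exists_isAffineOpen_mem_and_subset (x := x) (U := ⊤) trivial
  have : IsAffine U.toScheme := hU
  have : LocallyQuasiFinite (U.ι ≫ f) := Lib.SourceDescent.Scheme.locallyQuasiFinite_of_etale _
  obtain ⟨W, ⟨-, hW, hWx⟩, -⟩ := FinitePart.existsUnique_finitePart (U.ι ≫ f)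
  have hxW : (⟨x, hxU⟩ : U.toScheme) ∈ W := hWx _ hx
  let ι : W.toScheme ⟶ X := W.ι ≫ U.ι
  have hι : IsFinite (ι ≫ f) := by simpa [ι] using hW
  obtain ⟨V₀, hxV, hVc, hVa, hVs⟩ :=
    exists_clopen_local (ι ≫ f) (⟨⟨x, hxU⟩, hxW⟩ : W.toScheme) (by simpa [ι] using hx)
  have : UniversallyClosed ι := UniversallyClosed.of_comp_of_isSeparated ι f
  refine ⟨ι ''ᵁ V₀, ⟨_, hxV, rfl⟩, ι.isClosedMap _ hVc, hVa.image_of_isOpenImmersion ι, ?_, ?_⟩
  · rintro _ ⟨y, hy, rfl⟩
    exact (hVs y hy).map ι.continuous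
  · have : IsClosedImmersion V₀.ι := IsClosedImmersion.of_isPreimmersion _ (by
      rw [Scheme.Opens.range_ι]; exact hVc)
    have h2 : (ι.isoImage V₀).inv ≫ V₀.ι ≫ ι ≫ f = (ι ''ᵁ V₀).ι ≫ f := by
      rw [← Category.assoc, ← Category.assoc, Category.assoc _ V₀.ι, Scheme.Hom.isoImage_inv_ι]
    rw [← h2]
    infer_instance

theorem fromSpecStalk_props {X : Scheme.{u}} (f : X ⟶ Spec (CommRingCat.of R)) [Etale f] [IsSeparated f]
    (x : X) (hx : f x = closedPoint R) :
    IsOpenImmersion (X.fromSpecStalk x) ∧ IsClosedImmersion (X.fromSpecStalk x) ∧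
      IsFinite (X.fromSpecStalk x ≫ f) ∧ Etale (X.fromSpecStalk x ≫ f) ∧
      Surjective (X.fromSpecStalk x ≫ f) := by
  obtain ⟨V, hxV, hVc, hVa, hVs, hVf⟩ := exists_nhd f x hx
  have hrange : Set.range (X.fromSpecStalk x) = V := by
    rw [Scheme.range_fromSpecStalk]
    exact Set.ext fun y => ⟨fun h => h.mem_open V.isOpen hxV, hVs y⟩
  have ho : IsOpenImmersion (X.fromSpecStalk x) := by
    rw [← hVa.fromSpecStalk_eq_fromSpecStalk hxV, IsAffineOpen.fromSpecStalk]
    let := TopCat.Presheaf.algebra_section_stalk X.presheaf (⟨x, hxV⟩ : V)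
    have := hVa.isLocalization_stalk ⟨x, hxV⟩
    have hu : ∀ a ∈ (hVa.primeIdealOf ⟨x, hxV⟩).asIdeal.primeCompl, IsUnit a := by
      intro a ha
      by_contra hc
      obtain ⟨m, hm, ham⟩ := exists_max_ideal_of_mem_nonunits (mem_nonunits_iff.mpr hc)
      have hq : hVa.fromSpec ⟨m, hm.isPrime⟩ ⤳ hVa.fromSpec (hVa.primeIdealOf ⟨x, hxV⟩) := by
        rw [hVa.fromSpec_primeIdealOf]
        refine hVs _ ?_
        rw [← SetLike.mem_coe, ← hVa.range_fromSpec]
        exact ⟨_, rfl⟩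
      exact ha ((PrimeSpectrum.le_iff_specializes _ _).2
        (hVa.fromSpec.isOpenEmbedding.isInducing.specializes_iff.1 hq) ham)
    have hg : IsIso (X.presheaf.germ V x hxV) :=
      (ConcreteCategory.isIso_iff_bijective _).mpr
        ((IsLocalization.atUnits _ _ hu).bijective)
    infer_instance
  have hc : IsClosedImmersion (X.fromSpecStalk x) := IsClosedImmersion.of_isPreimmersion _ (hrange ▸ hVc)
  have hfin : IsFinite (X.fromSpecStalk x ≫ f) := by
    rw [← IsOpenImmersion.isoOfRangeEq_hom_fac (X.fromSpecStalk x) V.ι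
      (by rw [hrange, Scheme.Opens.range_ι]), Category.assoc]
    infer_instance
  refine ⟨ho, hc, hfin, inferInstance, ⟨fun t => ?_⟩⟩
  refine (specializes_closedPoint t).mem_open (X.fromSpecStalk x ≫ f).isOpenMap.isOpen_range ?_
  exact ⟨closedPoint _, by rw [Scheme.Hom.comp_apply, Scheme.fromSpecStalk_closedPoint]; exact hx⟩

theorem exists_closed_point (X : Over (Spec (CommRingCat.of R)))
    (hX : TwC.IsTwConst TwC.Topology.etale X) (y : X.left) :
    ∃ x : X.left, X.hom x = closedPoint R ∧ y ⤳ x := by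
  obtain ⟨V, hV, Q, g, I, j, hsV, hge, hgs, hgq, hj⟩ := TwConstBasic.exists_chart X hX (closedPoint R)
  have hVt : ∀ p, p ∈ V := fun p => (specializes_closedPoint p).mem_open V.isOpen hsV
  have : Surjective V.ι := ⟨fun p => ⟨⟨p, hVt p⟩, rfl⟩⟩
  obtain ⟨U, hUf, hUs⟩ := FinitePart.exists_finite_surjective_open (g ≫ V.ι)
  obtain ⟨u₀, hu₀⟩ := (U.ι ≫ g ≫ V.ι).surjective (X.hom y)
  obtain ⟨z, hz1, hz2⟩ := Scheme.Pullback.exists_preimage_pullback (f := X.hom) (g := g ≫ V.ι) y
    (U.ι u₀) hu₀.symm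
  obtain ⟨m, t, rfl⟩ := hj.cover z
  have ht : t = U.ι u₀ := by
    rw [← hz2, ← Scheme.Hom.comp_apply, hj.sect]
    rfl
  subst ht
  obtain ⟨u₁, hu₁, hu₁'⟩ : ∃ u₁ : U.toScheme, u₀ ⤳ u₁ ∧ (U.ι ≫ g ≫ V.ι) u₁ = closedPoint R := by
    obtain ⟨u₁, h1, h2⟩ := (specializes_closedPoint ((U.ι ≫ g ≫ V.ι) u₀)).mem_closed
      ((U.ι ≫ g ≫ V.ι).isClosedMap _ isClosed_closure) ⟨u₀, subset_closure (Set.mem_singleton u₀), rfl⟩
    exact ⟨u₁, specializes_iff_mem_closure.mpr h1, h2⟩
  let h : U.toScheme ⟶ X.left := U.ι ≫ j m ≫ pullback.fst _ _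
  refine ⟨h u₁, ?_, ?_⟩
  · rw [← hu₁', ← Scheme.Hom.comp_apply]
    congr 1
    simp only [h, Category.assoc, pullback.condition]
    rw [← Category.assoc (j m), hj.sect, Category.id_comp]
  · rw [← hz1]
    exact hu₁.map h.continuous

theorem existsUnique_closed_point {X : Scheme.{u}} (f : X ⟶ Spec (CommRingCat.of R)) [Etale f]
    [IsSeparated f] {x x' y : X} (hx : f x = closedPoint R) (hx' : f x' = closedPoint R) (h : y ⤳ x)
    (h' : y ⤳ x') : x = x' := by
  have key : ∀ {x x' : X}, f x = closedPoint R → y ⤳ x → y ⤳ x' → x' ⤳ x := by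
    intro a b ha hya hyb
    obtain ⟨V, haV, hVc, -, hVs, -⟩ := exists_nhd f a ha
    exact hVs _ (hyb.mem_closed hVc (hya.mem_open V.isOpen haV))
  exact ((key hx' h' h).antisymm (key hx h h')).eq

end Groth.Agent.H63.TwConstHenselian
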