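import Groth.Agent.H63.TwConstBasic
import Groth.Agent.Lib.Unram.UnibranchEtale
import Groth.Agent.S9812
import Groth.Agent.Lib.EtSite.FieldExt
import Groth.Agent.Lib.FinCond.Components
import Mathlib.AlgebraicGeometry.ValuativeCriterion
import Mathlib.AlgebraicGeometry.ZariskisMainTheorem
import Mathlib.AlgebraicGeometry.Morphisms.FlatMono

/-!
# Twisted constant schemes over geometrically unibranch bases
-/

set_option autoImplicit false

universe u

open CategoryTheory CategoryTheory.Limits AlgebraicGeometry
open Groth.Agent.H52.FDesc.TwConstFinite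

namespace Groth.Agent.H63.TwConstUnibranch

open Groth.Agent.Lib.Unram

variable {S : Scheme.{u}}

theorem isClosed_component {X : Scheme.{u}} (Z : Set X) (hZ : Z ∈ irreducibleComponents ↥X) :
    IsClosed Z := isClosed_of_mem_irreducibleComponents Z hZ

theorem connectedComponent_eq {X : Scheme.{u}} (x : X) (Z : Set X) (hZ : Z ∈ irreducibleComponents ↥X)
    (ho : IsOpen Z) (hx : x ∈ Z) : connectedComponent x = Z := by
  apply subset_antisymm
  · exact (IsClopen.connectedComponent_subset ⟨isClosed_component Z hZ, ho⟩ hx)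
  · exact hZ.1.isPreirreducible.isPreconnected.subset_connectedComponent hx

variable [IrreducibleSpace S] (hS : ∀ s : S, CAlg2.IsGeomUnibranch (S.presheaf.stalk s))
  (X : Over S) (hX : TwC.IsTwConst TwC.Topology.etale X)

include hS hX in
/-- irreducible components are clopen and finite over the base -/
theorem isFinite_component (Z : X.left.Opens) (hZ : (Z : Set X.left) ∈ irreducibleComponents ↥X.left) :
    IsFinite (Z.ι ≫ X.hom) := by
  have hE := (TwConstBasic.etale_and_isSeparated X hX).1
  have : IsClosedImmersion Z.ι := IsClosedImmersion.of_isPreimmersion _ (by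
    rw [Scheme.Opens.range_ι]; exact isClosed_component _ hZ)
  obtain ⟨-, ζ, ⟨hζZ, hζ⟩, hζu⟩ := (UnibranchEtale.components X.hom hS).2 Z hZ
  let h := Z.ι ≫ X.hom
  have : LocallyQuasiFinite h := Groth.Agent.Lib.EtSite.FieldExt.locallyQuasiFinite_of_etale h
  have hfib : (h ⁻¹' {genericPoint S}).Finite := by
    refine Set.Subsingleton.finite fun a ha b hb => Z.ι.isOpenEmbedding.injective ?_
    exact (hζu _ ⟨a.2, ha⟩).trans (hζu _ ⟨b.2, hb⟩).symm
  refine isFinite_of_local h fun s V hsV => ?_
  obtain ⟨S', f, hf, ⟨s', rfl⟩, I, ⟨e⟩⟩ := hX s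
  obtain ⟨T, hT, hsT, hTV⟩ := exists_isAffineOpen_mem_and_subset (x := s') (U := f ⁻¹ᵁ V) hsV
  have : IsAffine (T : Scheme.{u}) := hT
  let g := T.ι ≫ f
  have : Etale g := inferInstance
  refine ⟨T, g, inferInstance, inferInstance, g.isOpenMap.isOpen_range, ⟨⟨s', hsT⟩, rfl⟩,
    by rintro _ ⟨t, rfl⟩; exact hTV t.2, ?_⟩
  obtain ⟨j₀, hj₀⟩ := TwConstBasic.constLike_of_iso e
  obtain ⟨j, hj⟩ := TwConstBasic.constLike_comp hj₀ T.ι
  let q : pullback h g ⟶ pullback X.hom g :=
    pullback.lift (pullback.fst _ _ ≫ Z.ι) (pullback.snd _ _) (by rw [Category.assoc, pullback.condition])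
  have sq : IsPullback (pullback.fst h g) q Z.ι (pullback.fst X.hom g) := by
    refine IsPullback.of_bot ?_ (pullback.lift_fst _ _ _).symm (IsPullback.of_hasPullback X.hom g)
    rw [pullback.lift_snd]
    exact IsPullback.of_hasPullback h g
  have hqc : IsClosedImmersion q := MorphismProperty.of_isPullback sq ‹IsClosedImmersion Z.ι›
  have hqo : IsOpenImmersion q := MorphismProperty.of_isPullback sq (inferInstance : IsOpenImmersion Z.ι)
  have hqs : q ≫ pullback.snd X.hom g = pullback.snd h g := pullback.lift_snd _ _ _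
  -- the components of the affine chart
  obtain ⟨hTu, hTc⟩ := UnibranchEtale.components g hS
  obtain ⟨F, hF⟩ := (isCompact_univ (X := (T : Scheme.{u}))).elim_finite_subcover
    (fun t : (T : Scheme.{u}) => irreducibleComponent t)
    (fun t => (hTc _ (irreducibleComponent_mem_irreducibleComponents t)).1)
    fun t _ => Set.mem_iUnion.2 ⟨t, mem_irreducibleComponent⟩
  let Ms : ↥(T : Scheme.{u}) → Set I := fun t =>
    {m | ∃ t' : ↥(T : Scheme.{u}), t' ∈ irreducibleComponent t ∧ j m t' ∈ Set.range q}
  have hMs : ∀ t, (Ms t).Finite := by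
    intro t
    obtain ⟨-, ξ, ⟨hξt, hξ⟩, -⟩ := hTc _ (irreducibleComponent_mem_irreducibleComponents t)
    have hfinξ : (pullback.snd h g ⁻¹' {ξ}).Finite :=
      Groth.Agent.H54.GeomLift.finite_fibre_of_isPullback (IsPullback.of_hasPullback h g) ξ
        (by rw [hξ]; exact hfib)
    have hmem : ∀ m ∈ Ms t, j m ξ ∈ q '' (pullback.snd h g ⁻¹' {ξ}) := by
      rintro m ⟨t', ht', hm⟩
      have hcl : IsClopen (j m ⁻¹' Set.range q) :=
        IsClopen.preimage ⟨q.isClosedEmbedding.isClosed_range, q.isOpenEmbedding.isOpen_range⟩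
          (j m).continuous
      obtain ⟨y, hy⟩ := isIrreducible_irreducibleComponent.isPreirreducible.isPreconnected.subset_isClopen
        hcl ⟨t', ht', hm⟩ hξt
      refine ⟨y, ?_, hy⟩
      show pullback.snd h g y = ξ
      rw [← hqs, Scheme.Hom.comp_apply, hy, ← Scheme.Hom.comp_apply, hj.sect]
      rfl
    exact Set.Finite.of_finite_image ((hfinξ.image q).subset (Set.image_subset_iff.2 hmem))
      fun m _ m' _ e => hj.disj m m' ξ ξ e
  have hMfin : (⋃ t ∈ F, Ms t).Finite := F.finite_toSet.biUnion fun t _ => hMs t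
  have hcpt : IsCompact (⋃ m ∈ hMfin.toFinset, q ⁻¹' Set.range (j m)) := by
    refine hMfin.toFinset.finite_toSet.isCompact_biUnion fun m _ => ?_
    exact q.isClosedEmbedding.isCompact_preimage (isCompact_range (j m).continuous)
  have : CompactSpace ↑(pullback h g) := ⟨by
    convert hcpt
    refine (Set.eq_univ_of_forall fun y => ?_).symm
    obtain ⟨m, t', ht'⟩ := hj.cover (q y)
    obtain ⟨t, ht, htt⟩ := Set.mem_iUnion₂.mp (hF (Set.mem_univ t'))
    exact Set.mem_iUnion₂.mpr ⟨m, hMfin.mem_toFinset.mpr
      (Set.mem_biUnion ht ⟨t', htt, y, ht'.symm⟩), t', ht'⟩⟩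
  have : QuasiCompact (q ≫ pullback.snd X.hom g) := by
    rw [hqs]; exact (quasiCompact_iff_compactSpace _).mpr inferInstance
  rw [← hqs]
  exact hj.isFinite q

include hS hX in
theorem sect_eq_of_generic (σ₁ σ₂ : S ⟶ X.left) (h₁ : σ₁ ≫ X.hom = 𝟙 S) (h₂ : σ₂ ≫ X.hom = 𝟙 S)
    (h : S.fromSpecResidueField (genericPoint S) ≫ σ₁ = S.fromSpecResidueField (genericPoint S) ≫ σ₂) :
    σ₁ = σ₂ := by
  obtain ⟨hE, hsep⟩ := TwConstBasic.etale_and_isSeparated X hX
  let d : S ⟶ pullback X.hom X.hom := pullback.lift σ₁ σ₂ (h₁.trans h₂.symm)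
  let E := pullback d (pullback.diagonal X.hom)
  let r : E ⟶ S := pullback.fst d (pullback.diagonal X.hom)
  have hcl : IsClopen (Set.range r) :=
    ⟨r.isClosedEmbedding.isClosed_range, r.isOpenEmbedding.isOpen_range⟩
  let l : Spec (S.residueField (genericPoint S)) ⟶ E :=
    pullback.lift (S.fromSpecResidueField (genericPoint S))
      (S.fromSpecResidueField (genericPoint S) ≫ σ₁) (by
        apply pullback.hom_ext
        · rw [Category.assoc, Category.assoc, pullback.lift_fst, pullback.diagonal_fst, Category.comp_id]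
        · rw [Category.assoc, Category.assoc, pullback.lift_snd, pullback.diagonal_snd, Category.comp_id, h])
  have hne : genericPoint S ∈ Set.range r := by
    refine ⟨l (IsLocalRing.closedPoint _), ?_⟩
    rw [← Scheme.Hom.comp_apply, pullback.lift_fst, Scheme.fromSpecResidueField_apply]
  have : IsIso r := by
    apply isIso_of_isOpenImmersion_of_opensRange_eq_top
    exact TopologicalSpace.Opens.ext (hcl.eq_univ ⟨_, hne⟩)
  have hr := pullback.condition (f := d) (g := pullback.diagonal X.hom)
  have e1 := congrArg (· ≫ pullback.fst X.hom X.hom) hr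
  have e2 := congrArg (· ≫ pullback.snd X.hom X.hom) hr
  simp only [d, Category.assoc, pullback.lift_fst, pullback.lift_snd, pullback.diagonal_fst,
    pullback.diagonal_snd] at e1 e2
  rw [← cancel_epi r]
  exact e1.trans e2.symm

include hS hX in
theorem exists_sect (τ : Spec (S.residueField (genericPoint S)) ⟶ X.left)
    (hτ : τ ≫ X.hom = S.fromSpecResidueField (genericPoint S)) :
    ∃ σ : S ⟶ X.left, σ ≫ X.hom = 𝟙 S ∧ S.fromSpecResidueField (genericPoint S) ≫ σ = τ := by
  obtain ⟨hE, hsep⟩ := TwConstBasic.etale_and_isSeparated X hX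
  let η := genericPoint S
  let l : X.left := τ (IsLocalRing.closedPoint _)
  have hl : X.hom l = η := by
    show X.hom (τ (IsLocalRing.closedPoint _)) = η
    rw [← Scheme.Hom.comp_apply, hτ, Scheme.fromSpecResidueField_apply]
  let Zs := irreducibleComponent l
  obtain ⟨hZo, ζ, -, hζu⟩ := (UnibranchEtale.components X.hom hS).2 Zs
    (irreducibleComponent_mem_irreducibleComponents l)
  let Z : X.left.Opens := ⟨Zs, hZo⟩
  let h := Z.ι ≫ X.hom
  have : IsFinite h := isFinite_component hS X hX Z (irreducibleComponent_mem_irreducibleComponents l)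
  have hlift : Set.range τ ⊆ Set.range Z.ι := by
    rw [Scheme.Opens.range_ι]
    rintro _ ⟨y, rfl⟩
    rw [Subsingleton.elim y (IsLocalRing.closedPoint _)]
    exact mem_irreducibleComponent
  let τ' := IsOpenImmersion.lift Z.ι τ hlift
  have hτ' : τ' ≫ Z.ι = τ := IsOpenImmersion.lift_fac _ _ _
  have hτh : τ' ≫ h = S.fromSpecResidueField η := by rw [reassoc_of% hτ', hτ]
  -- the diagonal is surjective
  have hdiag : Surjective (pullback.diagonal h) := by
    let r := pullback.diagonal h
    have hcl : IsClopen (Set.range r) :=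
      ⟨r.isClosedEmbedding.isClosed_range, r.isOpenEmbedding.isOpen_range⟩
    refine ⟨fun w => ?_⟩
    obtain ⟨-, ξ, ⟨hξw, hξ⟩, -⟩ := (UnibranchEtale.components
      (pullback.fst h h ≫ h) hS).2 _ (irreducibleComponent_mem_irreducibleComponents w)
    refine isIrreducible_irreducibleComponent.isPreirreducible.isPreconnected.subset_isClopen hcl
      ⟨ξ, hξw, ?_⟩ mem_irreducibleComponent
    -- over the generic point the fibre is one rational point
    let z₀ : ↥(Z : Scheme.{u}) := τ' (IsLocalRing.closedPoint _)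
    have huniq : ∀ z : ↥(Z : Scheme.{u}), h z = η → z = z₀ := by
      intro z hz
      apply Z.ι.isOpenEmbedding.injective
      refine (hζu _ ⟨z.2, hz⟩).trans (hζu _ ⟨z₀.2, ?_⟩).symm
      show h z₀ = η
      rw [← Scheme.Hom.comp_apply, hτh, Scheme.fromSpecResidueField_apply]
    have h1 : pullback.fst h h ξ = z₀ := huniq _ hξ
    have h2 : pullback.snd h h ξ = z₀ := huniq _ (by
      rw [← Scheme.Hom.comp_apply, ← pullback.condition]; exact hξ)
    -- the fibre of `h` over `η` is `Spec κ(η)`
    have hfl := (pullback h h).fromSpecResidueField_apply ξ (IsLocalRing.closedPoint _)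
    have key : ∀ (p : pullback h h ⟶ (Z : Scheme.{u})), p ξ = z₀ →
        ∃ θ : Spec ((pullback h h).residueField ξ) ⟶ Spec (S.residueField η),
          (pullback h h).fromSpecResidueField ξ ≫ p = θ ≫ τ' := by
      intro p hp
      have hbij : Function.Bijective (h.residueFieldMap z₀).hom := by
        refine ⟨(h.residueFieldMap z₀).hom.injective, ?_⟩
        obtain ⟨e, he⟩ := H54.GeomLift.exists_of_pt (k := S.residueField η) τ'
        have hh : Spec.map (h.residueFieldMap z₀ ≫ e) ≫ S.fromSpecResidueField (h z₀) =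
            S.fromSpecResidueField η := by
          rw [Spec.map_comp, Category.assoc, Scheme.Hom.SpecMap_residueFieldMap_fromSpecResidueField,
            ← Category.assoc]
          exact (congrArg (· ≫ h) he).symm.trans hτh
        have hz₀ : h z₀ = η := by
          show h (τ' _) = η
          rw [← Scheme.Hom.comp_apply, hτh, Scheme.fromSpecResidueField_apply]
        have hh' : Spec.map (h.residueFieldMap z₀ ≫ e) =
            Spec.map (S.residueFieldCongr hz₀).hom := by
          rw [← cancel_mono (S.fromSpecResidueField (h z₀)), hh,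
            Scheme.residueFieldCongr_fromSpecResidueField]
        intro x
        obtain ⟨y, hy⟩ := (ConcreteCategory.bijective_of_isIso (S.residueFieldCongr hz₀).hom).2 (e x)
        refine ⟨y, e.hom.injective ?_⟩
        rw [← hy, ← Spec.map_injective hh']
        rfl
      have : IsIso (h.residueFieldMap z₀) := (ConcreteCategory.isIso_iff_bijective _).2 hbij
      obtain ⟨e, he⟩ := H54.GeomLift.exists_of_pt (k := S.residueField η) τ'
      have : IsIso (Spec.map e) := by
        have : Function.Bijective e.hom := by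
          refine ⟨e.hom.injective, fun x => ?_⟩
          have hh : Spec.map (h.residueFieldMap z₀ ≫ e) ≫ S.fromSpecResidueField (h z₀) =
              S.fromSpecResidueField η := by
            rw [Spec.map_comp, Category.assoc, Scheme.Hom.SpecMap_residueFieldMap_fromSpecResidueField,
              ← Category.assoc]
            exact (congrArg (· ≫ h) he).symm.trans hτh
          have hz₀ : h z₀ = η := by
            show h (τ' _) = η
            rw [← Scheme.Hom.comp_apply, hτh, Scheme.fromSpecResidueField_apply]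
          have hh' : Spec.map (h.residueFieldMap z₀ ≫ e) =
              Spec.map (S.residueFieldCongr hz₀).hom := by
            rw [← cancel_mono (S.fromSpecResidueField (h z₀)), hh,
              Scheme.residueFieldCongr_fromSpecResidueField]
          obtain ⟨y, hy⟩ := (ConcreteCategory.bijective_of_isIso (S.residueFieldCongr hz₀).hom).2 x
          refine ⟨h.residueFieldMap z₀ y, ?_⟩
          rw [← hy, ← Spec.map_injective hh']
          rfl
        have : IsIso e := (ConcreteCategory.isIso_iff_bijective _).2 this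
        infer_instance
      refine ⟨Spec.map (p.residueFieldMap ξ) ≫ Spec.map ((Z : Scheme.{u}).residueFieldCongr hp.symm).hom ≫
        inv (Spec.map e), ?_⟩
      rw [Category.assoc, Category.assoc, he, IsIso.inv_hom_id_assoc,
        Scheme.residueFieldCongr_fromSpecResidueField,
        Scheme.Hom.SpecMap_residueFieldMap_fromSpecResidueField]
    obtain ⟨θ₁, hθ₁⟩ := key _ h1
    obtain ⟨θ₂, hθ₂⟩ := key _ h2
    have hθ : θ₁ = θ₂ := by
      rw [← cancel_mono (S.fromSpecResidueField η), ← hτh, ← Category.assoc θ₁, ← Category.assoc θ₂,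
        ← hθ₁, ← hθ₂, Category.assoc, Category.assoc, pullback.condition]
    refine ⟨((pullback h h).fromSpecResidueField ξ ≫ pullback.fst h h) (IsLocalRing.closedPoint _), ?_⟩
    rw [← Scheme.Hom.comp_apply]
    have : ((pullback h h).fromSpecResidueField ξ ≫ pullback.fst h h) ≫ r =
        (pullback h h).fromSpecResidueField ξ := by
      apply pullback.hom_ext
      · simp [r]
      · simp only [r, Category.assoc, pullback.diagonal_snd, Category.comp_id]
        rw [hθ₁, hθ₂, hθ]
    rw [this]
    exact hfl
  have : IsIso (pullback.diagonal h) := by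
    apply isIso_of_isOpenImmersion_of_opensRange_eq_top
    exact TopologicalSpace.Opens.ext (Set.range_eq_univ.2 hdiag.surj)
  have : Mono h := (pullback.isIso_diagonal_iff h).1 inferInstance
  have : IsClosedImmersion h := (IsClosedImmersion.iff_isFinite_and_mono h).2 ⟨‹_›, ‹_›⟩
  have : IsIso h := by
    have : IsOpenImmersion h := IsOpenImmersion.of_flat_of_mono h
    apply isIso_of_isOpenImmersion_of_opensRange_eq_top
    exact TopologicalSpace.Opens.ext (IsClopen.eq_univ
      ⟨h.isClosedEmbedding.isClosed_range, h.isOpenEmbedding.isOpen_range⟩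
      ⟨_, τ' (IsLocalRing.closedPoint _), rfl⟩)
  refine ⟨inv h ≫ Z.ι, by rw [Category.assoc, IsIso.inv_hom_id], ?_⟩
  rw [← hτh, Category.assoc, IsIso.hom_inv_id_assoc, hτ']

theorem connectedComponent_finite {S : Scheme.{u}} [IsLocallyNoetherian S]
    (hS : ∀ s : S, CAlg2.IsGeomUnibranch (S.presheaf.stalk s))
    (P : Over S) (hP : TwC.IsTwConst TwC.Topology.etale P) (x : P.left) :
    ∃ U : P.left.Opens, (U : Set P.left) = connectedComponent x ∧ IsFinite (U.ι ≫ P.hom) := by
  let A := irreducibleComponent (P.hom x)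
  have hA : A ∈ irreducibleComponents (S : Type u) :=
    irreducibleComponent_mem_irreducibleComponents _
  have hdisj : (irreducibleComponents (S : Type u)).PairwiseDisjoint id := fun Z hZ Z' hZ' hne =>
    Set.disjoint_left.2 fun y hy hy' =>
      hne ((UnibranchEtale.existsUnique_component y (hS y)).unique ⟨hZ, hy⟩ ⟨hZ', hy'⟩)
  have hAo : IsOpen A := Lib.FinCond.isOpen_of_pairwiseDisjoint
    (fun y => Lib.FinCond.locally_noetherian S y) hdisj A hA
  let U₀ : S.Opens := ⟨A, hAo⟩
  have : IrreducibleSpace (U₀ : Scheme.{u}) :=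
    Subtype.irreducibleSpace isIrreducible_irreducibleComponent
  have hU : ∀ y : (U₀ : Scheme.{u}), CAlg2.IsGeomUnibranch ((U₀ : Scheme.{u}).presheaf.stalk y) :=
    fun y => (UnibranchEtale.stalk_props U₀.ι y (Flat.stalkMap U₀.ι y)
      (FormallyUnramified.stalkMap U₀.ι y) (hS _)).1
  let P₀ := Red.bc U₀.ι P
  have hP₀ := TwConstBasic.isTwConst_baseChange P hP U₀.ι
  have hE : Etale P₀.hom := (TwConstBasic.etale_and_isSeparated P₀ hP₀).1
  let π : P₀.left ⟶ P.left := pullback.fst P.hom U₀.ι
  have : IsOpenImmersion π := inferInstanceAs (IsOpenImmersion (pullback.fst P.hom U₀.ι))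
  have : IsClosedImmersion U₀.ι := IsClosedImmersion.of_isPreimmersion _ (by
    rw [Scheme.Opens.range_ι]; exact isClosed_of_mem_irreducibleComponents A hA)
  have : IsClosedImmersion π := inferInstanceAs (IsClosedImmersion (pullback.fst P.hom U₀.ι))
  obtain ⟨x₀, hx₀, -⟩ := Scheme.Pullback.exists_preimage_pullback (f := P.hom) (g := U₀.ι) x
    ⟨P.hom x, mem_irreducibleComponent⟩ rfl
  let Zs := irreducibleComponent x₀
  have hZs : Zs ∈ irreducibleComponents ↥P₀.left := irreducibleComponent_mem_irreducibleComponents x₀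
  obtain ⟨hZo, -⟩ := (UnibranchEtale.components P₀.hom hU).2 Zs hZs
  let Z : P₀.left.Opens := ⟨Zs, hZo⟩
  have : IsFinite (Z.ι ≫ P₀.hom) := isFinite_component hU P₀ hP₀ Z hZs
  refine ⟨π ''ᵁ Z, ?_, ?_⟩
  · show π '' Zs = connectedComponent x
    apply subset_antisymm
    · refine (hZs.1.isPreirreducible.isPreconnected.image π π.continuous.continuousOn).subset_connectedComponent
        ⟨x₀, mem_irreducibleComponent, hx₀⟩
    · exact IsClopen.connectedComponent_subset
        ⟨π.isClosedEmbedding.isClosedMap _ (isClosed_component Zs hZs), π.isOpenEmbedding.isOpenMap _ hZo⟩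
        ⟨x₀, mem_irreducibleComponent, hx₀⟩
  · have e : (π.isoImage Z).hom ≫ (π ''ᵁ Z).ι ≫ P.hom = (Z.ι ≫ P₀.hom) ≫ U₀.ι := by
      rw [Scheme.Hom.isoImage_hom_ι_assoc, Category.assoc]
      congr 1
      exact pullback.condition
    rw [← MorphismProperty.cancel_left_of_respectsIso @IsFinite (π.isoImage Z).hom, e]
    infer_instance

end Groth.Agent.H63.TwConstUnibranch
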