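import Groth.Agent.H63.TwConstUnibranch
import Mathlib.RingTheory.IntegralClosure.IntegrallyClosed
import Mathlib.RingTheory.Valuation.ValuationRing
import Mathlib.RingTheory.PrincipalIdealDomain
import Mathlib.Algebra.GCDMonoid.IntegrallyClosed
import Mathlib.RingTheory.Polynomial.RationalRoot
import Mathlib.AlgebraicGeometry.Morphisms.Proper

/-!
# Valuative criterion for twisted constant schemes; clopen finite pieces in the isotrivial case
-/

set_option autoImplicit false

universe u

open CategoryTheory CategoryTheory.Limits AlgebraicGeometry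
open Groth.Agent.H52.FDesc.TwConstFinite

namespace Groth.Agent.H63.TwConstValuative

theorem isGeomUnibranch_stalk_spec (V : Type u) [CommRing V] [IsDomain V] [IsIntegrallyClosed V]
    (x : Spec (CommRingCat.of V)) :
    CAlg2.IsGeomUnibranch ((Spec (CommRingCat.of V)).presheaf.stalk x) := by
  let p := x.asIdeal
  let B := (Spec (CommRingCat.of V)).presheaf.stalk x
  let : Algebra V B := StructureSheaf.stalkAlgebra V x
  have : IsLocalization.AtPrime B p := StructureSheaf.IsLocalization.to_stalk V x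
  have : IsDomain B :=
    IsLocalization.isDomain_of_le_nonZeroDivisors (M := p.primeCompl) (S := B) p.primeCompl_le_nonZeroDivisors
  have : IsIntegrallyClosed B :=
    isIntegrallyClosed_of_isLocalization B p.primeCompl p.primeCompl_le_nonZeroDivisors
  exact S9812.result B

theorem valuative {S : Scheme.{u}} (X : Over S) (hX : TwC.IsTwConst TwC.Topology.etale X) :
    ValuativeCriterion X.hom := by
  obtain ⟨hE, hsep⟩ := TwConstBasic.etale_and_isSeparated X hX
  rw [ValuativeCriterion.iff]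
  refine ⟨fun sq => ?_, IsSeparated.valuativeCriterion _⟩
  let P := Red.bc sq.i₂ X
  have hP := TwConstBasic.isTwConst_baseChange X hX sq.i₂
  have : IsIntegrallyClosed sq.R := inferInstance
  have hU : ∀ s : Spec (CommRingCat.of sq.R),
      CAlg2.IsGeomUnibranch ((Spec (CommRingCat.of sq.R)).presheaf.stalk s) :=
    isGeomUnibranch_stalk_spec sq.R
  have : Etale P.hom := (TwConstBasic.etale_and_isSeparated P hP).1
  let a : Spec (CommRingCat.of sq.K) ⟶ P.left :=
    pullback.lift sq.i₁ (Spec.map (CommRingCat.ofHom (algebraMap sq.R sq.K))) sq.commSq.w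
  let l : P.left := a (IsLocalRing.closedPoint sq.K)
  let Zs := irreducibleComponent l
  have hZs : Zs ∈ irreducibleComponents ↥P.left := irreducibleComponent_mem_irreducibleComponents l
  obtain ⟨hZo, -⟩ := (Groth.Agent.Lib.Unram.UnibranchEtale.components P.hom hU).2 Zs hZs
  let Z : P.left.Opens := ⟨Zs, hZo⟩
  have : IsFinite (Z.ι ≫ P.hom) := TwConstUnibranch.isFinite_component hU P hP Z hZs
  have hlift : Set.range a ⊆ Set.range Z.ι := by
    rw [Scheme.Opens.range_ι]
    rintro _ ⟨y, rfl⟩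
    rw [Subsingleton.elim y (IsLocalRing.closedPoint _)]
    exact mem_irreducibleComponent
  let a' := IsOpenImmersion.lift Z.ι a hlift
  have ha' : a' ≫ Z.ι = a := IsOpenImmersion.lift_fac _ _ _
  let sq' : ValuativeCommSq (Z.ι ≫ P.hom) :=
    { R := sq.R
      K := sq.K
      i₁ := a'
      i₂ := 𝟙 _
      commSq := ⟨by
        rw [reassoc_of% ha', Category.comp_id]
        exact pullback.lift_snd _ _ _⟩ }
  have hex : ValuativeCriterion.Existence (Z.ι ≫ P.hom) := by
    have h : UniversallyClosed (Z.ι ≫ P.hom) := inferInstance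
    rw [UniversallyClosed.eq_valuativeCriterion] at h
    exact h.1
  obtain ⟨⟨L, hL1, hL2⟩⟩ := (hex sq').exists_lift
  refine ⟨⟨L ≫ Z.ι ≫ pullback.fst X.hom sq.i₂, ?_, ?_⟩⟩
  · rw [reassoc_of% hL1, reassoc_of% ha', pullback.lift_fst]
  · rw [Category.assoc, Category.assoc, pullback.condition]
    rw [← Category.assoc Z.ι, ← Category.assoc L]
    exact (congrArg (· ≫ sq.i₂) hL2).trans (Category.id_comp _)

theorem exists_clopen_finite {S : Scheme.{u}} (R : Over S)
    (hR : TwC.IsTwConst TwC.Topology.finiteEtale R) (x : R.left) :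
    ∃ U : R.left.Opens, x ∈ U ∧ IsClosed (U : Set R.left) ∧ IsFinite (U.ι ≫ R.hom) := by
  obtain ⟨S', f, hf, hfe, hfs, hloc⟩ := hR
  have het : TwC.IsTwConst TwC.Topology.etale R := fun s => by
    obtain ⟨s', hs'⟩ := f.surjective s
    obtain ⟨U, hsU, -, hU⟩ := hloc s'
    exact ⟨U, U.ι ≫ f, inferInstance, ⟨⟨s', hsU⟩, hs'⟩, hU⟩
  obtain ⟨hE, hsep⟩ := TwConstBasic.etale_and_isSeparated R het
  obtain ⟨s', hs'⟩ := f.surjective (R.hom x)
  obtain ⟨U', hsU, hUc, I, ⟨e⟩⟩ := hloc s'
  obtain ⟨j, hj⟩ := TwConstBasic.constLike_of_iso e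
  have := hj.isOpen
  have : IsClosedImmersion U'.ι := IsClosedImmersion.of_isPreimmersion _ (by
    rw [Scheme.Opens.range_ι]; exact hUc)
  let g := U'.ι ≫ f
  obtain ⟨y, hy, -⟩ := Scheme.Pullback.exists_preimage_pullback (f := R.hom) (g := g) x
    ⟨s', hsU⟩ hs'.symm
  obtain ⟨m, t, ht⟩ := hj.cover y
  let φ : (U' : Scheme.{u}) ⟶ R.left := j m ≫ pullback.fst R.hom g
  have hφg : φ ≫ R.hom = g := by
    rw [Category.assoc, pullback.condition, reassoc_of% hj.sect m]
  have hjc : IsClosed (Set.range (j m)) := by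
    have : (Set.range (j m))ᶜ = ⋃ n : {n : I // n ≠ m}, Set.range (j n.1) := by
      ext z
      simp only [Set.mem_compl_iff, Set.mem_iUnion]
      constructor
      · intro hz
        obtain ⟨n, w, hw⟩ := hj.cover z
        exact ⟨⟨n, fun hn => hz ⟨w, hn ▸ hw⟩⟩, w, hw⟩
      · rintro ⟨⟨n, hn⟩, w, hw⟩ ⟨w', hw'⟩
        exact hn (hj.disj n m w w' (hw.trans hw'.symm))
    rw [← isOpen_compl_iff, this]
    exact isOpen_iUnion fun n => (j n.1).isOpenEmbedding.isOpen_range
  have hrc : IsClosed (Set.range φ) := by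
    have : Set.range φ = pullback.fst R.hom g '' Set.range (j m) := by
      rw [← Set.range_comp]; rfl
    rw [this]
    exact (pullback.fst R.hom g).isClosedMap _ hjc
  have : Etale φ := inferInstance
  let U : R.left.Opens := ⟨Set.range φ, φ.isOpenMap.isOpen_range⟩
  have hxU : x ∈ U := ⟨t, by rw [Scheme.Hom.comp_apply, ht, hy]⟩
  have : IsClosedImmersion U.ι := IsClosedImmersion.of_isPreimmersion _ (by
    rw [Scheme.Opens.range_ι]; exact hrc)
  let φ' : (U' : Scheme.{u}) ⟶ U := IsOpenImmersion.lift U.ι φ (by rw [Scheme.Opens.range_ι]; exact subset_rfl)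
  have hφ' : φ' ≫ U.ι = φ := IsOpenImmersion.lift_fac _ _ _
  have : Surjective φ' := ⟨fun w => by
    obtain ⟨z, hz⟩ := w.2
    refine ⟨z, U.ι.isOpenEmbedding.injective ?_⟩
    rw [← Scheme.Hom.comp_apply, hφ']
    exact hz⟩
  have hfin : IsFinite (φ' ≫ U.ι ≫ R.hom) := by
    rw [reassoc_of% hφ', hφg]; infer_instance
  have : UniversallyClosed (U.ι ≫ R.hom) := UniversallyClosed.of_comp_surjective φ' _
  have : IsProper (U.ι ≫ R.hom) := ⟨⟩
  have : LocallyQuasiFinite (U.ι ≫ R.hom) :=
    Groth.Agent.Lib.EtSite.FieldExt.locallyQuasiFinite_of_etale _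
  exact ⟨U, hxU, hrc, IsFinite.of_isProper_of_locallyQuasiFinite _⟩

end Groth.Agent.H63.TwConstValuative
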