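import Groth.Agent.H63.End0Basic
import Groth.Agent.H63.FrobForm
import Groth.Agent.H63.Similitude

/-!
# The Riemann hypothesis for abelian varieties over finite fields

* `root_of_aeval_eq_zero`: the roots of the characteristic polynomial are roots of every polynomial killing the endomorphism
* `norm_root`: an endomorphism raising every class to the `q` has all roots of absolute value `√q`
-/

set_option autoImplicit false

universe u

open CategoryTheory MonoidalCategory CartesianMonoidalCategory AlgebraicGeometry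
open scoped MonObj GrpObj TensorProduct

namespace Groth.Agent.H63.WeilRH

open Groth.Agent.H63.End0Basic

variable {k : Type u} [Field k] {A : Over (Spec (CommRingCat.of k))} [GrpObj A] [IsCommMonObj A]
  [IsProper A.hom] [GeometricallyIntegral A.hom] [IsIntegral A.left]

theorem root_of_aeval_eq_zero {g : ℕ} (hg : topologicalKrullDim A.left = g) (φ : EndAV.End A) (P : Polynomial ℤ)
    (hm : P.Monic) (hd : P.natDegree = 2 * g)
    (hP : ∀ n : ℤ, (DegreeHom.deg (EndAV.End.toHom (φ - (n : EndAV.End A))) : ℤ) = P.eval n)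
    (mu : Polynomial ℚ) (hmu : Polynomial.aeval (EndAV.toEnd0 φ) mu = 0)
    (t : ℂ) (ht : t ∈ (P.map (Int.castRingHom ℂ)).roots) : Polynomial.aeval t mu = 0 := by
  set x := EndAV.toEnd0 φ with hx
  set PQ := P.map (Int.castRingHom ℚ) with hPQ
  have hPQm : PQ.Monic := hm.map _
  replace ht : t ∈ (PQ.map (algebraMap ℚ ℂ)).roots := by
    rw [hPQ, Polynomial.map_map, RingHom.ext_int ((algebraMap ℚ ℂ).comp (Int.castRingHom ℚ)) (Int.castRingHom ℂ)]
    exact ht
  have hdeg : ∀ F : Polynomial ℤ, (DegreeHom.deg (EndAV.End.toHom (Polynomial.aeval φ F)) : ℂ) =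
      ((PQ.map (algebraMap ℚ ℂ)).roots.map fun t => Polynomial.aeval t F).prod :=
    fun F => DegreeHom.deg_aeval hg φ PQ hPQm (by rw [hPQ, hm.natDegree_map, hd]) (fun n => by
      rw [hPQ, Polynomial.eval_intCast_map, eq_intCast, Int.cast_id, ← hP n, Int.cast_natCast]) ℂ F
  by_contra hmut
  have htint : IsIntegral ℤ t := ⟨P, hm, by
    have := (Polynomial.mem_roots'.1 ht).2
    rwa [Polynomial.IsRoot, Polynomial.eval_map, hPQ, Polynomial.eval₂_map,
      RingHom.ext_int ((algebraMap ℚ ℂ).comp (Int.castRingHom ℚ)) (algebraMap ℤ ℂ)] at this⟩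
  have hR : minpoly ℚ t = (minpoly ℤ t).map (algebraMap ℤ ℚ) :=
    minpoly.isIntegrallyClosed_eq_field_fractions' ℚ htint
  have htQ : IsIntegral ℚ t := ⟨minpoly ℚ t, by rw [hR]; exact (minpoly.monic htint).map _, minpoly.aeval ℚ t⟩
  have hco : IsCoprime (minpoly ℚ t) mu := by
    refine ((minpoly.irreducible htQ).coprime_iff_not_dvd).2 fun h => hmut ?_
    obtain ⟨c, hc⟩ := h
    rw [hc, map_mul, minpoly.aeval, zero_mul]
  obtain ⟨a, b, hab⟩ := hco
  obtain ⟨N, hN, ha⟩ := IsLocalization.integerNormalization_spec (M := nonZeroDivisors ℤ) a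
  set a' := IsLocalization.integerNormalization (nonZeroDivisors ℤ) a
  have hval : Polynomial.aeval φ (a' * minpoly ℤ t) = Polynomial.aeval φ (Polynomial.C N) := by
    apply toEnd0_injective
    rw [← Polynomial.aeval_algHom_apply, ← Polynomial.aeval_algHom_apply, ← hx,
      ← Polynomial.aeval_map_algebraMap ℚ x, ← Polynomial.aeval_map_algebraMap ℚ x (Polynomial.C N),
      Polynomial.map_mul, ← hR, ha, Polynomial.map_C]
    have h2 := congrArg (Polynomial.aeval x) hab
    rw [map_add, map_mul (Polynomial.aeval x) b, hmu, mul_zero, add_zero, map_one] at h2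
    rw [smul_mul_assoc, map_zsmul, h2, Polynomial.aeval_C, Algebra.algebraMap_eq_smul_one,
      eq_intCast, Int.cast_smul_eq_zsmul]
  have h3 := hdeg (a' * minpoly ℤ t)
  rw [hval, hdeg (Polynomial.C N)] at h3
  have h4 : ((PQ.map (algebraMap ℚ ℂ)).roots.map fun t' => Polynomial.aeval t' (a' * minpoly ℤ t)).prod = 0 :=
    Multiset.prod_eq_zero (Multiset.mem_map.2 ⟨t, ht, by rw [map_mul, minpoly.aeval, mul_zero]⟩)
  rw [h4, Multiset.prod_eq_zero_iff] at h3
  obtain ⟨s, -, hs⟩ := Multiset.mem_map.1 h3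
  rw [Polynomial.aeval_C, algebraMap_int_eq, eq_intCast, Int.cast_eq_zero] at hs
  exact nonZeroDivisors.ne_zero hN hs

/-- An endomorphism raising every class to the `q` has all roots of square norm `q`. -/
theorem norm_root {g : ℕ} (hg : topologicalKrullDim A.left = g) (f : A ⟶ A) [IsMonHom f] (q : ℕ)
    (hf : letI : ∀ Y : Scheme.{u}, PicGrp.Law Y := Groth.Agent.Lib.TensorMod.Invertible.law
      ∀ c : PicLoc.PicSet A.left, Groth.Agent.H3.PicCalc.ph f c = c ^ q)
    (P : Polynomial ℤ) (hm : P.Monic) (hd : P.natDegree = 2 * g)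
    (hP : ∀ n : ℤ, (DegreeHom.deg (EndAV.End.toHom (EndAV.End.of f - (n : EndAV.End A))) : ℤ) = P.eval n)
    (t : ℂ) (ht : t ∈ (P.map (Int.castRingHom ℂ)).roots) : ‖t‖ = Real.sqrt q := by
  obtain ⟨b, hsym, hpos, hscale⟩ := FrobForm.exists_form_bc A A
  haveI : Module.Free ℤ (EndAV.End A) := moduleFree_finite.1
  haveI : Module.Finite ℤ (EndAV.End A) := moduleFree_finite.2
  haveI : Module.Free ℤ (EndAV.Hom A A) := moduleFree_finite.1
  haveI : Module.Finite ℤ (EndAV.Hom A A) := moduleFree_finite.2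
  let T := Algebra.lmul ℤ (EndAV.End A) (EndAV.End.of f)
  have hT : ∀ x y : EndAV.End A, b (T x) (T y) = q * b x y := fun x y => by
    have e : ∀ z : EndAV.End A, T z = EndAV.Hom.of (z.toHom ≫ f) := fun z =>
      EndAV.End.ext ((EndAV.End.toHom_mul _ _).trans rfl)
    rw [e, e]
    exact hscale q f hf x y
  have hF : Polynomial.aeval (EndAV.toEnd0 (EndAV.End.of f)) (T.charpoly.map (Int.castRingHom ℚ)) = 0 := by
    have h := LinearMap.aeval_self_charpoly T
    rw [Polynomial.aeval_algHom_apply] at h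
    have h1 := LinearMap.congr_fun h 1
    rw [Algebra.coe_lmul_eq_mul, LinearMap.mul_apply_apply, mul_one, LinearMap.zero_apply] at h1
    rw [← algebraMap_int_eq, Polynomial.aeval_map_algebraMap, Polynomial.aeval_algHom_apply, h1, map_zero]
  have h2 := root_of_aeval_eq_zero hg (EndAV.End.of f) P hm hd hP _ hF t ht
  rw [Polynomial.aeval_def, Polynomial.eval₂_map,
    RingHom.ext_int ((algebraMap ℚ ℂ).comp (Int.castRingHom ℚ)) (Int.castRingHom ℂ), ← Polynomial.eval_map] at h2
  have h3 : ‖t‖ ^ 2 = q := Similitude.norm_sq_eq_of_form b hsym hpos T q hT t h2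
  rw [← h3, Real.sqrt_sq (norm_nonneg t)]

end Groth.Agent.H63.WeilRH
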